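import Mathlib

set_option autoImplicit false

namespace Cfsg.Agent.Lib.Helper10

open scoped commutatorElement

/-- If `x` commutes with `z = ⁅h, x⁆`, `x ^ k = 1`, `z ^ m = 1` and `k`, `m` are coprime, then `h` and `x` commute. -/
theorem commute_of_coprime_of_commute_commutator {G : Type*} [Group G] (x h : G) (k m : ℕ)
    (hx : x ^ k = 1) (hz : ⁅h, x⁆ ^ m = 1) (hcop : Nat.Coprime k m)
    (hcomm : Commute ⁅h, x⁆ x) : Commute h x := by
  have h1 : h * x * h⁻¹ = ⁅h, x⁆ * x := by
    simp [commutatorElement_def]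
  have h2 : (h * x * h⁻¹) ^ k = 1 := by
    rw [conj_pow, hx]; simp
  have h3 : ⁅h, x⁆ ^ k = 1 := by
    rw [h1, hcomm.mul_pow, hx, mul_one] at h2
    exact h2
  have h4 : orderOf ⁅h, x⁆ ∣ Nat.gcd k m :=
    Nat.dvd_gcd (orderOf_dvd_of_pow_eq_one h3) (orderOf_dvd_of_pow_eq_one hz)
  rw [hcop.gcd_eq_one, Nat.dvd_one, orderOf_eq_one_iff] at h4
  exact commutatorElement_eq_one_iff_commute.mp h4

/-- Elements of a finite subgroup are killed by the order of the subgroup. -/
theorem pow_card_subgroup_eq_one {G : Type*} [Group G] (H : Subgroup G) {x : G} (hx : x ∈ H) :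
    x ^ Nat.card H = 1 := by
  have h1 := pow_card_eq_one' (G := H) (x := ⟨x, hx⟩)
  have h2 := congrArg Subtype.val h1
  rw [Subgroup.coe_pow] at h2
  exact h2

/-- The product map `A × B → G` for elementwise commuting subgroups. -/
noncomputable def prodHom {G : Type*} [Group G] (A B : Subgroup G)
    (hcomm : ∀ a ∈ A, ∀ b ∈ B, a * b = b * a) : A × B →* G :=
  MonoidHom.noncommCoprod A.subtype B.subtype
    (fun a b => (show Commute (A.subtype a) (B.subtype b) from hcomm a a.2 b b.2))

theorem prodHom_apply {G : Type*} [Group G] (A B : Subgroup G)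
    (hcomm : ∀ a ∈ A, ∀ b ∈ B, a * b = b * a) (x : A × B) :
    prodHom A B hcomm x = (x.1 : G) * (x.2 : G) := rfl

theorem prodHom_range {G : Type*} [Group G] (A B : Subgroup G)
    (hcomm : ∀ a ∈ A, ∀ b ∈ B, a * b = b * a) : (prodHom A B hcomm).range = A ⊔ B := by
  unfold prodHom
  rw [MonoidHom.noncommCoprod_range, Subgroup.range_subtype, Subgroup.range_subtype]

theorem prodHom_injective {G : Type*} [Group G] (A B : Subgroup G)
    (hcomm : ∀ a ∈ A, ∀ b ∈ B, a * b = b * a) (hdisj : A ⊓ B = ⊥) :
    Function.Injective (prodHom A B hcomm) := by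
  unfold prodHom
  rw [MonoidHom.noncommCoprod_injective]
  refine ⟨A.subtype_injective, B.subtype_injective, ?_⟩
  rw [Subgroup.range_subtype, Subgroup.range_subtype, disjoint_iff, hdisj]

/-- Membership in the join of two elementwise commuting subgroups. -/
theorem mem_sup_of_commute {G : Type*} [Group G] (A B : Subgroup G)
    (hcomm : ∀ a ∈ A, ∀ b ∈ B, a * b = b * a) {x : G} :
    x ∈ A ⊔ B ↔ ∃ a ∈ A, ∃ b ∈ B, x = a * b := by
  rw [← prodHom_range A B hcomm, MonoidHom.mem_range]
  constructor
  · rintro ⟨⟨a, b⟩, rfl⟩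
    exact ⟨a, a.2, b, b.2, rfl⟩
  · rintro ⟨a, ha, b, hb, rfl⟩
    exact ⟨(⟨a, ha⟩, ⟨b, hb⟩), rfl⟩

/-- The order of the join of two elementwise commuting subgroups meeting trivially. -/
theorem card_sup_of_commute_of_disjoint {G : Type*} [Group G] (A B : Subgroup G)
    (hcomm : ∀ a ∈ A, ∀ b ∈ B, a * b = b * a) (hdisj : A ⊓ B = ⊥) :
    Nat.card ↥(A ⊔ B) = Nat.card A * Nat.card B := by
  have e : A × B ≃* (prodHom A B hcomm).range :=
    MonoidHom.ofInjective (prodHom_injective A B hcomm hdisj)
  rw [← Nat.card_prod, Nat.card_congr e.toEquiv, prodHom_range]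

/-- In a finite cyclic group two subgroups of the same order are equal. -/
theorem eq_of_card_eq_of_isCyclic {C : Type*} [Group C] [Finite C] [IsCyclic C]
    (A B : Subgroup C) (h : Nat.card A = Nat.card B) : A = B := by
  classical
  have := Fintype.ofFinite C
  have key : ∀ D : Subgroup C, (D : Set C) = {c : C | c ^ Nat.card D = 1} := by
    intro D
    have hpos : 0 < Nat.card D := Nat.card_pos
    have hle := IsCyclic.card_pow_eq_one_le (α := C) hpos
    have hsub : (D : Set C) ⊆ {c : C | c ^ Nat.card D = 1} := fun c hc =>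
      pow_card_subgroup_eq_one D hc
    have hfin : ({c : C | c ^ Nat.card D = 1} : Set C).Finite := Set.toFinite _
    apply Set.eq_of_subset_of_ncard_le hsub _ hfin
    have h1 : ({c : C | c ^ Nat.card D = 1} : Set C).ncard
        = (Finset.univ.filter (fun c : C => c ^ Nat.card D = 1)).card := by
      rw [← Set.ncard_coe_finset]
      congr 1
      ext c
      simp
    rw [h1]
    have h2 : (D : Set C).ncard = Nat.card D := rfl
    rw [h2]
    exact hle
  apply SetLike.coe_injective
  rw [key A, key B, h]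

/-- Inside a cyclic subgroup `W` of `G`, two subgroups of the same order are equal. -/
theorem eq_of_card_eq_of_le_isCyclic {G : Type*} [Group G] [Finite G] (W A B : Subgroup G)
    [IsCyclic W] (hA : A ≤ W) (hB : B ≤ W) (h : Nat.card A = Nat.card B) : A = B := by
  have h1 : A.subgroupOf W = B.subgroupOf W := by
    apply eq_of_card_eq_of_isCyclic
    rw [Nat.card_congr (Subgroup.subgroupOfEquivOfLe hA).toEquiv,
      Nat.card_congr (Subgroup.subgroupOfEquivOfLe hB).toEquiv, h]
  have h2 := congrArg (Subgroup.map W.subtype) h1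
  rwa [Subgroup.map_subgroupOf_eq_of_le hA, Subgroup.map_subgroupOf_eq_of_le hB] at h2

end Cfsg.Agent.Lib.Helper10
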