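import Mathlib
import Cfsg.Prelude
import Cfsg.Agent.Lib.Helper9.Layer3

/-!
Fitting subgroup, layer and generalized Fitting subgroup of subnormal subgroups.
-/

set_option autoImplicit false

namespace Cfsg.Agent.Lib.Helper10

open Cfsg Cfsg.Agent.Lib.Helper9

section

variable {X : Type*} [Group X]

/-- the image in `X` of the layer of a subnormal subgroup `S` is generated by the components of `X`
inside `S` -/
theorem map_layer_eq_sSup {S : Subgroup X} (hsn : S.IsSubnormal) :
    (Cfsg.layer ↥S).map S.subtype = sSup {L : Subgroup X | Cfsg.IsComponent L ∧ L ≤ S} := by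
  apply le_antisymm
  · unfold Cfsg.layer
    rw [sSup_eq_iSup, Subgroup.map_iSup]
    apply iSup_le
    intro K
    rw [Subgroup.map_iSup]
    apply iSup_le
    intro hK
    exact le_sSup ⟨(isComponent_map_subtype_iff hsn K).mp hK, Subgroup.map_subtype_le K⟩
  · apply sSup_le
    rintro L ⟨hL, hLS⟩
    have h1 : Cfsg.IsComponent (L.subgroupOf S) := isComponent_subgroupOf hL hLS
    have h2 : L.subgroupOf S ≤ Cfsg.layer ↥S := le_sSup h1
    have h3 := Subgroup.map_mono (f := S.subtype) h2
    rwa [Subgroup.map_subgroupOf_eq_of_le hLS] at h3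

theorem map_layer_le_of_subnormal {S : Subgroup X} (hsn : S.IsSubnormal) :
    (Cfsg.layer ↥S).map S.subtype ≤ Cfsg.layer X := by
  rw [map_layer_eq_sSup hsn]
  exact sSup_le_sSup fun L hL => hL.1

theorem map_layer_le_map_layer {S B : Subgroup X} (hS : S.IsSubnormal) (hB : B.IsSubnormal)
    (hSB : S ≤ B) : (Cfsg.layer ↥S).map S.subtype ≤ (Cfsg.layer ↥B).map B.subtype := by
  rw [map_layer_eq_sSup hS, map_layer_eq_sSup hB]
  exact sSup_le_sSup fun L hL => ⟨hL.1, hL.2.trans hSB⟩

/-- the image in `X` of the Fitting subgroup of a subnormal subgroup -/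
theorem map_fittingSubgroup_eq_of_subnormal [Finite X] {S : Subgroup X} (hsn : S.IsSubnormal) :
    (Cfsg.fittingSubgroup ↥S).map S.subtype = Cfsg.fittingSubgroup X ⊓ S := by
  apply le_antisymm
  · apply le_inf _ (Subgroup.map_subtype_le _)
    apply subnormal_nilpotent_le_fitting
    · have hn : (Cfsg.fittingSubgroup ↥S).Normal := Cfsg.Agent.Lib.Helper1.fittingSubgroup_normal
      have h1 : ((Cfsg.fittingSubgroup ↥S).map S.subtype).subgroupOf S = Cfsg.fittingSubgroup ↥S := by
        rw [Subgroup.subgroupOf, Subgroup.comap_map_eq_self_of_injective S.subtype_injective]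
      refine Subgroup.IsSubnormal.trans (Subgroup.map_subtype_le _) ?_ hsn
      rw [h1]
      exact hn.isSubnormal
    · have hnil : Group.IsNilpotent ↥(Cfsg.fittingSubgroup ↥S) :=
        Cfsg.Agent.Lib.Helper1.fittingSubgroup_isNilpotent
      have e : ↥(Cfsg.fittingSubgroup ↥S) ≃* ↥((Cfsg.fittingSubgroup ↥S).map S.subtype) :=
        (Cfsg.fittingSubgroup ↥S).equivMapOfInjective _ S.subtype_injective
      exact (Group.isNilpotent_congr e).mp hnil
  · have hFn : (Cfsg.fittingSubgroup X).Normal := Cfsg.Agent.Lib.Helper1.fittingSubgroup_normal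
    have hnil : Group.IsNilpotent ↥(Cfsg.fittingSubgroup X) :=
      Cfsg.Agent.Lib.Helper1.fittingSubgroup_isNilpotent
    have h1 : ((Cfsg.fittingSubgroup X ⊓ S).subgroupOf S).Normal := by
      rw [Subgroup.inf_subgroupOf_right]
      exact hFn.subgroupOf S
    have h2 : Group.IsNilpotent ↥((Cfsg.fittingSubgroup X ⊓ S).subgroupOf S) := by
      have e : ↥((Cfsg.fittingSubgroup X ⊓ S).subgroupOf S) ≃* ↥(Cfsg.fittingSubgroup X ⊓ S) :=
        Subgroup.subgroupOfEquivOfLe inf_le_right
      have h3 : Group.IsNilpotent ↥(Cfsg.fittingSubgroup X ⊓ S) := by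
        have h6 : Group.IsNilpotent
            ↥((Cfsg.fittingSubgroup X ⊓ S).subgroupOf (Cfsg.fittingSubgroup X)) := inferInstance
        exact (Group.isNilpotent_congr (Subgroup.subgroupOfEquivOfLe inf_le_left)).mp h6
      exact (Group.isNilpotent_congr e).mpr h3
    have h4 := Cfsg.Agent.Lib.Helper1.le_fittingSubgroup h1 h2
    have h5 := Subgroup.map_mono (f := S.subtype) h4
    rwa [Subgroup.map_subgroupOf_eq_of_le inf_le_right] at h5

/-- a subnormal subgroup of `F*(X)` is the product of the components of `X` it contains and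
its intersection with `F(X)` -/
theorem le_sSup_comp_sup_fitting_inf [Finite X] {S : Subgroup X} (hsn : S.IsSubnormal)
    (hS : S ≤ Cfsg.generalizedFittingSubgroup X) :
    S ≤ sSup {L : Subgroup X | Cfsg.IsComponent L ∧ L ≤ S} ⊔ (Cfsg.fittingSubgroup X ⊓ S) := by
  have hE1S : sSup {L : Subgroup X | Cfsg.IsComponent L ∧ L ≤ S} ≤ S := sSup_le fun L hL => hL.2
  have hE2S : sSup {L : Subgroup X | Cfsg.IsComponent L ∧ ⁅L, S⁆ = ⊥} ≤
      Subgroup.centralizer (S : Set X) :=
    sSup_le fun L hL => Subgroup.commutator_eq_bot_iff_le_centralizer.mp hL.2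
  have hE : Cfsg.layer X ≤ sSup {L : Subgroup X | Cfsg.IsComponent L ∧ L ≤ S} ⊔
      sSup {L : Subgroup X | Cfsg.IsComponent L ∧ ⁅L, S⁆ = ⊥} := by
    apply sSup_le
    intro L hL
    rcases comp_le_or_commutator_eq_bot hL hsn with h | h
    · exact le_trans (le_sSup (show L ∈ {L : Subgroup X | Cfsg.IsComponent L ∧ L ≤ S} from ⟨hL, h⟩))
        le_sup_left
    · exact le_trans
        (le_sSup (show L ∈ {L : Subgroup X | Cfsg.IsComponent L ∧ ⁅L, S⁆ = ⊥} from ⟨hL, h⟩))
        le_sup_right
  have hE1E : sSup {L : Subgroup X | Cfsg.IsComponent L ∧ L ≤ S} ≤ Cfsg.layer X :=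
    sSup_le_sSup fun L hL => hL.1
  have hE2E : sSup {L : Subgroup X | Cfsg.IsComponent L ∧ ⁅L, S⁆ = ⊥} ≤ Cfsg.layer X :=
    sSup_le_sSup fun L hL => hL.1
  have hEF : ∀ a ∈ Cfsg.layer X, ∀ b ∈ Cfsg.fittingSubgroup X, a * b = b * a := by
    intro a ha b hb
    have h1 := Subgroup.commutator_eq_bot_iff_le_centralizer.mp (commutator_layer_fitting (G := X))
    exact ((Subgroup.mem_centralizer_iff.mp (h1 ha)) b hb).symm
  have h12 : ∀ a ∈ sSup {L : Subgroup X | Cfsg.IsComponent L ∧ L ≤ S},
      ∀ b ∈ sSup {L : Subgroup X | Cfsg.IsComponent L ∧ ⁅L, S⁆ = ⊥}, a * b = b * a := by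
    intro a ha b hb
    exact (Subgroup.mem_centralizer_iff.mp (hE2S hb)) a (hE1S ha)
  intro s hs
  have hs' : s ∈ Cfsg.layer X ⊔ Cfsg.fittingSubgroup X := hS hs
  obtain ⟨e, he, f, hf, rfl⟩ := (Cfsg.Agent.Lib.Helper9.mem_sup_of_commute hEF).mp hs'
  obtain ⟨e1, he1, e2, he2, rfl⟩ := (Cfsg.Agent.Lib.Helper9.mem_sup_of_commute h12).mp (hE he)
  have hd : e2 * f ∈ S := by
    have : e2 * f = e1⁻¹ * (e1 * e2 * f) := by group
    rw [this]
    exact S.mul_mem (S.inv_mem (hE1S he1)) hs
  -- `e2` is central in the layer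
  have hc : Cfsg.layer X ≤ Subgroup.centralizer ({e2} : Set X) := by
    refine hE.trans (sup_le ?_ ?_)
    · intro x hx
      rw [Subgroup.mem_centralizer_iff]
      intro y hy
      rw [Set.mem_singleton_iff] at hy
      subst hy
      exact (h12 x hx y he2).symm
    · intro x hx
      rw [Subgroup.mem_centralizer_iff]
      intro y hy
      rw [Set.mem_singleton_iff] at hy
      subst hy
      -- `y * f ∈ S` commutes with `x`, and so does `f`
      have h1 : (y * f) * x = x * (y * f) := (Subgroup.mem_centralizer_iff.mp (hE2S hx)) _ hd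
      have h2 : x * f = f * x := hEF x (hE2E hx) f hf
      have h3 : y * x * f = x * y * f := by
        calc y * x * f = y * (x * f) := by group
          _ = y * (f * x) := by rw [h2]
          _ = (y * f) * x := by group
          _ = x * (y * f) := h1
          _ = x * y * f := by group
      exact mul_right_cancel h3
  have he2F : e2 ∈ Cfsg.fittingSubgroup X := by
    have h1 : e2 ∈ Cfsg.layer X ⊓ Subgroup.centralizer (Cfsg.layer X : Set X) := by
      refine Subgroup.mem_inf.mpr ⟨hE2E he2, ?_⟩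
      rw [Subgroup.mem_centralizer_iff]
      intro y hy
      have := (Subgroup.mem_centralizer_iff.mp (hc hy)) e2 (Set.mem_singleton e2)
      exact this.symm
    rw [← map_center_eq_inf_centralizer, map_center_layer_eq] at h1
    exact h1.1
  have : e1 * e2 * f = e1 * (e2 * f) := by group
  rw [this]
  exact Subgroup.mul_mem_sup he1 (Subgroup.mem_inf.mpr ⟨Subgroup.mul_mem _ he2F hf, hd⟩)

/-- **Structure of subnormal subgroups of `F*(X)`**: such a subgroup `S` satisfies
`F(S) E(S) = S`. -/
theorem fitting_sup_layer_eq_top_of_subnormal_le_gfs [Finite X] {S : Subgroup X}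
    (hsn : S.IsSubnormal) (hS : S ≤ Cfsg.generalizedFittingSubgroup X) :
    Cfsg.fittingSubgroup ↥S ⊔ Cfsg.layer ↥S = ⊤ := by
  apply Subgroup.map_injective S.subtype_injective
  rw [Subgroup.map_sup, map_fittingSubgroup_eq_of_subnormal hsn, map_layer_eq_sSup hsn,
    ← MonoidHom.range_eq_map, Subgroup.range_subtype]
  apply le_antisymm
  · exact sup_le inf_le_right (sSup_le fun L hL => hL.2)
  · rw [sup_comm]
    exact le_sSup_comp_sup_fitting_inf hsn hS

/-- the generalized Fitting subgroup of a subnormal subgroup lies in that of the group -/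
theorem map_gfs_le_of_subnormal [Finite X] {S : Subgroup X} (hsn : S.IsSubnormal) :
    (Cfsg.generalizedFittingSubgroup ↥S).map S.subtype ≤ Cfsg.generalizedFittingSubgroup X ⊓ S := by
  apply le_inf _ (Subgroup.map_subtype_le _)
  unfold Cfsg.generalizedFittingSubgroup
  rw [Subgroup.map_sup, map_fittingSubgroup_eq_of_subnormal hsn]
  exact sup_le_sup (map_layer_le_of_subnormal hsn) inf_le_left

end

end Cfsg.Agent.Lib.Helper10
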