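import Mathlib
import Cfsg.Prelude
import Cfsg.Agent.Lib.Helper10.Layer
import Cfsg.Agent.Lib.Helper1.Hall
import Cfsg.Agent.Lib.Helper1.Fitting

/-!
`p`-components, the `p`-layer, `O_{p',p}` and `p`-constraint, via the quotient by `O_{p'}`.
-/

set_option autoImplicit false

namespace Cfsg.Agent.Lib.Helper10

open Cfsg Cfsg.Agent.Lib.Helper9 Cfsg.Agent.Lib.Helper1

section

variable {G : Type*} [Group G]

/-- `O_{p'}(G / O_{p'}(G)) = 1`. -/
theorem pPrimeCore_quotient_eq_bot [Finite G] (p : ℕ) :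
    pPrimeCore p (G ⧸ pPrimeCore p G) = ⊥ := by
  have h1 : (pPrimeCore p (G ⧸ pPrimeCore p G)).comap (QuotientGroup.mk' (pPrimeCore p G)) ≤
      pPrimeCore p G := by
    apply le_pPrimeCore
    · exact Subgroup.Normal.comap inferInstance _
    · rw [card_comap_mk]
      exact Nat.Coprime.mul_left (pPrimeCore_coprime p) (pPrimeCore_coprime p)
  have h2 := Subgroup.map_mono (f := QuotientGroup.mk' (pPrimeCore p G)) h1
  rw [Subgroup.map_comap_eq_self_of_surjective (QuotientGroup.mk'_surjective _)] at h2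
  rw [eq_bot_iff]
  refine h2.trans ?_
  intro x hx
  obtain ⟨y, hy, rfl⟩ := Subgroup.mem_map.mp hx
  rw [Subgroup.mem_bot]
  exact (QuotientGroup.eq_one_iff y).mpr hy

theorem pPrimeCore_le_pPrimePCore (p : ℕ) : pPrimeCore p G ≤ pPrimePCore p G := by
  unfold pPrimePCore
  conv_lhs => rw [← QuotientGroup.ker_mk' (pPrimeCore p G)]
  exact MonoidHom.ker_le_comap _ _

instance pPrimePCore_normal (p : ℕ) : (pPrimePCore p G).Normal := by
  unfold pPrimePCore
  exact Subgroup.Normal.comap inferInstance _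

theorem map_mk_pPrimePCore (p : ℕ) :
    (pPrimePCore p G).map (QuotientGroup.mk' (pPrimeCore p G)) = pCore p (G ⧸ pPrimeCore p G) := by
  unfold pPrimePCore
  exact Subgroup.map_comap_eq_self_of_surjective (QuotientGroup.mk'_surjective _) _

theorem mem_pPrimePCore_iff (p : ℕ) (x : G) :
    x ∈ pPrimePCore p G ↔ (x : G ⧸ pPrimeCore p G) ∈ pCore p (G ⧸ pPrimeCore p G) := Iff.rfl

/-- the natural map `O_{p',p}(G) → O_p(G / O_{p'}(G))` -/
def pPrimePCoreHom (p : ℕ) (G : Type*) [Group G] :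
    ↥(pPrimePCore p G) →* ↥(pCore p (G ⧸ pPrimeCore p G)) :=
  ((QuotientGroup.mk' (pPrimeCore p G)).comp (pPrimePCore p G).subtype).codRestrict
    (pCore p (G ⧸ pPrimeCore p G)) (fun x => (mem_pPrimePCore_iff p (x : G)).mp x.2)

theorem pPrimePCoreHom_apply (p : ℕ) (x : ↥(pPrimePCore p G)) :
    ((pPrimePCoreHom p G x : ↥(pCore p (G ⧸ pPrimeCore p G))) : G ⧸ pPrimeCore p G) =
      ((x : G) : G ⧸ pPrimeCore p G) := rfl

theorem pPrimePCoreHom_surjective (p : ℕ) : Function.Surjective (pPrimePCoreHom p G) := by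
  rintro ⟨y, hy⟩
  obtain ⟨x, rfl⟩ := QuotientGroup.mk'_surjective (pPrimeCore p G) y
  exact ⟨⟨x, (mem_pPrimePCore_iff p x).mpr hy⟩, rfl⟩

/-- a Sylow `p`-subgroup of `O_{p',p}(G)` covers `O_p(G / O_{p'}(G))`. -/
theorem map_mk_sylow_pPrimePCore [Finite G] (p : ℕ) [Fact p.Prime] (P : Sylow p ↥(pPrimePCore p G)) :
    ((P : Subgroup ↥(pPrimePCore p G)).map (pPrimePCore p G).subtype).map
      (QuotientGroup.mk' (pPrimeCore p G)) = pCore p (G ⧸ pPrimeCore p G) := by
  have h1 : (P : Subgroup ↥(pPrimePCore p G)).map (pPrimePCoreHom p G) = ⊤ := by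
    have hp : IsPGroup p ↥(⊤ : Subgroup ↥(pCore p (G ⧸ pPrimeCore p G))) :=
      IsPGroup.of_equiv (Cfsg.Agent.Lib.Helper1.pCore_isPGroup (G := G ⧸ pPrimeCore p G) p)
        Subgroup.topEquiv.symm
    have h3 := (Sylow.mapSurjective (pPrimePCoreHom_surjective p) P).is_maximal' hp le_top
    exact h3.symm
  apply le_antisymm
  · rw [← map_mk_pPrimePCore]
    exact Subgroup.map_mono (Subgroup.map_subtype_le _)
  · intro y hy
    have h2 : (⟨y, hy⟩ : ↥(pCore p (G ⧸ pPrimeCore p G))) ∈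
        (P : Subgroup ↥(pPrimePCore p G)).map (pPrimePCoreHom p G) := by
      rw [h1]; exact Subgroup.mem_top _
    obtain ⟨x, hx, hxy⟩ := Subgroup.mem_map.mp h2
    refine Subgroup.mem_map.mpr ⟨(x : G), Subgroup.mem_map.mpr ⟨x, hx, rfl⟩, ?_⟩
    have := congrArg Subtype.val hxy
    exact this

/-! ### `p`-components -/

theorem isPComponent_le_pLayer {p : ℕ} {K : Subgroup G} (h : IsPComponent p K) : K ≤ pLayer p G :=
  le_sSup h

/-- every component of `G / O_{p'}(G)` is the image of a `p`-component of `G` -/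
theorem exists_isPComponent_of_isComponent [Finite G] (p : ℕ)
    {Kb : Subgroup (G ⧸ pPrimeCore p G)} (hK : IsComponent Kb) :
    ∃ K : Subgroup G, IsPComponent p K ∧ K.map (QuotientGroup.mk' (pPrimeCore p G)) = Kb := by
  have h0 : (Kb.comap (QuotientGroup.mk' (pPrimeCore p G))).IsSubnormal ∧
      (Kb.comap (QuotientGroup.mk' (pPrimeCore p G))).map (QuotientGroup.mk' (pPrimeCore p G)) = Kb :=
    ⟨hK.1.comap _, Subgroup.map_comap_eq_self_of_surjective (QuotientGroup.mk'_surjective _) _⟩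
  obtain ⟨K, -, hK1, hKmin⟩ := exists_minimal_le_of_wellFoundedLT
    (fun H : Subgroup G => H.IsSubnormal ∧ H.map (QuotientGroup.mk' (pPrimeCore p G)) = Kb) _ h0
  refine ⟨K, ⟨hK1.1, by rw [hK1.2]; exact hK, ?_⟩, hK1.2⟩
  intro H hH hHK hmap
  exact le_antisymm hHK (hKmin ⟨hH, hmap.trans hK1.2⟩ hHK)

/-- the image of the `p`-layer in `G / O_{p'}(G)` is the layer -/
theorem map_mk_pLayer [Finite G] (p : ℕ) :
    (pLayer p G).map (QuotientGroup.mk' (pPrimeCore p G)) = layer (G ⧸ pPrimeCore p G) := by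
  apply le_antisymm
  · unfold pLayer
    rw [sSup_eq_iSup, Subgroup.map_iSup]
    apply iSup_le
    intro K
    rw [Subgroup.map_iSup]
    apply iSup_le
    intro hK
    exact le_sSup hK.2.1
  · apply sSup_le
    intro Kb hKb
    obtain ⟨K, hK, rfl⟩ := exists_isPComponent_of_isComponent p hKb
    exact Subgroup.map_mono (isPComponent_le_pLayer hK)

theorem pLayer_eq_bot_iff [Finite G] (p : ℕ) :
    pLayer p G = ⊥ ↔ layer (G ⧸ pPrimeCore p G) = ⊥ := by
  constructor
  · intro h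
    rw [← map_mk_pLayer, h, Subgroup.map_bot]
  · intro h
    rw [eq_bot_iff]
    apply sSup_le
    intro K hK
    exfalso
    have h1 : K.map (QuotientGroup.mk' (pPrimeCore p G)) ≤ layer (G ⧸ pPrimeCore p G) :=
      le_sSup hK.2.1
    rw [h, le_bot_iff] at h1
    exact comp_ne_bot hK.2.1 h1

/-- `C(O_p) ≤ O_p` in `G / O_{p'}(G)` exactly when the `p`-layer is trivial -/
theorem centralizer_pCore_quotient_le_iff [Finite G] (p : ℕ) [Fact p.Prime] :
    Subgroup.centralizer (pCore p (G ⧸ pPrimeCore p G) : Set (G ⧸ pPrimeCore p G)) ≤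
      pCore p (G ⧸ pPrimeCore p G) ↔ pLayer p G = ⊥ := by
  rw [pLayer_eq_bot_iff, ← fittingSubgroup_eq_pCore_of_pPrimeCore_eq_bot p
    (pPrimeCore_quotient_eq_bot p)]
  constructor
  · intro h
    rw [eq_bot_iff]
    apply sSup_le
    intro L hL
    exfalso
    have h1 : Cfsg.layer (G ⧸ pPrimeCore p G) ≤
        Subgroup.centralizer (Cfsg.fittingSubgroup (G ⧸ pPrimeCore p G) : Set (G ⧸ pPrimeCore p G)) :=
      Subgroup.commutator_eq_bot_iff_le_centralizer.mp commutator_layer_fitting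
    have h2 : L ≤ Cfsg.fittingSubgroup (G ⧸ pPrimeCore p G) := (comp_le_layer hL).trans (h1.trans h)
    have hn : Group.IsNilpotent ↥(Cfsg.fittingSubgroup (G ⧸ pPrimeCore p G)) :=
      Cfsg.Agent.Lib.Helper1.fittingSubgroup_isNilpotent
    have hs : Group.IsSolvable ↥(Cfsg.fittingSubgroup (G ⧸ pPrimeCore p G)) := inferInstance
    exact comp_not_le_of_isSolvable hL hs h2
  · intro h
    have h1 : Cfsg.generalizedFittingSubgroup (G ⧸ pPrimeCore p G) =
        Cfsg.fittingSubgroup (G ⧸ pPrimeCore p G) := by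
      unfold Cfsg.generalizedFittingSubgroup
      rw [h, bot_sup_eq]
    have h2 := centralizer_gfs_le (G := G ⧸ pPrimeCore p G)
    rwa [h1] at h2

end

end Cfsg.Agent.Lib.Helper10
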