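import Mathlib
import Cfsg.Prelude.Def_Local
import Cfsg.Prelude.Def_Balance

/-!
Transport of the local-analysis vocabulary (`pCore`, `pPrimeCore`, `fittingSubgroup`, components,
`layer`, `p`-components, `pLayer`, `pPrimePCore`, `generalizedFittingSubgroup`) along a group
isomorphism `φ : G ≃* G'`.
-/

set_option autoImplicit false

namespace Cfsg.Agent.Lib.Helper10

open Cfsg

variable {G G' : Type*} [Group G] [Group G'] (φ : G ≃* G')

theorem map_symm_map (K : Subgroup G) : (K.map φ.toMonoidHom).map φ.symm.toMonoidHom = K := by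
  ext x
  simp only [Subgroup.mem_map, MulEquiv.coe_toMonoidHom]
  constructor
  · rintro ⟨_, ⟨y, hy, rfl⟩, rfl⟩
    simpa using hy
  · intro hx
    exact ⟨φ x, ⟨x, hx, rfl⟩, by simp⟩

theorem map_map_symm (K : Subgroup G') : (K.map φ.symm.toMonoidHom).map φ.toMonoidHom = K := by
  have := map_symm_map φ.symm K
  simpa using this

/-- Generic transport of a supremum of a family of subgroups. -/
theorem map_sSup_of_forall (S : Set (Subgroup G)) (S' : Set (Subgroup G'))
    (h1 : ∀ N ∈ S, N.map φ.toMonoidHom ∈ S') (h2 : ∀ N ∈ S', N.map φ.symm.toMonoidHom ∈ S) :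
    (sSup S).map φ.toMonoidHom = sSup S' := by
  apply le_antisymm
  · rw [sSup_eq_iSup', Subgroup.map_iSup, iSup_le_iff]
    rintro ⟨N, hN⟩
    exact le_sSup (h1 N hN)
  · apply sSup_le
    intro N hN
    have h3 : N.map φ.symm.toMonoidHom ≤ sSup S := le_sSup (h2 N hN)
    have h4 := Subgroup.map_mono (f := φ.toMonoidHom) h3
    rwa [map_map_symm] at h4

theorem card_map_equiv (K : Subgroup G) : Nat.card (K.map φ.toMonoidHom) = Nat.card K :=
  Subgroup.card_map_of_injective φ.injective

theorem normal_map_equiv {K : Subgroup G} (h : K.Normal) : (K.map φ.toMonoidHom).Normal :=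
  Subgroup.Normal.map h _ φ.surjective

theorem isSubnormal_map_equiv {K : Subgroup G} (h : K.IsSubnormal) :
    (K.map φ.toMonoidHom).IsSubnormal :=
  Subgroup.IsSubnormal.map φ.surjective h

/-! ### cores -/

theorem map_pPrimeCore (p : ℕ) : (pPrimeCore p G).map φ.toMonoidHom = pPrimeCore p G' := by
  unfold pPrimeCore
  apply map_sSup_of_forall
  · rintro N ⟨hN, hc⟩
    exact ⟨normal_map_equiv φ hN, by rw [card_map_equiv]; exact hc⟩
  · rintro N ⟨hN, hc⟩
    exact ⟨normal_map_equiv φ.symm hN, by rw [card_map_equiv]; exact hc⟩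

theorem map_pCore (p : ℕ) : (pCore p G).map φ.toMonoidHom = pCore p G' := by
  unfold pCore
  apply map_sSup_of_forall
  · rintro N ⟨hN, hc⟩
    exact ⟨normal_map_equiv φ hN, hc.map _⟩
  · rintro N ⟨hN, hc⟩
    exact ⟨normal_map_equiv φ.symm hN, hc.map _⟩

theorem map_fittingSubgroup : (fittingSubgroup G).map φ.toMonoidHom = fittingSubgroup G' := by
  unfold fittingSubgroup
  apply map_sSup_of_forall
  · rintro N ⟨hN, hc⟩
    exact ⟨normal_map_equiv φ hN, (Group.isNilpotent_congr (φ.subgroupMap N)).mp hc⟩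
  · rintro N ⟨hN, hc⟩
    exact ⟨normal_map_equiv φ.symm hN, (Group.isNilpotent_congr (φ.symm.subgroupMap N)).mp hc⟩

/-! ### quasisimple groups, components, the layer -/

theorem isQuasisimple_of_mulEquiv {H H' : Type*} [Group H] [Group H'] (e : H ≃* H')
    (h : IsQuasisimple H) : IsQuasisimple H' := by
  obtain ⟨hp, hs⟩ := h
  refine ⟨Group.IsPerfect.ofSurjective (f := e.toMonoidHom) e.surjective, ?_⟩
  have hc : (Subgroup.center H).map e.toMonoidHom = Subgroup.center H' := by
    ext x
    simp only [Subgroup.mem_map, MulEquiv.coe_toMonoidHom, Subgroup.mem_center_iff]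
    constructor
    · rintro ⟨z, hz, rfl⟩ g
      have := hz (e.symm g)
      have h2 := congrArg e this
      simpa using h2
    · intro hx
      refine ⟨e.symm x, ?_, by simp⟩
      intro g
      apply e.injective
      simpa using hx (e g)
  let ψ : H ⧸ Subgroup.center H ≃* H' ⧸ Subgroup.center H' :=
    QuotientGroup.congr _ _ e hc
  exact ψ.symm.isSimpleGroup

theorem isComponent_map_equiv {K : Subgroup G} (h : IsComponent K) :
    IsComponent (K.map φ.toMonoidHom) :=
  ⟨isSubnormal_map_equiv φ h.1, isQuasisimple_of_mulEquiv (φ.subgroupMap K) h.2⟩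

theorem map_layer : (layer G).map φ.toMonoidHom = layer G' := by
  unfold layer
  apply map_sSup_of_forall
  · intro N hN
    exact isComponent_map_equiv φ hN
  · intro N hN
    exact isComponent_map_equiv φ.symm hN

theorem map_generalizedFittingSubgroup :
    (generalizedFittingSubgroup G).map φ.toMonoidHom = generalizedFittingSubgroup G' := by
  unfold generalizedFittingSubgroup
  rw [Subgroup.map_sup, map_layer, map_fittingSubgroup]

/-! ### the quotient by `O_{p'}` -/

/-- The isomorphism `G / O_{p'}(G) ≃* G' / O_{p'}(G')` induced by `φ`. -/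
noncomputable def quotPPrimeCoreEquiv (p : ℕ) : G ⧸ pPrimeCore p G ≃* G' ⧸ pPrimeCore p G' :=
  QuotientGroup.congr _ _ φ (map_pPrimeCore φ p)

theorem quotPPrimeCoreEquiv_mk (p : ℕ) (x : G) :
    quotPPrimeCoreEquiv φ p (QuotientGroup.mk' (pPrimeCore p G) x) =
      QuotientGroup.mk' (pPrimeCore p G') (φ x) := rfl

theorem map_map_mk_pPrimeCore (p : ℕ) (K : Subgroup G) :
    (K.map φ.toMonoidHom).map (QuotientGroup.mk' (pPrimeCore p G')) =
      (K.map (QuotientGroup.mk' (pPrimeCore p G))).map (quotPPrimeCoreEquiv φ p).toMonoidHom := by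
  rw [Subgroup.map_map, Subgroup.map_map]
  congr 1

theorem map_symm_map_mk_pPrimeCore (p : ℕ) (K : Subgroup G') :
    (K.map φ.symm.toMonoidHom).map (QuotientGroup.mk' (pPrimeCore p G)) =
      (K.map (QuotientGroup.mk' (pPrimeCore p G'))).map (quotPPrimeCoreEquiv φ p).symm.toMonoidHom := by
  have h := map_map_mk_pPrimeCore φ p (K.map φ.symm.toMonoidHom)
  rw [map_map_symm] at h
  rw [h, map_symm_map]

/-! ### `p`-components and the `p`-layer -/

theorem isPComponent_map_equiv (p : ℕ) {K : Subgroup G} (h : IsPComponent p K) :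
    IsPComponent p (K.map φ.toMonoidHom) := by
  obtain ⟨hsn, hcomp, hmin⟩ := h
  refine ⟨isSubnormal_map_equiv φ hsn, ?_, ?_⟩
  · rw [map_map_mk_pPrimeCore]
    exact isComponent_map_equiv _ hcomp
  · intro H hHsn hHK hHeq
    have h1 : (H.map φ.symm.toMonoidHom).IsSubnormal := isSubnormal_map_equiv φ.symm hHsn
    have h2 : H.map φ.symm.toMonoidHom ≤ K := by
      have := Subgroup.map_mono (f := φ.symm.toMonoidHom) hHK
      rwa [map_symm_map] at this
    have h3 : (H.map φ.symm.toMonoidHom).map (QuotientGroup.mk' (pPrimeCore p G)) =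
        K.map (QuotientGroup.mk' (pPrimeCore p G)) := by
      rw [map_symm_map_mk_pPrimeCore, hHeq, map_map_mk_pPrimeCore, map_symm_map]
    have h4 := hmin _ h1 h2 h3
    rw [← h4, map_map_symm]

theorem map_pLayer (p : ℕ) : (pLayer p G).map φ.toMonoidHom = pLayer p G' := by
  unfold pLayer
  apply map_sSup_of_forall
  · intro N hN
    exact isPComponent_map_equiv φ p hN
  · intro N hN
    exact isPComponent_map_equiv φ.symm p hN

theorem map_pPrimePCore (p : ℕ) : (pPrimePCore p G).map φ.toMonoidHom = pPrimePCore p G' := by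
  have key : ∀ x : G, x ∈ pPrimePCore p G ↔ φ x ∈ pPrimePCore p G' := by
    intro x
    unfold pPrimePCore
    rw [Subgroup.mem_comap, Subgroup.mem_comap, ← quotPPrimeCoreEquiv_mk,
      ← map_pCore (quotPPrimeCoreEquiv φ p) p]
    constructor
    · intro h
      exact ⟨_, h, rfl⟩
    · rintro ⟨y, hy, hyx⟩
      have := (quotPPrimeCoreEquiv φ p).injective hyx
      rwa [← this]
  ext y
  constructor
  · rintro ⟨x, hx, rfl⟩
    exact (key x).mp hx
  · intro hy
    refine ⟨φ.symm y, (key _).mpr (by simpa using hy), by simp⟩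

/-! ### relative versions: subgroups viewed as groups -/

/-- The restriction of `φ` to a subgroup `H`, as an isomorphism onto the image. -/
noncomputable def restrictEquiv (H : Subgroup G) : H ≃* H.map φ.toMonoidHom :=
  φ.subgroupMap H

theorem restrictEquiv_apply (H : Subgroup G) (x : H) :
    ((restrictEquiv φ H x : H.map φ.toMonoidHom) : G') = φ x := rfl

/-- A subgroup of `H` pushed to `G` and then along `φ` equals its push along the restriction of `φ`
followed by the inclusion of the image of `H`. -/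
theorem map_subtype_map (H : Subgroup G) (L : Subgroup H) :
    (L.map H.subtype).map φ.toMonoidHom =
      (L.map (restrictEquiv φ H).toMonoidHom).map (H.map φ.toMonoidHom).subtype := by
  ext y
  simp only [Subgroup.mem_map, MulEquiv.coe_toMonoidHom, Subgroup.subtype_apply]
  constructor
  · rintro ⟨_, ⟨x, hx, rfl⟩, rfl⟩
    exact ⟨restrictEquiv φ H x, ⟨x, hx, rfl⟩, rfl⟩
  · rintro ⟨_, ⟨x, hx, rfl⟩, rfl⟩
    exact ⟨x, ⟨x, hx, rfl⟩, rfl⟩

theorem map_centralizer (P : Subgroup G) :
    (Subgroup.centralizer (P : Set G)).map φ.toMonoidHom =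
      Subgroup.centralizer ((P.map φ.toMonoidHom : Subgroup G') : Set G') := by
  ext y
  simp only [Subgroup.mem_map, MulEquiv.coe_toMonoidHom, Subgroup.mem_centralizer_iff,
    SetLike.mem_coe]
  constructor
  · rintro ⟨x, hx, rfl⟩ _ ⟨a, ha, rfl⟩
    rw [← map_mul, ← map_mul, hx a ha]
  · intro hy
    refine ⟨φ.symm y, ?_, by simp⟩
    intro a ha
    apply φ.injective
    simpa using hy (φ a) ⟨a, ha, rfl⟩

theorem map_pPrimeCore_subgroup (p : ℕ) (H : Subgroup G) :
    ((pPrimeCore p H).map H.subtype).map φ.toMonoidHom =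
      (pPrimeCore p (H.map φ.toMonoidHom)).map (H.map φ.toMonoidHom).subtype := by
  rw [map_subtype_map, map_pPrimeCore]

theorem map_pCore_subgroup (p : ℕ) (H : Subgroup G) :
    ((pCore p H).map H.subtype).map φ.toMonoidHom =
      (pCore p (H.map φ.toMonoidHom)).map (H.map φ.toMonoidHom).subtype := by
  rw [map_subtype_map, map_pCore]

theorem map_layer_subgroup (H : Subgroup G) :
    ((layer H).map H.subtype).map φ.toMonoidHom =
      (layer (H.map φ.toMonoidHom)).map (H.map φ.toMonoidHom).subtype := by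
  rw [map_subtype_map, map_layer]

theorem map_pLayer_subgroup (p : ℕ) (H : Subgroup G) :
    ((pLayer p H).map H.subtype).map φ.toMonoidHom =
      (pLayer p (H.map φ.toMonoidHom)).map (H.map φ.toMonoidHom).subtype := by
  rw [map_subtype_map, map_pLayer]

theorem map_fittingSubgroup_subgroup (H : Subgroup G) :
    ((fittingSubgroup H).map H.subtype).map φ.toMonoidHom =
      (fittingSubgroup (H.map φ.toMonoidHom)).map (H.map φ.toMonoidHom).subtype := by
  rw [map_subtype_map, map_fittingSubgroup]

/-- `O_{p'}(C_G(P))` as a subgroup of `G`. -/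
def coreCent (p : ℕ) (P : Subgroup G) : Subgroup G :=
  (pPrimeCore p ↥(Subgroup.centralizer (P : Set G))).map (Subgroup.centralizer (P : Set G)).subtype

theorem map_coreCent (p : ℕ) (P : Subgroup G) :
    (coreCent p P).map φ.toMonoidHom = coreCent p (P.map φ.toMonoidHom) := by
  unfold coreCent
  rw [map_pPrimeCore_subgroup]
  exact congrArg (fun K : Subgroup G' => (pPrimeCore p ↥K).map K.subtype) (map_centralizer φ P)

/-! ### Sylow subgroups of a subgroup -/

/-- Transport of a Sylow subgroup of `N` to a Sylow subgroup of `N'`, where `N' = φ(N)`. -/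
noncomputable def sylowTransport {p : ℕ} {N : Subgroup G} {N' : Subgroup G'}
    (h : N.map φ.toMonoidHom = N') (T : Sylow p N) : Sylow p N' :=
  T.comapOfInjective ((restrictEquiv φ N).trans (MulEquiv.subgroupCongr h)).symm.toMonoidHom
    ((restrictEquiv φ N).trans (MulEquiv.subgroupCongr h)).symm.injective
    (by
      rw [MonoidHom.range_eq_top.mpr
        ((restrictEquiv φ N).trans (MulEquiv.subgroupCongr h)).symm.surjective]
      exact le_top)

theorem mem_sylowTransport {p : ℕ} {N : Subgroup G} {N' : Subgroup G'}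
    (h : N.map φ.toMonoidHom = N') (T : Sylow p N) (z : N') :
    z ∈ ((sylowTransport φ h T : Sylow p N') : Subgroup N') ↔
      ((restrictEquiv φ N).trans (MulEquiv.subgroupCongr h)).symm z ∈ T := Iff.rfl

theorem sylowTransport_map {p : ℕ} {N : Subgroup G} {N' : Subgroup G'}
    (h : N.map φ.toMonoidHom = N') (T : Sylow p N) :
    ((sylowTransport φ h T : Sylow p N') : Subgroup N').map N'.subtype =
      ((T : Subgroup N).map N.subtype).map φ.toMonoidHom := by
  subst h
  ext y
  simp only [Subgroup.mem_map, Subgroup.subtype_apply]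
  constructor
  · rintro ⟨n, hn, rfl⟩
    rw [mem_sylowTransport] at hn
    refine ⟨_, ⟨_, hn, rfl⟩, ?_⟩
    have h1 := ((restrictEquiv φ N).trans (MulEquiv.subgroupCongr rfl)).apply_symm_apply n
    have h2 := congrArg Subtype.val h1
    exact h2
  · rintro ⟨_, ⟨t, ht, rfl⟩, rfl⟩
    refine ⟨((restrictEquiv φ N).trans (MulEquiv.subgroupCongr rfl)) t, ?_, rfl⟩
    rw [mem_sylowTransport, MulEquiv.symm_apply_apply]
    exact ht

/-! ### the extended 2-layer -/

theorem extendedTwoLayer_eq (X : Type*) [Group X] :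
    extendedTwoLayer X = pLayer 2 X ⊔ pPrimeCore 2 X ⊔
      ⨆ T : Sylow 2 ↥(pLayer 2 X ⊔ pPrimePCore 2 X),
        coreCent 2 ((T : Subgroup ↥(pLayer 2 X ⊔ pPrimePCore 2 X)).map
          (pLayer 2 X ⊔ pPrimePCore 2 X).subtype) := rfl

theorem map_extendedTwoLayer_le :
    (extendedTwoLayer G).map φ.toMonoidHom ≤ extendedTwoLayer G' := by
  rw [extendedTwoLayer_eq, extendedTwoLayer_eq, Subgroup.map_sup, Subgroup.map_sup, map_pLayer,
    map_pPrimeCore, Subgroup.map_iSup]
  apply sup_le_sup_left
  apply iSup_le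
  intro T
  have hN : (pLayer 2 G ⊔ pPrimePCore 2 G).map φ.toMonoidHom = pLayer 2 G' ⊔ pPrimePCore 2 G' := by
    rw [Subgroup.map_sup, map_pLayer, map_pPrimePCore]
  rw [map_coreCent, ← sylowTransport_map φ hN T]
  exact le_iSup (fun T' : Sylow 2 ↥(pLayer 2 G' ⊔ pPrimePCore 2 G') =>
    coreCent 2 ((T' : Subgroup ↥(pLayer 2 G' ⊔ pPrimePCore 2 G')).map
      (pLayer 2 G' ⊔ pPrimePCore 2 G').subtype)) (sylowTransport φ hN T)

theorem map_extendedTwoLayer :
    (extendedTwoLayer G).map φ.toMonoidHom = extendedTwoLayer G' := by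
  apply le_antisymm (map_extendedTwoLayer_le φ)
  have h := Subgroup.map_mono (f := φ.toMonoidHom) (map_extendedTwoLayer_le φ.symm)
  rwa [map_map_symm] at h

/-! ### characteristic subgroups -/

theorem characteristic_of_map_eq (F : Subgroup G)
    (h : ∀ ψ : G ≃* G, F.map ψ.toMonoidHom = F) : F.Characteristic :=
  Subgroup.characteristic_iff_map_eq.mpr h

theorem layer_characteristic : (layer G).Characteristic :=
  characteristic_of_map_eq _ fun ψ => map_layer ψ

theorem pLayer_characteristic (p : ℕ) : (pLayer p G).Characteristic :=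
  characteristic_of_map_eq _ fun ψ => map_pLayer ψ p

theorem pPrimePCore_characteristic (p : ℕ) : (pPrimePCore p G).Characteristic :=
  characteristic_of_map_eq _ fun ψ => map_pPrimePCore ψ p

theorem generalizedFittingSubgroup_characteristic : (generalizedFittingSubgroup G).Characteristic :=
  characteristic_of_map_eq _ fun ψ => map_generalizedFittingSubgroup ψ

theorem extendedTwoLayer_characteristic : (extendedTwoLayer G).Characteristic :=
  characteristic_of_map_eq _ fun ψ => map_extendedTwoLayer ψ

end Cfsg.Agent.Lib.Helper10
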