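import Mathlib
import Cfsg.Prelude
import Cfsg.Agent.Lib.Helper10.PComponent
import Cfsg.Agent.Lib.Helper10.Transport
import Cfsg.Agent.Lib.Helper1.Coprime
import Cfsg.Agent.Lib.Helper16.Amalgam2
import Cfsg.Agent.Lib.Helper17.SylowNormal
import Cfsg.Agent.Lib.Helper13.Conj

/-!
Uniqueness of `p`-components: a `p`-component `K` of a finite group `G` is the subgroup generated by
the `p`-elements of `K O_{p'}(G)`.
-/

set_option autoImplicit false

namespace Cfsg.Agent.Lib.Helper10

open Cfsg Cfsg.Agent.Lib.Helper9 Cfsg.Agent.Lib.Helper1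

universe u

section Subnormal

/-- a subnormal subgroup of index prime to `p` contains every `p`-element -/
theorem mem_of_isSubnormal_of_coprime_index {G : Type*} [Group G] [Finite G] {p : ℕ}
    {K : Subgroup G} (hK : K.IsSubnormal) :
    (K.index).Coprime p → ∀ x : G, (∃ k : ℕ, orderOf x = p ^ k) → x ∈ K := by
  induction hK with
  | top => intro _ x _; exact Subgroup.mem_top x
  | step H K' hle hK' hN ih =>
    intro hidx x hx
    have h1 : (K'.index).Coprime p :=
      Nat.Coprime.coprime_dvd_left (Subgroup.index_dvd_of_le hle) hidx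
    have hxK' : x ∈ K' := ih h1 x hx
    obtain ⟨k, hk⟩ := hx
    -- the image of `x` in `K' / H` is trivial
    have h2 : (Nat.card (↥K' ⧸ H.subgroupOf K')).Coprime p := by
      have : Nat.card (↥K' ⧸ H.subgroupOf K') = H.relIndex K' := rfl
      rw [this]
      exact Nat.Coprime.coprime_dvd_left (Subgroup.relIndex_dvd_index_of_le hle) hidx
    have h3 : orderOf ((⟨x, hxK'⟩ : ↥K') : ↥K' ⧸ H.subgroupOf K') ∣ p ^ k := by
      apply orderOf_dvd_of_pow_eq_one
      rw [← QuotientGroup.mk_pow]
      have : (⟨x, hxK'⟩ : ↥K') ^ p ^ k = 1 := by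
        apply Subtype.ext
        simp only [Subgroup.coe_pow, Subgroup.coe_one]
        rw [← hk]; exact pow_orderOf_eq_one x
      rw [this]; rfl
    have h4 : orderOf ((⟨x, hxK'⟩ : ↥K') : ↥K' ⧸ H.subgroupOf K') ∣
        Nat.card (↥K' ⧸ H.subgroupOf K') := orderOf_dvd_natCard _
    have h5 : orderOf ((⟨x, hxK'⟩ : ↥K') : ↥K' ⧸ H.subgroupOf K') = 1 := by
      have := Nat.dvd_gcd h4 h3
      rw [Nat.Coprime.gcd_eq_one (Nat.Coprime.pow_right k h2)] at this
      exact Nat.dvd_one.mp this
    have h6 := (QuotientGroup.eq_one_iff _).mp (orderOf_eq_one_iff.mp h5)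
    rwa [Subgroup.mem_subgroupOf] at h6

theorem subnormal_coprime_le_pPrimeCore_aux (p : ℕ) (n : ℕ) : ∀ (G : Type u) [Group G] [Finite G],
    Nat.card G = n → ∀ K : Subgroup G, K.IsSubnormal → (Nat.card K).Coprime p →
      K ≤ pPrimeCore p G := by
  induction n using Nat.strong_induction_on with
  | _ n ih =>
  intro G _ _ hn K hK hKn
  by_cases hKtop : K = ⊤
  · subst hKtop
    exact le_pPrimeCore inferInstance hKn
  obtain ⟨M, hMn, hKM, hMlt⟩ := hK.exists_normal_and_le_and_lt_top_of_ne hKtop
  have hcard : Nat.card M < n := hn ▸ card_lt_of_lt_top hMlt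
  have hK' : (Nat.card ↥(K.subgroupOf M)).Coprime p := by
    rw [Nat.card_congr (Subgroup.subgroupOfEquivOfLe hKM).toEquiv]; exact hKn
  have h1 := ih (Nat.card M) hcard M rfl (K.subgroupOf M) hK.subgroupOf hK'
  have h2 : K ≤ (pPrimeCore p ↥M).map M.subtype := by
    have := Subgroup.map_mono (f := M.subtype) h1
    rwa [Subgroup.map_subgroupOf_eq_of_le hKM] at this
  refine h2.trans ?_
  have := pPrimeCore_characteristic (G := ↥M) p
  apply le_pPrimeCore
  · exact ConjAct.normal_of_characteristic_of_normal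
  · refine Nat.Coprime.coprime_dvd_left (Subgroup.card_map_dvd _ _) ?_
    exact pPrimeCore_coprime p

/-- A subnormal subgroup of order prime to `p` lies in `O_{p'}(G)`. -/
theorem subnormal_coprime_le_pPrimeCore {G : Type u} [Group G] [Finite G] (p : ℕ) {K : Subgroup G}
    (hK : K.IsSubnormal) (hKn : (Nat.card K).Coprime p) : K ≤ pPrimeCore p G :=
  subnormal_coprime_le_pPrimeCore_aux p _ G rfl K hK hKn

end Subnormal

section Generation

/-- a perfect finite group with a central Sylow `p`-subgroup has order prime to `p` -/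
theorem coprime_card_of_sylow_le_center {L : Type*} [Group L] [Finite L] {p : ℕ} [Fact p.Prime]
    (hperf : commutator L = ⊤) (P : Sylow p L) (hP : (P : Subgroup L) ≤ Subgroup.center L) :
    (Nat.card L).Coprime p := by
  have hNC : Subgroup.normalizer ((P : Subgroup L) : Set L) ≤
      Subgroup.centralizer ((P : Subgroup L) : Set L) := by
    intro x _
    rw [Subgroup.mem_centralizer_iff]
    intro y hy
    exact ((Subgroup.mem_center_iff.mp (hP hy)) x).symm
  have hcomp := MonoidHom.ker_transferSylow_isComplement' P hNC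
  have hker : (MonoidHom.transferSylow P hNC).ker = ⊤ := by
    rw [eq_top_iff, ← hperf, commutator_def, Subgroup.commutator_le]
    intro a _ b _
    rw [MonoidHom.mem_ker, map_commutatorElement]
    have hc : ∀ u v : ↥(P : Subgroup L), u * v = v * u := by
      intro u v
      apply Subtype.ext
      exact ((Subgroup.mem_center_iff.mp (hP u.2)) v).symm
    rw [commutatorElement_def, hc _ (MonoidHom.transferSylow P hNC b)]
    group
  rw [hker, Subgroup.isComplement'_top_left] at hcomp
  have h1 : ¬ p ∣ Nat.card L := fun h => P.ne_bot_of_dvd_card h hcomp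
  exact ((Nat.Prime.coprime_iff_not_dvd Fact.out).mpr h1).symm

/-- In a finite group `Q` with `O_{p'}(Q) = 1`, every component is generated by its `p`-elements. -/
theorem pElementClosure_comp_eq {Q : Type u} [Group Q] [Finite Q] (p : ℕ) [Fact p.Prime]
    (hQ : pPrimeCore p Q = ⊥) {L : Subgroup Q} (hL : IsComponent L) :
    pElementClosure p L = L := by
  have hle := Cfsg.Agent.Lib.Helper16.pElementClosure_le p L
  have hn : ((pElementClosure p L).subgroupOf L).Normal := by
    rw [Subgroup.normal_subgroupOf_iff_le_normalizer hle]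
    apply le_normalizer_of_forall_conj_mem
    intro g hg x hx
    exact Cfsg.Agent.Lib.Helper16.pElementClosure_conj_mem p L g hg x hx
  rcases qs_normal_le_center_or_eq_top (comp_qs hL) ((pElementClosure p L).subgroupOf L) with h | h
  · exfalso
    obtain ⟨P⟩ : Nonempty (Sylow p ↥L) := inferInstance
    have hP : (P : Subgroup ↥L) ≤ Subgroup.center ↥L := by
      refine le_trans ?_ h
      intro x hx
      rw [Subgroup.mem_subgroupOf]
      have h1 : (P : Subgroup ↥L).map L.subtype ≤ pElementClosure p L :=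
        Cfsg.Agent.Lib.Helper16.le_pElementClosure_of_isPGroup L _ (Subgroup.map_subtype_le _)
          (P.2.map _)
      exact h1 (Subgroup.mem_map.mpr ⟨x, hx, rfl⟩)
    have hcop := coprime_card_of_sylow_le_center (qs_commutator_eq_top (comp_qs hL)) P hP
    have h2 := subnormal_coprime_le_pPrimeCore p hL.1 hcop
    rw [hQ, le_bot_iff] at h2
    exact comp_ne_bot hL h2
  · apply le_antisymm hle
    intro x hx
    have : (⟨x, hx⟩ : ↥L) ∈ (pElementClosure p L).subgroupOf L := by rw [h]; exact Subgroup.mem_top _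
    rwa [Subgroup.mem_subgroupOf] at this

end Generation

section Uniqueness

variable {G : Type u} [Group G] [Finite G]

/-- lifting `p`-elements through a homomorphism -/
theorem exists_pElement_lift {G' : Type*} [Group G'] (f : G →* G') (p : ℕ) [Fact p.Prime]
    {K : Subgroup G} {x : G} (hx : x ∈ K) {k : ℕ} (hk : orderOf (f x) = p ^ k) :
    ∃ z ∈ K, (∃ j : ℕ, orderOf z = p ^ j) ∧ f z = f x := by
  have hp : p.Prime := Fact.out
  have ho : orderOf x ≠ 0 := (orderOf_pos x).ne'
  obtain ⟨a, m, hm, hom⟩ := Nat.exists_eq_pow_mul_and_not_dvd ho p hp.ne_one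
  have hm0 : m ≠ 0 := by
    rintro rfl
    rw [mul_zero] at hom
    exact ho hom
  have hy : orderOf (x ^ m) = p ^ a := by
    rw [orderOf_pow_of_dvd hm0 (Dvd.intro_left _ hom.symm), hom,
      Nat.mul_div_cancel _ (Nat.pos_of_ne_zero hm0)]
  have hcop : IsCoprime (m : ℤ) ((p ^ k : ℕ) : ℤ) := by
    rw [Nat.isCoprime_iff_coprime]
    exact Nat.Coprime.pow_right k ((Nat.Prime.coprime_iff_not_dvd hp).mpr hm).symm
  obtain ⟨u, v, huv⟩ := hcop
  refine ⟨(x ^ m) ^ u, K.zpow_mem (K.pow_mem hx m) u, ?_, ?_⟩
  · have h1 : orderOf ((x ^ m) ^ u) ∣ p ^ a := by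
      rw [← hy]
      exact orderOf_dvd_of_mem_zpowers (Subgroup.zpow_mem_zpowers _ u)
    obtain ⟨j, -, hj⟩ := (Nat.dvd_prime_pow hp).mp h1
    exact ⟨j, hj⟩
  · rw [map_zpow, map_pow, ← zpow_natCast, ← zpow_mul]
    have h2 : (f x) ^ ((p ^ k : ℕ) : ℤ) = 1 := by
      rw [zpow_natCast, ← hk]; exact pow_orderOf_eq_one _
    have h3 : ((m : ℤ) * u) = 1 - v * ((p ^ k : ℕ) : ℤ) := by linarith
    rw [h3, zpow_sub, zpow_one, mul_comm v, zpow_mul, h2, one_zpow, inv_one, mul_one]

/-- **A `p`-component is generated by the `p`-elements of `K O_{p'}(G)`.** -/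
theorem isPComponent_eq_pElementClosure (p : ℕ) [Fact p.Prime] {K : Subgroup G}
    (hK : IsPComponent p K) : K = pElementClosure p (K ⊔ pPrimeCore p G) := by
  -- (1) the closure lies in `K`
  have h1 : pElementClosure p (K ⊔ pPrimeCore p G) ≤ K := by
    unfold pElementClosure
    rw [Subgroup.closure_le]
    rintro x ⟨hxM, k, hk⟩
    have hsn : (K.subgroupOf (K ⊔ pPrimeCore p G)).IsSubnormal := hK.1.subgroupOf
    have hidx : ((K.subgroupOf (K ⊔ pPrimeCore p G)).index).Coprime p := by
      have : (K.subgroupOf (K ⊔ pPrimeCore p G)).index = K.relIndex (K ⊔ pPrimeCore p G) := rfl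
      rw [this, ← Cfsg.Agent.Lib.Helper17.relIndex_eq_relIndex_sup_of_normal]
      exact Nat.Coprime.coprime_dvd_left (Subgroup.relIndex_dvd_card _ _) (pPrimeCore_coprime p)
    have := mem_of_isSubnormal_of_coprime_index hsn hidx ⟨x, hxM⟩
      ⟨k, by rw [← hk]; exact Subgroup.orderOf_mk x hxM⟩
    rwa [Subgroup.mem_subgroupOf] at this
  -- (2) the closure is subnormal
  have hle := Cfsg.Agent.Lib.Helper16.pElementClosure_le p (K ⊔ pPrimeCore p G)
  have h2 : (pElementClosure p (K ⊔ pPrimeCore p G)).IsSubnormal := by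
    have hM : (K ⊔ pPrimeCore p G).IsSubnormal := by
      have := (hK.1.map (QuotientGroup.mk'_surjective (pPrimeCore p G))).comap
        (QuotientGroup.mk' (pPrimeCore p G))
      rwa [QuotientGroup.comap_map_mk', sup_comm] at this
    have hn : ((pElementClosure p (K ⊔ pPrimeCore p G)).subgroupOf (K ⊔ pPrimeCore p G)).Normal := by
      rw [Subgroup.normal_subgroupOf_iff_le_normalizer hle]
      apply le_normalizer_of_forall_conj_mem
      intro g hg x hx
      exact Cfsg.Agent.Lib.Helper16.pElementClosure_conj_mem p _ g hg x hx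
    exact Subgroup.IsSubnormal.trans hle hn.isSubnormal hM
  -- (3) same image
  have h3 : (pElementClosure p (K ⊔ pPrimeCore p G)).map (QuotientGroup.mk' (pPrimeCore p G)) =
      K.map (QuotientGroup.mk' (pPrimeCore p G)) := by
    apply le_antisymm (Subgroup.map_mono h1)
    have hB := pElementClosure_comp_eq p (pPrimeCore_quotient_eq_bot (G := G) p) hK.2.1
    conv_lhs => rw [← hB]
    unfold pElementClosure
    rw [Subgroup.closure_le]
    rintro ub ⟨hub, k, hk⟩
    obtain ⟨x, hx, rfl⟩ := Subgroup.mem_map.mp hub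
    obtain ⟨z, hz, hzp, hzx⟩ := exists_pElement_lift (QuotientGroup.mk' (pPrimeCore p G)) p hx hk
    rw [← hzx]
    exact Subgroup.mem_map.mpr ⟨z, Subgroup.subset_closure ⟨le_sup_left (a := K) hz, hzp⟩, rfl⟩
  exact (hK.2.2 _ h2 h1 h3).symm

/-- an element whose image normalizes the image of a `p`-component normalizes the `p`-component -/
theorem isPComponent_map_conj_eq (p : ℕ) [Fact p.Prime] {K : Subgroup G}
    (hK : IsPComponent p K) (g : G)
    (hg : (K.map (MulAut.conj g).toMonoidHom).map (QuotientGroup.mk' (pPrimeCore p G)) =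
      K.map (QuotientGroup.mk' (pPrimeCore p G))) :
    K.map (MulAut.conj g).toMonoidHom = K := by
  have hK' := isPComponent_map_equiv (MulAut.conj g) p hK
  have h1 := isPComponent_eq_pElementClosure p hK'
  have h2 : K.map (MulAut.conj g).toMonoidHom ⊔ pPrimeCore p G = K ⊔ pPrimeCore p G := by
    rw [sup_comm, ← QuotientGroup.comap_map_mk', hg, QuotientGroup.comap_map_mk', sup_comm]
  rw [h2, ← isPComponent_eq_pElementClosure p hK] at h1
  exact h1

omit [Finite G] in
theorem map_mk_map_conj {N : Subgroup G} [N.Normal] (K : Subgroup G) (g : G) :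
    (K.map (MulAut.conj g).toMonoidHom).map (QuotientGroup.mk' N) =
      (K.map (QuotientGroup.mk' N)).map (MulAut.conj (g : G ⧸ N)).toMonoidHom := by
  rw [Subgroup.map_map, Subgroup.map_map]
  congr 1

/-- an element whose image normalizes the image of a `p`-component normalizes the `p`-component -/
theorem mem_normalizer_of_mk_mem_normalizer (p : ℕ) [Fact p.Prime] {K : Subgroup G}
    (hK : IsPComponent p K) {g : G}
    (hg : (g : G ⧸ pPrimeCore p G) ∈ Subgroup.normalizer
      ((K.map (QuotientGroup.mk' (pPrimeCore p G)) : Subgroup (G ⧸ pPrimeCore p G)) :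
        Set (G ⧸ pPrimeCore p G))) :
    g ∈ Subgroup.normalizer (K : Set G) := by
  rw [← Cfsg.Agent.Lib.Helper13.map_conj_eq_self_iff_mem_normalizer]
  apply isPComponent_map_conj_eq p hK
  rw [map_mk_map_conj]
  exact (Cfsg.Agent.Lib.Helper13.map_conj_eq_self_iff_mem_normalizer _ _).mpr hg

/-- the `p`-layer normalizes every `p`-component -/
theorem pLayer_le_normalizer_isPComponent (p : ℕ) [Fact p.Prime] {K : Subgroup G}
    (hK : IsPComponent p K) : pLayer p G ≤ Subgroup.normalizer (K : Set G) := by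
  intro g hg
  apply mem_normalizer_of_mk_mem_normalizer p hK
  have h1 : (g : G ⧸ pPrimeCore p G) ∈ layer (G ⧸ pPrimeCore p G) := by
    rw [← map_mk_pLayer]
    exact Subgroup.mem_map.mpr ⟨g, hg, rfl⟩
  exact layer_le_normalizer_comp hK.2.1 h1

/-- `O_{p'}(G)` normalizes every `p`-component -/
theorem pPrimeCore_le_normalizer_isPComponent (p : ℕ) [Fact p.Prime] {K : Subgroup G}
    (hK : IsPComponent p K) : pPrimeCore p G ≤ Subgroup.normalizer (K : Set G) := by
  intro g hg
  apply mem_normalizer_of_mk_mem_normalizer p hK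
  have h1 : (g : G ⧸ pPrimeCore p G) = 1 := (QuotientGroup.eq_one_iff g).mpr hg
  rw [h1]
  exact Subgroup.one_mem _

/-- `p`-components are normal in the `p`-layer -/
theorem isPComponent_normal_in_pLayer (p : ℕ) [Fact p.Prime] {K : Subgroup G}
    (hK : IsPComponent p K) : (K.subgroupOf (pLayer p G)).Normal := by
  rw [Subgroup.normal_subgroupOf_iff_le_normalizer (isPComponent_le_pLayer hK)]
  exact pLayer_le_normalizer_isPComponent p hK

end Uniqueness

end Cfsg.Agent.Lib.Helper10
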