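import Mathlib

set_option autoImplicit false

namespace Cfsg.Agent.Lib.Helper10

/-- recognition of dihedral groups: `a` an involution inverting `x` of order `n`, `a ∉ ⟨x⟩`;
then `⟨a⟩ ⊔ ⟨x⟩ ≃* DihedralGroup n`. -/
theorem nonempty_mulEquiv_dihedralGroup {G : Type*} [Group G] (n : ℕ) [NeZero n] (a x : G)
    (hx : orderOf x = n) (ha2 : a * a = 1) (hinv : a * x * a⁻¹ = x⁻¹)
    (ha : a ∉ Subgroup.zpowers x) :
    Nonempty (↥(Subgroup.zpowers a ⊔ Subgroup.zpowers x) ≃* DihedralGroup n) := by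
  have hn : 0 < n := Nat.pos_of_ne_zero (NeZero.ne n)
  have hainv : a⁻¹ = a := inv_eq_of_mul_eq_one_left ha2
  let zp : ZMod n → G := fun i => x ^ i.val
  have zp_def : ∀ i, zp i = x ^ i.val := fun i => rfl
  have zp_add : ∀ i j, zp (i + j) = zp i * zp j := by
    intro i j
    rw [zp_def, zp_def, zp_def, ZMod.val_add, ← pow_add]
    have h := pow_mod_orderOf x (i.val + j.val)
    rw [hx] at h
    exact h
  have zp_zero : zp 0 = 1 := by
    rw [zp_def, ZMod.val_zero, pow_zero]
  have zp_neg : ∀ i, zp (-i) = (zp i)⁻¹ := by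
    intro i
    rw [eq_inv_iff_mul_eq_one, ← zp_add, neg_add_cancel, zp_zero]
  have zp_sub : ∀ i j, zp (i - j) = zp i * (zp j)⁻¹ := by
    intro i j
    rw [sub_eq_add_neg, zp_add, zp_neg]
  have zp_comm : ∀ i j, zp i * zp j = zp j * zp i := by
    intro i j
    rw [← zp_add, ← zp_add, add_comm]
  have zp_mem : ∀ i, zp i ∈ Subgroup.zpowers x := fun i =>
    Subgroup.pow_mem _ (Subgroup.mem_zpowers x) _
  have a_zp : ∀ i, zp i * a = a * (zp i)⁻¹ := by
    intro i
    rw [zp_def]
    have h1 : a * x ^ i.val * a⁻¹ = (x ^ i.val)⁻¹ := by rw [← conj_pow, hinv, inv_pow]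
    have h2 : a * (x ^ i.val)⁻¹ * a⁻¹ = x ^ i.val := by rw [← conj_inv, h1, inv_inv]
    calc x ^ i.val * a = (a * (x ^ i.val)⁻¹ * a⁻¹) * a := by rw [h2]
      _ = a * (x ^ i.val)⁻¹ := by group
  let f : DihedralGroup n → G := fun q => match q with
    | DihedralGroup.r i => zp i
    | DihedralGroup.sr i => a * zp i
  have f_r : ∀ i, f (DihedralGroup.r i) = zp i := fun i => rfl
  have f_sr : ∀ i, f (DihedralGroup.sr i) = a * zp i := fun i => rfl
  have f_mul : ∀ q r, f (q * r) = f q * f r := by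
    rintro (i | i) (j | j)
    · rw [DihedralGroup.r_mul_r, f_r, f_r, f_r, zp_add]
    · rw [DihedralGroup.r_mul_sr, f_r, f_sr, f_sr, zp_sub, ← mul_assoc (zp i), a_zp,
        mul_assoc a, ← zp_neg, zp_comm]
    · rw [DihedralGroup.sr_mul_r, f_r, f_sr, f_sr, zp_add, mul_assoc]
    · rw [DihedralGroup.sr_mul_sr, f_r, f_sr, f_sr, zp_sub]
      have h1 : a * zp i * (a * zp j) = a * (zp i * a) * zp j := by group
      rw [h1, a_zp, ← mul_assoc, ha2, one_mul, ← zp_neg, zp_comm]
  let F : DihedralGroup n →* G := MonoidHom.mk' f f_mul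
  have hF : ∀ q, F q = f q := fun q => rfl
  have hinj : Function.Injective F := by
    rw [injective_iff_map_eq_one]
    rintro (i | i) hq
    · rw [hF, f_r, zp_def] at hq
      have h1 : orderOf x ∣ i.val := orderOf_dvd_of_pow_eq_one hq
      rw [hx] at h1
      have h2 : i.val < n := ZMod.val_lt i
      have h3 : i.val = 0 := Nat.eq_zero_of_dvd_of_lt h1 h2
      have h4 : i = 0 := (ZMod.val_eq_zero i).mp h3
      rw [h4, DihedralGroup.one_def]
    · exfalso
      rw [hF, f_sr] at hq
      apply ha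
      have h1 : a = (zp i)⁻¹ := eq_inv_of_mul_eq_one_left hq
      rw [h1]
      exact Subgroup.inv_mem _ (zp_mem i)
  have hrange : F.range = Subgroup.zpowers a ⊔ Subgroup.zpowers x := by
    apply le_antisymm
    · rintro _ ⟨q, rfl⟩
      rcases q with i | i
      · rw [hF, f_r]
        exact (le_sup_right : Subgroup.zpowers x ≤ Subgroup.zpowers a ⊔ Subgroup.zpowers x)
          (zp_mem i)
      · rw [hF, f_sr]
        exact Subgroup.mul_mem _
          ((le_sup_left : Subgroup.zpowers a ≤ Subgroup.zpowers a ⊔ Subgroup.zpowers x)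
            (Subgroup.mem_zpowers a))
          ((le_sup_right : Subgroup.zpowers x ≤ Subgroup.zpowers a ⊔ Subgroup.zpowers x)
            (zp_mem i))
    · apply sup_le
      · rw [Subgroup.zpowers_le]
        refine ⟨DihedralGroup.sr 0, ?_⟩
        rw [hF, f_sr, zp_zero, mul_one]
      · rw [Subgroup.zpowers_le]
        refine ⟨DihedralGroup.r 1, ?_⟩
        rw [hF, f_r, zp_def]
        rcases Nat.lt_or_ge 1 n with h1 | h1
        · have : Fact (1 < n) := ⟨h1⟩
          rw [ZMod.val_one, pow_one]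
        · have hn1 : n = 1 := by omega
          subst hn1
          have hx1 : x = 1 := orderOf_eq_one_iff.mp hx
          rw [hx1, one_pow]
  exact ⟨((MonoidHom.ofInjective hinj).trans (MulEquiv.subgroupCongr hrange)).symm⟩

end Cfsg.Agent.Lib.Helper10
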