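import Mathlib
import Cfsg.Agent.Lib.Helper10.Basic

set_option autoImplicit false

namespace Cfsg.Agent.Lib.Helper10

/-- In a finite `p`-group a nontrivial normal subgroup meets the centre nontrivially. -/
theorem normal_inf_center_ne_bot {G : Type*} [Group G] [Finite G] {p : ℕ} [Fact p.Prime]
    (hG : IsPGroup p G) (N : Subgroup G) [N.Normal] (hN : N ≠ ⊥) :
    N ⊓ Subgroup.center G ≠ ⊥ := by
  have hGc : IsPGroup p (ConjAct G) := hG.of_equiv ConjAct.toConjAct
  have hNp : IsPGroup p N := hG.to_subgroup N
  have hdvd : p ∣ Nat.card N := by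
    rcases hNp.card_eq_or_dvd with h | h
    · exfalso
      apply hN
      exact (Subgroup.card_eq_one).mp h
    · exact h
  have h1 : (1 : N) ∈ MulAction.fixedPoints (ConjAct G) N := by
    intro g
    exact smul_one g
  obtain ⟨b, hb, hb1⟩ := hGc.exists_fixed_point_of_prime_dvd_card_of_fixed_point N hdvd h1
  intro hbot
  apply hb1
  have hbc : (b : G) ∈ N ⊓ Subgroup.center G := by
    refine Subgroup.mem_inf.mpr ⟨b.2, ?_⟩
    rw [Subgroup.mem_center_iff]
    intro g
    have := hb (ConjAct.toConjAct g)
    have h2 := congrArg Subtype.val this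
    rw [ConjAct.Subgroup.val_conj_smul, ConjAct.toConjAct_smul] at h2
    calc g * (b : G) = (g * (b : G) * g⁻¹) * g := by group
      _ = (b : G) * g := by rw [h2]
  rw [hbot, Subgroup.mem_bot] at hbc
  exact (Subtype.ext hbc).symm

/-- A finite group has a maximal normal abelian subgroup. -/
theorem exists_maximal_normal_abelian (G : Type*) [Group G] [Finite G] :
    ∃ A : Subgroup G, A.Normal ∧ IsMulCommutative A ∧
      ∀ B : Subgroup G, B.Normal → IsMulCommutative B → A ≤ B → B = A := by
  have hfin : Set.Finite {A : Subgroup G | A.Normal ∧ IsMulCommutative A} := Set.toFinite _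
  have hne : {A : Subgroup G | A.Normal ∧ IsMulCommutative A}.Nonempty :=
    ⟨⊥, Subgroup.normal_bot, inferInstance⟩
  obtain ⟨A, hA, hmax⟩ := hfin.exists_maximal hne
  refine ⟨A, hA.1, hA.2, ?_⟩
  intro B hBn hBc hAB
  exact le_antisymm (hmax ⟨hBn, hBc⟩ hAB) hAB

/-- In a finite `p`-group a maximal normal abelian subgroup contains its centralizer. -/
theorem centralizer_le_of_maximal_normal_abelian {G : Type*} [Group G] [Finite G] {p : ℕ}
    [Fact p.Prime] (hG : IsPGroup p G) (A : Subgroup G) [hAn : A.Normal] (hAc : IsMulCommutative A)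
    (hmax : ∀ B : Subgroup G, B.Normal → IsMulCommutative B → A ≤ B → B = A) :
    Subgroup.centralizer (A : Set G) ≤ A := by
  by_contra hnot
  set C : Subgroup G := Subgroup.centralizer (A : Set G) with hC
  have : C.Normal := Subgroup.normal_centralizer
  -- pass to the quotient by A
  set Cbar : Subgroup (G ⧸ A) := C.map (QuotientGroup.mk' A) with hCbar
  have : Cbar.Normal := Subgroup.Normal.map inferInstance _ (QuotientGroup.mk'_surjective A)
  have hCbar_ne : Cbar ≠ ⊥ := by
    intro h
    apply hnot
    intro c hc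
    have : (QuotientGroup.mk' A c) ∈ Cbar := Subgroup.mem_map_of_mem _ hc
    rw [h, Subgroup.mem_bot] at this
    exact (QuotientGroup.eq_one_iff c).mp this
  have hQ : IsPGroup p (G ⧸ A) := hG.to_quotient A
  have hmeet := normal_inf_center_ne_bot hQ Cbar hCbar_ne
  obtain ⟨z, hz, hz1⟩ : ∃ z ∈ Cbar ⊓ Subgroup.center (G ⧸ A), z ≠ 1 := by
    by_contra hcon
    push Not at hcon
    apply hmeet
    rw [Subgroup.eq_bot_iff_forall]
    exact hcon
  obtain ⟨⟨x, hxC, rfl⟩, hzcen⟩ := hz
  have hxA : x ∉ A := fun h => hz1 ((QuotientGroup.eq_one_iff x).mpr h)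
  -- B = A ⊔ zpowers x
  set B : Subgroup G := Subgroup.closure ((A : Set G) ∪ {x}) with hB
  have hAB : A ≤ B := by
    intro a ha
    exact Subgroup.subset_closure (Or.inl ha)
  have hxB : x ∈ B := Subgroup.subset_closure (Or.inr rfl)
  have hBc : IsMulCommutative B := by
    apply Subgroup.isMulCommutative_closure
    have hAA : ∀ a ∈ A, ∀ b ∈ A, a * b = b * a := fun a ha b hb =>
      congrArg Subtype.val (hAc.is_comm.comm ⟨a, ha⟩ ⟨b, hb⟩)
    have hxa : ∀ a ∈ A, a * x = x * a := fun a ha => (Subgroup.mem_centralizer_iff.mp hxC) a ha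
    rintro u (hu | hu) v (hv | hv)
    · exact hAA u hu v hv
    · rw [Set.mem_singleton_iff] at hv; subst hv; exact hxa u hu
    · rw [Set.mem_singleton_iff] at hu; subst hu; exact (hxa v hv).symm
    · rw [Set.mem_singleton_iff] at hu hv; subst hu; subst hv; rfl
  have hBn : B.Normal := by
    constructor
    intro n hn g
    induction hn using Subgroup.closure_induction with
    | mem u hu =>
      rcases hu with hu | hu
      · exact hAB (hAn.conj_mem u hu g)
      · rw [Set.mem_singleton_iff] at hu
        subst hu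
        have hcomm : (QuotientGroup.mk' A g) * (QuotientGroup.mk' A u) =
            (QuotientGroup.mk' A u) * (QuotientGroup.mk' A g) :=
          (Subgroup.mem_center_iff.mp hzcen (QuotientGroup.mk' A g))
        have hmem : u⁻¹ * (g * u * g⁻¹) ∈ A := by
          rw [← QuotientGroup.eq_one_iff, ← QuotientGroup.mk'_apply]
          simp only [map_mul, map_inv]
          rw [hcomm]; group
        have : g * u * g⁻¹ = u * (u⁻¹ * (g * u * g⁻¹)) := by group
        rw [this]
        exact B.mul_mem hxB (hAB hmem)
    | one => simp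
    | mul u v _ _ hu hv =>
      have : g * (u * v) * g⁻¹ = (g * u * g⁻¹) * (g * v * g⁻¹) := by group
      rw [this]
      exact B.mul_mem hu hv
    | inv u _ hu =>
      have : g * u⁻¹ * g⁻¹ = (g * u * g⁻¹)⁻¹ := by group
      rw [this]
      exact B.inv_mem hu
  have := hmax B hBn hBc hAB
  exact hxA (this ▸ hxB)

end Cfsg.Agent.Lib.Helper10
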