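import Mathlib
import Cfsg.Prelude
import Cfsg.Agent.Lib.Helper1.Coprime

/-!
For an odd prime `p`: a `p'`-group `A` acting on a `p`-group `P` and centralizing all elements of
order `p` of `P` centralizes `P` (Gorenstein 5.3.10).
-/

set_option autoImplicit false

namespace Cfsg.Agent.Lib.Helper10

open Cfsg.Agent.Lib.Helper1
open scoped commutatorElement

section Class2

variable {G : Type*} [Group G]

/-- if `c = [y, x]` commutes with `x` then `y x^n y⁻¹ x⁻ⁿ = cⁿ` -/
theorem commutatorElement_pow_right {x y : G} (hcx : ⁅y, x⁆ * x = x * ⁅y, x⁆) (n : ℕ) :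
    ⁅y, x ^ n⁆ = ⁅y, x⁆ ^ n := by
  induction n with
  | zero => simp
  | succ n ih =>
    have h1 : ⁅y, x ^ (n + 1)⁆ = ⁅y, x ^ n⁆ * (x ^ n * ⁅y, x⁆ * (x ^ n)⁻¹) := by
      simp only [commutatorElement_def, pow_succ]; group
    have h2 : x ^ n * ⁅y, x⁆ * (x ^ n)⁻¹ = ⁅y, x⁆ := by
      have : Commute (⁅y, x⁆) (x ^ n) := (show Commute (⁅y, x⁆) x from hcx).pow_right n
      rw [← this.eq, mul_inv_cancel_right]
    rw [h1, h2, ih, pow_succ]

/-- the power formula in class two -/
theorem mul_pow_of_commutator_central {x y : G} (hcx : ⁅y, x⁆ * x = x * ⁅y, x⁆)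
    (hcy : ⁅y, x⁆ * y = y * ⁅y, x⁆) (n : ℕ) :
    (x * y) ^ n = x ^ n * y ^ n * ⁅y, x⁆ ^ (n * (n - 1) / 2) := by
  have hx : Commute (⁅y, x⁆) x := hcx
  have hy : Commute (⁅y, x⁆) y := hcy
  -- `yⁿ x = cⁿ x yⁿ`
  have key : ∀ m : ℕ, y ^ m * x = ⁅y, x⁆ ^ m * x * y ^ m := by
    intro m
    induction m with
    | zero => simp
    | succ m ih =>
      have h0 : y * x = ⁅y, x⁆ * x * y := by simp only [commutatorElement_def]; group
      calc y ^ (m + 1) * x = y * (y ^ m * x) := by rw [pow_succ']; group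
        _ = y * (⁅y, x⁆ ^ m * x * y ^ m) := by rw [ih]
        _ = ⁅y, x⁆ ^ m * (y * x) * y ^ m := by
            have := (hy.pow_left m).eq
            calc y * (⁅y, x⁆ ^ m * x * y ^ m) = (y * ⁅y, x⁆ ^ m) * x * y ^ m := by group
              _ = (⁅y, x⁆ ^ m * y) * x * y ^ m := by rw [this]
              _ = ⁅y, x⁆ ^ m * (y * x) * y ^ m := by group
        _ = ⁅y, x⁆ ^ m * (⁅y, x⁆ * x * y) * y ^ m := by rw [h0]
        _ = ⁅y, x⁆ ^ (m + 1) * x * y ^ (m + 1) := by rw [pow_succ, pow_succ']; group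
  induction n with
  | zero => simp
  | succ n ih =>
    have hT : (n + 1) * (n + 1 - 1) / 2 = n * (n - 1) / 2 + n := by
      have h2 : (n + 1) * (n + 1 - 1) = n * (n - 1) + 2 * n := by
        cases n with
        | zero => rfl
        | succ k => simp only [Nat.add_sub_cancel]; ring
      rw [h2, Nat.add_mul_div_left _ _ (by norm_num : 0 < 2)]
    have hc1 : ∀ k : ℕ, Commute (⁅y, x⁆ ^ k) x := fun k => hx.pow_left k
    have hc2 : ∀ k : ℕ, Commute (⁅y, x⁆ ^ k) y := fun k => hy.pow_left k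
    calc (x * y) ^ (n + 1) = (x * y) ^ n * (x * y) := pow_succ _ _
      _ = x ^ n * y ^ n * ⁅y, x⁆ ^ (n * (n - 1) / 2) * (x * y) := by rw [ih]
      _ = x ^ n * (y ^ n * x) * y * ⁅y, x⁆ ^ (n * (n - 1) / 2) := by
          have e1 := (hc1 (n * (n - 1) / 2)).eq
          have e2 := (hc2 (n * (n - 1) / 2)).eq
          calc x ^ n * y ^ n * ⁅y, x⁆ ^ (n * (n - 1) / 2) * (x * y)
              = x ^ n * y ^ n * (⁅y, x⁆ ^ (n * (n - 1) / 2) * x) * y := by group
            _ = x ^ n * y ^ n * (x * ⁅y, x⁆ ^ (n * (n - 1) / 2)) * y := by rw [e1]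
            _ = x ^ n * y ^ n * x * (⁅y, x⁆ ^ (n * (n - 1) / 2) * y) := by group
            _ = x ^ n * y ^ n * x * (y * ⁅y, x⁆ ^ (n * (n - 1) / 2)) := by rw [e2]
            _ = x ^ n * (y ^ n * x) * y * ⁅y, x⁆ ^ (n * (n - 1) / 2) := by group
      _ = x ^ n * (⁅y, x⁆ ^ n * x * y ^ n) * y * ⁅y, x⁆ ^ (n * (n - 1) / 2) := by rw [key n]
      _ = x ^ (n + 1) * y ^ (n + 1) * ⁅y, x⁆ ^ ((n + 1) * (n + 1 - 1) / 2) := by
          rw [hT, pow_add (⁅y, x⁆), pow_succ x, pow_succ y]
          have e3 := ((hc1 n).pow_right n).eq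
          have e4 := (hc2 n).eq
          have e5 := ((hc2 n).pow_right n).eq
          have e6 := (hc1 n).eq
          calc x ^ n * (⁅y, x⁆ ^ n * x * y ^ n) * y * ⁅y, x⁆ ^ (n * (n - 1) / 2)
              = x ^ n * (⁅y, x⁆ ^ n * x) * y ^ n * y * ⁅y, x⁆ ^ (n * (n - 1) / 2) := by group
            _ = x ^ n * (x * ⁅y, x⁆ ^ n) * y ^ n * y * ⁅y, x⁆ ^ (n * (n - 1) / 2) := by rw [e6]
            _ = x ^ n * x * (⁅y, x⁆ ^ n * y ^ n) * y * ⁅y, x⁆ ^ (n * (n - 1) / 2) := by group
            _ = x ^ n * x * (y ^ n * ⁅y, x⁆ ^ n) * y * ⁅y, x⁆ ^ (n * (n - 1) / 2) := by rw [e5]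
            _ = x ^ n * x * y ^ n * (⁅y, x⁆ ^ n * y) * ⁅y, x⁆ ^ (n * (n - 1) / 2) := by group
            _ = x ^ n * x * y ^ n * (y * ⁅y, x⁆ ^ n) * ⁅y, x⁆ ^ (n * (n - 1) / 2) := by rw [e4]
            _ = x ^ n * x * (y ^ n * y) * (⁅y, x⁆ ^ (n * (n - 1) / 2) * ⁅y, x⁆ ^ n) := by
                have e7 : ⁅y, x⁆ ^ n * ⁅y, x⁆ ^ (n * (n - 1) / 2) =
                    ⁅y, x⁆ ^ (n * (n - 1) / 2) * ⁅y, x⁆ ^ n := by
                  rw [← pow_add, ← pow_add, add_comm]
                calc x ^ n * x * y ^ n * (y * ⁅y, x⁆ ^ n) * ⁅y, x⁆ ^ (n * (n - 1) / 2)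
                    = x ^ n * x * (y ^ n * y) * (⁅y, x⁆ ^ n * ⁅y, x⁆ ^ (n * (n - 1) / 2)) := by group
                  _ = _ := by rw [e7]

end Class2

section IndexP

/-- a nontrivial finite `p`-group has a proper normal subgroup containing all commutators and all
`p`-th powers -/
theorem exists_normal_ne_top_pow_mem {P : Type*} [Group P] [Finite P] {p : ℕ} [Fact p.Prime]
    (hP : IsPGroup p P) (hnt : Nontrivial P) :
    ∃ N : Subgroup P, N.Normal ∧ N ≠ ⊤ ∧ commutator P ≤ N ∧ ∀ x : P, x ^ p ∈ N := by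
  have hp : p.Prime := Fact.out
  obtain ⟨k, hk⟩ := IsPGroup.iff_card.mp hP
  have hk0 : k ≠ 0 := by
    rintro rfl
    rw [pow_zero] at hk
    have := Finite.one_lt_card_iff_nontrivial.mpr hnt
    omega
  obtain ⟨j, rfl⟩ := Nat.exists_eq_succ_of_ne_zero hk0
  obtain ⟨N, hN⟩ := Sylow.exists_subgroup_card_pow_prime p
    (show p ^ j ∣ Nat.card P by rw [hk]; exact pow_dvd_pow p (Nat.le_succ j))
  have hidx : N.index = p := by
    have h1 := N.card_mul_index
    rw [hN, hk, pow_succ] at h1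
    exact Nat.eq_of_mul_eq_mul_left (pow_pos hp.pos j) h1
  have hNn : N.Normal := by
    apply Subgroup.normal_of_index_eq_minFac_card
    rw [hidx, hk, Nat.Prime.pow_minFac hp (Nat.succ_ne_zero j)]
  have hcard : Nat.card (P ⧸ N) = p := hidx
  refine ⟨N, hNn, ?_, ?_, ?_⟩
  · intro h
    rw [h, Subgroup.index_top] at hidx
    exact hp.one_lt.ne hidx
  · have hcyc : IsCyclic (P ⧸ N) := isCyclic_of_prime_card hcard
    rw [← Subgroup.Normal.quotient_commutative_iff_commutator_le]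
    exact ⟨⟨fun a b => hcyc.commGroup.mul_comm a b⟩⟩
  · intro x
    rw [← QuotientGroup.eq_one_iff, QuotientGroup.mk_pow, ← hcard]
    exact pow_card_eq_one'

end IndexP

section Main

variable {G : Type*} [Group G]

/-- the subgroup generated by commutators and `p`-th powers of elements of `P` -/
def phiGen (p : ℕ) (P : Subgroup G) : Subgroup G :=
  Subgroup.closure ({z | ∃ x ∈ P, ∃ y ∈ P, z = ⁅x, y⁆} ∪ {z | ∃ x ∈ P, z = x ^ p})

theorem phiGen_le (p : ℕ) (P : Subgroup G) : phiGen p P ≤ P := by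
  unfold phiGen
  rw [Subgroup.closure_le]
  rintro z (⟨x, hx, y, hy, rfl⟩ | ⟨x, hx, rfl⟩)
  · exact Subgroup.commutator_mem_commutator hx hy |>
      (commutator_le_of_le_normalizer (Subgroup.le_normalizer (H := P)) ·)
  · exact P.pow_mem hx p

theorem conj_mem_phiGen (p : ℕ) (P : Subgroup G) {g : G}
    (hg : g ∈ Subgroup.normalizer (P : Set G)) {n : G} (hn : n ∈ phiGen p P) :
    g * n * g⁻¹ ∈ phiGen p P := by
  have hle : phiGen p P ≤ (phiGen p P).comap (MulAut.conj g).toMonoidHom := by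
    unfold phiGen
    rw [Subgroup.closure_le]
    rintro z (⟨x, hx, y, hy, rfl⟩ | ⟨x, hx, rfl⟩)
    · rw [SetLike.mem_coe, Subgroup.mem_comap]
      apply Subgroup.subset_closure
      left
      refine ⟨g * x * g⁻¹, (Subgroup.mem_normalizer_iff.mp hg x).mp hx, g * y * g⁻¹,
        (Subgroup.mem_normalizer_iff.mp hg y).mp hy, ?_⟩
      simp only [MulEquiv.coe_toMonoidHom, MulAut.conj_apply, commutatorElement_def]
      group
    · rw [SetLike.mem_coe, Subgroup.mem_comap]
      apply Subgroup.subset_closure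
      right
      refine ⟨g * x * g⁻¹, (Subgroup.mem_normalizer_iff.mp hg x).mp hx, ?_⟩
      simp only [MulEquiv.coe_toMonoidHom, MulAut.conj_apply]
      rw [conj_pow]
  have := hle hn
  simpa [MulAut.conj_apply] using this

theorem commutator_mem_phiGen (p : ℕ) (P : Subgroup G) {x y : G} (hx : x ∈ P) (hy : y ∈ P) :
    ⁅x, y⁆ ∈ phiGen p P :=
  Subgroup.subset_closure (Or.inl ⟨x, hx, y, hy, rfl⟩)

theorem pow_mem_phiGen (p : ℕ) (P : Subgroup G) {x : G} (hx : x ∈ P) : x ^ p ∈ phiGen p P :=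
  Subgroup.subset_closure (Or.inr ⟨x, hx, rfl⟩)

variable [Finite G]

theorem phiGen_lt (p : ℕ) [Fact p.Prime] (P : Subgroup G) (hP : IsPGroup p P) (hne : P ≠ ⊥) :
    phiGen p P < P := by
  have hnt : Nontrivial ↥P := (Subgroup.nontrivial_iff_ne_bot P).mpr hne
  obtain ⟨N, -, hNtop, hNc, hNp⟩ := exists_normal_ne_top_pow_mem hP hnt
  have h1 : phiGen p P ≤ N.map P.subtype := by
    unfold phiGen
    rw [Subgroup.closure_le]
    rintro z (⟨x, hx, y, hy, rfl⟩ | ⟨x, hx, rfl⟩)
    · refine Subgroup.mem_map.mpr ⟨⁅(⟨x, hx⟩ : ↥P), (⟨y, hy⟩ : ↥P)⁆, hNc ?_, rfl⟩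
      rw [commutator_def]
      exact Subgroup.commutator_mem_commutator (Subgroup.mem_top _) (Subgroup.mem_top _)
    · exact Subgroup.mem_map.mpr ⟨(⟨x, hx⟩ : ↥P) ^ p, hNp _, rfl⟩
  refine lt_of_le_of_lt h1 (lt_of_le_of_ne (Subgroup.map_subtype_le N) ?_)
  intro h
  apply hNtop
  apply Subgroup.map_injective P.subtype_injective
  rw [h, ← MonoidHom.range_eq_map, Subgroup.range_subtype]

/-- **Gorenstein 5.3.10**, inductive form. -/
theorem le_centralizer_of_centralizes_order_p_aux (p : ℕ) [Fact p.Prime] (hp2 : p ≠ 2)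
    (A : Subgroup G) (hcop : (Nat.card A).Coprime p) :
    ∀ (n : ℕ) (P : Subgroup G), Nat.card P = n → IsPGroup p P →
      A ≤ Subgroup.normalizer (P : Set G) →
      (∀ x ∈ P, orderOf x = p → ∀ a ∈ A, a * x = x * a) →
      A ≤ Subgroup.centralizer (P : Set G) := by
  have hp : p.Prime := Fact.out
  intro n
  induction n using Nat.strong_induction_on with
  | _ n ih =>
  intro P hn hP hAP hfix
  by_cases hPbot : P = ⊥
  · subst hPbot
    intro a _
    rw [Subgroup.mem_centralizer_iff]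
    intro x hx
    rw [SetLike.mem_coe, Subgroup.mem_bot] at hx
    rw [hx, one_mul, mul_one]
  have hact : CoprimeAct A P :=
    { norm := hAP
      cop := by
        obtain ⟨k, hk⟩ := IsPGroup.iff_card.mp hP
        rw [hk]; exact Nat.Coprime.pow_right k hcop
      solv := Or.inr (by
        have := hP.isNilpotent
        infer_instance) }
  -- it suffices to show `[P, A] = 1`
  suffices hsuff : ⁅P, A⁆ = ⊥ by
    rw [Subgroup.le_centralizer_iff]
    exact Subgroup.commutator_eq_bot_iff_le_centralizer.mp hsuff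
  have hPA_le : ⁅P, A⁆ ≤ P := commutator_le_of_le_normalizer hAP
  -- a general consequence of the induction hypothesis
  have IH : ∀ P₁ : Subgroup G, P₁ < P → A ≤ Subgroup.normalizer (P₁ : Set G) →
      A ≤ Subgroup.centralizer (P₁ : Set G) := by
    intro P₁ hlt hAP₁
    have hcard : Nat.card P₁ < n := by
      rw [← hn]
      exact Cfsg.Agent.Lib.Helper1.card_lt_of_lt hlt
    exact ih _ hcard P₁ rfl (hP.to_le hlt.le) hAP₁
      (fun x hx hox a ha => hfix x (hlt.le hx) hox a ha)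
  by_cases hPA : ⁅P, A⁆ = P
  · -- `M₁ = Φ`-like subgroup is central in `P` and centralized by `A`
    have hM_lt := phiGen_lt p P hP hPbot
    have hM_le := phiGen_le p P
    have hAM : A ≤ Subgroup.normalizer ((phiGen p P : Subgroup G) : Set G) :=
      le_normalizer_of_forall_conj_mem fun a ha n hn' => conj_mem_phiGen p P (hAP ha) hn'
    have hPM : P ≤ Subgroup.normalizer ((phiGen p P : Subgroup G) : Set G) :=
      le_normalizer_of_forall_conj_mem fun a ha n hn' =>
        conj_mem_phiGen p P (Subgroup.le_normalizer ha) hn'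
    have hAcM := IH _ hM_lt hAM
    have h1 : ⁅⁅A, phiGen p P⁆, P⁆ = ⊥ := by
      have : ⁅A, phiGen p P⁆ = ⊥ := Subgroup.commutator_eq_bot_iff_le_centralizer.mpr hAcM
      rw [this, Subgroup.commutator_bot_left]
    have h2 : ⁅⁅phiGen p P, P⁆, A⁆ = ⊥ := by
      rw [eq_bot_iff]
      calc ⁅⁅phiGen p P, P⁆, A⁆ ≤ ⁅phiGen p P, A⁆ :=
            Subgroup.commutator_mono (commutator_le_of_le_normalizer hPM) le_rfl
        _ = ⊥ := by
            rw [Subgroup.commutator_comm]
            exact Subgroup.commutator_eq_bot_iff_le_centralizer.mpr hAcM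
    have h3 := Subgroup.commutator_commutator_eq_bot_of_rotate h1 h2
    rw [hPA] at h3
    have hPcM : P ≤ Subgroup.centralizer ((phiGen p P : Subgroup G) : Set G) :=
      Subgroup.commutator_eq_bot_iff_le_centralizer.mp h3
    -- elements of `M₁` commute with elements of `P`
    have hcomm : ∀ m ∈ phiGen p P, ∀ x ∈ P, m * x = x * m := fun m hm x hx =>
      (Subgroup.mem_centralizer_iff.mp (hPcM hx)) m hm
    -- the `p`-power map is multiplicative on `P`
    have hpow : ∀ x ∈ P, ∀ y ∈ P, (x * y) ^ p = x ^ p * y ^ p := by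
      intro x hx y hy
      have hc := commutator_mem_phiGen p P hy hx
      have hcx := hcomm _ hc x hx
      have hcy := hcomm _ hc y hy
      have hcp : ⁅y, x⁆ ^ p = 1 := by
        rw [← commutatorElement_pow_right hcx, commutatorElement_eq_one_iff_mul_comm]
        exact ((hcomm _ (pow_mem_phiGen p P hx) y hy)).symm
      rw [mul_pow_of_commutator_central hcx hcy]
      obtain ⟨t, ht⟩ := hp.eq_two_or_odd'.resolve_left hp2
      have hdiv : p * (p - 1) / 2 = p * t := by
        rw [ht, Nat.add_sub_cancel, mul_comm (2 * t + 1) (2 * t), mul_assoc,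
          Nat.mul_div_cancel_left _ (by norm_num : 0 < 2), mul_comm]
      rw [hdiv, pow_mul, hcp, one_pow, mul_one]
    -- the subgroup `Ω` of elements of `P` of order dividing `p`
    let Ω : Subgroup G :=
      { carrier := {x | x ∈ P ∧ x ^ p = 1}
        mul_mem' := by
          rintro x y ⟨hx, hx1⟩ ⟨hy, hy1⟩
          exact ⟨P.mul_mem hx hy, by rw [hpow x hx y hy, hx1, hy1, one_mul]⟩
        one_mem' := ⟨P.one_mem, one_pow p⟩
        inv_mem' := by
          rintro x ⟨hx, hx1⟩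
          exact ⟨P.inv_mem hx, by rw [inv_pow, hx1, inv_one]⟩ }
    have hΩA : Ω ≤ Subgroup.centralizer (A : Set G) := by
      rintro x ⟨hx, hx1⟩
      rw [Subgroup.mem_centralizer_iff]
      intro a ha
      by_cases hx0 : x = 1
      · rw [hx0, one_mul, mul_one]
      · have hox : orderOf x = p := by
          rcases (Nat.dvd_prime hp).mp (orderOf_dvd_of_pow_eq_one hx1) with h | h
          · exact absurd (orderOf_eq_one_iff.mp h) hx0
          · exact h
        exact hfix x hx hox a ha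
    have hPAΩ : ⁅P, A⁆ ≤ Ω := by
      rw [Subgroup.commutator_le]
      intro x hx a ha
      have hax : a * x⁻¹ * a⁻¹ ∈ P := (Subgroup.mem_normalizer_iff.mp (hAP ha) x⁻¹).mp (P.inv_mem hx)
      have e : ⁅x, a⁆ = x * (a * x⁻¹ * a⁻¹) := by simp only [commutatorElement_def]; group
      refine ⟨by rw [e]; exact P.mul_mem hx hax, ?_⟩
      rw [e, hpow x hx _ hax, conj_pow, inv_pow]
      have h5 : a * (x ^ p)⁻¹ = (x ^ p)⁻¹ * a :=
        (Subgroup.mem_centralizer_iff.mp (hAcM ha)) _ (Subgroup.inv_mem _ (pow_mem_phiGen p P hx)) |>.symm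
      rw [h5]; group
    have h6 : ⁅⁅P, A⁆, A⁆ = ⊥ := by
      rw [eq_bot_iff]
      calc ⁅⁅P, A⁆, A⁆ ≤ ⁅Ω, A⁆ := Subgroup.commutator_mono hPAΩ le_rfl
        _ = ⊥ := Subgroup.commutator_eq_bot_iff_le_centralizer.mpr hΩA
    rw [hact.commutator_commutator_eq] at h6
    exact h6
  · have hlt : ⁅P, A⁆ < P := lt_of_le_of_ne hPA_le hPA
    have h1 := IH _ hlt le_normalizer_commutator_right
    have h6 : ⁅⁅P, A⁆, A⁆ = ⊥ := by
      rw [Subgroup.commutator_comm]
      exact Subgroup.commutator_eq_bot_iff_le_centralizer.mpr h1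
    rw [hact.commutator_commutator_eq] at h6
    exact h6

/-- **Gorenstein 5.3.10.** For an odd prime `p`, a `p'`-subgroup `A` normalizing a `p`-subgroup `P`
and centralizing every element of order `p` of `P` centralizes `P`. -/
theorem le_centralizer_of_centralizes_order_p (p : ℕ) [Fact p.Prime] (hp2 : p ≠ 2)
    (A P : Subgroup G) (hcop : (Nat.card A).Coprime p) (hP : IsPGroup p P)
    (hAP : A ≤ Subgroup.normalizer (P : Set G))
    (hfix : ∀ x ∈ P, orderOf x = p → ∀ a ∈ A, a * x = x * a) :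
    A ≤ Subgroup.centralizer (P : Set G) :=
  le_centralizer_of_centralizes_order_p_aux p hp2 A hcop _ P rfl hP hAP hfix

end Main

end Cfsg.Agent.Lib.Helper10
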