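import Mathlib
import Cfsg.Prelude.Def_OddOrderLocal
import Cfsg.Agent.Lib.Helper1.Cores
import Cfsg.Agent.Lib.Helper10.Basic

set_option autoImplicit false

namespace Cfsg.Agent.Lib.Helper10

open scoped commutatorElement
open Cfsg

/-- In a nilpotent group, elements of coprime orders commute. -/
theorem commute_of_coprime_orderOf (G : Type*) [Group G] [Group.IsNilpotent G] :
    ∀ x y : G, (orderOf x).Coprime (orderOf y) → Commute x y := by
  refine Group.nilpotent_center_quotient_ind
    (P := fun G _ _ => ∀ x y : G, (orderOf x).Coprime (orderOf y) → Commute x y) G ?_ ?_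
  · intro G _ _ x y _; exact Subsingleton.elim _ _
  · intro G _ _ ih x y hxy
    set π := QuotientGroup.mk' (Subgroup.center G) with hπ
    have hx : orderOf (π x) ∣ orderOf x := orderOf_map_dvd π x
    have hy : orderOf (π y) ∣ orderOf y := orderOf_map_dvd π y
    have hc : Commute (π y) (π x) := (ih (π x) (π y) ((hxy.coprime_dvd_left hx).coprime_dvd_right hy)).symm
    -- the commutator is central
    have hz : ⁅y, x⁆ ∈ Subgroup.center G := by
      rw [← QuotientGroup.ker_mk' (Subgroup.center G), MonoidHom.mem_ker, map_commutatorElement]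
      exact commutatorElement_eq_one_iff_commute.mpr hc
    have hzc : ∀ g : G, g * ⁅y, x⁆ = ⁅y, x⁆ * g := fun g => (Subgroup.mem_center_iff.mp hz g)
    -- z ^ (orderOf y) = 1
    have hzy : ⁅y, x⁆ ^ orderOf y = 1 := by
      have e1 : x * y⁻¹ * x⁻¹ = y⁻¹ * ⁅y, x⁆ := by
        rw [commutatorElement_def]; group
      have e2 : (x * y⁻¹ * x⁻¹) ^ orderOf y = 1 := by
        rw [conj_pow, inv_pow, pow_orderOf_eq_one]; simp
      have hcomm : Commute y⁻¹ ⁅y, x⁆ := hzc y⁻¹
      rw [e1, hcomm.mul_pow, inv_pow, pow_orderOf_eq_one, inv_one, one_mul] at e2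
      exact e2
    have := commute_of_coprime_of_commute_commutator x y (orderOf x) (orderOf y)
      (pow_orderOf_eq_one x) hzy hxy (hzc x).symm
    exact this.symm

variable {M : Type*} [Group M]

theorem fittingHall_le_fittingSubgroup : fittingHall M ≤ fittingSubgroup M := by
  unfold fittingHall fittingSubgroup
  apply sSup_le_sSup
  intro N hN
  exact ⟨hN.1, hN.2.1⟩

theorem le_fittingHall {N : Subgroup M} (hN : N.Normal) (hnil : Group.IsNilpotent N)
    (hcop : (Nat.card N).Coprime N.index) : N ≤ fittingHall M :=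
  le_sSup ⟨hN, hnil, hcop⟩

/-- `M_F` has order coprime to its index. -/
theorem fittingHall_coprime [Finite M] : (Nat.card (fittingHall M)).Coprime (fittingHall M).index := by
  have key : (fittingHall M).Normal ∧ (Nat.card (fittingHall M)).Coprime (fittingHall M).index := by
    unfold fittingHall
    apply Cfsg.Agent.Lib.Helper1.sSup_induction_of_finite
      (fun K : Subgroup M => K.Normal ∧ (Nat.card K).Coprime K.index)
    · refine ⟨Subgroup.normal_bot, ?_⟩
      simp
    · rintro H K ⟨hHn, hH⟩ ⟨hKn, hK⟩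
      have := hHn
      have := hKn
      refine ⟨inferInstance, ?_⟩
      have h1 : (Nat.card H).Coprime (H ⊔ K).index :=
        hH.coprime_dvd_right (Subgroup.index_dvd_of_le le_sup_left)
      have h2 : (Nat.card K).Coprime (H ⊔ K).index :=
        hK.coprime_dvd_right (Subgroup.index_dvd_of_le le_sup_right)
      exact (Nat.Coprime.mul_left h1 h2).coprime_dvd_left
        (Cfsg.Agent.Lib.Helper1.card_sup_dvd_of_normal H K)
    · intro N hN
      exact ⟨hN.1, hN.2.2⟩
  exact key.2

theorem fittingHall_isNilpotent [Finite M] : Group.IsNilpotent (fittingHall M) := by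
  have : Group.IsNilpotent (fittingSubgroup M) := Cfsg.Agent.Lib.Helper1.fittingSubgroup_isNilpotent
  have h := fittingHall_le_fittingSubgroup (M := M)
  have e : (fittingHall M) ≃* ((fittingHall M).subgroupOf (fittingSubgroup M)) :=
    (Subgroup.subgroupOfEquivOfLe h).symm
  exact (Group.isNilpotent_congr e).mpr inferInstance

/-- Cardinality of a group with a complemented pair `A`, `B` inside `K` (in the sense of `IsComplIn`). -/
theorem IsComplIn.card_eq {G : Type*} [Group G] {A B K : Subgroup G} (h : IsComplIn A B K) :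
    Nat.card K = Nat.card A * Nat.card B := by
  obtain ⟨hA, hB, hdisj, hfact⟩ := h
  rw [← Nat.card_prod]
  symm
  apply Nat.card_congr
  refine Equiv.ofBijective (fun x : A × B => ⟨(x.1 : G) * (x.2 : G), K.mul_mem (hA x.1.2) (hB x.2.2)⟩) ⟨?_, ?_⟩
  · rintro ⟨a, b⟩ ⟨a', b'⟩ h
    have h' : (a : G) * b = a' * b' := congrArg Subtype.val h
    have h1 : (a' : G)⁻¹ * a = b' * (b : G)⁻¹ := by
      calc (a' : G)⁻¹ * a = (a' : G)⁻¹ * ((a : G) * b) * (b : G)⁻¹ := by group
        _ = (a' : G)⁻¹ * ((a' : G) * b') * (b : G)⁻¹ := by rw [h']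
        _ = b' * (b : G)⁻¹ := by group
    have h2 : (a' : G)⁻¹ * a ∈ A ⊓ B := by
      refine Subgroup.mem_inf.mpr ⟨A.mul_mem (A.inv_mem a'.2) a.2, ?_⟩
      rw [h1]; exact B.mul_mem b'.2 (B.inv_mem b.2)
    rw [hdisj, Subgroup.mem_bot] at h2
    have h3 : (b' : G) * (b : G)⁻¹ = 1 := by rw [← h1, h2]
    have ea : (a : G) = a' := by
      have := inv_mul_eq_one.mp h2; exact this.symm
    have eb : (b : G) = b' := by
      have := mul_inv_eq_one.mp h3; exact this.symm
    exact Prod.ext (Subtype.ext ea) (Subtype.ext eb)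
  · rintro ⟨m, hm⟩
    obtain ⟨a, ha, b, hb, rfl⟩ := hfact m hm
    exact ⟨(⟨a, ha⟩, ⟨b, hb⟩), rfl⟩

end Cfsg.Agent.Lib.Helper10
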