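import Mathlib
import Cfsg.Prelude
import Cfsg.Agent.Lib.Helper10.FittingHall

/-!
Basic tools for CN-groups: transfer of nilpotency, a commutation criterion for nilpotency,
invariance of `Cfsg.IsCNGroup` under isomorphism.
-/

set_option autoImplicit false

namespace Cfsg.Agent.Lib.Helper10

open Cfsg

section

variable {G : Type*} [Group G]

theorem isNilpotent_of_injective_hom {G' : Type*} [Group G'] (f : G →* G')
    (hf : Function.Injective f) (h : Group.IsNilpotent G') : Group.IsNilpotent G := by
  apply Subgroup.isNilpotent_of_ker_le_center f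
  rw [(MonoidHom.ker_eq_bot_iff f).mpr hf]
  exact bot_le

theorem isNilpotent_of_le {K M : Subgroup G} (h : K ≤ M) (hM : Group.IsNilpotent ↥M) :
    Group.IsNilpotent ↥K :=
  isNilpotent_of_injective_hom (Subgroup.inclusion h) (Subgroup.inclusion_injective h) hM

theorem isNilpotent_map {G' : Type*} [Group G'] (f : G →* G') (K : Subgroup G)
    (hK : Group.IsNilpotent ↥K) : Group.IsNilpotent ↥(K.map f) :=
  Group.nilpotent_of_surjective (f.subgroupMap K) (f.subgroupMap_surjective K)

/-- `Cfsg.IsCNGroup` is invariant under isomorphism -/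
theorem isCNGroup_of_mulEquiv {G' : Type*} [Group G'] (e : G ≃* G') (h : IsCNGroup G) :
    IsCNGroup G' := by
  intro g' hg'
  have hg : e.symm g' ≠ 1 := by
    intro h1
    apply hg'
    have := congrArg e h1
    simpa using this
  have hnil := h (e.symm g') hg
  let φ : ↥(Subgroup.centralizer ({g'} : Set G')) →* ↥(Subgroup.centralizer ({e.symm g'} : Set G)) :=
    { toFun := fun x => ⟨e.symm x, by
        rw [Subgroup.mem_centralizer_iff]
        intro y hy
        rw [Set.mem_singleton_iff] at hy
        subst hy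
        have := (Subgroup.mem_centralizer_iff.mp x.2) g' (Set.mem_singleton g')
        rw [← map_mul, ← map_mul, this]⟩
      map_one' := by apply Subtype.ext; simp
      map_mul' := by intro a b; apply Subtype.ext; simp }
  apply isNilpotent_of_injective_hom φ _ hnil
  intro a b hab
  have h1 : e.symm (a : G') = e.symm (b : G') := congrArg Subtype.val hab
  exact Subtype.ext (e.symm.injective h1)

/-- **Nilpotency criterion**: a finite group in which elements of coprime prime power orders
commute is nilpotent. -/
theorem isNilpotent_of_commute_coprime [Finite G]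
    (h : ∀ x y : G, IsPrimePow (orderOf x) → IsPrimePow (orderOf y) →
      (orderOf x).Coprime (orderOf y) → x * y = y * x) : Group.IsNilpotent G := by
  apply (Group.isNilpotent_of_finite_tfae (G := G)).out 3 0 rfl rfl |>.mp
  intro p hp P
  rw [← Subgroup.normalizer_eq_top_iff]
  apply Subgroup.eq_top_of_card_eq
  apply Nat.dvd_antisymm (Subgroup.card_subgroup_dvd_card _)
  rw [Nat.dvd_iff_prime_pow_dvd_dvd]
  intro ℓ k hℓ hk
  have : Fact ℓ.Prime := ⟨hℓ⟩
  by_cases hℓp : ℓ = p
  · subst hℓp
    have h1 : ℓ ^ k ∣ Nat.card ↥(P : Subgroup G) := by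
      rw [P.card_eq_multiplicity]
      exact pow_dvd_pow ℓ ((hℓ.pow_dvd_iff_le_factorization Nat.card_pos.ne').mp hk)
    exact h1.trans (Subgroup.card_dvd_of_le Subgroup.le_normalizer)
  · obtain ⟨L⟩ : Nonempty (Sylow ℓ G) := inferInstance
    have hLN : (L : Subgroup G) ≤ Subgroup.normalizer ((P : Subgroup G) : Set G) := by
      refine le_trans ?_ (Subgroup.centralizer_le_normalizer _)
      intro y hy
      rw [Subgroup.mem_centralizer_iff]
      intro x hx
      obtain ⟨a, ha⟩ := (IsPGroup.iff_orderOf.1 P.2) ⟨x, hx⟩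
      obtain ⟨b, hb⟩ := (IsPGroup.iff_orderOf.1 L.2) ⟨y, hy⟩
      rw [Subgroup.orderOf_mk] at ha hb
      by_cases ha0 : a = 0
      · rw [ha0, pow_zero, orderOf_eq_one_iff] at ha
        rw [ha, one_mul, mul_one]
      by_cases hb0 : b = 0
      · rw [hb0, pow_zero, orderOf_eq_one_iff] at hb
        rw [hb, one_mul, mul_one]
      apply h x y
      · rw [ha]; exact (Nat.Prime.prime hp.out).isPrimePow.pow ha0
      · rw [hb]; exact (Nat.Prime.prime hℓ).isPrimePow.pow hb0
      · rw [ha, hb]
        exact Nat.Coprime.pow a b ((Nat.coprime_primes hp.out hℓ).mpr (Ne.symm hℓp))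
    have h1 : ℓ ^ k ∣ Nat.card ↥(L : Subgroup G) := by
      rw [L.card_eq_multiplicity]
      exact pow_dvd_pow ℓ ((hℓ.pow_dvd_iff_le_factorization Nat.card_pos.ne').mp hk)
    exact h1.trans (Subgroup.card_dvd_of_le hLN)

end

end Cfsg.Agent.Lib.Helper10
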