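import Mathlib
import Cfsg.Agent.Lib.Helper10.PGroup

set_option autoImplicit false

namespace Cfsg.Agent.Lib.Helper10

/-- Elementwise form of "there is at most one subgroup of order `p`". -/
def UniqueOrderP (p : ℕ) (G : Type*) [Group G] : Prop :=
  ∀ x y : G, x ^ p = 1 → x ≠ 1 → y ^ p = 1 → y ∈ Subgroup.zpowers x

theorem UniqueOrderP.subgroup {p : ℕ} {G : Type*} [Group G] (h : UniqueOrderP p G)
    (H : Subgroup G) : UniqueOrderP p ↥H := by
  intro x y hx hx1 hy
  have hx' : (x : G) ^ p = 1 := by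
    have := congrArg Subtype.val hx
    simpa using this
  have hy' : (y : G) ^ p = 1 := by
    have := congrArg Subtype.val hy
    simpa using this
  have hx1' : (x : G) ≠ 1 := fun h0 => hx1 (Subtype.ext h0)
  obtain ⟨k, hk⟩ := Subgroup.mem_zpowers_iff.mp (h (x : G) (y : G) hx' hx1' hy')
  refine Subgroup.mem_zpowers_iff.mpr ⟨k, ?_⟩
  apply Subtype.ext
  rw [Subgroup.coe_zpow]
  exact hk

/-- from the subgroup form of uniqueness -/
theorem uniqueOrderP_of_subgroups {p : ℕ} [Fact p.Prime] {G : Type*} [Group G]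
    (huniq : ∀ H K : Subgroup G, Nat.card H = p → Nat.card K = p → H = K) : UniqueOrderP p G := by
  have hp : p.Prime := Fact.out
  intro x y hx hx1 hy
  by_cases hy1 : y = 1
  · rw [hy1]
    exact Subgroup.one_mem _
  · have hox : orderOf x = p := orderOf_eq_prime hx hx1
    have hoy : orderOf y = p := orderOf_eq_prime hy hy1
    have h1 : Nat.card ↥(Subgroup.zpowers x) = p := by rw [Nat.card_zpowers, hox]
    have h2 : Nat.card ↥(Subgroup.zpowers y) = p := by rw [Nat.card_zpowers, hoy]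
    rw [huniq _ _ h1 h2]
    exact Subgroup.mem_zpowers y

/-- In a finite cyclic group, `g ∈ ⟨w⟩` as soon as the order of `g` divides that of `w`. -/
theorem mem_zpowers_of_orderOf_dvd {C : Type*} [Group C] [Finite C] [IsCyclic C] (g w : C)
    (h : orderOf g ∣ orderOf w) : g ∈ Subgroup.zpowers w := by
  classical
  have : Fintype C := Fintype.ofFinite C
  have hn : 0 < orderOf w := orderOf_pos w
  have hS : (Finset.univ.filter (fun a : C => a ^ orderOf w = 1)).card ≤ orderOf w :=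
    IsCyclic.card_pow_eq_one_le hn
  have hZS : (Subgroup.zpowers w : Set C).toFinset ⊆
      Finset.univ.filter (fun a : C => a ^ orderOf w = 1) := by
    intro z hz
    rw [Set.mem_toFinset] at hz
    obtain ⟨k, rfl⟩ := hz
    simp only [Finset.mem_filter, Finset.mem_univ, true_and]
    rw [← zpow_natCast, ← zpow_mul, mul_comm, zpow_mul, zpow_natCast, pow_orderOf_eq_one, one_zpow]
  have hZcard : (Subgroup.zpowers w : Set C).toFinset.card = orderOf w := by
    rw [Set.toFinset_card, ← Nat.card_eq_fintype_card]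
    exact Nat.card_zpowers w
  have heq := Finset.eq_of_subset_of_card_le hZS (by rw [hZcard]; exact hS)
  have hgS : g ∈ Finset.univ.filter (fun a : C => a ^ orderOf w = 1) := by
    simp only [Finset.mem_filter, Finset.mem_univ, true_and]
    exact orderOf_dvd_iff_pow_eq_one.mp h
  rw [← heq, Set.mem_toFinset] at hgS
  exact hgS

/-- subgroup version -/
theorem mem_zpowers_of_orderOf_dvd' {G : Type*} [Group G] [Finite G] (C : Subgroup G)
    (hC : IsCyclic ↥C) {g w : G} (hg : g ∈ C) (hw : w ∈ C) (h : orderOf g ∣ orderOf w) :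
    g ∈ Subgroup.zpowers w := by
  have h1 := mem_zpowers_of_orderOf_dvd (⟨g, hg⟩ : ↥C) ⟨w, hw⟩
    (by rw [Subgroup.orderOf_mk, Subgroup.orderOf_mk]; exact h)
  obtain ⟨k, hk⟩ := Subgroup.mem_zpowers_iff.mp h1
  refine Subgroup.mem_zpowers_iff.mpr ⟨k, ?_⟩
  have := congrArg Subtype.val hk
  simpa using this

/-- **L1**: a finite commutative `p`-group with at most one subgroup of order `p` is cyclic. -/
theorem isCyclic_of_comm_of_uniqueOrderP {p : ℕ} [Fact p.Prime] {A : Type*} [Group A] [Finite A]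
    (hA : IsPGroup p A) (hcomm : ∀ a b : A, a * b = b * a) (hu : UniqueOrderP p A) :
    IsCyclic A := by
  have hp : p.Prime := Fact.out
  -- an element of maximal order
  obtain ⟨g, hg⟩ : ∃ g : A, ∀ x : A, orderOf x ≤ orderOf g := by
    have hfin : (Set.range (fun x : A => orderOf x)).Finite := Set.finite_range _
    obtain ⟨m, ⟨g, rfl⟩, hm⟩ := hfin.exists_maximal ⟨_, ⟨1, rfl⟩⟩
    refine ⟨g, fun x => ?_⟩
    by_contra hlt
    push Not at hlt
    have h1 : orderOf x ≤ orderOf g := hm ⟨x, rfl⟩ hlt.le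
    omega
  obtain ⟨k, hk⟩ := (IsPGroup.iff_orderOf.1 hA) g
  refine ⟨⟨g, ?_⟩⟩
  -- strong induction on the order
  have key : ∀ n : ℕ, ∀ x : A, orderOf x = n → x ∈ Subgroup.zpowers g := by
    intro n
    induction n using Nat.strong_induction_on with
    | _ n ih =>
      intro x hxn
      by_cases hx1 : x = 1
      · rw [hx1]; exact Subgroup.one_mem _
      obtain ⟨j, hj⟩ := (IsPGroup.iff_orderOf.1 hA) x
      have hj0 : j ≠ 0 := by
        rintro rfl
        rw [pow_zero] at hj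
        exact hx1 (orderOf_eq_one_iff.mp hj)
      have hpx : p ∣ orderOf x := by rw [hj]; exact dvd_pow_self p hj0
      have hox : orderOf (x ^ p) = orderOf x / p := orderOf_pow_of_dvd hp.ne_zero hpx
      have hlt : orderOf (x ^ p) < n := by
        rw [hox, ← hxn]
        exact Nat.div_lt_self (orderOf_pos x) hp.one_lt
      have hmem := ih _ hlt (x ^ p) rfl
      have hg1 : g ≠ 1 := by
        rintro rfl
        have := hg x
        rw [orderOf_one] at this
        have h2 : orderOf x = 1 := le_antisymm this (orderOf_pos x)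
        exact hx1 (orderOf_eq_one_iff.mp h2)
      have hk0 : k ≠ 0 := by
        rintro rfl
        rw [pow_zero] at hk
        exact hg1 (orderOf_eq_one_iff.mp hk)
      rw [← mem_powers_iff_mem_zpowers] at hmem
      obtain ⟨i, hi⟩ := hmem
      -- `p ∣ i`
      have hpi : p ∣ i := by
        by_contra hnd
        have hcop : (orderOf g).Coprime i := by
          rw [hk]
          exact Nat.Coprime.pow_left k ((Nat.Prime.coprime_iff_not_dvd hp).mpr hnd)
        have h1 : orderOf (g ^ i) = orderOf g := Nat.Coprime.orderOf_pow hcop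
        have h2 : orderOf (x ^ p) = orderOf g := by
          have : g ^ i = x ^ p := hi
          rw [← this, h1]
        have h3 := hg x
        rw [← h2, hox] at h3
        have h4 : orderOf x / p < orderOf x := Nat.div_lt_self (orderOf_pos x) hp.one_lt
        omega
      obtain ⟨i', rfl⟩ := hpi
      -- `w = x * g^(-i')` has `w^p = 1`
      have hw : (x * (g ^ i')⁻¹) ^ p = 1 := by
        rw [(show Commute x (g ^ i')⁻¹ from hcomm _ _).mul_pow, inv_pow, ← pow_mul, mul_comm i' p]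
        have : g ^ (p * i') = x ^ p := hi
        rw [this, mul_inv_cancel]
      -- an element of order `p` in `⟨g⟩`
      have hpg : p ∣ orderOf g := by rw [hk]; exact dvd_pow_self p hk0
      have hu1 : orderOf (g ^ (orderOf g / p)) = p :=
        orderOf_pow_orderOf_div (orderOf_pos g).ne' hpg
      have hu2 : (g ^ (orderOf g / p)) ^ p = 1 := by
        have := pow_orderOf_eq_one (g ^ (orderOf g / p))
        rwa [hu1] at this
      have hu3 : g ^ (orderOf g / p) ≠ 1 := by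
        intro h0
        rw [h0, orderOf_one] at hu1
        exact hp.one_lt.ne hu1
      have hwmem := hu _ _ hu2 hu3 hw
      have hwg : x * (g ^ i')⁻¹ ∈ Subgroup.zpowers g :=
        (Subgroup.zpowers_le.mpr (Subgroup.pow_mem _ (Subgroup.mem_zpowers g) _)) hwmem
      have : x = (x * (g ^ i')⁻¹) * g ^ i' := by group
      rw [this]
      exact Subgroup.mul_mem _ hwg (Subgroup.pow_mem _ (Subgroup.mem_zpowers g) _)
  intro x
  exact key _ x rfl

/-- conjugation by powers: `x^k a x^(-k) = a^(r^k)` -/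
theorem conj_pow_eq_pow_pow {G : Type*} [Group G] {a x : G} {r : ℕ} (h : x * a * x⁻¹ = a ^ r)
    (k : ℕ) : x ^ k * a * (x ^ k)⁻¹ = a ^ (r ^ k) := by
  induction k with
  | zero => simp
  | succ k ih =>
    have h1 : x ^ (k + 1) * a * (x ^ (k + 1))⁻¹ = x * (x ^ k * a * (x ^ k)⁻¹) * x⁻¹ := by
      rw [pow_succ']; group
    rw [h1, ih]
    have h2 : x * a ^ (r ^ k) * x⁻¹ = (x * a * x⁻¹) ^ (r ^ k) := by
      rw [conj_pow]
    rw [h2, h, ← pow_mul, pow_succ, mul_comm]

/-- `(a^j x)^k = a^(j * Σ_{i<k} r^i) x^k` -/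
theorem mul_pow_of_conj {G : Type*} [Group G] {a x : G} {r : ℕ} (h : x * a * x⁻¹ = a ^ r)
    (j k : ℕ) : (a ^ j * x) ^ k = a ^ (j * ∑ i ∈ Finset.range k, r ^ i) * x ^ k := by
  induction k with
  | zero => simp
  | succ k ih =>
    have h1 := conj_pow_eq_pow_pow h k
    have h2 : x ^ k * a ^ j * (x ^ k)⁻¹ = a ^ (r ^ k * j) := by
      rw [← conj_pow, h1, ← pow_mul]
    rw [pow_succ, ih, Finset.sum_range_succ, mul_add, pow_add]
    have h3 : a ^ (j * ∑ i ∈ Finset.range k, r ^ i) * x ^ k * (a ^ j * x) =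
        a ^ (j * ∑ i ∈ Finset.range k, r ^ i) * (x ^ k * a ^ j * (x ^ k)⁻¹) * (x ^ k * x) := by
      group
    rw [h3, h2, pow_succ, mul_comm (r ^ k) j]

/-- **L2**: in a `p`-group (`p` odd) with at most one subgroup of order `p`, an element `x` with
`x^p ∈ ⟨a⟩` normalizing `⟨a⟩` commutes with `a`. -/
theorem commute_of_odd_of_uniqueOrderP {p : ℕ} [Fact p.Prime] (hp2 : p ≠ 2) {P : Type*} [Group P]
    [Finite P] (hP : IsPGroup p P) (hu : UniqueOrderP p P) (a x : P)
    (hxa : x * a * x⁻¹ ∈ Subgroup.zpowers a) (hxp : x ^ p ∈ Subgroup.zpowers a) :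
    x * a = a * x := by
  have hp : p.Prime := Fact.out
  by_contra hne
  have hpodd : Odd p := hp.odd_of_ne_two hp2
  obtain ⟨n, hn⟩ := (IsPGroup.iff_orderOf.1 hP) a
  have ha1 : a ≠ 1 := by
    rintro rfl
    apply hne
    simp
  have hn0 : n ≠ 0 := by
    rintro rfl
    rw [pow_zero] at hn
    exact ha1 (orderOf_eq_one_iff.mp hn)
  rw [← mem_powers_iff_mem_zpowers] at hxa hxp
  obtain ⟨r, hr⟩ := hxa
  obtain ⟨s, hs⟩ := hxp
  have hr' : x * a * x⁻¹ = a ^ r := hr.symm
  have hs' : x ^ p = a ^ s := hs.symm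
  -- `r ^ p ≡ 1 [MOD p ^ n]`
  have h1 := conj_pow_eq_pow_pow hr' p
  have h2 : x ^ p * a * (x ^ p)⁻¹ = a := by
    rw [hs']
    have : Commute (a ^ s) a := (Commute.refl a).pow_left s
    rw [this.eq]; group
  have h3 : a ^ (r ^ p) = a ^ 1 := by rw [← h1, h2, pow_one]
  have h4 : r ^ p ≡ 1 [MOD p ^ n] := by
    rw [← hn]
    exact pow_eq_pow_iff_modEq.mp h3
  -- `r ≡ 1 [MOD p]`
  have h5 : (r : ZMod p) = 1 := by
    have h6 : ((r ^ p : ℕ) : ZMod p) = ((1 : ℕ) : ZMod p) := by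
      rw [ZMod.natCast_eq_natCast_iff]
      exact h4.of_dvd (dvd_pow_self p hn0)
    rw [Nat.cast_pow, ZMod.pow_card, Nat.cast_one] at h6
    exact h6
  have h7 : r ≡ 1 [MOD p] := by
    rw [← ZMod.natCast_eq_natCast_iff, h5, Nat.cast_one]
  have hr1 : 1 ≤ r := by
    rcases Nat.eq_zero_or_pos r with h0 | h0
    · subst h0
      have := h7.symm
      rw [Nat.modEq_zero_iff_dvd] at this
      exact absurd (Nat.dvd_one.mp this) hp.one_lt.ne'
    · exact h0
  obtain ⟨b, hb⟩ : ∃ b, r = 1 + p * b := by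
    have := (Nat.modEq_iff_dvd' hr1).mp h7.symm
    obtain ⟨b, hb⟩ := this
    exact ⟨b, by omega⟩
  -- the geometric sum
  obtain ⟨t, ht⟩ : ∃ t : ℕ, ∑ i ∈ Finset.range p, r ^ i = p + p ^ 2 * t := by
    have h8 := odd_sq_dvd_geom_sum₂_sub (R := ℤ) (a := 1) (b := (b : ℤ)) hpodd
    simp only [one_pow, mul_one] at h8
    obtain ⟨c, hc⟩ := h8
    have h9 : ((∑ i ∈ Finset.range p, r ^ i : ℕ) : ℤ) = (p : ℤ) + (p : ℤ) ^ 2 * c := by
      rw [hb]
      push_cast
      linarith
    have hc0 : 0 ≤ c := by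
      by_contra hneg
      push Not at hneg
      have h10 : (p : ℤ) ≤ ((∑ i ∈ Finset.range p, r ^ i : ℕ) : ℤ) := by
        have : ∀ i ∈ Finset.range p, 1 ≤ r ^ i := fun i _ => Nat.one_le_pow _ _ hr1
        have h11 := Finset.sum_le_sum this
        simp at h11
        exact_mod_cast h11
      have hppos : (0 : ℤ) < (p : ℤ) ^ 2 := pow_pos (by exact_mod_cast hp.pos) 2
      have h12 : (p : ℤ) ^ 2 * c < 0 := mul_neg_of_pos_of_neg hppos hneg
      linarith
    refine ⟨c.toNat, ?_⟩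
    have hcn : ((c.toNat : ℕ) : ℤ) = c := Int.toNat_of_nonneg hc0
    have h21 : ((∑ i ∈ Finset.range p, r ^ i : ℕ) : ℤ) = ((p + p ^ 2 * c.toNat : ℕ) : ℤ) := by
      rw [h9]
      push_cast
      rw [hcn]
    exact_mod_cast h21
  -- `p ∣ s`
  have h13 : x * a ^ s * x⁻¹ = a ^ s := by
    rw [← hs']; group
  have h14 : x * a ^ s * x⁻¹ = a ^ (r * s) := by
    rw [← conj_pow, hr', ← pow_mul]
  have h15 : r * s ≡ s [MOD p ^ n] := by
    rw [← hn]
    apply pow_eq_pow_iff_modEq.mp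
    rw [← h14, h13]
  have h16 : ¬ r ≡ 1 [MOD p ^ n] := by
    intro h0
    apply hne
    rw [← hn] at h0
    have := pow_eq_pow_iff_modEq.mpr h0
    rw [pow_one, ← hr'] at this
    calc x * a = (x * a * x⁻¹) * x := by group
      _ = a * x := by rw [this]
  have hps : p ∣ s := by
    by_contra hnd
    apply h16
    have hcop : Nat.Coprime s (p ^ n) :=
      Nat.Coprime.pow_right n ((Nat.Prime.coprime_iff_not_dvd hp).mpr hnd).symm
    have h17 : s * r ≡ s * 1 [MOD p ^ n] := by rw [mul_comm, mul_one]; exact h15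
    exact Nat.ModEq.cancel_left_of_coprime hcop.symm.gcd_eq_one h17
  obtain ⟨s', rfl⟩ := hps
  -- choose `j`
  have hucop : Nat.Coprime (1 + p * t) (p ^ n) := by
    apply Nat.Coprime.pow_right
    rw [Nat.coprime_comm, Nat.Prime.coprime_iff_not_dvd hp]
    intro hd
    have : p ∣ 1 := (Nat.dvd_add_left (dvd_mul_right p t)).mp hd
    exact hp.one_lt.ne' (Nat.dvd_one.mp this)
  have hNZ : NeZero (p ^ n) := ⟨(pow_pos hp.pos n).ne'⟩
  set U : (ZMod (p ^ n))ˣ := ZMod.unitOfCoprime (1 + p * t) hucop with hU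
  set J : ZMod (p ^ n) := -(s' : ZMod (p ^ n)) * ((U⁻¹ : (ZMod (p ^ n))ˣ) : ZMod (p ^ n)) with hJ
  have hJU : J * ((1 + p * t : ℕ) : ZMod (p ^ n)) + (s' : ZMod (p ^ n)) = 0 := by
    have h18 : ((U⁻¹ : (ZMod (p ^ n))ˣ) : ZMod (p ^ n)) * ((1 + p * t : ℕ) : ZMod (p ^ n)) = 1 := by
      have : ((1 + p * t : ℕ) : ZMod (p ^ n)) = (U : ZMod (p ^ n)) := by
        rw [hU, ZMod.coe_unitOfCoprime]
      rw [this, Units.inv_mul]
    rw [hJ, mul_assoc, h18, mul_one, neg_add_cancel]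
  have hdvd : p ^ n ∣ J.val * (1 + p * t) + s' := by
    rw [← ZMod.natCast_eq_zero_iff]
    push_cast
    rw [ZMod.natCast_zmod_val]
    have := hJU
    push_cast at this
    exact this
  -- the element `y = a^j x` has `y^p = 1`
  have hy : (a ^ J.val * x) ^ p = 1 := by
    rw [mul_pow_of_conj hr' J.val p, ht, hs', ← pow_add]
    have h19 : J.val * (p + p ^ 2 * t) + p * s' = p * (J.val * (1 + p * t) + s') := by ring
    rw [h19]
    apply orderOf_dvd_iff_pow_eq_one.mp
    rw [hn]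
    obtain ⟨c, hc⟩ := hdvd
    rw [hc]
    exact ⟨p * c, by ring⟩
  -- an element of order `p` in `⟨a⟩`
  have hpa : p ∣ orderOf a := by rw [hn]; exact dvd_pow_self p hn0
  have hz1 : orderOf (a ^ (orderOf a / p)) = p :=
    orderOf_pow_orderOf_div (orderOf_pos a).ne' hpa
  have hz2 : (a ^ (orderOf a / p)) ^ p = 1 := by
    have := pow_orderOf_eq_one (a ^ (orderOf a / p))
    rwa [hz1] at this
  have hz3 : a ^ (orderOf a / p) ≠ 1 := by
    intro h0
    rw [h0, orderOf_one] at hz1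
    exact hp.one_lt.ne hz1
  have hymem := hu _ _ hz2 hz3 hy
  have hya : a ^ J.val * x ∈ Subgroup.zpowers a :=
    (Subgroup.zpowers_le.mpr (Subgroup.pow_mem _ (Subgroup.mem_zpowers a) _)) hymem
  have hxa' : x ∈ Subgroup.zpowers a := by
    have h20 : x = (a ^ J.val)⁻¹ * (a ^ J.val * x) := by group
    rw [h20]
    exact Subgroup.mul_mem _ (Subgroup.inv_mem _ (Subgroup.pow_mem _ (Subgroup.mem_zpowers a) _)) hya
  obtain ⟨i, hi⟩ := Subgroup.mem_zpowers_iff.mp hxa'
  apply hne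
  rw [← hi]
  exact ((Commute.refl a).zpow_left i).eq

/-- in a cyclic `p`-subgroup any two elements are comparable -/
theorem mem_zpowers_or_mem_zpowers {p : ℕ} [Fact p.Prime] {P : Type*} [Group P] [Finite P]
    (hP : IsPGroup p P) (a u v : P) (hu : u ∈ Subgroup.zpowers a) (hv : v ∈ Subgroup.zpowers a) :
    u ∈ Subgroup.zpowers v ∨ v ∈ Subgroup.zpowers u := by
  have hC : IsCyclic ↥(Subgroup.zpowers a) := inferInstance
  obtain ⟨i, hi⟩ := (IsPGroup.iff_orderOf.1 hP) u
  obtain ⟨j, hj⟩ := (IsPGroup.iff_orderOf.1 hP) v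
  rcases le_total i j with h | h
  · left
    exact mem_zpowers_of_orderOf_dvd' _ hC hu hv (by rw [hi, hj]; exact pow_dvd_pow p h)
  · right
    exact mem_zpowers_of_orderOf_dvd' _ hC hv hu (by rw [hi, hj]; exact pow_dvd_pow p h)

theorem commute_of_mem_zpowers {P : Type*} [Group P] {a u v : P} (hu : u ∈ Subgroup.zpowers a)
    (hv : v ∈ Subgroup.zpowers a) : Commute u v := by
  obtain ⟨i, rfl⟩ := Subgroup.mem_zpowers_iff.mp hu
  obtain ⟨j, rfl⟩ := Subgroup.mem_zpowers_iff.mp hv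
  exact ((Commute.refl a).zpow_left i).zpow_right j

/-- the element of order `p` inside `⟨a⟩`, `a ≠ 1`. -/
theorem exists_orderOf_eq_prime_zpowers {p : ℕ} [Fact p.Prime] {P : Type*} [Group P] [Finite P]
    (hP : IsPGroup p P) (a : P) (ha : a ≠ 1) :
    ∃ z ∈ Subgroup.zpowers a, z ^ p = 1 ∧ z ≠ 1 := by
  have hp : p.Prime := Fact.out
  obtain ⟨n, hn⟩ := (IsPGroup.iff_orderOf.1 hP) a
  have hn0 : n ≠ 0 := by
    rintro rfl
    rw [pow_zero] at hn
    exact ha (orderOf_eq_one_iff.mp hn)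
  have hpa : p ∣ orderOf a := by rw [hn]; exact dvd_pow_self p hn0
  have hz1 : orderOf (a ^ (orderOf a / p)) = p :=
    orderOf_pow_orderOf_div (orderOf_pos a).ne' hpa
  refine ⟨a ^ (orderOf a / p), Subgroup.pow_mem _ (Subgroup.mem_zpowers a) _, ?_, ?_⟩
  · have := pow_orderOf_eq_one (a ^ (orderOf a / p))
    rwa [hz1] at this
  · intro h0
    rw [h0, orderOf_one] at hz1
    exact hp.one_lt.ne hz1

/-- with a unique subgroup of order `p`, any `y` with `y^p = 1` lies in `⟨a⟩` for every `a ≠ 1`. -/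
theorem UniqueOrderP.mem_zpowers {p : ℕ} [Fact p.Prime] {P : Type*} [Group P] [Finite P]
    (hP : IsPGroup p P) (hu : UniqueOrderP p P) (a : P) (ha : a ≠ 1) (y : P) (hy : y ^ p = 1) :
    y ∈ Subgroup.zpowers a := by
  obtain ⟨z, hza, hz1, hz2⟩ := exists_orderOf_eq_prime_zpowers hP a ha
  exact (Subgroup.zpowers_le.mpr hza) (hu z y hz1 hz2 hy)

/-- **L3**: in a `2`-group with a unique involution, an element `x` normalizing `⟨a⟩` with
`x^2 ∈ ⟨a⟩` that does not commute with `a` inverts `a`. -/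
theorem conj_eq_inv_of_uniqueOrderP {P : Type*} [Group P] [Finite P] (hP : IsPGroup 2 P)
    (hu : UniqueOrderP 2 P) (a x : P) (hxa : x * a * x⁻¹ ∈ Subgroup.zpowers a)
    (hx2 : x ^ 2 ∈ Subgroup.zpowers a) (hne : x * a ≠ a * x) : x * a * x⁻¹ = a⁻¹ := by
  have hp : Fact (Nat.Prime 2) := ⟨Nat.prime_two⟩
  have ha1 : a ≠ 1 := by
    rintro rfl
    apply hne
    simp
  have hxnot : x ∉ Subgroup.zpowers a := by
    intro hx
    exact hne (commute_of_mem_zpowers hx (Subgroup.mem_zpowers a)).eq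
  have haa : a ∈ Subgroup.zpowers a := Subgroup.mem_zpowers a
  have hC : IsCyclic ↥(Subgroup.zpowers a) := inferInstance
  set b := x * a * x⁻¹ with hb
  have hab : Commute a b := commute_of_mem_zpowers haa hxa
  have hw : a * b ∈ Subgroup.zpowers a := Subgroup.mul_mem _ haa hxa
  -- squares of elements of the coset
  have hsq : ∀ j : ℕ, (a ^ j * x) ^ 2 = (a * b) ^ j * x ^ 2 := by
    intro j
    rw [hab.mul_pow, hb, conj_pow]
    rw [pow_two, pow_two]
    group
  -- `x^2 ∉ ⟨w⟩`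
  have hx2w : x ^ 2 ∉ Subgroup.zpowers (a * b) := by
    intro hmem
    have hmem' : (x ^ 2)⁻¹ ∈ Subgroup.zpowers (a * b) := Subgroup.inv_mem _ hmem
    rw [← mem_powers_iff_mem_zpowers] at hmem'
    obtain ⟨j, hj⟩ := hmem'
    have hj' : (a * b) ^ j = (x ^ 2)⁻¹ := hj
    have h1 : (a ^ j * x) ^ 2 = 1 := by
      rw [hsq j, hj', inv_mul_cancel]
    have h2 := hu.mem_zpowers hP a ha1 _ h1
    apply hxnot
    have h3 : x = (a ^ j)⁻¹ * (a ^ j * x) := by group
    rw [h3]
    exact Subgroup.mul_mem _ (Subgroup.inv_mem _ (Subgroup.pow_mem _ haa _)) h2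
  -- so `w ∈ ⟨x^2⟩`
  have hwx : a * b ∈ Subgroup.zpowers (x ^ 2) := by
    rcases mem_zpowers_or_mem_zpowers hP a _ _ hw hx2 with h | h
    · exact h
    · exact absurd h hx2w
  rw [← mem_powers_iff_mem_zpowers] at hwx
  obtain ⟨k, hk⟩ := hwx
  have hk' : (x ^ 2) ^ k = a * b := hk
  -- `k` is even
  have hkeven : Even k := by
    by_contra hodd
    rw [Nat.not_even_iff_odd] at hodd
    obtain ⟨i, hi⟩ := (IsPGroup.iff_orderOf.1 hP) (x ^ 2)
    have hcop : (orderOf (x ^ 2)).Coprime k := by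
      rw [hi]
      exact Nat.Coprime.pow_left i (Nat.coprime_two_left.mpr hodd)
    have h1 : orderOf ((x ^ 2) ^ k) = orderOf (x ^ 2) := Nat.Coprime.orderOf_pow hcop
    rw [hk'] at h1
    exact hx2w (mem_zpowers_of_orderOf_dvd' _ hC hx2 hw (by rw [h1]))
  obtain ⟨m, hm⟩ := hkeven
  set y := (x ^ 2) ^ m with hy
  have hya : y ∈ Subgroup.zpowers a := Subgroup.pow_mem _ hx2 m
  have hyy : y * y = a * b := by
    rw [← hk', hm, pow_add]
  have hxy : x * y * x⁻¹ = y := by
    rw [hy, ← pow_mul]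
    group
  have hay : Commute a y := commute_of_mem_zpowers haa hya
  -- `c = a y⁻¹` is inverted
  have hc : x * (a * y⁻¹) * x⁻¹ = (a * y⁻¹)⁻¹ := by
    have h1 : x * (a * y⁻¹) * x⁻¹ = b * (x * y * x⁻¹)⁻¹ := by rw [hb]; group
    rw [h1, hxy]
    have h2 : b = a⁻¹ * (y * y) := by rw [hyy]; group
    rw [h2, mul_inv_rev, inv_inv]
    have h3 : a⁻¹ * (y * y) * y⁻¹ = a⁻¹ * y := by group
    rw [h3]
    exact (hay.symm.inv_right).eq.symm
  have hca : a * y⁻¹ ∈ Subgroup.zpowers a := Subgroup.mul_mem _ haa (Subgroup.inv_mem _ hya)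
  have hacy : a = (a * y⁻¹) * y := by group
  have hcy : Commute (a * y⁻¹) y := commute_of_mem_zpowers hca hya
  have hdvd : orderOf a ∣ Nat.lcm (orderOf (a * y⁻¹)) (orderOf y) := by
    conv_lhs => rw [hacy]
    exact hcy.orderOf_mul_dvd_lcm
  obtain ⟨i, hi⟩ := (IsPGroup.iff_orderOf.1 hP) (a * y⁻¹)
  obtain ⟨j, hj⟩ := (IsPGroup.iff_orderOf.1 hP) y
  rcases le_total i j with hij | hij
  · -- `a ∈ ⟨y⟩`: contradiction
    exfalso
    have h1 : Nat.lcm (orderOf (a * y⁻¹)) (orderOf y) = orderOf y := by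
      apply Nat.lcm_eq_right_iff_dvd.mpr
      rw [hi, hj]; exact pow_dvd_pow 2 hij
    rw [h1] at hdvd
    have h2 := mem_zpowers_of_orderOf_dvd' _ hC haa hya hdvd
    have h3 : y ∈ Subgroup.zpowers x := by
      rw [hy, ← pow_mul]
      exact Subgroup.pow_mem _ (Subgroup.mem_zpowers x) _
    have h4 : a ∈ Subgroup.zpowers x := (Subgroup.zpowers_le.mpr h3) h2
    exact hne (commute_of_mem_zpowers (Subgroup.mem_zpowers x) h4).eq
  · have h1 : Nat.lcm (orderOf (a * y⁻¹)) (orderOf y) = orderOf (a * y⁻¹) := by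
      apply Nat.lcm_eq_left_iff_dvd.mpr
      rw [hi, hj]; exact pow_dvd_pow 2 hij
    rw [h1] at hdvd
    have h2 := mem_zpowers_of_orderOf_dvd' _ hC haa hca hdvd
    obtain ⟨e, he⟩ := Subgroup.mem_zpowers_iff.mp h2
    have h3 : x * a * x⁻¹ = (x * (a * y⁻¹) * x⁻¹) ^ e := by
      rw [conj_zpow, he]
    rw [hb, h3, hc, inv_zpow, he]

/-- stepping out of a proper subgroup of a `p`-group -/
theorem exists_pow_mem_of_ne_top {p : ℕ} {P : Type*} [Group P]
    (hP : IsPGroup p P) (H : Subgroup P) (hH : H ≠ ⊤) : ∃ x, x ∉ H ∧ x ^ p ∈ H := by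
  classical
  obtain ⟨y, hy⟩ : ∃ y, y ∉ H := by
    by_contra hall
    push Not at hall
    exact hH (eq_top_iff.mpr fun g _ => hall g)
  obtain ⟨k, hk⟩ := hP y
  have hex : ∃ k, y ^ p ^ k ∈ H := ⟨k, by rw [hk]; exact H.one_mem⟩
  have hk0 : y ^ p ^ (Nat.find hex) ∈ H := Nat.find_spec hex
  have hk0' : Nat.find hex ≠ 0 := by
    intro h0
    rw [h0, pow_zero, pow_one] at hk0
    exact hy hk0
  obtain ⟨k1, hk1⟩ := Nat.exists_eq_succ_of_ne_zero hk0'
  refine ⟨y ^ p ^ k1, ?_, ?_⟩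
  · intro hmem
    have := Nat.find_min' hex hmem
    omega
  · rw [← pow_mul, ← pow_succ, ← Nat.succ_eq_add_one, ← hk1]
    exact hk0

theorem eq_one_or_eq_of_mem_zpowers_of_sq {G : Type*} [Group G] {x u : G} (hx : x ^ 2 = 1)
    (hu : u ∈ Subgroup.zpowers x) : u = 1 ∨ u = x := by
  obtain ⟨k, rfl⟩ := Subgroup.mem_zpowers_iff.mp hu
  have hx' : x ^ (2 : ℤ) = 1 := by
    rw [← hx]
    exact zpow_ofNat x 2
  rcases Int.even_or_odd' k with ⟨c, rfl | rfl⟩
  · left
    rw [zpow_mul, hx', one_zpow]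
  · right
    rw [zpow_add, zpow_mul, hx', one_zpow, one_mul, zpow_one]

/-- recognition of the generalized quaternion groups -/
theorem nonempty_mulEquiv_quaternionGroup {P : Type*} [Group P] (m : ℕ) [NeZero m] (a x : P)
    (ha : orderOf a = 2 * m) (hinv : x * a * x⁻¹ = a⁻¹) (hx2 : x ^ 2 = a ^ m)
    (hx : x ∉ Subgroup.zpowers a)
    (hall : ∀ g : P, g ∈ Subgroup.zpowers a ∨ x⁻¹ * g ∈ Subgroup.zpowers a) :
    Nonempty (P ≃* QuaternionGroup m) := by
  have hm : 0 < m := Nat.pos_of_ne_zero (NeZero.ne m)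
  have hNZ : NeZero (2 * m) := ⟨by omega⟩
  let zp : ZMod (2 * m) → P := fun i => a ^ i.val
  have zp_def : ∀ i, zp i = a ^ i.val := fun i => rfl
  have zp_add : ∀ i j, zp (i + j) = zp i * zp j := by
    intro i j
    rw [zp_def, zp_def, zp_def, ZMod.val_add, ← pow_add]
    have h := pow_mod_orderOf a (i.val + j.val)
    rw [ha] at h
    exact h
  have zp_zero : zp 0 = 1 := by
    rw [zp_def, ZMod.val_zero, pow_zero]
  have zp_neg : ∀ i, zp (-i) = (zp i)⁻¹ := by
    intro i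
    rw [eq_inv_iff_mul_eq_one, ← zp_add, neg_add_cancel, zp_zero]
  have zp_sub : ∀ i j, zp (i - j) = zp i * (zp j)⁻¹ := by
    intro i j
    rw [sub_eq_add_neg, zp_add, zp_neg]
  have zp_m : zp (m : ZMod (2 * m)) = a ^ m := by
    rw [zp_def, ZMod.val_natCast, Nat.mod_eq_of_lt (by omega)]
  have zp_comm : ∀ i j, zp i * zp j = zp j * zp i := by
    intro i j
    rw [← zp_add, ← zp_add, add_comm]
  have zp_mem : ∀ i, zp i ∈ Subgroup.zpowers a := fun i =>
    Subgroup.pow_mem _ (Subgroup.mem_zpowers a) _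
  have x_zp : ∀ i, zp i * x = x * (zp i)⁻¹ := by
    intro i
    rw [zp_def]
    have h1 : x * a ^ i.val * x⁻¹ = (a ^ i.val)⁻¹ := by rw [← conj_pow, hinv, inv_pow]
    have h2 : x * (a ^ i.val)⁻¹ * x⁻¹ = a ^ i.val := by rw [← conj_inv, h1, inv_inv]
    calc a ^ i.val * x = (x * (a ^ i.val)⁻¹ * x⁻¹) * x := by rw [h2]
      _ = x * (a ^ i.val)⁻¹ := by group
  let f : QuaternionGroup m → P := fun q => match q with
    | QuaternionGroup.a i => zp i
    | QuaternionGroup.xa i => x * zp i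
  have f_a : ∀ i, f (QuaternionGroup.a i) = zp i := fun i => rfl
  have f_xa : ∀ i, f (QuaternionGroup.xa i) = x * zp i := fun i => rfl
  have f_mul : ∀ q r, f (q * r) = f q * f r := by
    rintro (i | i) (j | j)
    · rw [QuaternionGroup.a_mul_a, f_a, f_a, f_a, zp_add]
    · rw [QuaternionGroup.a_mul_xa, f_a, f_xa, f_xa, zp_sub, ← mul_assoc (zp i), x_zp,
        mul_assoc x, ← zp_neg, zp_comm]
    · rw [QuaternionGroup.xa_mul_a, f_a, f_xa, f_xa, zp_add, mul_assoc]
    · rw [QuaternionGroup.xa_mul_xa, f_a, f_xa, f_xa, zp_sub, zp_add, zp_m, ← hx2]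
      have h1 : x * zp i * (x * zp j) = x * (zp i * x) * zp j := by group
      rw [h1, x_zp]
      have h2 : x * (x * (zp i)⁻¹) * zp j = x ^ 2 * ((zp i)⁻¹ * zp j) := by
        rw [pow_two]; group
      rw [h2, mul_assoc]
      congr 1
      rw [← zp_neg, zp_comm]
  let F : QuaternionGroup m →* P := MonoidHom.mk' f f_mul
  have hF : ∀ q, F q = f q := fun q => rfl
  have hinj : Function.Injective F := by
    rw [injective_iff_map_eq_one]
    rintro (i | i) hq
    · rw [hF, f_a, zp_def] at hq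
      have h1 : orderOf a ∣ i.val := orderOf_dvd_of_pow_eq_one hq
      rw [ha] at h1
      have h2 : i.val < 2 * m := ZMod.val_lt i
      have h3 : i.val = 0 := Nat.eq_zero_of_dvd_of_lt h1 h2
      have h4 : i = 0 := (ZMod.val_eq_zero i).mp h3
      rw [h4, QuaternionGroup.one_def]
    · exfalso
      rw [hF, f_xa] at hq
      apply hx
      have h1 : x = (zp i)⁻¹ := eq_inv_of_mul_eq_one_left hq
      rw [h1]
      exact Subgroup.inv_mem _ (zp_mem i)
  have zp_int : ∀ k : ℤ, zp ((k : ℤ) : ZMod (2 * m)) = a ^ k := by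
    intro k
    rw [zp_def, ← zpow_natCast, ZMod.val_intCast, ← zpow_mod_orderOf a k, ha]
  have hsurj : Function.Surjective F := by
    intro g
    rcases hall g with hg | hg
    · obtain ⟨k, hk⟩ := Subgroup.mem_zpowers_iff.mp hg
      refine ⟨QuaternionGroup.a ((k : ℤ) : ZMod (2 * m)), ?_⟩
      rw [hF, f_a, zp_int, hk]
    · obtain ⟨k, hk⟩ := Subgroup.mem_zpowers_iff.mp hg
      refine ⟨QuaternionGroup.xa ((k : ℤ) : ZMod (2 * m)), ?_⟩
      rw [hF, f_xa, zp_int, hk]
      group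
  exact ⟨(MulEquiv.ofBijective F ⟨hinj, hsurj⟩).symm⟩

/-- **Main theorem**: a finite `p`-group with at most one subgroup of order `p` is cyclic or
generalized quaternion. -/
theorem isCyclic_or_quaternion_of_uniqueOrderP {p : ℕ} [Fact p.Prime] {P : Type*} [Group P]
    [Finite P] (hP : IsPGroup p P) (hu : UniqueOrderP p P) :
    IsCyclic P ∨ (p = 2 ∧ ∃ n : ℕ, Nonempty (P ≃* QuaternionGroup (2 ^ n))) := by
  have hp : p.Prime := Fact.out
  obtain ⟨A, hAn, hAc, hAmax⟩ := exists_maximal_normal_abelian P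
  have hcent : Subgroup.centralizer (A : Set P) ≤ A :=
    centralizer_le_of_maximal_normal_abelian hP A hAc hAmax
  have hAcyc : IsCyclic ↥A :=
    isCyclic_of_comm_of_uniqueOrderP (hP.to_subgroup A) (fun u v => hAc.is_comm.comm u v)
      (hu.subgroup A)
  obtain ⟨⟨g, hg⟩⟩ := hAcyc
  have hAa : A = Subgroup.zpowers (g : P) := by
    apply le_antisymm
    · intro u hu'
      obtain ⟨k, hk⟩ := hg ⟨u, hu'⟩
      refine Subgroup.mem_zpowers_iff.mpr ⟨k, ?_⟩
      have := congrArg Subtype.val hk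
      simpa using this
    · exact Subgroup.zpowers_le.mpr g.2
  obtain ⟨a, ha⟩ : ∃ a : P, a = (g : P) := ⟨_, rfl⟩
  rw [← ha] at hAa
  have haA : a ∈ A := by rw [hAa]; exact Subgroup.mem_zpowers a
  -- elements commuting with `a` lie in `A`
  have hcomm_mem : ∀ w : P, w * a = a * w → w ∈ A := by
    intro w hw
    apply hcent
    rw [Subgroup.mem_centralizer_iff]
    intro u hu'
    rw [SetLike.mem_coe, hAa] at hu'
    obtain ⟨k, rfl⟩ := Subgroup.mem_zpowers_iff.mp hu'
    exact ((show Commute a w from hw.symm).zpow_left k).eq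
  have hnorm : ∀ w : P, w * a * w⁻¹ ∈ Subgroup.zpowers a := by
    intro w
    rw [← hAa]
    exact hAn.conj_mem a haA w
  by_cases hAtop : A = ⊤
  · left
    exact isCyclic_iff_exists_zpowers_eq_top.mpr ⟨a, by rw [← hAa, hAtop]⟩
  obtain ⟨x, hxA, hxp⟩ := exists_pow_mem_of_ne_top hP A hAtop
  have hxne : x * a ≠ a * x := fun h => hxA (hcomm_mem x h)
  by_cases hp2 : p = 2
  swap
  · exfalso
    exact hxne (commute_of_odd_of_uniqueOrderP hp2 hP hu a x (hnorm x)
      (by rw [← hAa]; exact hxp))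
  subst hp2
  right
  refine ⟨rfl, ?_⟩
  have hxinv : x * a * x⁻¹ = a⁻¹ :=
    conj_eq_inv_of_uniqueOrderP hP hu a x (hnorm x) (by rw [← hAa]; exact hxp) hxne
  have ha1 : a ≠ 1 := by
    rintro rfl
    apply hxne
    simp
  have ha2 : a ^ 2 ≠ 1 := by
    intro h0
    apply hxne
    have h1 : a⁻¹ = a := by
      rw [inv_eq_iff_mul_eq_one, ← pow_two, h0]
    rw [h1] at hxinv
    calc x * a = (x * a * x⁻¹) * x := by group
      _ = a * x := by rw [hxinv]
  obtain ⟨n, hn⟩ := (IsPGroup.iff_orderOf.1 hP) a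
  have hn2 : 2 ≤ n := by
    by_contra hlt
    push Not at hlt
    apply ha2
    apply orderOf_dvd_iff_pow_eq_one.mp
    rw [hn]
    interval_cases n
    · norm_num
    · norm_num
  obtain ⟨n', rfl⟩ : ∃ n', n = n' + 2 := ⟨n - 2, by omega⟩
  have h4dvd : 4 ∣ orderOf a := by
    rw [hn, pow_add]
    exact dvd_mul_left _ _
  -- the quotient has order two
  have hxb1 : (QuotientGroup.mk x : P ⧸ A) ≠ 1 := by
    rw [Ne, QuotientGroup.eq_one_iff]
    exact hxA
  have hxb2 : (QuotientGroup.mk x : P ⧸ A) ^ 2 = 1 := by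
    rw [← QuotientGroup.mk_pow, QuotientGroup.eq_one_iff]
    exact hxp
  have htop : Subgroup.zpowers (QuotientGroup.mk x : P ⧸ A) = ⊤ := by
    by_contra hne
    obtain ⟨wb, hw1, hw2⟩ := exists_pow_mem_of_ne_top (hP.to_quotient A) _ hne
    obtain ⟨w, rfl⟩ := QuotientGroup.mk_surjective wb
    have hwA : w ∉ A := by
      intro h0
      apply hw1
      rw [(QuotientGroup.eq_one_iff w).mpr h0]
      exact Subgroup.one_mem _
    have hwx : w⁻¹ * x ∉ A := by
      intro h0
      apply hw1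
      rw [QuotientGroup.eq.mpr h0]
      exact Subgroup.mem_zpowers _
    have hwne : w * a ≠ a * w := fun h => hwA (hcomm_mem w h)
    rcases eq_one_or_eq_of_mem_zpowers_of_sq hxb2 hw2 with h1 | h1
    · have hw2A : w ^ 2 ∈ A := by
        rw [← QuotientGroup.mk_pow] at h1
        exact (QuotientGroup.eq_one_iff _).mp h1
      have hwinv := conj_eq_inv_of_uniqueOrderP hP hu a w (hnorm w)
        (by rw [← hAa]; exact hw2A) hwne
      apply hwx
      apply hcomm_mem
      have e1 : x * a = a⁻¹ * x := by rw [← hxinv]; group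
      have e2 : w⁻¹ * a⁻¹ = a * w⁻¹ := by rw [← hwinv]; group
      rw [mul_assoc, e1, ← mul_assoc, e2, mul_assoc]
    · rw [← QuotientGroup.mk_pow] at h1
      have h2 : (w ^ 2)⁻¹ * x ∈ A := QuotientGroup.eq.mp h1
      rw [hAa] at h2
      have ha'c : Commute ((w ^ 2)⁻¹ * x) a := commute_of_mem_zpowers h2 (Subgroup.mem_zpowers a)
      have hw2inv : w ^ 2 * a * (w ^ 2)⁻¹ = a⁻¹ := by
        have e1 : w ^ 2 * a * (w ^ 2)⁻¹ =
            x * (((w ^ 2)⁻¹ * x)⁻¹ * a * ((w ^ 2)⁻¹ * x)) * x⁻¹ := by group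
        rw [e1, (ha'c.inv_left).eq, inv_mul_cancel_right, hxinv]
      have hmem := hnorm w
      rw [← mem_powers_iff_mem_zpowers] at hmem
      obtain ⟨t, ht⟩ := hmem
      have ht' : w * a * w⁻¹ = a ^ t := ht.symm
      have h3 := conj_pow_eq_pow_pow ht' 2
      rw [hw2inv] at h3
      have h4 : a ^ (t ^ 2 + 1) = 1 := by
        rw [pow_succ, ← h3, inv_mul_cancel]
      have h5 : orderOf a ∣ t ^ 2 + 1 := orderOf_dvd_of_pow_eq_one h4
      have h6 : 4 ∣ t ^ 2 + 1 := dvd_trans h4dvd h5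
      have h7 : ∀ u : ZMod 4, u ^ 2 + 1 ≠ 0 := by decide
      apply h7 (t : ZMod 4)
      have h8 := (ZMod.natCast_eq_zero_iff (t ^ 2 + 1) 4).mpr h6
      push_cast at h8
      exact h8
  have hall : ∀ g : P, g ∈ Subgroup.zpowers a ∨ x⁻¹ * g ∈ Subgroup.zpowers a := by
    intro g
    have hg : (QuotientGroup.mk g : P ⧸ A) ∈ Subgroup.zpowers (QuotientGroup.mk x : P ⧸ A) := by
      rw [htop]
      exact Subgroup.mem_top _
    rw [← hAa]
    rcases eq_one_or_eq_of_mem_zpowers_of_sq hxb2 hg with h1 | h1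
    · left
      exact (QuotientGroup.eq_one_iff g).mp h1
    · right
      exact QuotientGroup.eq.mp h1.symm
  -- `x` inverts `⟨a⟩`
  have hxinv' : ∀ u ∈ Subgroup.zpowers a, x * u * x⁻¹ = u⁻¹ := by
    intro u hu'
    obtain ⟨k, rfl⟩ := Subgroup.mem_zpowers_iff.mp hu'
    rw [← conj_zpow, hxinv, inv_zpow]
  have hx2A : x ^ 2 ∈ Subgroup.zpowers a := by rw [← hAa]; exact hxp
  have hx4 : (x ^ 2) ^ 2 = 1 := by
    have h1 := hxinv' _ hx2A
    have h2 : x * x ^ 2 * x⁻¹ = x ^ 2 := by group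
    rw [h2] at h1
    rw [pow_two (x ^ 2)]
    nth_rewrite 1 [h1]
    exact inv_mul_cancel _
  have hx2ne : x ^ 2 ≠ 1 := by
    intro h0
    apply hxA
    rw [hAa]
    exact hu.mem_zpowers hP a ha1 x h0
  have hm2 : (a ^ (2 ^ (n' + 1))) ^ 2 = 1 := by
    rw [← pow_mul, ← pow_succ, ← hn, pow_orderOf_eq_one]
  have hm1 : a ^ (2 ^ (n' + 1)) ≠ 1 := by
    intro h0
    have h1 : orderOf a ∣ 2 ^ (n' + 1) := orderOf_dvd_of_pow_eq_one h0
    rw [hn] at h1
    have h2 := Nat.le_of_dvd (by positivity) h1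
    have h3 : 2 ^ (n' + 1) < 2 ^ (n' + 2) := Nat.pow_lt_pow_right (by norm_num) (by omega)
    omega
  have hx2eq : x ^ 2 = a ^ (2 ^ (n' + 1)) := by
    have h1 := hu _ _ hm2 hm1 hx4
    rcases eq_one_or_eq_of_mem_zpowers_of_sq hm2 h1 with h2 | h2
    · exact absurd h2 hx2ne
    · exact h2
  have hxnot : x ∉ Subgroup.zpowers a := by rw [← hAa]; exact hxA
  have hNZ : NeZero (2 ^ (n' + 1)) := ⟨by positivity⟩
  exact ⟨n' + 1, nonempty_mulEquiv_quaternionGroup (2 ^ (n' + 1)) a x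
    (by rw [hn, pow_succ 2 (n' + 1), mul_comm]) hxinv hx2eq hxnot hall⟩

/-- subgroup form of the hypothesis -/
theorem isCyclic_or_quaternion_of_unique_subgroup {p : ℕ} [Fact p.Prime] {P : Type*} [Group P]
    [Finite P] (hP : IsPGroup p P)
    (huniq : ∀ H K : Subgroup P, Nat.card H = p → Nat.card K = p → H = K) :
    IsCyclic P ∨ (p = 2 ∧ ∃ n : ℕ, Nonempty (P ≃* QuaternionGroup (2 ^ n))) :=
  isCyclic_or_quaternion_of_uniqueOrderP hP (uniqueOrderP_of_subgroups huniq)

end Cfsg.Agent.Lib.Helper10
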