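import Mathlib
import Cfsg.Agent.Lib.Helper1.Fitting

/-!
A criterion for a normal subgroup of a finite solvable group to lie in the Fitting subgroup:
it acts on every `O_q(G)` as a `q`-group.
-/

set_option autoImplicit false

namespace Cfsg.Agent.Lib.Helper10

open scoped Classical
open scoped commutatorElement

section NilAction

variable {G : Type*} [Group G]

/-- if `a ^ (q ^ k)` lies in a subgroup and the order of `a` is coprime to `q`, so does `a`. -/
theorem mem_of_pow_prime_pow_mem {C : Subgroup G} {a : G} {q k : ℕ}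
    (hcop : (orderOf a).Coprime q) (h : a ^ q ^ k ∈ C) : a ∈ C := by
  have h1 : (q ^ k).Coprime (orderOf a) := (Nat.Coprime.pow_right k hcop).symm
  obtain ⟨m, hm⟩ := exists_pow_eq_self_of_coprime h1
  rw [← hm]
  exact pow_mem h m

/-- a subgroup containing all prime-power-order powers of `a` contains `a`. -/
theorem mem_of_prime_power_parts_mem (F : Subgroup G) :
    ∀ (n : ℕ) (a : G), orderOf a = n → 0 < n →
      (∀ b ∈ Subgroup.zpowers a, (∃ q e : ℕ, q.Prime ∧ orderOf b = q ^ e) → b ∈ F) → a ∈ F := by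
  intro n
  induction n using Nat.strong_induction_on with
  | _ n ih =>
    intro a han hn hF
    by_cases h1 : n = 1
    · rw [h1] at han
      rw [orderOf_eq_one_iff.mp han]
      exact one_mem F
    have hqp : (n.minFac).Prime := Nat.minFac_prime h1
    obtain ⟨q, hq⟩ : ∃ q, q = n.minFac := ⟨_, rfl⟩
    rw [← hq] at hqp
    have hqn : q ∣ n := hq ▸ Nat.minFac_dvd n
    obtain ⟨e, he⟩ : ∃ e, e = n.factorization q := ⟨_, rfl⟩
    obtain ⟨m, hm⟩ : ∃ m, m = n / q ^ e := ⟨_, rfl⟩
    have hprod : q ^ e * m = n := by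
      rw [hm, he]
      exact Nat.ordProj_mul_ordCompl_eq_self n q
    have hcop : (q ^ e).Coprime m := by
      rw [hm, he]
      exact Nat.Coprime.pow_left _ (Nat.coprime_ordCompl hqp hn.ne')
    have hepos : 0 < e := by
      rw [he]
      exact hqp.factorization_pos_of_dvd hn.ne' hqn
    have hqe1 : 1 < q ^ e := Nat.one_lt_pow hepos.ne' hqp.one_lt
    have hmpos : 0 < m := by
      rcases Nat.eq_zero_or_pos m with h0 | h0
      · rw [h0, mul_zero] at hprod
        omega
      · exact h0
    by_cases hm1 : m = 1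
    · apply hF a (Subgroup.mem_zpowers a)
      refine ⟨q, e, hqp, ?_⟩
      rw [han, ← hprod, hm1, mul_one]
    · have hmlt : m < n := by
        rw [← hprod]
        nlinarith
      have hqelt : q ^ e < n := by
        rw [← hprod]
        have : 2 ≤ m := by omega
        nlinarith
      -- the two parts
      have ho1 : orderOf (a ^ q ^ e) = m := by
        rw [orderOf_pow_of_dvd (pow_pos hqp.pos e).ne' (by rw [han, ← hprod]; exact dvd_mul_right _ _),
          han, ← hprod, Nat.mul_div_cancel_left _ (pow_pos hqp.pos e)]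
      have ho2 : orderOf (a ^ m) = q ^ e := by
        rw [orderOf_pow_of_dvd hmpos.ne' (by rw [han, ← hprod]; exact dvd_mul_left _ _),
          han, ← hprod, Nat.mul_div_cancel _ hmpos]
      have hm1' : a ^ q ^ e ∈ F := by
        apply ih m hmlt (a ^ q ^ e) ho1 hmpos
        intro b hb hbq
        apply hF b _ hbq
        exact (Subgroup.zpowers_le.mpr (Subgroup.pow_mem _ (Subgroup.mem_zpowers a) _)) hb
      have hm2' : a ^ m ∈ F := by
        apply hF (a ^ m) (Subgroup.pow_mem _ (Subgroup.mem_zpowers a) _)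
        exact ⟨q, e, hqp, ho2⟩
      -- Bezout
      have hbez : ((q ^ e : ℕ) : ℤ) * Nat.gcdA (q ^ e) m + (m : ℤ) * Nat.gcdB (q ^ e) m = 1 := by
        have := Nat.gcd_eq_gcd_ab (q ^ e) m
        rw [hcop] at this
        simpa using this.symm
      have ha : a = (a ^ q ^ e) ^ (Nat.gcdA (q ^ e) m) * (a ^ m) ^ (Nat.gcdB (q ^ e) m) := by
        rw [← zpow_natCast, ← zpow_natCast, ← zpow_mul, ← zpow_mul, ← zpow_add, hbez, zpow_one]
      rw [ha]
      exact mul_mem (zpow_mem hm1' _) (zpow_mem hm2' _)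

variable [Finite G]

/-- **nilpotent action criterion**: in a finite solvable group, a normal subgroup acting on each
`O_q(G)` as a `q`-group lies in the Fitting subgroup. -/
theorem le_fittingSubgroup_of_forall_pow_mem_centralizer [Group.IsSolvable G] (K : Subgroup G)
    [K.Normal]
    (h : ∀ q : ℕ, q.Prime → ∀ a ∈ K, ∃ k : ℕ,
      a ^ q ^ k ∈ Subgroup.centralizer (Cfsg.pCore q G : Set G)) :
    K ≤ Cfsg.fittingSubgroup G := by
  -- elements of prime power order
  have key : ∀ (p : ℕ), p.Prime → ∀ a ∈ K, (∃ e : ℕ, orderOf a = p ^ e) →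
      a ∈ Cfsg.fittingSubgroup G := by
    intro p hp a haK ⟨e, hae⟩
    have hpf : Fact p.Prime := ⟨hp⟩
    obtain ⟨Dp, hDp⟩ : ∃ Dp : Subgroup G,
        Dp = ⨆ q : {q : Nat.Primes // (q : ℕ) ≠ p}, Cfsg.pCore (q.1 : ℕ) G := ⟨_, rfl⟩
    have hDpn : Dp.Normal := by
      rw [hDp]
      have : ∀ q : {q : Nat.Primes // (q : ℕ) ≠ p}, (Cfsg.pCore (q.1 : ℕ) G).Normal :=
        fun q => Cfsg.Agent.Lib.Helper1.pCore_normal _
      exact Subgroup.iSup_normal _
    have hqDp : ∀ q : ℕ, q.Prime → q ≠ p → Cfsg.pCore q G ≤ Dp := by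
      intro q hq hqp
      rw [hDp]
      exact le_iSup (fun q : {q : Nat.Primes // (q : ℕ) ≠ p} => Cfsg.pCore (q.1 : ℕ) G)
        ⟨⟨q, hq⟩, hqp⟩
    -- centralizing all `O_q` for `q ≠ p` means centralizing `Dp`
    have hcentDp : ∀ b : G, (∀ q : ℕ, q.Prime → q ≠ p →
        b ∈ Subgroup.centralizer (Cfsg.pCore q G : Set G)) →
        b ∈ Subgroup.centralizer (Dp : Set G) := by
      intro b hb
      have h1 : Dp ≤ Subgroup.centralizer ((Subgroup.zpowers b : Subgroup G) : Set G) := by
        rw [hDp]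
        refine iSup_le fun q => ?_
        rw [Subgroup.le_centralizer_iff, Subgroup.zpowers_le]
        exact hb q.1 q.1.2 q.2
      have h2 := Subgroup.le_centralizer_iff.mp h1
      exact h2 (Subgroup.mem_zpowers b)
    have hFsplit : Cfsg.fittingSubgroup G ≤ Cfsg.pCore p G ⊔ Dp := by
      rw [Cfsg.Agent.Lib.Helper1.fittingSubgroup_eq_iSup_primes]
      refine iSup_le fun q => ?_
      by_cases hq : (q : ℕ) = p
      · rw [hq]
        exact le_sup_left
      · exact (hqDp q q.2 hq).trans le_sup_right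
    -- `a` centralizes `Dp`
    have haDp : a ∈ Subgroup.centralizer (Dp : Set G) := by
      apply hcentDp
      intro q hq hqp
      obtain ⟨k, hk⟩ := h q hq a haK
      apply mem_of_pow_prime_pow_mem _ hk
      rw [hae]
      exact Nat.Coprime.pow_left e ((Nat.coprime_primes hp hq).mpr hqp.symm)
    obtain ⟨C, hC⟩ : ∃ C : Subgroup G, C = K ⊓ Subgroup.centralizer (Dp : Set G) := ⟨_, rfl⟩
    have hCn : C.Normal := by
      rw [hC]
      infer_instance
    have haC : a ∈ C := by
      rw [hC]
      exact ⟨haK, haDp⟩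
    -- `p'`-elements of `C` lie in `Dp`
    have hpprime : ∀ b ∈ C, (orderOf b).Coprime p → b ∈ Dp := by
      intro b hbC hbcop
      rw [hC] at hbC
      have hbF : b ∈ Cfsg.fittingSubgroup G := by
        apply Cfsg.Agent.Lib.Helper1.centralizer_fittingSubgroup_le
        have h1 : Cfsg.fittingSubgroup G ≤
            Subgroup.centralizer ((Subgroup.zpowers b : Subgroup G) : Set G) := by
          rw [Cfsg.Agent.Lib.Helper1.fittingSubgroup_eq_iSup_primes]
          refine iSup_le fun q => ?_
          rw [Subgroup.le_centralizer_iff, Subgroup.zpowers_le]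
          by_cases hq : (q : ℕ) = p
          · rw [hq]
            obtain ⟨k, hk⟩ := h p hp b hbC.1
            exact mem_of_pow_prime_pow_mem hbcop hk
          · exact Subgroup.centralizer_le (hqDp q q.2 hq) hbC.2
        exact (Subgroup.le_centralizer_iff.mp h1) (Subgroup.mem_zpowers b)
      have hb2 : b ∈ ((Cfsg.pCore p G ⊔ Dp : Subgroup G) : Set G) := hFsplit hbF
      rw [Subgroup.mul_normal] at hb2
      obtain ⟨r, hr, d, hd, hrd⟩ := hb2
      have hmk : QuotientGroup.mk' Dp b = QuotientGroup.mk' Dp r := by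
        rw [← hrd, map_mul]
        have : QuotientGroup.mk' Dp d = 1 := (QuotientGroup.eq_one_iff d).mpr hd
        rw [this, mul_one]
      have ho1 : orderOf (QuotientGroup.mk' Dp b) ∣ orderOf b := orderOf_map_dvd _ b
      obtain ⟨j, hj⟩ := (IsPGroup.iff_orderOf.mp (Cfsg.Agent.Lib.Helper1.pCore_isPGroup p))
        ⟨r, hr⟩
      have ho2 : orderOf (QuotientGroup.mk' Dp b) ∣ p ^ j := by
        rw [hmk, ← hj, Subgroup.orderOf_mk]
        exact orderOf_map_dvd _ r
      have ho3 : orderOf (QuotientGroup.mk' Dp b) = 1 :=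
        Nat.eq_one_of_dvd_coprimes (Nat.Coprime.pow_right j hbcop) ho1 ho2
      exact (QuotientGroup.eq_one_iff b).mp (orderOf_eq_one_iff.mp ho3)
    -- `C` is nilpotent
    obtain ⟨f, hf⟩ : ∃ f : ↥C →* G ⧸ Dp, f = (QuotientGroup.mk' Dp).comp C.subtype := ⟨_, rfl⟩
    have hfapp : ∀ c : ↥C, f c = QuotientGroup.mk' Dp (c : G) := by
      intro c
      rw [hf]
      rfl
    have hker : f.rangeRestrict.ker ≤ Subgroup.center ↥C := by
      intro x hx
      rw [MonoidHom.ker_rangeRestrict] at hx
      have hx' : f x = 1 := MonoidHom.mem_ker.mp hx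
      rw [hfapp] at hx'
      have hxD : (x : G) ∈ Dp := (QuotientGroup.eq_one_iff _).mp hx'
      rw [Subgroup.mem_center_iff]
      intro y
      apply Subtype.ext
      have hCle : C ≤ Subgroup.centralizer (Dp : Set G) := by
        rw [hC]
        exact inf_le_right
      have hy : (y : G) ∈ Subgroup.centralizer (Dp : Set G) := hCle y.2
      rw [Subgroup.coe_mul, Subgroup.coe_mul]
      exact ((Subgroup.mem_centralizer_iff.mp hy) (x : G) hxD).symm
    have hrange : IsPGroup p f.range := by
      rintro ⟨y, ⟨c, hcy⟩⟩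
      obtain ⟨n, hn⟩ : ∃ n, n = orderOf (c : G) := ⟨_, rfl⟩
      have hnpos : 0 < n := by
        rw [hn]
        exact orderOf_pos _
      obtain ⟨e', he'⟩ : ∃ e', e' = n.factorization p := ⟨_, rfl⟩
      refine ⟨e', ?_⟩
      apply Subtype.ext
      rw [Subgroup.coe_pow, Subgroup.coe_one]
      show y ^ p ^ e' = 1
      rw [← hcy, hfapp, ← map_pow]
      apply (QuotientGroup.eq_one_iff _).mpr
      apply hpprime _ (pow_mem c.2 _)
      rw [orderOf_pow_of_dvd (pow_pos hp.pos e').ne' (by rw [← hn, he']; exact Nat.ordProj_dvd n p),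
        ← hn, he']
      exact (Nat.coprime_ordCompl hp hnpos.ne').symm
    have hnilr : Group.IsNilpotent f.range := hrange.isNilpotent
    have hnilC : Group.IsNilpotent ↥C := Subgroup.isNilpotent_of_ker_le_center f.rangeRestrict hker
    exact Cfsg.Agent.Lib.Helper1.le_fittingSubgroup hCn hnilC haC
  intro a haK
  apply mem_of_prime_power_parts_mem (Cfsg.fittingSubgroup G) (orderOf a) a rfl (orderOf_pos a)
  rintro b hb ⟨q, e, hq, hbe⟩
  apply key q hq b _ ⟨e, hbe⟩
  exact (Subgroup.zpowers_le.mpr haK) hb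

end NilAction

end Cfsg.Agent.Lib.Helper10
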