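import Mathlib
import Cfsg.Agent.Lib.Helper10.PGroup
import Cfsg.Agent.Lib.Helper7.NormalComplement

set_option autoImplicit false

namespace Cfsg.Agent.Lib.Helper10

open Matrix

section M2

variable {F : Type*} [Field F]

/-- Cayley–Hamilton for `2 × 2` matrices -/
theorem m2_sq (X : Matrix (Fin 2) (Fin 2) F) :
    X * X = X.trace • X - X.det • (1 : Matrix (Fin 2) (Fin 2) F) := by
  ext i j
  fin_cases i <;> fin_cases j <;>
    simp [Matrix.mul_apply, Fin.sum_univ_two, Matrix.trace_fin_two, Matrix.det_fin_two] <;> ring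

/-- traceless `2 × 2` matrices anticommute up to a scalar -/
theorem m2_anticomm (X Y : Matrix (Fin 2) (Fin 2) F) (hX : X.trace = 0) (hY : Y.trace = 0) :
    X * Y + Y * X = (X * Y).trace • (1 : Matrix (Fin 2) (Fin 2) F) := by
  have h1 : X 1 1 = - X 0 0 := by
    rw [Matrix.trace_fin_two] at hX
    linear_combination hX
  have h2 : Y 1 1 = - Y 0 0 := by
    rw [Matrix.trace_fin_two] at hY
    linear_combination hY
  ext i j
  fin_cases i <;> fin_cases j <;>
    simp [Matrix.mul_apply, Fin.sum_univ_two, Matrix.trace_fin_two, h1, h2] <;> ring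

/-- the discriminant of the characteristic polynomial -/
def m2disc (a : Matrix (Fin 2) (Fin 2) F) : F := a.trace ^ 2 - 4 * a.det

theorem m2_traceless_part_trace (h2 : (2 : F) ≠ 0) (a : Matrix (Fin 2) (Fin 2) F) :
    (a - (a.trace / 2) • (1 : Matrix (Fin 2) (Fin 2) F)).trace = 0 := by
  rw [Matrix.trace_sub, Matrix.trace_smul, Matrix.trace_one]
  simp only [Fintype.card_fin, Nat.cast_ofNat, smul_eq_mul]
  field_simp
  ring

theorem m2_traceless_part_sq (h2 : (2 : F) ≠ 0) (a : Matrix (Fin 2) (Fin 2) F) :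
    (a - (a.trace / 2) • (1 : Matrix (Fin 2) (Fin 2) F)) *
        (a - (a.trace / 2) • (1 : Matrix (Fin 2) (Fin 2) F)) =
      (m2disc a / 4) • (1 : Matrix (Fin 2) (Fin 2) F) := by
  have h4 : (4 : F) ≠ 0 := by
    have : (4 : F) = 2 * 2 := by norm_num
    rw [this]
    exact mul_ne_zero h2 h2
  ext i j
  fin_cases i <;> fin_cases j <;>
    simp [Matrix.mul_apply, Fin.sum_univ_two, Matrix.trace_fin_two, Matrix.det_fin_two, m2disc] <;>
    field_simp <;> ring

/-- a matrix commuting with `a`, with the same trace and determinant, is `a` or its conjugate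
`tr a - a`, provided the discriminant of `a` is nonzero -/
theorem m2_conj_eq_or (h2 : (2 : F) ≠ 0) (a a' : Matrix (Fin 2) (Fin 2) F)
    (htr : a'.trace = a.trace) (hdet : a'.det = a.det) (hcomm : a * a' = a' * a)
    (hdisc : m2disc a ≠ 0) : a' = a ∨ a' = a.trace • (1 : Matrix (Fin 2) (Fin 2) F) - a := by
  have h4 : (4 : F) ≠ 0 := by
    have : (4 : F) = 2 * 2 := by norm_num
    rw [this]
    exact mul_ne_zero h2 h2
  set s : F := a.trace / 2 with hs
  set n : Matrix (Fin 2) (Fin 2) F := a - s • (1 : Matrix (Fin 2) (Fin 2) F) with hn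
  set n' : Matrix (Fin 2) (Fin 2) F := a' - s • (1 : Matrix (Fin 2) (Fin 2) F) with hn'
  set δ : F := m2disc a / 4 with hδ
  have hδ0 : δ ≠ 0 := div_ne_zero hdisc h4
  have hntr : n.trace = 0 := m2_traceless_part_trace h2 a
  have hn'tr : n'.trace = 0 := by
    have := m2_traceless_part_trace h2 a'
    rwa [htr] at this
  have hnn : n * n = δ • (1 : Matrix (Fin 2) (Fin 2) F) := m2_traceless_part_sq h2 a
  have hn'n' : n' * n' = δ • (1 : Matrix (Fin 2) (Fin 2) F) := by
    have := m2_traceless_part_sq h2 a'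
    rw [htr] at this
    rw [this, hδ, m2disc, m2disc, htr, hdet]
  have hc : n * n' = n' * n := by
    have hcc : ∀ X : Matrix (Fin 2) (Fin 2) F, Commute (s • (1 : Matrix (Fin 2) (Fin 2) F)) X :=
      fun X => (Commute.one_left X).smul_left s
    have h1 : Commute a (a' - s • (1 : Matrix (Fin 2) (Fin 2) F)) :=
      (show Commute a a' from hcomm).sub_right (hcc a).symm
    exact (h1.sub_left (hcc _)).eq
  have hanti := m2_anticomm n n' hntr hn'tr
  rw [← hc] at hanti
  set μ : F := (n * n').trace / 2 with hμ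
  have hnn' : n * n' = μ • (1 : Matrix (Fin 2) (Fin 2) F) := by
    have h5 : (2 : F) • (n * n') = (n * n').trace • (1 : Matrix (Fin 2) (Fin 2) F) := by
      rw [← hanti, two_smul]
    have h6 : n * n' = (2 : F)⁻¹ • ((2 : F) • (n * n')) := by
      rw [smul_smul, inv_mul_cancel₀ h2, one_smul]
    rw [h6, h5, smul_smul, hμ, div_eq_inv_mul]
  have hδn' : δ • n' = μ • n := by
    calc δ • n' = (δ • (1 : Matrix (Fin 2) (Fin 2) F)) * n' := by rw [smul_mul_assoc, one_mul]
      _ = n * (n * n') := by rw [← hnn, mul_assoc]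
      _ = μ • n := by rw [hnn', mul_smul_comm, mul_one]
  set β : F := μ / δ with hβ
  have hn'β : n' = β • n := by
    have h7 : n' = δ⁻¹ • (δ • n') := by rw [smul_smul, inv_mul_cancel₀ hδ0, one_smul]
    rw [h7, hδn', smul_smul, hβ, div_eq_inv_mul]
  have hβ2 : β * β = 1 := by
    have h8 : (β * β * δ) • (1 : Matrix (Fin 2) (Fin 2) F) = δ • (1 : Matrix (Fin 2) (Fin 2) F) := by
      rw [← hn'n', hn'β, smul_mul_assoc, mul_smul_comm, hnn, smul_smul, smul_smul]
    have h9 := congrFun (congrFun h8 0) 0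
    simp only [Matrix.smul_apply, Matrix.one_apply_eq, smul_eq_mul, mul_one] at h9
    exact mul_right_cancel₀ hδ0 (by rw [h9, one_mul])
  have hβcases : β = 1 ∨ β = -1 := by
    have h10 : (β - 1) * (β + 1) = 0 := by linear_combination hβ2
    rcases mul_eq_zero.mp h10 with h | h
    · left; linear_combination h
    · right; linear_combination h
  rcases hβcases with h | h
  · left
    rw [h, one_smul] at hn'β
    have : a' - s • (1 : Matrix (Fin 2) (Fin 2) F) = a - s • (1 : Matrix (Fin 2) (Fin 2) F) := hn'β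
    exact sub_left_injective this
  · right
    rw [h, neg_smul, one_smul] at hn'β
    have h11 : a' - s • (1 : Matrix (Fin 2) (Fin 2) F) = -(a - s • (1 : Matrix (Fin 2) (Fin 2) F)) :=
      hn'β
    have h12 : a.trace • (1 : Matrix (Fin 2) (Fin 2) F) =
        s • (1 : Matrix (Fin 2) (Fin 2) F) + s • (1 : Matrix (Fin 2) (Fin 2) F) := by
      rw [← add_smul, hs]
      congr 1
      field_simp
      ring
    rw [h12]
    have h13 : a' = -(a - s • (1 : Matrix (Fin 2) (Fin 2) F)) + s • (1 : Matrix (Fin 2) (Fin 2) F) := by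
      rw [← h11]; abel
    rw [h13]
    abel

/-- a non-scalar matrix of finite order prime to the characteristic has nonzero discriminant -/
theorem m2_disc_ne_zero (h2 : (2 : F) ≠ 0) (a : Matrix (Fin 2) (Fin 2) F) (m : ℕ)
    (hm : (m : F) ≠ 0) (ham : a ^ m = 1) (hns : ∀ c : F, a ≠ c • (1 : Matrix (Fin 2) (Fin 2) F)) :
    m2disc a ≠ 0 := by
  intro hd
  set s : F := a.trace / 2 with hs
  set n : Matrix (Fin 2) (Fin 2) F := a - s • (1 : Matrix (Fin 2) (Fin 2) F) with hn
  have hntr : n.trace = 0 := m2_traceless_part_trace h2 a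
  have hnn : n * n = 0 := by
    have := m2_traceless_part_sq h2 a
    rw [hd, zero_div, zero_smul] at this
    exact this
  have ha : a = s • (1 : Matrix (Fin 2) (Fin 2) F) + n := by rw [hn]; abel
  have hn0 : n ≠ 0 := by
    intro h0
    rw [h0, add_zero] at ha
    exact hns s ha
  have hpow : ∀ k : ℕ, a ^ (k + 1) =
      (s ^ (k + 1)) • (1 : Matrix (Fin 2) (Fin 2) F) + (((k + 1 : ℕ) : F) * s ^ k) • n := by
    intro k
    induction k with
    | zero => simp [← ha]
    | succ k ih =>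
      rw [pow_succ, ih]
      nth_rewrite 1 [ha]
      simp only [add_mul, mul_add, smul_mul_assoc, mul_smul_comm, one_mul, mul_one, hnn, smul_zero,
        add_zero, smul_add, smul_smul]
      have e1 : s * s ^ (k + 1) = s ^ (k + 1 + 1) := by ring
      have e2 : s * (((k + 1 : ℕ) : F) * s ^ k) + s ^ (k + 1) =
          ((k + 1 + 1 : ℕ) : F) * s ^ (k + 1) := by
        push_cast
        ring
      rw [← e1, ← e2, add_smul, add_assoc]
  obtain ⟨k, rfl⟩ : ∃ k, m = k + 1 := by
    refine ⟨m - 1, ?_⟩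
    have : m ≠ 0 := by
      rintro rfl
      simp at hm
    omega
  have h1 := hpow k
  rw [ham] at h1
  have h3 := congrArg Matrix.trace h1
  rw [Matrix.trace_add, Matrix.trace_smul, Matrix.trace_smul, hntr, smul_zero, add_zero,
    Matrix.trace_one] at h3
  simp only [Fintype.card_fin, Nat.cast_ofNat, smul_eq_mul] at h3
  have hs1 : s ^ (k + 1) = 1 := by
    have : (2 : F) * 1 = 2 * s ^ (k + 1) := by rw [mul_one, mul_comm]; exact h3
    exact (mul_left_cancel₀ h2 this).symm
  have hs0 : s ≠ 0 := by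
    rintro h0
    rw [h0, zero_pow (Nat.succ_ne_zero k)] at hs1
    exact zero_ne_one hs1
  rw [hs1, one_smul] at h1
  have h5 : (((k + 1 : ℕ) : F) * s ^ k) • n = 0 := by
    have := sub_eq_zero.mpr h1.symm
    rwa [add_sub_cancel_left] at this
  rcases smul_eq_zero.mp h5 with h | h
  · rcases mul_eq_zero.mp h with h' | h'
    · exact hm h'
    · exact hs0 (pow_eq_zero_iff (n := k) (by
        rintro rfl
        simp at h') |>.mp h')
  · exact hn0 h

/-- a nilpotent `2 × 2` matrix has square zero -/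
theorem m2_sq_zero_of_pow_eq_zero (X : Matrix (Fin 2) (Fin 2) F) (k : ℕ) (h : X ^ k = 0) :
    X * X = 0 := by
  have hdet : X.det = 0 := by
    have h1 := congrArg Matrix.det h
    rw [Matrix.det_pow, Matrix.det_zero] at h1
    exact pow_eq_zero_iff (n := k) (by
      rintro rfl
      simp at h1) |>.mp h1
  have hsq : X * X = X.trace • X := by
    rw [m2_sq, hdet, zero_smul, sub_zero]
  have hpow : ∀ j : ℕ, X ^ (j + 1) = X.trace ^ j • X := by
    intro j
    induction j with
    | zero => simp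
    | succ j ih => rw [pow_succ, ih, smul_mul_assoc, hsq, smul_smul, pow_succ]
  rcases Nat.eq_zero_or_pos k with hk | hk
  · subst hk
    rw [pow_zero] at h
    exact absurd h one_ne_zero
  · obtain ⟨j, rfl⟩ : ∃ j, k = j + 1 := ⟨k - 1, by omega⟩
    rw [hpow j] at h
    rcases smul_eq_zero.mp h with h' | h'
    · rcases Nat.eq_zero_or_pos j with hj | hj
      · subst hj
        rw [pow_zero] at h'
        exact absurd h' one_ne_zero
      · have ht : X.trace = 0 := pow_eq_zero_iff (by omega) |>.mp h'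
        rw [hsq, ht, zero_smul]
    · rw [h', mul_zero]

theorem m2_trace_zero_of_sq_zero (X : Matrix (Fin 2) (Fin 2) F) (h : X * X = 0) : X.trace = 0 := by
  by_contra ht
  have h1 := m2_sq X
  rw [h] at h1
  have h2 : X.trace • X = X.det • (1 : Matrix (Fin 2) (Fin 2) F) := (sub_eq_zero.mp h1.symm)
  have h3 : X = (X.trace⁻¹ * X.det) • (1 : Matrix (Fin 2) (Fin 2) F) := by
    rw [← smul_smul, ← h2, smul_smul, inv_mul_cancel₀ ht, one_smul]
  have h4 : (X.trace⁻¹ * X.det) * (X.trace⁻¹ * X.det) = 0 := by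
    have h5 := h
    rw [h3, smul_mul_assoc, mul_smul_comm, one_mul, smul_smul] at h5
    have h6 := congrFun (congrFun h5 0) 0
    simpa using h6
  have h7 : X.trace⁻¹ * X.det = 0 := mul_self_eq_zero.mp h4
  rw [h7, zero_smul] at h3
  rw [h3, Matrix.trace_zero] at ht
  exact ht rfl

/-- commuting square-zero `2 × 2` matrices have product zero (characteristic not two) -/
theorem m2_mul_eq_zero_of_commute_sq_zero (h2 : (2 : F) ≠ 0) (X Y : Matrix (Fin 2) (Fin 2) F)
    (hX : X * X = 0) (hY : Y * Y = 0) (hc : X * Y = Y * X) : X * Y = 0 := by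
  have hXt := m2_trace_zero_of_sq_zero X hX
  have hYt := m2_trace_zero_of_sq_zero Y hY
  have hanti := m2_anticomm X Y hXt hYt
  rw [← hc] at hanti
  have hsq : (X * Y) * (X * Y) = 0 := by
    calc (X * Y) * (X * Y) = X * (Y * X) * Y := by simp only [mul_assoc]
      _ = X * (X * Y) * Y := by rw [hc]
      _ = (X * X) * (Y * Y) := by simp only [mul_assoc]
      _ = 0 := by rw [hX, zero_mul]
  have h3 : (2 : F) • (X * Y) = (X * Y).trace • (1 : Matrix (Fin 2) (Fin 2) F) := by
    rw [← hanti, two_smul]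
  have h4 : (X * Y).trace = 0 := by
    have h5 : ((X * Y).trace • (1 : Matrix (Fin 2) (Fin 2) F)) *
        ((X * Y).trace • (1 : Matrix (Fin 2) (Fin 2) F)) = 0 := by
      rw [← h3, smul_mul_assoc, mul_smul_comm, hsq, smul_zero, smul_zero]
    rw [smul_mul_assoc, mul_smul_comm, one_mul, smul_smul] at h5
    have h6 := congrFun (congrFun h5 0) 0
    have h7 : (X * Y).trace * (X * Y).trace = 0 := by simpa using h6
    exact mul_self_eq_zero.mp h7
  rw [h4, zero_smul] at h3
  rcases smul_eq_zero.mp h3 with h | h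
  · exact absurd h h2
  · exact h

end M2

section GLgroups

variable {F : Type*} [Field F]

theorem two_ne_zero_of_charP (p : ℕ) [Fact p.Prime] [CharP F p] (hp : p ≠ 2) : (2 : F) ≠ 0 := by
  have hp' : p.Prime := Fact.out
  intro h
  have h1 : ((2 : ℕ) : F) = 0 := by exact_mod_cast h
  rw [CharP.cast_eq_zero_iff F p] at h1
  exact hp ((Nat.prime_dvd_prime_iff_eq hp' Nat.prime_two).mp h1)

/-- **key lemma**: in `GL₂(F)`, `char F = p` odd, an element `g` of odd order that conjugates a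
`p'`-element `a` to an element commuting with `a` centralizes `a`. -/
theorem gl2_commute_of_conj_commute (p : ℕ) [Fact p.Prime] [CharP F p] (hp : p ≠ 2)
    (g a : GL (Fin 2) F) (hg : Odd (orderOf g))
    (ha : (orderOf a).Coprime p) (hc : Commute (g * a * g⁻¹) a) : Commute g a := by
  have hp' : p.Prime := Fact.out
  have h2 : (2 : F) ≠ 0 := two_ne_zero_of_charP p hp
  have hm : ((orderOf a : ℕ) : F) ≠ 0 := by
    rw [Ne, CharP.cast_eq_zero_iff F p]
    exact (Nat.Prime.coprime_iff_not_dvd hp').mp ha.symm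
  by_cases hs : ∃ c : F, (a : Matrix (Fin 2) (Fin 2) F) = c • (1 : Matrix (Fin 2) (Fin 2) F)
  · obtain ⟨c, hc'⟩ := hs
    apply Units.ext
    rw [Units.val_mul, Units.val_mul]
    show (g : Matrix (Fin 2) (Fin 2) F) * (a : Matrix (Fin 2) (Fin 2) F) =
      (a : Matrix (Fin 2) (Fin 2) F) * (g : Matrix (Fin 2) (Fin 2) F)
    rw [hc', mul_smul_comm, smul_mul_assoc, one_mul, mul_one]
  · push Not at hs
    have ham : (a : Matrix (Fin 2) (Fin 2) F) ^ orderOf a = 1 := by
      rw [← Units.val_pow_eq_pow_val, pow_orderOf_eq_one, Units.val_one]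
    have hdisc := m2_disc_ne_zero h2 (a : Matrix (Fin 2) (Fin 2) F) (orderOf a) hm ham hs
    have hgi : (g : Matrix (Fin 2) (Fin 2) F) * ((g⁻¹ : GL (Fin 2) F) : Matrix (Fin 2) (Fin 2) F) = 1 := by
      rw [← Units.val_mul, mul_inv_cancel, Units.val_one]
    have hig : ((g⁻¹ : GL (Fin 2) F) : Matrix (Fin 2) (Fin 2) F) * (g : Matrix (Fin 2) (Fin 2) F) = 1 := by
      rw [← Units.val_mul, inv_mul_cancel, Units.val_one]
    have hval : ((g * a * g⁻¹ : GL (Fin 2) F) : Matrix (Fin 2) (Fin 2) F) =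
        (g : Matrix (Fin 2) (Fin 2) F) * (a : Matrix (Fin 2) (Fin 2) F) *
          ((g⁻¹ : GL (Fin 2) F) : Matrix (Fin 2) (Fin 2) F) := by
      rw [Units.val_mul, Units.val_mul]
    have htr : ((g * a * g⁻¹ : GL (Fin 2) F) : Matrix (Fin 2) (Fin 2) F).trace =
        (a : Matrix (Fin 2) (Fin 2) F).trace := by
      rw [hval, Matrix.trace_mul_comm, ← mul_assoc, hig, one_mul]
    have hdet : ((g * a * g⁻¹ : GL (Fin 2) F) : Matrix (Fin 2) (Fin 2) F).det =
        (a : Matrix (Fin 2) (Fin 2) F).det := by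
      rw [hval, Matrix.det_mul, Matrix.det_mul, mul_comm, ← mul_assoc, ← Matrix.det_mul, hig,
        Matrix.det_one, one_mul]
    have hcomm : (a : Matrix (Fin 2) (Fin 2) F) *
        ((g * a * g⁻¹ : GL (Fin 2) F) : Matrix (Fin 2) (Fin 2) F) =
        ((g * a * g⁻¹ : GL (Fin 2) F) : Matrix (Fin 2) (Fin 2) F) * (a : Matrix (Fin 2) (Fin 2) F) := by
      rw [← Units.val_mul, ← Units.val_mul, hc.eq]
    rcases m2_conj_eq_or h2 _ _ htr hdet hcomm hdisc with h | h
    · have h3 : g * a * g⁻¹ = a := Units.ext h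
      show g * a = a * g
      calc g * a = (g * a * g⁻¹) * g := by group
        _ = a * g := by rw [h3]
    · -- `g²` centralizes `a`
      have h3 : (g * g) * a * (g * g)⁻¹ = a := by
        apply Units.ext
        have h4 : (g * g) * a * (g * g)⁻¹ = g * (g * a * g⁻¹) * g⁻¹ := by group
        rw [h4, Units.val_mul, Units.val_mul, h, mul_sub, sub_mul, mul_smul_comm, mul_one,
          smul_mul_assoc, hgi, ← hval, h]
        abel
      have h5 : Commute (g * g) a := by
        show (g * g) * a = a * (g * g)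
        calc (g * g) * a = ((g * g) * a * (g * g)⁻¹) * (g * g) := by group
          _ = a * (g * g) := by rw [h3]
      obtain ⟨k, hk⟩ := hg
      have h6 : g = (g * g) ^ (k + 1) := by
        rw [← pow_two, ← pow_mul]
        have : 2 * (k + 1) = orderOf g + 1 := by omega
        rw [this, pow_succ, pow_orderOf_eq_one, one_mul]
      rw [h6]
      exact h5.pow_left _

/-- `p`-elements of `GL₂(F)` in characteristic `p` are unipotent: `(n - 1)² = 0` -/
theorem gl2_unipotent (p : ℕ) [Fact p.Prime] [CharP F p] (n : GL (Fin 2) F) (k : ℕ)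
    (hn : n ^ p ^ k = 1) :
    ((n : Matrix (Fin 2) (Fin 2) F) - 1) * ((n : Matrix (Fin 2) (Fin 2) F) - 1) = 0 := by
  apply m2_sq_zero_of_pow_eq_zero _ (p ^ k)
  rw [sub_pow_char_pow_of_commute p k (Commute.one_right _), one_pow, ← Units.val_pow_eq_pow_val, hn,
    Units.val_one, sub_self]

/-- a nontrivial finite `p`-subgroup of `GL₂(F)`, `char F = p` odd, fixes a nonzero vector -/
theorem gl2_exists_fixed_vector (p : ℕ) [Fact p.Prime] [CharP F p] (hp : p ≠ 2)
    (N : Subgroup (GL (Fin 2) F)) [Finite N] (hN : IsPGroup p N) (hN1 : N ≠ ⊥) :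
    ∃ w : Fin 2 → F, w ≠ 0 ∧ ∀ n ∈ N, (n : Matrix (Fin 2) (Fin 2) F).mulVec w = w := by
  have h2 : (2 : F) ≠ 0 := two_ne_zero_of_charP p hp
  have hnt : Nontrivial ↥N := by
    rw [Subgroup.nontrivial_iff_ne_bot]
    exact hN1
  have hcnt : Nontrivial ↥(Subgroup.center ↥N) := hN.center_nontrivial
  obtain ⟨z, hz1⟩ := exists_ne (1 : ↥(Subgroup.center ↥N))
  have hz1' : ((z : ↥N) : GL (Fin 2) F) ≠ 1 := by
    intro h
    apply hz1
    apply Subtype.ext
    apply Subtype.ext
    exact h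
  set Z : GL (Fin 2) F := ((z : ↥N) : GL (Fin 2) F) with hZ
  set m : Matrix (Fin 2) (Fin 2) F := (Z : Matrix (Fin 2) (Fin 2) F) - 1 with hm
  have hm0 : m ≠ 0 := by
    intro h0
    apply hz1'
    apply Units.ext
    rw [Units.val_one]
    exact sub_eq_zero.mp h0
  have hmm : m * m = 0 := by
    obtain ⟨k, hk⟩ := hN (z : ↥N)
    apply gl2_unipotent p Z k
    have := congrArg (Subtype.val : ↥N → GL (Fin 2) F) hk
    simpa using this
  obtain ⟨j, hj⟩ : ∃ j : Fin 2, (fun i => m i j) ≠ 0 := by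
    by_contra hall
    push Not at hall
    apply hm0
    ext i j
    exact congrFun (hall j) i
  have hw : (fun i => m i j) = m.mulVec (Pi.single j 1) := by
    ext i
    simp [Matrix.mulVec, dotProduct, Pi.single_apply]
  refine ⟨fun i => m i j, hj, ?_⟩
  intro n hn
  set mn : Matrix (Fin 2) (Fin 2) F := (n : Matrix (Fin 2) (Fin 2) F) - 1 with hmn
  have hmnmn : mn * mn = 0 := by
    obtain ⟨k, hk⟩ := hN ⟨n, hn⟩
    apply gl2_unipotent p n k
    have := congrArg (Subtype.val : ↥N → GL (Fin 2) F) hk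
    simpa using this
  have hcomm : mn * m = m * mn := by
    have h1 : (⟨n, hn⟩ : ↥N) * (z : ↥N) = (z : ↥N) * ⟨n, hn⟩ :=
      (Subgroup.mem_center_iff.mp z.2) ⟨n, hn⟩
    have h2' : n * Z = Z * n := congrArg (Subtype.val : ↥N → GL (Fin 2) F) h1
    have h3 : (n : Matrix (Fin 2) (Fin 2) F) * (Z : Matrix (Fin 2) (Fin 2) F) =
        (Z : Matrix (Fin 2) (Fin 2) F) * (n : Matrix (Fin 2) (Fin 2) F) := by
      rw [← Units.val_mul, ← Units.val_mul, h2']
    have h3c : Commute (n : Matrix (Fin 2) (Fin 2) F) (Z : Matrix (Fin 2) (Fin 2) F) := h3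
    exact ((h3c.sub_left (Commute.one_left _)).sub_right (Commute.one_right _)).eq
  have hzero : mn * m = 0 := m2_mul_eq_zero_of_commute_sq_zero h2 mn m hmnmn hmm hcomm
  have hn' : (n : Matrix (Fin 2) (Fin 2) F) = 1 + mn := by rw [hmn]; abel
  rw [hw, hn', Matrix.add_mulVec, Matrix.one_mulVec, Matrix.mulVec_mulVec, hzero, Matrix.zero_mulVec,
    add_zero]

/-- **odd-order irreducible subgroups of `GL₂` in odd characteristic `p` are `p'`-groups** -/
theorem gl2_odd_irreducible_not_dvd (p : ℕ) [Fact p.Prime] [CharP F p] (hp : p ≠ 2)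
    (H : Subgroup (GL (Fin 2) F)) [Finite H] (hodd : Odd (Nat.card H))
    (hirr : ∀ v : Fin 2 → F, v ≠ 0 →
      ∃ g ∈ H, (g : Matrix (Fin 2) (Fin 2) F).mulVec v ∉ Submodule.span F {v}) :
    ¬ p ∣ Nat.card H := by
  intro hdvd
  have hp' : p.Prime := Fact.out
  -- the key lemma inside `H`
  have hC1 : ∀ g a : ↥H, (orderOf a).Coprime p → Commute (g * a * g⁻¹) a → Commute g a := by
    intro g a ha hc
    have hg : Odd (orderOf (g : GL (Fin 2) F)) := by
      rw [Subgroup.orderOf_coe]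
      exact Odd.of_dvd_nat hodd (orderOf_dvd_natCard g)
    have h1 : Commute ((g : GL (Fin 2) F) * (a : GL (Fin 2) F) * (g : GL (Fin 2) F)⁻¹)
        (a : GL (Fin 2) F) := by
      have := congrArg (Subtype.val : ↥H → GL (Fin 2) F) hc.eq
      show (g : GL (Fin 2) F) * (a : GL (Fin 2) F) * (g : GL (Fin 2) F)⁻¹ * (a : GL (Fin 2) F) =
        (a : GL (Fin 2) F) * ((g : GL (Fin 2) F) * (a : GL (Fin 2) F) * (g : GL (Fin 2) F)⁻¹)
      simpa using this
    have h2 := gl2_commute_of_conj_commute p hp (g : GL (Fin 2) F) (a : GL (Fin 2) F) hg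
      (by rwa [Subgroup.orderOf_coe]) h1
    exact Subtype.ext h2.eq
  -- normal `r`-complements for all primes `r ≠ p`
  have hK : ∀ r : ℕ, r.Prime → r ≠ p → ∃ K : Subgroup ↥H, K.Normal ∧ ¬ r ∣ Nat.card K ∧
      ∀ x : ↥H, (orderOf x).Coprime r → x ∈ K := by
    intro r hr hrp
    have : Fact r.Prime := ⟨hr⟩
    obtain R : Sylow r ↥H := default
    have hRp : IsPGroup r ↥(R : Subgroup ↥H) := R.isPGroup'
    have hcop : ∀ a : ↥H, a ∈ (R : Subgroup ↥H) → (orderOf a).Coprime p := by
      intro a ha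
      obtain ⟨k, hk⟩ := (IsPGroup.iff_orderOf.1 hRp) ⟨a, ha⟩
      rw [Subgroup.orderOf_mk] at hk
      rw [hk]
      exact Nat.Coprime.pow_left k ((Nat.coprime_primes hr hp').mpr hrp)
    have hRab : ∀ a ∈ (R : Subgroup ↥H), ∀ b ∈ (R : Subgroup ↥H), a * b = b * a := by
      obtain ⟨A, hAn, hAc, hAmax⟩ := exists_maximal_normal_abelian ↥(R : Subgroup ↥H)
      have hCA := centralizer_le_of_maximal_normal_abelian hRp A hAc hAmax
      have hRA : ∀ g : ↥(R : Subgroup ↥H), g ∈ A := by
        intro g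
        apply hCA
        rw [Subgroup.mem_centralizer_iff]
        intro a ha
        have h1 : Commute ((g : ↥H) * (a : ↥H) * (g : ↥H)⁻¹) (a : ↥H) := by
          have h2 : g * a * g⁻¹ ∈ A := hAn.conj_mem a ha g
          have h3 := hAc.is_comm.comm ⟨g * a * g⁻¹, h2⟩ ⟨a, ha⟩
          have h4 := congrArg (fun x : ↥A => ((x : ↥(R : Subgroup ↥H)) : ↥H)) h3
          show (g : ↥H) * (a : ↥H) * (g : ↥H)⁻¹ * (a : ↥H) =
            (a : ↥H) * ((g : ↥H) * (a : ↥H) * (g : ↥H)⁻¹)
          simpa using h4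
        have h5 := hC1 (g : ↥H) (a : ↥H) (hcop _ a.2) h1
        exact Subtype.ext h5.eq.symm
      intro a ha b hb
      have h1 := hAc.is_comm.comm ⟨⟨a, ha⟩, hRA _⟩ ⟨⟨b, hb⟩, hRA _⟩
      have := congrArg (fun x : ↥A => ((x : ↥(R : Subgroup ↥H)) : ↥H)) h1
      simpa using this
    apply Cfsg.Agent.Lib.Helper7.exists_normal_pPrime_of_normalizer_le_centralizer R
    intro g hg
    rw [Subgroup.mem_centralizer_iff]
    intro a ha
    have h1 : g * a * g⁻¹ ∈ (R : Subgroup ↥H) := (Subgroup.mem_normalizer_iff.mp hg a).mp ha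
    have h2 : Commute (g * a * g⁻¹) a := hRab _ h1 _ ha
    exact (hC1 g a (hcop a ha) h2).eq.symm
  choose K hKn hKr hKmem using hK
  set N : Subgroup ↥H := ⨅ r : {r : ℕ // r.Prime ∧ r ≠ p}, K r.1 r.2.1 r.2.2 with hNdef
  have hNn : N.Normal := Subgroup.normal_iInf_normal (fun r => hKn _ _ _)
  have hNp : IsPGroup p ↥N := by
    rw [IsPGroup.iff_orderOf]
    intro g
    have hpos : orderOf g ≠ 0 := (orderOf_pos g).ne'
    refine ⟨_, Nat.eq_prime_pow_of_unique_prime_dvd hpos ?_⟩
    intro r hr hrd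
    by_contra hrp
    have hgK : (g : ↥H) ∈ K r hr hrp := (Subgroup.mem_iInf.mp g.2) ⟨r, hr, hrp⟩
    have h1 : orderOf (g : ↥H) ∣ Nat.card (K r hr hrp) := by
      have := orderOf_dvd_natCard (⟨(g : ↥H), hgK⟩ : ↥(K r hr hrp))
      rwa [Subgroup.orderOf_mk] at this
    rw [Subgroup.orderOf_coe] at h1
    exact hKr r hr hrp (dvd_trans hrd h1)
  obtain ⟨x, hx⟩ := exists_prime_orderOf_dvd_card' (G := ↥H) p hdvd
  have hxN : x ∈ N := by
    rw [hNdef, Subgroup.mem_iInf]
    rintro ⟨r, hr, hrp⟩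
    apply hKmem
    rw [hx]
    exact (Nat.coprime_primes hp' hr).mpr (Ne.symm hrp)
  have hN1 : N ≠ ⊥ := by
    intro h0
    rw [h0, Subgroup.mem_bot] at hxN
    rw [hxN, orderOf_one] at hx
    exact hp'.one_lt.ne hx
  -- pass to `GL₂`
  set N' : Subgroup (GL (Fin 2) F) := N.map H.subtype with hN'
  have hN'fin : Finite ↥N' :=
    Finite.of_equiv ↥N (N.equivMapOfInjective H.subtype H.subtype_injective).toEquiv
  have hN'p : IsPGroup p ↥N' := hNp.map H.subtype
  have hN'1 : N' ≠ ⊥ := by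
    intro h0
    apply hN1
    rw [hN', Subgroup.map_eq_bot_iff_of_injective _ H.subtype_injective] at h0
    exact h0
  obtain ⟨w, hw0, hwfix⟩ := gl2_exists_fixed_vector p hp N' hN'p hN'1
  obtain ⟨g, hgH, hgw⟩ := hirr w hw0
  -- `N'` also fixes `g w`
  have hgwfix : ∀ n ∈ N', (n : Matrix (Fin 2) (Fin 2) F).mulVec
      ((g : Matrix (Fin 2) (Fin 2) F).mulVec w) = (g : Matrix (Fin 2) (Fin 2) F).mulVec w := by
    rintro _ ⟨n, hnN, rfl⟩
    have h1 : (⟨g, hgH⟩ : ↥H)⁻¹ * n * (⟨g, hgH⟩ : ↥H)⁻¹⁻¹ ∈ N := hNn.conj_mem n hnN _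
    have h2 : H.subtype ((⟨g, hgH⟩ : ↥H)⁻¹ * n * (⟨g, hgH⟩ : ↥H)⁻¹⁻¹) ∈ N' :=
      Subgroup.mem_map_of_mem _ h1
    have h3 := hwfix _ h2
    have h4 : H.subtype ((⟨g, hgH⟩ : ↥H)⁻¹ * n * (⟨g, hgH⟩ : ↥H)⁻¹⁻¹) = g⁻¹ * (n : GL (Fin 2) F) * g := by
      simp
    rw [h4, Units.val_mul, Units.val_mul, ← Matrix.mulVec_mulVec, ← Matrix.mulVec_mulVec] at h3
    have h5 := congrArg (fun v => (g : Matrix (Fin 2) (Fin 2) F).mulVec v) h3
    simp only [Matrix.mulVec_mulVec] at h5
    rw [← mul_assoc, ← mul_assoc, ← Units.val_mul, mul_inv_cancel, Units.val_one, one_mul,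
      ← Matrix.mulVec_mulVec] at h5
    exact h5
  -- `w` and `g w` form a basis
  have hli : LinearIndependent F ![(g : Matrix (Fin 2) (Fin 2) F).mulVec w, w] := by
    rw [linearIndependent_fin2]
    refine ⟨hw0, ?_⟩
    intro a ha
    apply hgw
    rw [Submodule.mem_span_singleton]
    exact ⟨a, ha⟩
  let bas := basisOfLinearIndependentOfCardEqFinrank hli
    (by rw [Fintype.card_fin, Module.finrank_fin_fun])
  apply hN'1
  rw [Subgroup.eq_bot_iff_forall]
  intro n hn
  apply Units.ext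
  rw [Units.val_one]
  have h1 : Matrix.toLin' ((n : Matrix (Fin 2) (Fin 2) F) - 1) = 0 := by
    apply bas.ext
    intro i
    rw [coe_basisOfLinearIndependentOfCardEqFinrank, Matrix.toLin'_apply, Matrix.sub_mulVec,
      Matrix.one_mulVec, LinearMap.zero_apply]
    fin_cases i
    · simp only [Fin.zero_eta, Fin.isValue, Matrix.cons_val_zero]
      rw [hgwfix n hn, sub_self]
    · simp only [Fin.mk_one, Fin.isValue, Matrix.cons_val_one, Matrix.cons_val_fin_one]
      rw [hwfix n hn, sub_self]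
  have h2 : (n : Matrix (Fin 2) (Fin 2) F) - 1 = 0 := by
    apply Matrix.toLin'.injective
    rw [h1, map_zero]
  exact sub_eq_zero.mp h2

end GLgroups

end Cfsg.Agent.Lib.Helper10
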