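import Mathlib
import Cfsg.Agent.Lib.Helper10.GL2Odd

set_option autoImplicit false

namespace Cfsg.Agent.Lib.Helper10

open scoped Classical

section QuadMod

variable {p : ℕ} [Fact p.Prime] {L : Type*} [Group L]

local notation "RR" => MonoidAlgebra (ZMod p) L
local notation "og" => MonoidAlgebra.of (ZMod p) L

theorem charP_monoidAlgebra : CharP (MonoidAlgebra (ZMod p) L) p :=
  charP_of_injective_algebraMap (algebraMap (ZMod p) (MonoidAlgebra (ZMod p) L)).injective p

/-- in a finite group a submonoid is closed under inverses -/
theorem inv_mem_submonoid_of_finite [Finite L] (M : Submonoid L) {g : L} (hg : g ∈ M) : g⁻¹ ∈ M := by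
  have h1 : g⁻¹ = g ^ (orderOf g - 1) := by
    have hpos := orderOf_pos g
    apply inv_eq_of_mul_eq_one_right
    rw [← pow_succ', Nat.sub_add_cancel hpos, pow_orderOf_eq_one]
  rw [h1]
  exact M.pow_mem hg _

/-- a submonoid of a finite group containing generators is everything -/
theorem mem_submonoid_of_closure_eq_top [Finite L] (M : Submonoid L) (S : Set L)
    (hS : Subgroup.closure S = ⊤) (hSM : S ⊆ M) (g : L) : g ∈ M := by
  have hg : g ∈ Subgroup.closure S := by rw [hS]; exact Subgroup.mem_top g
  induction hg using Subgroup.closure_induction with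
  | mem x hx => exact hSM hx
  | one => exact M.one_mem
  | mul x y _ _ hx hy => exact M.mul_mem hx hy
  | inv x _ hx => exact inv_mem_submonoid_of_finite M hx

variable {V : Type*} [AddCommGroup V] [Module (MonoidAlgebra (ZMod p) L) V]

/-- quadratic elements have `p`-th power acting trivially -/
theorem pow_p_smul_of_quadratic (h : L)
    (hq : ∀ v : V, (og h - 1 : RR) • (og h - 1 : RR) • v = 0) (v : V) : (og (h ^ p) : RR) • v = v := by
  have hp : p.Prime := Fact.out
  have hch : CharP (MonoidAlgebra (ZMod p) L) p := charP_monoidAlgebra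
  have h1 : (og (h ^ p) : RR) = 1 + (og h - 1 : RR) ^ p := by
    rw [map_pow]
    have h2 : (og h : RR) = 1 + (og h - 1 : RR) := by abel
    nth_rewrite 1 [h2]
    rw [add_pow_char_of_commute p (Commute.one_left _), one_pow]
  have h3 : (og h - 1 : RR) ^ p = (og h - 1 : RR) ^ (p - 2) * ((og h - 1 : RR) * (og h - 1 : RR)) := by
    rw [← pow_two, ← pow_add]
    congr 1
    have := hp.two_le
    omega
  rw [h1, add_smul, one_smul, h3, mul_smul, mul_smul, hq, smul_zero, add_zero]

/-- **simple case**: on a simple module for an odd-order group generated by two quadratic elements,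
these elements act trivially. -/
theorem quadratic_simple_case (hp2 : p ≠ 2) [Finite L] (hodd : Odd (Nat.card L)) (a b : L)
    (hgen : Subgroup.closure ({a, b} : Set L) = ⊤) [Finite V]
    [hsimple : IsSimpleModule (MonoidAlgebra (ZMod p) L) V]
    (ha : ∀ v : V, (og a - 1 : RR) • (og a - 1 : RR) • v = 0)
    (hb : ∀ v : V, (og b - 1 : RR) • (og b - 1 : RR) • v = 0) :
    ∀ v : V, (og a - 1 : RR) • v = 0 := by
  have hp : p.Prime := Fact.out
  by_contra hcon
  push Not at hcon
  obtain ⟨v0, hv0⟩ := hcon
  set Na : RR := og a - 1 with hNa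
  set Nb : RR := og b - 1 with hNb
  set w : V := Na • v0 with hw
  set u : V := Nb • w with hu
  have hNaw : Na • w = 0 := ha v0
  have hNbu : Nb • u = 0 := hb w
  have hoga : (og a : RR) = 1 + Na := by rw [hNa]; abel
  have hogb : (og b : RR) = 1 + Nb := by rw [hNb]; abel
  obtain ⟨τR, hτR⟩ : ∃ t : RR, t = Na * Nb + Nb * Na := ⟨_, rfl⟩
  have hacta : ∀ x : V, (og a : RR) • x = x + Na • x := by
    intro x
    rw [hoga, add_smul, one_smul]
  have hactb : ∀ x : V, (og b : RR) • x = x + Nb • x := by
    intro x
    rw [hogb, add_smul, one_smul]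
  have hτact : ∀ y : V, τR • y = Na • Nb • y + Nb • Na • y := by
    intro y
    rw [hτR, add_smul, mul_smul, mul_smul]
  -- `τR` commutes with the action of `L`
  have hτa : ∀ v : V, τR • (og a : RR) • v = (og a : RR) • τR • v := by
    intro v
    rw [hacta, hacta, smul_add]
    congr 1
    rw [hτact (Na • v), hτact v, smul_add, ha v, smul_zero, add_zero, ha (Nb • v), zero_add]
  have hτb : ∀ v : V, τR • (og b : RR) • v = (og b : RR) • τR • v := by
    intro v
    rw [hactb, hactb, smul_add]
    congr 1
    rw [hτact (Nb • v), hτact v, smul_add, hb v, smul_zero, zero_add, hb (Na • v), add_zero]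
  have hτg : ∀ g : L, ∀ v : V, τR • (og g : RR) • v = (og g : RR) • τR • v := by
    let M : Submonoid L :=
      { carrier := {g | ∀ v : V, τR • (og g : RR) • v = (og g : RR) • τR • v}
        one_mem' := by
          intro v
          simp only [map_one, one_smul]
        mul_mem' := by
          intro x y hx hy v
          simp only [Set.mem_ofPred_eq] at hx hy
          rw [map_mul, mul_smul, mul_smul, hx, hy] }
    intro g
    apply mem_submonoid_of_closure_eq_top M _ hgen
    rintro x (rfl | hx)
    · exact hτa
    · rw [Set.mem_singleton_iff] at hx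
      subst hx
      exact hτb
  have hτr : ∀ r : RR, ∀ v : V, τR • r • v = r • τR • v := by
    intro r
    induction r using MonoidAlgebra.induction_on with
    | of g => exact hτg g
    | add x y hx hy =>
      intro v
      rw [add_smul, add_smul, smul_add, hx, hy]
    | smul c x hx =>
      intro v
      rw [Algebra.smul_def, mul_smul, mul_smul, ← mul_smul, ← Algebra.commutes, mul_smul, hx]
  -- the field `D = End_R(V)`
  have hDfin : Finite (Module.End RR V) :=
    Finite.of_injective (fun f => (f : V → V)) DFunLike.coe_injective
  let τD : Module.End RR V :=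
    { toFun := fun v => τR • v
      map_add' := fun x y => smul_add _ _ _
      map_smul' := fun r v => hτr r v }
  have hτD : ∀ v : V, τD • v = τR • v := fun v => rfl
  -- scalars from `ZMod p` as elements of `D`
  let δ : ZMod p → Module.End RR V := fun c =>
    { toFun := fun v => (algebraMap (ZMod p) RR c) • v
      map_add' := fun x y => smul_add _ _ _
      map_smul' := fun r v => by
        simp only [RingHom.id_apply]
        rw [← mul_smul, ← mul_smul, Algebra.commutes] }
  have hδ : ∀ (c : ZMod p) (v : V), δ c • v = (algebraMap (ZMod p) RR c) • v := by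
    intro c v
    rw [Module.End.smul_def]
    rfl
  -- the `D`-linear action of `L`
  let ρ : L →* (V →ₗ[Module.End RR V] V) :=
    { toFun := fun g =>
        { toFun := fun v => (og g : RR) • v
          map_add' := fun x y => smul_add _ _ _
          map_smul' := fun f v => by
            simp only [RingHom.id_apply, Module.End.smul_def]
            exact (f.map_smul _ _).symm }
      map_one' := by
        ext v
        show (og (1 : L) : RR) • v = v
        rw [map_one, one_smul]
      map_mul' := by
        intro x y
        ext v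
        show (og (x * y) : RR) • v = (og x : RR) • (og y : RR) • v
        rw [map_mul, mul_smul] }
  have hρ : ∀ g v, ρ g v = (og g : RR) • v := fun g v => rfl
  set T : Submodule (Module.End RR V) V := Submodule.span (Module.End RR V) {w, u} with hT
  have hwT : w ∈ T := Submodule.subset_span (Set.mem_insert _ _)
  have huT : u ∈ T := Submodule.subset_span (Set.mem_insert_of_mem _ rfl)
  -- `T` is `L`-invariant
  have hTinv : ∀ g : L, ∀ x ∈ T, (og g : RR) • x ∈ T := by
    let M : Submonoid L :=
      { carrier := {g | ∀ x ∈ T, (og g : RR) • x ∈ T}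
        one_mem' := by
          intro x hx
          rw [map_one, one_smul]
          exact hx
        mul_mem' := by
          intro g h hg hh x hx
          simp only [Set.mem_ofPred_eq] at hg hh
          rw [map_mul, mul_smul]
          exact hg _ (hh x hx) }
    intro g
    apply mem_submonoid_of_closure_eq_top M _ hgen
    rintro y (rfl | hy)
    · -- the generator `a`
      intro x hx
      have hle : T ≤ T.comap (ρ y) := by
        rw [hT, Submodule.span_le]
        rintro z (rfl | hz)
        · show ρ y w ∈ T
          rw [hρ, hacta, hNaw, add_zero]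
          exact hwT
        · rw [Set.mem_singleton_iff] at hz
          subst hz
          show ρ y u ∈ T
          rw [hρ, hacta]
          have h1 : Na • u = τD • w := by
            rw [hτD, hτact, hNaw, smul_zero, add_zero]
          rw [h1]
          exact T.add_mem huT (T.smul_mem _ hwT)
      exact hle hx
    · rw [Set.mem_singleton_iff] at hy
      subst hy
      intro x hx
      have hle : T ≤ T.comap (ρ y) := by
        rw [hT, Submodule.span_le]
        rintro z (rfl | hz)
        · show ρ y w ∈ T
          rw [hρ, hactb]
          exact T.add_mem hwT huT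
        · rw [Set.mem_singleton_iff] at hz
          subst hz
          show ρ y u ∈ T
          rw [hρ, hactb, hNbu, add_zero]
          exact huT
      exact hle hx
  -- an `L`-invariant `D`-subspace containing a nonzero vector is everything
  have hspan_top : ∀ (T' : Submodule (Module.End RR V) V) (x0 : V), x0 ≠ 0 → x0 ∈ T' →
      (∀ g : L, ∀ x ∈ T', (og g : RR) • x ∈ T') → ∀ v : V, v ∈ T' := by
    intro T' x0 hx0 hx0T hinv v
    obtain ⟨r, hr⟩ := IsSimpleModule.toSpanSingleton_surjective RR hx0 v
    rw [LinearMap.toSpanSingleton_apply] at hr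
    rw [← hr]
    clear hr
    induction r using MonoidAlgebra.induction_on with
    | of g => exact hinv g x0 hx0T
    | add x y hx hy =>
      rw [add_smul]
      exact T'.add_mem hx hy
    | smul c x hx =>
      rw [Algebra.smul_def, mul_smul, ← hδ]
      exact T'.smul_mem _ hx
  have hTtop : ∀ v : V, v ∈ T := hspan_top T w hv0 hwT hTinv
  -- `w`, `u` are independent over `D`
  have hnd : ∀ α : Module.End RR V, α • w ≠ u := by
    intro α hα
    apply hv0
    obtain ⟨β, γ, hv⟩ := Submodule.mem_span_pair.mp (hTtop v0)
    have h1 : ∀ f : Module.End RR V, Na • (f • w) = 0 := by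
      intro f
      rw [Module.End.smul_def, ← f.map_smul, hNaw, map_zero]
    have h2 : Na • v0 = 0 := by
      rw [← hv, smul_add, ← hα, ← mul_smul, h1, h1, add_zero]
    exact h2
  have hli : LinearIndependent (Module.End RR V) ![u, w] := by
    rw [linearIndependent_fin2]
    refine ⟨by simpa using hv0, ?_⟩
    intro α hα
    exact hnd α (by simpa using hα)
  have hsp : ⊤ ≤ Submodule.span (Module.End RR V) (Set.range ![u, w]) := by
    intro v _
    have h1 : T ≤ Submodule.span (Module.End RR V) (Set.range ![u, w]) := by
      rw [hT]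
      apply Submodule.span_mono
      rintro z (rfl | hz)
      · exact ⟨1, by simp⟩
      · rw [Set.mem_singleton_iff] at hz
        subst hz
        exact ⟨0, by simp⟩
    exact h1 (hTtop v)
  let bas : Module.Basis (Fin 2) (Module.End RR V) V := Module.Basis.mk hli hsp
  let M : L →* Matrix (Fin 2) (Fin 2) (Module.End RR V) :=
    { toFun := fun g => LinearMap.toMatrix bas bas (ρ g)
      map_one' := by
        rw [map_one]
        exact LinearMap.toMatrix_one bas
      map_mul' := fun x y => by
        rw [map_mul]
        exact LinearMap.toMatrix_mul bas _ _ }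
  let M' : L →* GL (Fin 2) (Module.End RR V) := M.toHomUnits
  have hM' : ∀ g : L, ((M' g : GL (Fin 2) (Module.End RR V)) :
      Matrix (Fin 2) (Fin 2) (Module.End RR V)) = LinearMap.toMatrix bas bas (ρ g) := fun g => rfl
  have hcharD : CharP (Module.End RR V) p := by
    have h0 : ((p : ℕ) : Module.End RR V) = 0 := by
      ext v
      have hch : CharP RR p := charP_monoidAlgebra
      have h1 : ((p : ℕ) : RR) = 0 := CharP.cast_eq_zero RR p
      rw [Module.End.natCast_apply, LinearMap.zero_apply, ← Nat.cast_smul_eq_nsmul RR, h1, zero_smul]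
    have h1 := CharP.ringChar_of_prime_eq_zero hp h0
    have h2 := ringChar.charP (Module.End RR V)
    rwa [h1] at h2
  have hHfin : Finite ↥M'.range :=
    Finite.of_surjective M'.rangeRestrict M'.rangeRestrict_surjective
  have hodd' : Odd (Nat.card ↥M'.range) := Odd.of_dvd_nat hodd (Subgroup.card_range_dvd M')
  have hirr : ∀ x : Fin 2 → Module.End RR V, x ≠ 0 → ∃ g ∈ M'.range,
      (g : Matrix (Fin 2) (Fin 2) (Module.End RR V)).mulVec x ∉
        Submodule.span (Module.End RR V) {x} := by
    intro x hx
    by_contra hall
    push Not at hall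
    set v : V := bas.equivFun.symm x with hv
    have hxv : x = ⇑(bas.repr v) := by
      rw [← Module.Basis.equivFun_apply, hv, LinearEquiv.apply_symm_apply]
    have hvne : v ≠ 0 := by
      intro h0
      apply hx
      rw [hxv, h0, map_zero]
      rfl
    have hinv : ∀ g : L, ∀ y ∈ Submodule.span (Module.End RR V) {v},
        (og g : RR) • y ∈ Submodule.span (Module.End RR V) {v} := by
      intro g y hy
      obtain ⟨c, rfl⟩ := Submodule.mem_span_singleton.mp hy
      have h1 := hall (M' g) (MonoidHom.mem_range.mpr ⟨g, rfl⟩)
      obtain ⟨d, hd⟩ := Submodule.mem_span_singleton.mp h1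
      rw [hM', hxv, LinearMap.toMatrix_mulVec_repr] at hd
      have h2 : bas.repr (d • v) = bas.repr (ρ g v) := by
        apply DFunLike.coe_injective
        rw [← hd, map_smul]
        rfl
      have h3 : d • v = ρ g v := bas.repr.injective h2
      have h4 : (og g : RR) • (c • v) = c • ((og g : RR) • v) := by
        rw [Module.End.smul_def, Module.End.smul_def, c.map_smul]
      rw [h4, ← hρ, ← h3, smul_smul]
      exact Submodule.smul_mem _ _ (Submodule.mem_span_singleton_self v)
    have htop := hspan_top _ v hvne (Submodule.mem_span_singleton_self v) hinv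
    obtain ⟨α, hα⟩ := Submodule.mem_span_singleton.mp (htop w)
    obtain ⟨β, hβ⟩ := Submodule.mem_span_singleton.mp (htop u)
    have hα0 : α ≠ 0 := by
      rintro rfl
      rw [zero_smul] at hα
      exact hv0 hα.symm
    apply hnd (β * α⁻¹)
    rw [← hα, smul_smul, mul_assoc, inv_mul_cancel₀ hα0, mul_one, hβ]
  have hnd' := gl2_odd_irreducible_not_dvd p hp2 M'.range hodd' hirr
  apply hnd'
  have hMap : (M' a) ^ p = 1 := by
    rw [← map_pow]
    apply Units.ext
    rw [hM', Units.val_one]
    have h1 : ρ (a ^ p) = 1 := by
      ext v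
      rw [hρ]
      exact pow_p_smul_of_quadratic a ha v
    rw [h1]
    exact LinearMap.toMatrix_one bas
  have hMa1 : M' a ≠ 1 := by
    intro h1
    apply hv0
    have h2 : LinearMap.toMatrix bas bas (ρ a) = LinearMap.toMatrix bas bas 1 := by
      rw [← hM', h1, Units.val_one, LinearMap.toMatrix_one]
    have h3 : ρ a = 1 := (LinearMap.toMatrix bas bas).injective h2
    have h4 : ρ a v0 = v0 := by rw [h3]; rfl
    rw [hρ, hacta] at h4
    have h5 : Na • v0 = 0 := by
      have := sub_eq_zero.mpr h4
      rwa [add_sub_cancel_left] at this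
    exact h5
  have hord : orderOf (M' a) = p := orderOf_eq_prime hMap hMa1
  have hmem : M' a ∈ M'.range := MonoidHom.mem_range.mpr ⟨a, rfl⟩
  have h6 : orderOf (⟨M' a, hmem⟩ : ↥M'.range) ∣ Nat.card ↥M'.range := orderOf_dvd_natCard _
  rw [Subgroup.orderOf_mk, hord] at h6
  exact h6

/-- if `x` acts trivially then so do its powers -/
theorem og_pow_smul_of_smul_eq (x : L) (hx : ∀ v : V, (og x : RR) • v = v) (m : ℕ) (v : V) :
    (og (x ^ m) : RR) • v = v := by
  induction m with
  | zero => rw [pow_zero, map_one, one_smul]
  | succ m ih => rw [pow_succ, map_mul, mul_smul, hx, ih]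

end QuadMod

section QuadInd

universe u v

variable {p : ℕ} [Fact p.Prime] {L : Type u} [Group L]

local notation "RR" => MonoidAlgebra (ZMod p) L
local notation "og" => MonoidAlgebra.of (ZMod p) L

/-- **quadratic pairs in odd-order groups**: if the finite group `L` of odd order is generated by
`a` and `b`, both acting quadratically on the finite `𝔽_p[L]`-module `V` (`p` odd), then `L` acts on
`V` as a `p`-group: every element has a `p`-power acting trivially. -/
theorem quadratic_pgroup_action (hp2 : p ≠ 2) [Finite L] (hodd : Odd (Nat.card L)) (a b : L)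
    (hgen : Subgroup.closure ({a, b} : Set L) = ⊤) :
    ∀ (n : ℕ) (V : Type v) [AddCommGroup V] [Module (MonoidAlgebra (ZMod p) L) V] [Finite V],
      Nat.card V = n →
      (∀ v : V, (og a - 1 : RR) • (og a - 1 : RR) • v = 0) →
      (∀ v : V, (og b - 1 : RR) • (og b - 1 : RR) • v = 0) →
      ∀ g : L, ∃ k : ℕ, ∀ v : V, (og (g ^ p ^ k) : RR) • v = v := by
  intro n
  induction n using Nat.strong_induction_on with
  | _ n ih =>
    intro V _ _ _ hcard ha hb g
    by_cases hsub : ∃ W : Submodule RR V, W ≠ ⊥ ∧ W ≠ ⊤
    · obtain ⟨W, hW0, hW1⟩ := hsub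
      have hmul := Submodule.card_eq_card_quotient_mul_card W
      have hQfin : Finite (V ⧸ W) := Finite.of_surjective _ (Submodule.Quotient.mk_surjective W)
      have hWnt : Nontrivial ↥W := Submodule.nontrivial_iff_ne_bot.mpr hW0
      have hQnt : Nontrivial (V ⧸ W) := Submodule.Quotient.nontrivial_iff.mpr hW1
      have hWc : 1 < Nat.card ↥W := Finite.one_lt_card_iff_nontrivial.mpr hWnt
      have hQc : 1 < Nat.card (V ⧸ W) := Finite.one_lt_card_iff_nontrivial.mpr hQnt
      have hWlt : Nat.card ↥W < n := by
        rw [← hcard, hmul]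
        nlinarith
      have hQlt : Nat.card (V ⧸ W) < n := by
        rw [← hcard, hmul]
        nlinarith
      obtain ⟨k1, hk1⟩ := ih _ hWlt ↥W rfl
        (fun w => Subtype.ext (by
          rw [Submodule.coe_smul, Submodule.coe_smul]
          exact ha w.1))
        (fun w => Subtype.ext (by
          rw [Submodule.coe_smul, Submodule.coe_smul]
          exact hb w.1)) g
      obtain ⟨k2, hk2⟩ := ih _ hQlt (V ⧸ W) rfl
        (fun q => by
          obtain ⟨v, rfl⟩ := Submodule.Quotient.mk_surjective W q
          rw [← Submodule.Quotient.mk_smul, ← Submodule.Quotient.mk_smul, ha v,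
            Submodule.Quotient.mk_zero])
        (fun q => by
          obtain ⟨v, rfl⟩ := Submodule.Quotient.mk_surjective W q
          rw [← Submodule.Quotient.mk_smul, ← Submodule.Quotient.mk_smul, hb v,
            Submodule.Quotient.mk_zero]) g
      set h : L := g ^ p ^ (k1 + k2) with hh
      have hh1 : h = (g ^ p ^ k1) ^ p ^ k2 := by rw [hh, pow_add, pow_mul]
      have hh2 : h = (g ^ p ^ k2) ^ p ^ k1 := by rw [hh, add_comm, pow_add, pow_mul]
      have hW : ∀ w ∈ W, (og h : RR) • w = w := by
        intro w hw
        have h1 := og_pow_smul_of_smul_eq (V := ↥W) (g ^ p ^ k1) hk1 (p ^ k2) ⟨w, hw⟩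
        rw [← hh1] at h1
        have h2 := congrArg Subtype.val h1
        rwa [Submodule.coe_smul] at h2
      have hQ : ∀ v : V, (og h - 1 : RR) • v ∈ W := by
        intro v
        have h1 := og_pow_smul_of_smul_eq (V := V ⧸ W) (g ^ p ^ k2) hk2 (p ^ k1)
          (Submodule.Quotient.mk v)
        rw [← hh2, ← Submodule.Quotient.mk_smul] at h1
        rw [← Submodule.Quotient.mk_eq_zero W, sub_smul, one_smul, Submodule.Quotient.mk_sub, h1,
          sub_self]
      have hquad : ∀ v : V, (og h - 1 : RR) • (og h - 1 : RR) • v = 0 := by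
        intro v
        have h1 := hW _ (hQ v)
        rw [sub_smul, one_smul, h1, sub_self]
      refine ⟨k1 + k2 + 1, fun v => ?_⟩
      have h3 : g ^ p ^ (k1 + k2 + 1) = h ^ p := by rw [hh, pow_succ, pow_mul]
      rw [h3]
      exact pow_p_smul_of_quadratic h hquad v
    · push Not at hsub
      refine ⟨0, ?_⟩
      rw [pow_zero, pow_one]
      by_cases hV : Subsingleton V
      · intro v
        exact Subsingleton.elim _ _
      · rw [not_subsingleton_iff_nontrivial] at hV
        have hso : IsSimpleOrder (Submodule RR V) :=
          { exists_pair_ne := ⟨⊥, ⊤, bot_ne_top⟩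
            eq_bot_or_eq_top := fun W => by
              by_cases h0 : W = ⊥
              · exact Or.inl h0
              · exact Or.inr (hsub W h0) }
        have hsimple : IsSimpleModule RR V := ⟨⟩
        have hNa := quadratic_simple_case hp2 hodd a b hgen ha hb
        have hgen' : Subgroup.closure ({b, a} : Set L) = ⊤ := by rw [Set.pair_comm]; exact hgen
        have hNb := quadratic_simple_case hp2 hodd b a hgen' hb ha
        let M : Submonoid L :=
          { carrier := {g | ∀ v : V, (og g : RR) • v = v}
            one_mem' := by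
              intro v
              rw [map_one, one_smul]
            mul_mem' := by
              intro x y hx hy v
              simp only [Set.mem_ofPred_eq] at hx hy
              rw [map_mul, mul_smul, hy, hx] }
        apply mem_submonoid_of_closure_eq_top M _ hgen
        rintro x (rfl | hx)
        · intro v
          have h1 : (og x : RR) = 1 + (og x - 1 : RR) := by abel
          rw [h1, add_smul, one_smul, hNa, add_zero]
        · rw [Set.mem_singleton_iff] at hx
          subst hx
          intro v
          have h1 : (og x : RR) = 1 + (og x - 1 : RR) := by abel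
          rw [h1, add_smul, one_smul, hNb, add_zero]

/-- representation form of `quadratic_pgroup_action` -/
theorem quadratic_pgroup_rep (hp2 : p ≠ 2) [Finite L] (hodd : Odd (Nat.card L)) (a b : L)
    (hgen : Subgroup.closure ({a, b} : Set L) = ⊤) {V : Type v} [AddCommGroup V]
    [Module (ZMod p) V] [Finite V] (ρ : Representation (ZMod p) L V)
    (ha : ∀ v : V, (ρ a - 1) ((ρ a - 1) v) = 0) (hb : ∀ v : V, (ρ b - 1) ((ρ b - 1) v) = 0) :
    ∀ g : L, ∃ k : ℕ, ∀ v : V, ρ (g ^ p ^ k) v = v := by
  intro g
  have hfin : Finite ρ.asModule := Finite.of_equiv V ρ.asModuleEquiv.symm.toEquiv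
  have hkey : ∀ (c : L) (x : ρ.asModule),
      ρ.asModuleEquiv ((og c - 1 : RR) • x) = (ρ c - 1) (ρ.asModuleEquiv x) := by
    intro c x
    rw [Representation.asModuleEquiv_map_smul, map_sub, map_one, Representation.asAlgebraHom_of]
  obtain ⟨k, hk⟩ := quadratic_pgroup_action hp2 hodd a b hgen _ ρ.asModule rfl
    (fun x => ρ.asModuleEquiv.injective (by rw [hkey, hkey, map_zero]; exact ha _))
    (fun x => ρ.asModuleEquiv.injective (by rw [hkey, hkey, map_zero]; exact hb _)) g
  refine ⟨k, fun v => ?_⟩
  have h1 := hk (ρ.asModuleEquiv.symm v)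
  have h2 := congrArg ρ.asModuleEquiv h1
  rw [Representation.asModuleEquiv_map_smul, Representation.asAlgebraHom_of,
    LinearEquiv.apply_symm_apply] at h2
  exact h2

end QuadInd

end Cfsg.Agent.Lib.Helper10
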