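import Mathlib
import Cfsg.Agent.Lib.Helper10.QuadraticOdd
import Cfsg.Agent.S4208
import Cfsg.Agent.Lib.Helper1.Frattini
import Cfsg.Agent.Lib.Helper1.BaerSuzuki

set_option autoImplicit false

namespace Cfsg.Agent.Lib.Helper10

open scoped Classical
open scoped commutatorElement

section QuadAut

universe u v

variable {p : ℕ} [Fact p.Prime] {L : Type u} [Group L]

/-- quadratic pairs acting on an elementary abelian group (instances as arguments). -/
theorem quadratic_pair_aut_comm (hp2 : p ≠ 2) [Finite L] (hodd : Odd (Nat.card L)) (a b : L)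
    (hgen : Subgroup.closure ({a, b} : Set L) = ⊤) {Q : Type v} [CommGroup Q] [Finite Q]
    [Module (ZMod p) (Additive Q)] (ψ : L →* MulAut Q)
    (ha : ∀ x : Q, ψ a (x * (ψ a x)⁻¹) = x * (ψ a x)⁻¹)
    (hb : ∀ x : Q, ψ b (x * (ψ b x)⁻¹) = x * (ψ b x)⁻¹) :
    ∀ g : L, ∃ k : ℕ, ψ (g ^ p ^ k) = 1 := by
  let F : L → (Additive Q →ₗ[ZMod p] Additive Q) := fun g =>
    (MulEquiv.toAdditive (ψ g)).toAddMonoidHom.toZModLinearMap p
  have hF : ∀ (g : L) (v : Additive Q),
      F g v = Additive.ofMul (ψ g (Additive.toMul v)) := fun g v => rfl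
  have hF1 : F 1 = 1 := by
    ext v
    rw [hF, map_one]
    rfl
  have hFm : ∀ g h : L, F (g * h) = F g * F h := by
    intro g h
    ext v
    rw [hF, map_mul]
    rfl
  let ρ : Representation (ZMod p) L (Additive Q) :=
    { toFun := F
      map_one' := hF1
      map_mul' := hFm }
  have hρ : ∀ (g : L) (v : Additive Q), ρ g v = Additive.ofMul (ψ g (Additive.toMul v)) :=
    fun g v => rfl
  have hquad : ∀ c : L, (∀ x : Q, ψ c (x * (ψ c x)⁻¹) = x * (ψ c x)⁻¹) →
      ∀ v : Additive Q, (ρ c - 1) ((ρ c - 1) v) = 0 := by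
    intro c hc v
    have h1 : (ρ c - 1) v = - Additive.ofMul (Additive.toMul v * (ψ c (Additive.toMul v))⁻¹) := by
      rw [LinearMap.sub_apply, Module.End.one_apply, hρ, ofMul_mul, ofMul_inv]
      simp only [ofMul_toMul]
      abel
    rw [h1, map_neg, LinearMap.sub_apply, Module.End.one_apply, hρ, toMul_ofMul, hc, sub_self,
      neg_zero]
  have hfin : Finite (Additive Q) := Finite.of_equiv Q Additive.ofMul
  intro g
  obtain ⟨k, hk⟩ := quadratic_pgroup_rep hp2 hodd a b hgen ρ (hquad a ha) (hquad b hb) g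
  refine ⟨k, ?_⟩
  ext x
  have h1 := hk (Additive.ofMul x)
  rw [hρ, toMul_ofMul] at h1
  exact congrArg Additive.toMul h1

/-- **quadratic pairs of automorphisms**: a finite group `L` of odd order generated by `a`, `b`,
acting on a finite `p`-group `P0` (`p` odd) with `a` and `b` quadratic (`[x, a]` fixed by `a`),
acts as a `p`-group. -/
theorem quadratic_pair_aut (hp2 : p ≠ 2) [Finite L] (hodd : Odd (Nat.card L)) (a b : L)
    (hgen : Subgroup.closure ({a, b} : Set L) = ⊤) {P0 : Type v} [Group P0] [Finite P0]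
    (hP : IsPGroup p P0) (φ : L →* MulAut P0)
    (ha : ∀ x : P0, φ a (x * (φ a x)⁻¹) = x * (φ a x)⁻¹)
    (hb : ∀ x : P0, φ b (x * (φ b x)⁻¹) = x * (φ b x)⁻¹) :
    ∀ g : L, ∃ k : ℕ, φ (g ^ p ^ k) = 1 := by
  have hp : p.Prime := Fact.out
  -- the Frattini quotient is elementary abelian
  have hcomm : ∀ x y : P0 ⧸ frattini P0, x * y = y * x := by
    intro x y
    obtain ⟨x, rfl⟩ := QuotientGroup.mk_surjective x
    obtain ⟨y, rfl⟩ := QuotientGroup.mk_surjective y
    rw [← QuotientGroup.mk_mul, ← QuotientGroup.mk_mul, QuotientGroup.eq]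
    apply Cfsg.Agent.Lib.Helper1.IsPGroup.commutator_le_frattini hP
    have h1 : (x * y)⁻¹ * (y * x) = ⁅y⁻¹, x⁻¹⁆ := by
      rw [commutatorElement_def]; group
    rw [h1]
    exact Subgroup.commutator_mem_commutator (Subgroup.mem_top _) (Subgroup.mem_top _)
  have hexp : ∀ x : P0 ⧸ frattini P0, x ^ p = 1 := by
    intro x
    obtain ⟨x, rfl⟩ := QuotientGroup.mk_surjective x
    rw [← QuotientGroup.mk_pow, QuotientGroup.eq_one_iff]
    exact Cfsg.Agent.Lib.Helper1.IsPGroup.pow_mem_frattini hP x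
  let iC : CommGroup (P0 ⧸ frattini P0) :=
    { (inferInstance : Group (P0 ⧸ frattini P0)) with mul_comm := hcomm }
  let iM : @Module (ZMod p) (Additive (P0 ⧸ frattini P0)) _
      (@AddCommGroup.toAddCommMonoid _ (@Additive.addCommGroup _ iC)) :=
    @AddCommGroup.zmodModule p (Additive (P0 ⧸ frattini P0)) (@Additive.addCommGroup _ iC) (by
      intro x
      show Additive.ofMul ((Additive.toMul x) ^ p) = 0
      rw [hexp]
      rfl)
  -- the induced action on the Frattini quotient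
  let φ1 : L →* MulAut (P0 ⧸ frattini P0) := (Cfsg.Agent.S4208.frattiniHom P0).comp φ
  have hφ1 : ∀ (g : L) (x : P0), φ1 g (QuotientGroup.mk x) = QuotientGroup.mk (φ g x) :=
    fun g x => rfl
  have hquadQ : ∀ c : L, (∀ x : P0, φ c (x * (φ c x)⁻¹) = x * (φ c x)⁻¹) →
      ∀ q : P0 ⧸ frattini P0, φ1 c (q * (φ1 c q)⁻¹) = q * (φ1 c q)⁻¹ := by
    intro c hc q
    obtain ⟨x, rfl⟩ := QuotientGroup.mk_surjective q
    rw [hφ1, ← QuotientGroup.mk_inv, ← QuotientGroup.mk_mul, hφ1, hc]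
  have key := @quadratic_pair_aut_comm p _ L _ hp2 _ hodd a b hgen (P0 ⧸ frattini P0) iC
    inferInstance iM φ1 (hquadQ a ha) (hquadQ b hb)
  intro g
  obtain ⟨k, hk⟩ := key g
  -- `α = φ (g ^ p ^ k)` acts trivially on the Frattini quotient
  set α : MulAut P0 := φ (g ^ p ^ k) with hα
  have hαker : α ∈ (Cfsg.Agent.S4208.frattiniHom P0).ker := by
    rw [MonoidHom.mem_ker]
    exact hk
  obtain ⟨n, hn⟩ := hP.exists_card_eq
  obtain ⟨r, hr⟩ := hP.index (frattini P0)
  have hdvd := Cfsg.Agent.S4207.result hn hr (Subgroup.zpowers α) (by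
    intro β hβ x
    have hβker : β ∈ (Cfsg.Agent.S4208.frattiniHom P0).ker :=
      (Subgroup.zpowers_le.mpr hαker) hβ
    rw [MonoidHom.mem_ker] at hβker
    have h2 : Cfsg.Agent.S4208.frattiniHom P0 β (QuotientGroup.mk x) = QuotientGroup.mk x := by
      rw [hβker]; rfl
    rw [Cfsg.Agent.S4208.frattiniHom_mk, QuotientGroup.eq_iff_div_mem, div_eq_mul_inv] at h2
    exact h2)
  rw [Nat.card_zpowers] at hdvd
  refine ⟨k + r * (n - r), ?_⟩
  rw [pow_add, pow_mul, map_pow, ← hα]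
  exact orderOf_dvd_iff_pow_eq_one.mp hdvd

end QuadAut

section GroupForm

universe u

variable {p : ℕ} [Fact p.Prime] {G : Type u} [Group G]

/-- conjugation action of a subgroup of `N_G(P)` on `P`. -/
def conjActHom (P L : Subgroup G) (hL : L ≤ Subgroup.normalizer (P : Set G)) : L →* MulAut P where
  toFun g := Cfsg.Agent.Lib.Helper1.conjNormalizer P g (hL g.2)
  map_one' := by
    ext x
    simp [Cfsg.Agent.Lib.Helper1.conjNormalizer]
  map_mul' g h := by
    ext x
    simp [Cfsg.Agent.Lib.Helper1.conjNormalizer, mul_assoc]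

theorem conjActHom_apply (P L : Subgroup G) (hL : L ≤ Subgroup.normalizer (P : Set G)) (g : L)
    (x : P) : ((conjActHom P L hL g x : P) : G) = g * x * (g : G)⁻¹ := rfl

/-- quadratic action is preserved under conjugation by the normalizer. -/
theorem quadratic_conj (P : Subgroup G) (n x : G) (hn : n ∈ Subgroup.normalizer (P : Set G))
    (hx : ∀ z ∈ P, ⁅⁅z, x⁆, x⁆ = 1) : ∀ z ∈ P, ⁅⁅z, n * x * n⁻¹⁆, n * x * n⁻¹⁆ = 1 := by
  intro z hz
  have hz' : n⁻¹ * z * n ∈ P := by
    have := (Subgroup.mem_normalizer_iff.mp (inv_mem hn) z).mp hz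
    simpa using this
  have h1 := hx _ hz'
  have h2 : ⁅⁅z, n * x * n⁻¹⁆, n * x * n⁻¹⁆ = n * ⁅⁅n⁻¹ * z * n, x⁆, x⁆ * n⁻¹ := by
    simp only [commutatorElement_def]
    group
  rw [h2, h1]
  group

/-- **p-stability core for odd order**: two elements of `N_G(P)` acting quadratically on the
`p`-subgroup `P` (`p` odd) and generating a group of odd order generate a `p`-group modulo
`C_G(P)`. -/
theorem quadratic_pair_subgroup [Finite G] (hp2 : p ≠ 2) (P : Subgroup G) (hP : IsPGroup p P)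
    (a b : G) (ha : a ∈ Subgroup.normalizer (P : Set G))
    (hb : b ∈ Subgroup.normalizer (P : Set G))
    (hodd : Odd (Nat.card (Subgroup.closure ({a, b} : Set G))))
    (hqa : ∀ z ∈ P, ⁅⁅z, a⁆, a⁆ = 1) (hqb : ∀ z ∈ P, ⁅⁅z, b⁆, b⁆ = 1) :
    ∀ g ∈ Subgroup.closure ({a, b} : Set G),
      ∃ k : ℕ, g ^ p ^ k ∈ Subgroup.centralizer (P : Set G) := by
  obtain ⟨L, hL⟩ : ∃ L : Subgroup G, L = Subgroup.closure ({a, b} : Set G) := ⟨_, rfl⟩
  rw [← hL] at hodd ⊢
  have hLN : L ≤ Subgroup.normalizer (P : Set G) := by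
    rw [hL, Subgroup.closure_le]
    rintro x (rfl | rfl)
    · exact ha
    · exact hb
  have haL : a ∈ L := by rw [hL]; exact Subgroup.subset_closure (by simp)
  have hbL : b ∈ L := by rw [hL]; exact Subgroup.subset_closure (by simp)
  have hgen : Subgroup.closure ({⟨a, haL⟩, ⟨b, hbL⟩} : Set L) = ⊤ := by
    rw [eq_top_iff]
    rintro ⟨g, hg⟩ -
    have hg' := hg
    rw [hL] at hg'
    have hmap : (Subgroup.closure ({⟨a, haL⟩, ⟨b, hbL⟩} : Set L)).map L.subtype
        = Subgroup.closure ({a, b} : Set G) := by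
      rw [MonoidHom.map_closure, Set.image_pair]
      rfl
    rw [← hmap] at hg'
    obtain ⟨g1, hg1, hg1g⟩ := hg'
    have : g1 = ⟨g, hg⟩ := Subtype.ext hg1g
    rw [← this]
    exact hg1
  have hquad : ∀ c : L, (∀ z ∈ P, ⁅⁅z, (c : G)⁆, (c : G)⁆ = 1) →
      ∀ x : P, conjActHom P L hLN c (x * (conjActHom P L hLN c x)⁻¹)
        = x * (conjActHom P L hLN c x)⁻¹ := by
    intro c hc x
    apply Subtype.ext
    rw [conjActHom_apply, Subgroup.coe_mul, Subgroup.coe_inv, conjActHom_apply]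
    have h1 := hc x x.2
    rw [commutatorElement_eq_one_iff_commute] at h1
    have h2 : ⁅(x : G), (c : G)⁆ = x * ((c : G) * x * (c : G)⁻¹)⁻¹ := by
      rw [commutatorElement_def]
      group
    rw [← h2]
    have h3 : (c : G) * ⁅(x : G), (c : G)⁆ = ⁅(x : G), (c : G)⁆ * c := h1.eq.symm
    rw [h3]
    group
  have key := quadratic_pair_aut hp2 hodd ⟨a, haL⟩ ⟨b, hbL⟩ hgen hP (conjActHom P L hLN)
    (hquad ⟨a, haL⟩ hqa) (hquad ⟨b, hbL⟩ hqb)
  intro g hg
  obtain ⟨k, hk⟩ := key ⟨g, hg⟩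
  refine ⟨k, ?_⟩
  rw [Subgroup.mem_centralizer_iff]
  intro x hx
  have h1 : conjActHom P L hLN (⟨g, hg⟩ ^ p ^ k) ⟨x, hx⟩ = ⟨x, hx⟩ := by
    rw [hk]
    rfl
  have h2 := congrArg (fun y : P => (y : G)) h1
  simp only [conjActHom_apply, Subgroup.coe_pow] at h2
  have h3 : g ^ p ^ k * x = x * g ^ p ^ k := by
    calc g ^ p ^ k * x = g ^ p ^ k * x * (g ^ p ^ k)⁻¹ * g ^ p ^ k := by group
      _ = x * g ^ p ^ k := by rw [h2]
  exact h3.symm

/-- In a group of odd order, the image in `N_G(P)/C_G(P)` of an element acting quadratically on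
the `p`-subgroup `P` (`p` odd) lies in `O_p(N_G(P)/C_G(P))`. -/
theorem quadratic_image_mem_pCore [Finite G] (hodd : Odd (Nat.card G)) (hp2 : p ≠ 2)
    (P : Subgroup G) (hP : IsPGroup p P) (x : ↥(Subgroup.normalizer (P : Set G)))
    (hx : ∀ z ∈ P, ⁅⁅z, (x : G)⁆, (x : G)⁆ = 1) :
    QuotientGroup.mk' ((Subgroup.centralizer (P : Set G)).subgroupOf
        (Subgroup.normalizer (P : Set G))) x ∈ Cfsg.pCore p _ := by
  let K : Set (↥(Subgroup.normalizer (P : Set G)) ⧸
      (Subgroup.centralizer (P : Set G)).subgroupOf (Subgroup.normalizer (P : Set G))) :=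
    {q | ∃ y : ↥(Subgroup.normalizer (P : Set G)), (∀ z ∈ P, ⁅⁅z, (y : G)⁆, (y : G)⁆ = 1) ∧
      q = QuotientGroup.mk' ((Subgroup.centralizer (P : Set G)).subgroupOf
        (Subgroup.normalizer (P : Set G))) y}
  refine Cfsg.Agent.Lib.Helper1.baer_suzuki K ?_ ?_ _ ⟨x, hx, rfl⟩
  · rintro g _ ⟨y, hy, rfl⟩
    obtain ⟨n, rfl⟩ := QuotientGroup.mk'_surjective _ g
    refine ⟨n * y * n⁻¹, ?_, ?_⟩
    · have := quadratic_conj P (n : G) (y : G) n.2 hy
      simpa using this
    · simp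
  · rintro _ ⟨y1, hy1, rfl⟩ _ ⟨y2, hy2, rfl⟩
    rintro ⟨q, hq⟩
    have hmap : (Subgroup.closure ({y1, y2} : Set ↥(Subgroup.normalizer (P : Set G)))).map
        (QuotientGroup.mk' ((Subgroup.centralizer (P : Set G)).subgroupOf
          (Subgroup.normalizer (P : Set G))))
        = Subgroup.closure {QuotientGroup.mk' ((Subgroup.centralizer (P : Set G)).subgroupOf
          (Subgroup.normalizer (P : Set G))) y1,
            QuotientGroup.mk' ((Subgroup.centralizer (P : Set G)).subgroupOf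
          (Subgroup.normalizer (P : Set G))) y2} := by
      rw [MonoidHom.map_closure, Set.image_pair]
    rw [← hmap] at hq
    obtain ⟨g, hg, rfl⟩ := hq
    have hmap2 : (Subgroup.closure ({y1, y2} : Set ↥(Subgroup.normalizer (P : Set G)))).map
        (Subgroup.normalizer (P : Set G)).subtype
        = Subgroup.closure ({(y1 : G), (y2 : G)} : Set G) := by
      rw [MonoidHom.map_closure, Set.image_pair]
      rfl
    have hgG : (g : G) ∈ Subgroup.closure ({(y1 : G), (y2 : G)} : Set G) := by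
      rw [← hmap2]
      exact ⟨g, hg, rfl⟩
    have hodd' : Odd (Nat.card (Subgroup.closure ({(y1 : G), (y2 : G)} : Set G))) :=
      Odd.of_dvd_nat hodd (Subgroup.card_subgroup_dvd_card _)
    obtain ⟨k, hk⟩ := quadratic_pair_subgroup hp2 P hP (y1 : G) (y2 : G) y1.2 y2.2 hodd' hy1 hy2
      (g : G) hgG
    refine ⟨k, ?_⟩
    apply Subtype.ext
    rw [Subgroup.coe_pow, Subgroup.coe_one, ← map_pow, QuotientGroup.mk'_apply,
      QuotientGroup.eq_one_iff, Subgroup.mem_subgroupOf, Subgroup.coe_pow]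
    exact hk

end GroupForm

end Cfsg.Agent.Lib.Helper10
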