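import Mathlib
import Cfsg.Agent.Lib.Helper10.GL2Odd

/-!
Odd-order solvable subgroups of `GL₂(F)`, `char F = p` odd: the derived subgroup has exponent
dividing `p` (it is unipotent in the reducible case and trivial in the irreducible case).
-/

set_option autoImplicit false

namespace Cfsg.Agent.Lib.Helper10

open Matrix
open scoped commutatorElement

/-- a solvable group in which `[a^g, a] = 1` forces `[g, a] = 1` is abelian. -/
theorem commute_of_solvable_of_conj_commute {H : Type*} [Group H] [hs : Group.IsSolvable H]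
    (hstar : ∀ g a : H, Commute (g * a * g⁻¹) a → Commute g a) : ∀ x y : H, Commute x y := by
  obtain ⟨n, hn⟩ := hs.solvable
  -- descending step
  have step : ∀ m : ℕ, derivedSeries H (m + 2) = ⊥ → derivedSeries H (m + 1) = ⊥ := by
    intro m hm
    have hKab : ∀ a ∈ derivedSeries H (m + 1), ∀ b ∈ derivedSeries H (m + 1), Commute a b := by
      intro a ha b hb
      have h1 : ⁅a, b⁆ ∈ derivedSeries H (m + 2) := by
        rw [derivedSeries_succ]
        exact Subgroup.commutator_mem_commutator ha hb
      rw [hm, Subgroup.mem_bot] at h1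
      exact commutatorElement_eq_one_iff_commute.mp h1
    have hKn : (derivedSeries H (m + 1)).Normal := inferInstance
    have hKc : ∀ a ∈ derivedSeries H (m + 1), ∀ g : H, Commute g a := by
      intro a ha g
      apply hstar
      exact hKab _ (hKn.conj_mem a ha g) a ha
    have hLab : ∀ x ∈ derivedSeries H m, ∀ y ∈ derivedSeries H m, Commute y x := by
      intro x hx y hy
      apply hstar
      have h1 : ⁅y, x⁆ ∈ derivedSeries H (m + 1) := by
        rw [derivedSeries_succ]
        exact Subgroup.commutator_mem_commutator hy hx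
      have h2 : y * x * y⁻¹ = ⁅y, x⁆ * x := by
        rw [commutatorElement_def]
        group
      rw [h2]
      have h3 : Commute x ⁅y, x⁆ := hKc _ h1 x
      exact (h3.symm.mul_left (Commute.refl x))
    rw [derivedSeries_succ, Subgroup.commutator_eq_bot_iff_le_centralizer]
    intro y hy
    rw [Subgroup.mem_centralizer_iff]
    intro x hx
    exact (hLab x hx y hy).symm.eq
  have down : ∀ m : ℕ, derivedSeries H (m + 1) = ⊥ → derivedSeries H 1 = ⊥ := by
    intro m
    induction m with
    | zero => exact id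
    | succ m ih => exact fun h => ih (step m h)
  have h1 : derivedSeries H 1 = ⊥ := by
    cases n with
    | zero =>
      rw [derivedSeries_zero] at hn
      rw [eq_bot_iff, ← hn]
      exact le_top
    | succ n => exact down n hn
  intro x y
  have h2 : ⁅x, y⁆ ∈ derivedSeries H 1 := by
    rw [derivedSeries_one]
    exact Subgroup.commutator_mem_commutator (Subgroup.mem_top x) (Subgroup.mem_top y)
  rw [h1, Subgroup.mem_bot] at h2
  exact commutatorElement_eq_one_iff_commute.mp h2

section GL2

variable {F : Type*} [Field F]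

/-- a matrix of determinant one fixing a nonzero vector satisfies `(M - 1)² = 0`. -/
theorem m2_unipotent_of_fix (M : Matrix (Fin 2) (Fin 2) F) (v : Fin 2 → F) (hv : v ≠ 0)
    (hMv : M.mulVec v = v) (hdet : M.det = 1) : (M - 1) * (M - 1) = 0 := by
  have h1 := m2_sq M
  rw [hdet, one_smul] at h1
  have h2 : (M * M).mulVec v = v := by
    rw [← Matrix.mulVec_mulVec, hMv, hMv]
  rw [h1, Matrix.sub_mulVec, Matrix.smul_mulVec, hMv, Matrix.one_mulVec] at h2
  have h3 : (M.trace - 2) • v = 0 := by
    rw [sub_smul, two_smul]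
    have : M.trace • v - v = v := h2
    rw [sub_eq_iff_eq_add] at this
    rw [this]
    abel
  have h4 : M.trace = 2 := by
    rcases smul_eq_zero.mp h3 with h | h
    · exact sub_eq_zero.mp h
    · exact absurd h hv
  rw [h4] at h1
  calc (M - 1) * (M - 1) = M * M - (2 : F) • M + 1 := by
        rw [sub_mul, mul_sub, mul_one, one_mul, two_smul]
        abel
    _ = 0 := by rw [h1]; abel

theorem m2_pow_char_eq_one (p : ℕ) [Fact p.Prime] [CharP F p] (M : Matrix (Fin 2) (Fin 2) F)
    (h : (M - 1) * (M - 1) = 0) : M ^ p = 1 := by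
  have hp' : p.Prime := Fact.out
  have h1 : M = (M - 1) + 1 := by abel
  have h2 : (M - 1) ^ p = 0 := by
    have h3 : (M - 1) ^ 2 = 0 := by rw [pow_two, h]
    exact pow_eq_zero_of_le hp'.two_le h3
  rw [h1, add_pow_char_of_commute p (Commute.one_right _), h2, one_pow, zero_add]

/-- **odd-order solvable subgroups of `GL₂`**: the derived subgroup has exponent dividing `p`. -/
theorem gl2_odd_solvable_commutator_pow (p : ℕ) [Fact p.Prime] [CharP F p] (hp : p ≠ 2)
    (H : Subgroup (GL (Fin 2) F)) [Finite H] (hodd : Odd (Nat.card H)) (hs : Group.IsSolvable H) :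
    ∀ h ∈ ⁅H, H⁆, h ^ p = 1 := by
  have hp' : p.Prime := Fact.out
  by_cases hirr : ∀ v : Fin 2 → F, v ≠ 0 →
      ∃ g ∈ H, (g : Matrix (Fin 2) (Fin 2) F).mulVec v ∉ Submodule.span F {v}
  · -- irreducible: `H` is a `p'`-group, hence abelian
    have hnd := gl2_odd_irreducible_not_dvd p hp H hodd hirr
    have hcop : (Nat.card H).Coprime p := ((Nat.Prime.coprime_iff_not_dvd hp').mpr hnd).symm
    have hstar : ∀ g a : H, Commute (g * a * g⁻¹) a → Commute g a := by
      intro g a hc
      have hg : Odd (orderOf (g : GL (Fin 2) F)) := by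
        rw [Subgroup.orderOf_coe]
        exact Odd.of_dvd_nat hodd (orderOf_dvd_natCard g)
      have ha : (orderOf (a : GL (Fin 2) F)).Coprime p := by
        rw [Subgroup.orderOf_coe]
        exact Nat.Coprime.coprime_dvd_left (orderOf_dvd_natCard a) hcop
      have hc' : Commute ((g : GL (Fin 2) F) * a * (g : GL (Fin 2) F)⁻¹) a := by
        have := congrArg Subtype.val hc.eq
        show (g : GL (Fin 2) F) * a * (g : GL (Fin 2) F)⁻¹ * a =
          a * ((g : GL (Fin 2) F) * a * (g : GL (Fin 2) F)⁻¹)
        simpa using this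
      have := gl2_commute_of_conj_commute p hp (g : GL (Fin 2) F) (a : GL (Fin 2) F) hg ha hc'
      exact Subtype.ext this.eq
    have hab := commute_of_solvable_of_conj_commute hstar
    have hbot : ⁅H, H⁆ = ⊥ := by
      rw [Subgroup.commutator_eq_bot_iff_le_centralizer]
      intro x hx
      rw [Subgroup.mem_centralizer_iff]
      intro y hy
      exact congrArg Subtype.val (hab ⟨y, hy⟩ ⟨x, hx⟩).eq
    intro h hh
    rw [hbot, Subgroup.mem_bot] at hh
    rw [hh, one_pow]
  · -- reducible
    push Not at hirr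
    obtain ⟨v, hv, hinv⟩ := hirr
    let K : Subgroup (GL (Fin 2) F) :=
      { carrier := {g | (g : Matrix (Fin 2) (Fin 2) F).mulVec v = v ∧
          (g : Matrix (Fin 2) (Fin 2) F).det = 1}
        one_mem' := by
          refine ⟨?_, ?_⟩
          · rw [Units.val_one, Matrix.one_mulVec]
          · rw [Units.val_one, Matrix.det_one]
        mul_mem' := by
          rintro a b ⟨ha1, ha2⟩ ⟨hb1, hb2⟩
          refine ⟨?_, ?_⟩
          · rw [Units.val_mul, ← Matrix.mulVec_mulVec, hb1, ha1]
          · rw [Units.val_mul, Matrix.det_mul, ha2, hb2, one_mul]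
        inv_mem' := by
          rintro a ⟨ha1, ha2⟩
          have hia : ((a⁻¹ : GL (Fin 2) F) : Matrix (Fin 2) (Fin 2) F) *
              (a : Matrix (Fin 2) (Fin 2) F) = 1 := by
            rw [← Units.val_mul, inv_mul_cancel, Units.val_one]
          refine ⟨?_, ?_⟩
          · calc ((a⁻¹ : GL (Fin 2) F) : Matrix (Fin 2) (Fin 2) F).mulVec v
                = ((a⁻¹ : GL (Fin 2) F) : Matrix (Fin 2) (Fin 2) F).mulVec
                    ((a : Matrix (Fin 2) (Fin 2) F).mulVec v) := by rw [ha1]
              _ = v := by rw [Matrix.mulVec_mulVec, hia, Matrix.one_mulVec]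
          · have := congrArg Matrix.det hia
            rw [Matrix.det_mul, ha2, mul_one, Matrix.det_one] at this
            exact this }
    have hK : ∀ g : GL (Fin 2) F, g ∈ K ↔ (g : Matrix (Fin 2) (Fin 2) F).mulVec v = v ∧
        (g : Matrix (Fin 2) (Fin 2) F).det = 1 := fun g => Iff.rfl
    -- scalars by which the elements of `H` act on `v`
    have hscal : ∀ g ∈ H, ∃ c : F, c ≠ 0 ∧ (g : Matrix (Fin 2) (Fin 2) F).mulVec v = c • v ∧
        ((g⁻¹ : GL (Fin 2) F) : Matrix (Fin 2) (Fin 2) F).mulVec v = c⁻¹ • v := by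
      intro g hg
      obtain ⟨c, hc⟩ := Submodule.mem_span_singleton.mp (hinv g hg)
      have hig : ((g⁻¹ : GL (Fin 2) F) : Matrix (Fin 2) (Fin 2) F) *
          (g : Matrix (Fin 2) (Fin 2) F) = 1 := by
        rw [← Units.val_mul, inv_mul_cancel, Units.val_one]
      have h1 : ((g⁻¹ : GL (Fin 2) F) : Matrix (Fin 2) (Fin 2) F).mulVec (c • v) = v := by
        rw [hc, Matrix.mulVec_mulVec, hig, Matrix.one_mulVec]
      have hc0 : c ≠ 0 := by
        rintro rfl
        rw [zero_smul, Matrix.mulVec_zero] at h1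
        exact hv h1.symm
      refine ⟨c, hc0, hc.symm, ?_⟩
      rw [Matrix.mulVec_smul] at h1
      calc ((g⁻¹ : GL (Fin 2) F) : Matrix (Fin 2) (Fin 2) F).mulVec v
          = c⁻¹ • (c • ((g⁻¹ : GL (Fin 2) F) : Matrix (Fin 2) (Fin 2) F).mulVec v) := by
            rw [smul_smul, inv_mul_cancel₀ hc0, one_smul]
        _ = c⁻¹ • v := by rw [h1]
    have hle : ⁅H, H⁆ ≤ K := by
      rw [Subgroup.commutator_le]
      intro g1 hg1 g2 hg2
      obtain ⟨c1, hc1, h1a, h1b⟩ := hscal g1 hg1
      obtain ⟨c2, hc2, h2a, h2b⟩ := hscal g2 hg2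
      rw [hK]
      refine ⟨?_, ?_⟩
      · have e2 : ((g1⁻¹ : GL (Fin 2) F) : Matrix (Fin 2) (Fin 2) F).mulVec (c2⁻¹ • v)
            = c2⁻¹ • c1⁻¹ • v := by rw [Matrix.mulVec_smul, h1b]
        have e3 : (g2 : Matrix (Fin 2) (Fin 2) F).mulVec (c2⁻¹ • c1⁻¹ • v)
            = c2⁻¹ • c1⁻¹ • c2 • v := by
          rw [Matrix.mulVec_smul, Matrix.mulVec_smul, h2a]
        have e4 : (g1 : Matrix (Fin 2) (Fin 2) F).mulVec (c2⁻¹ • c1⁻¹ • c2 • v)
            = c2⁻¹ • c1⁻¹ • c2 • c1 • v := by
          rw [Matrix.mulVec_smul, Matrix.mulVec_smul, Matrix.mulVec_smul, h1a]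
        rw [commutatorElement_def, Units.val_mul, Units.val_mul, Units.val_mul,
          ← Matrix.mulVec_mulVec, ← Matrix.mulVec_mulVec, ← Matrix.mulVec_mulVec, h2b, e2, e3, e4,
          smul_smul, smul_smul, smul_smul]
        have : c2⁻¹ * c1⁻¹ * c2 * c1 = 1 := by
          field_simp
        rw [this, one_smul]
      · have h3 : Matrix.GeneralLinearGroup.det ⁅g1, g2⁆ = 1 := by
          rw [map_commutatorElement]
          exact commutatorElement_eq_one_iff_commute.mpr (Commute.all _ _)
        have h4 := congrArg Units.val h3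
        rw [Matrix.GeneralLinearGroup.val_det_apply, Units.val_one] at h4
        exact h4
    intro h hh
    obtain ⟨h1, h2⟩ := (hK h).mp (hle hh)
    apply Units.ext
    rw [Units.val_pow_eq_pow_val, Units.val_one]
    exact m2_pow_char_eq_one p _ (m2_unipotent_of_fix _ v hv h1 h2)

end GL2

end Cfsg.Agent.Lib.Helper10
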