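import Mathlib
import Cfsg.Agent.Lib.Helper10.GL2OddSolv
import Cfsg.Agent.S4208
import Cfsg.Agent.Lib.Helper1.Frattini

/-!
Odd-order solvable groups of automorphisms of a `p`-group with at most two generators: the derived
subgroup acts as a `p`-group.
-/

set_option autoImplicit false

namespace Cfsg.Agent.Lib.Helper10

open scoped Classical
open scoped commutatorElement

section AutSmall

universe u v

variable {p : ℕ} [Fact p.Prime] {L : Type u} [Group L]

/-- action on an elementary abelian group of order at most `p²`. -/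
theorem aut_elemAb_commutator_pow (hp2 : p ≠ 2) [Finite L] (hodd : Odd (Nat.card L))
    [Group.IsSolvable L] {Q : Type v} [CommGroup Q] [Finite Q] [Module (ZMod p) (Additive Q)]
    (hQ : Nat.card Q ≤ p ^ 2) (ψ : L →* MulAut Q) :
    ∀ g ∈ commutator L, ψ (g ^ p) = 1 := by
  have hp : p.Prime := Fact.out
  have hfinW : Finite (Additive Q) := Finite.of_equiv Q Additive.ofMul
  have hcardW : Nat.card (Additive Q) = Nat.card Q := Nat.card_congr Additive.ofMul.symm
  have hcard : Nat.card Q = p ^ Module.finrank (ZMod p) (Additive Q) := by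
    rw [← hcardW, Module.natCard_eq_pow_finrank (K := ZMod p) (V := Additive Q), Nat.card_zmod]
  have hd2 : Module.finrank (ZMod p) (Additive Q) ≤ 2 := by
    rw [hcard] at hQ
    exact (Nat.pow_le_pow_iff_right hp.one_lt).mp hQ
  rcases Nat.lt_or_ge (Module.finrank (ZMod p) (Additive Q)) 2 with hd | hd
  · -- `Q` is cyclic
    have hcyc : IsCyclic Q := by
      have h01 : Module.finrank (ZMod p) (Additive Q) = 0 ∨
          Module.finrank (ZMod p) (Additive Q) = 1 := by omega
      rcases h01 with h0 | h1
      · rw [h0, pow_zero] at hcard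
        have : Subsingleton Q := (Nat.card_eq_one_iff_unique.mp hcard).1
        exact isCyclic_of_subsingleton
      · rw [h1, pow_one] at hcard
        exact isCyclic_of_prime_card hcard
    intro g hg
    have h1 := Abelianization.commutator_subset_ker
      ((IsCyclic.mulAutMulEquiv Q).toMonoidHom.comp ψ) hg
    rw [MonoidHom.mem_ker, MonoidHom.comp_apply] at h1
    have h2 : ψ g = 1 := by
      apply (IsCyclic.mulAutMulEquiv Q).injective
      rw [map_one]
      exact h1
    rw [map_pow, h2, one_pow]
  · have hd' : Module.finrank (ZMod p) (Additive Q) = 2 := le_antisymm hd2 hd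
    let F : L → (Additive Q →ₗ[ZMod p] Additive Q) := fun g =>
      (MulEquiv.toAdditive (ψ g)).toAddMonoidHom.toZModLinearMap p
    have hF : ∀ (g : L) (v : Additive Q),
        F g v = Additive.ofMul (ψ g (Additive.toMul v)) := fun g v => rfl
    have hF1 : F 1 = 1 := by
      ext v
      rw [hF, map_one]
      rfl
    have hFm : ∀ g h : L, F (g * h) = F g * F h := by
      intro g h
      ext v
      rw [hF, map_mul]
      rfl
    let ρ : L →* Module.End (ZMod p) (Additive Q) :=
      { toFun := F
        map_one' := hF1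
        map_mul' := hFm }
    have hρ : ∀ g : L, ρ g = F g := fun g => rfl
    let b : Module.Basis (Fin 2) (ZMod p) (Additive Q) :=
      Module.finBasisOfFinrankEq (ZMod p) (Additive Q) hd'
    let E : (Module.End (ZMod p) (Additive Q))ˣ ≃* GL (Fin 2) (ZMod p) :=
      Units.mapEquiv (LinearMap.toMatrixAlgEquiv b).toRingEquiv.toMulEquiv
    let ρ' : L →* GL (Fin 2) (ZMod p) := E.toMonoidHom.comp ρ.toHomUnits
    have hfinR : Finite ρ'.range := Finite.of_surjective ρ'.rangeRestrict ρ'.rangeRestrict_surjective
    have hodd' : Odd (Nat.card ρ'.range) := Odd.of_dvd_nat hodd (Subgroup.card_range_dvd ρ')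
    have hs' : Group.IsSolvable ρ'.range := Group.isSolvable_of_surjective ρ'.rangeRestrict_surjective
    have key := gl2_odd_solvable_commutator_pow p hp2 ρ'.range hodd' hs'
    intro g hg
    have hmem : ρ' g ∈ ⁅ρ'.range, ρ'.range⁆ := by
      rw [MonoidHom.range_eq_map, ← Subgroup.map_commutator]
      exact Subgroup.mem_map_of_mem _ hg
    have h1 := key _ hmem
    rw [← map_pow] at h1
    have h2 : ρ.toHomUnits (g ^ p) = 1 := by
      apply E.injective
      rw [map_one]
      exact h1
    have h3 : F (g ^ p) = 1 := by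
      have := congrArg Units.val h2
      rw [MonoidHom.coe_toHomUnits, Units.val_one] at this
      exact this
    ext x
    have h4 : F (g ^ p) (Additive.ofMul x) = Additive.ofMul x := by
      rw [h3]
      rfl
    rw [hF] at h4
    exact congrArg Additive.toMul h4

/-- action on a `p`-group with at most two generators. -/
theorem aut_pgroup_commutator_pow (hp2 : p ≠ 2) [Finite L] (hodd : Odd (Nat.card L))
    [Group.IsSolvable L] {P0 : Type v} [Group P0] [Finite P0] (hP : IsPGroup p P0)
    (hfr : Nat.card (P0 ⧸ frattini P0) ≤ p ^ 2) (φ : L →* MulAut P0) :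
    ∀ g ∈ commutator L, ∃ k : ℕ, φ (g ^ p ^ k) = 1 := by
  have hp : p.Prime := Fact.out
  have hcomm : ∀ x y : P0 ⧸ frattini P0, x * y = y * x := by
    intro x y
    obtain ⟨x, rfl⟩ := QuotientGroup.mk_surjective x
    obtain ⟨y, rfl⟩ := QuotientGroup.mk_surjective y
    rw [← QuotientGroup.mk_mul, ← QuotientGroup.mk_mul, QuotientGroup.eq]
    apply Cfsg.Agent.Lib.Helper1.IsPGroup.commutator_le_frattini hP
    have h1 : (x * y)⁻¹ * (y * x) = ⁅y⁻¹, x⁻¹⁆ := by
      rw [commutatorElement_def]; group
    rw [h1]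
    exact Subgroup.commutator_mem_commutator (Subgroup.mem_top _) (Subgroup.mem_top _)
  have hexp : ∀ x : P0 ⧸ frattini P0, x ^ p = 1 := by
    intro x
    obtain ⟨x, rfl⟩ := QuotientGroup.mk_surjective x
    rw [← QuotientGroup.mk_pow, QuotientGroup.eq_one_iff]
    exact Cfsg.Agent.Lib.Helper1.IsPGroup.pow_mem_frattini hP x
  let iC : CommGroup (P0 ⧸ frattini P0) :=
    { (inferInstance : Group (P0 ⧸ frattini P0)) with mul_comm := hcomm }
  let iM : @Module (ZMod p) (Additive (P0 ⧸ frattini P0)) _
      (@AddCommGroup.toAddCommMonoid _ (@Additive.addCommGroup _ iC)) :=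
    @AddCommGroup.zmodModule p (Additive (P0 ⧸ frattini P0)) (@Additive.addCommGroup _ iC) (by
      intro x
      show Additive.ofMul ((Additive.toMul x) ^ p) = 0
      rw [hexp]
      rfl)
  let φ1 : L →* MulAut (P0 ⧸ frattini P0) := (Cfsg.Agent.S4208.frattiniHom P0).comp φ
  have key := @aut_elemAb_commutator_pow p _ L _ hp2 _ hodd _ (P0 ⧸ frattini P0) iC
    inferInstance iM hfr φ1
  intro g hg
  have hk := key g hg
  set α : MulAut P0 := φ (g ^ p) with hα
  have hαker : α ∈ (Cfsg.Agent.S4208.frattiniHom P0).ker := by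
    rw [MonoidHom.mem_ker]
    exact hk
  obtain ⟨n, hn⟩ := hP.exists_card_eq
  obtain ⟨r, hr⟩ := hP.index (frattini P0)
  have hdvd := Cfsg.Agent.S4207.result hn hr (Subgroup.zpowers α) (by
    intro β hβ x
    have hβker : β ∈ (Cfsg.Agent.S4208.frattiniHom P0).ker :=
      (Subgroup.zpowers_le.mpr hαker) hβ
    rw [MonoidHom.mem_ker] at hβker
    have h2 : Cfsg.Agent.S4208.frattiniHom P0 β (QuotientGroup.mk x) = QuotientGroup.mk x := by
      rw [hβker]; rfl
    rw [Cfsg.Agent.S4208.frattiniHom_mk, QuotientGroup.eq_iff_div_mem, div_eq_mul_inv] at h2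
    exact h2)
  rw [Nat.card_zpowers] at hdvd
  refine ⟨1 + r * (n - r), ?_⟩
  rw [pow_add, pow_one, pow_mul, map_pow, ← hα]
  exact orderOf_dvd_iff_pow_eq_one.mp hdvd

end AutSmall

end Cfsg.Agent.Lib.Helper10
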