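import Mathlib
import Cfsg.Prelude.Def_CaseTheorems
import Cfsg.Agent.Lib.Helper10.Rank2Aut
import Cfsg.Agent.Lib.Helper10.PStableOdd
import Cfsg.Agent.Lib.Helper10.Basic
import Cfsg.Agent.Lib.Helper1.Critical
import Cfsg.Agent.Lib.Helper1.ClassTwo
import Cfsg.Agent.Lib.Helper17.Coprime
import Cfsg.Agent.S1443

/-!
Solvable groups of odd order acting on `p`-groups of rank at most two (`p` odd): the derived
subgroup acts as a `p`-group (BG, Section 4).
-/

set_option autoImplicit false

namespace Cfsg.Agent.Lib.Helper10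

open scoped commutatorElement

section Small

variable {p : ℕ} [Fact p.Prime]

theorem isMulCommutative_sup_zpowers {T : Type*} [Group T] (A : Subgroup T)
    (hA : IsMulCommutative A) (y : T) (hy : ∀ a ∈ A, a * y = y * a) :
    IsMulCommutative (A ⊔ Subgroup.zpowers y : Subgroup T) := by
  have hcomm : ∀ a ∈ A, ∀ b ∈ Subgroup.zpowers y, a * b = b * a := by
    rintro a ha b ⟨k, rfl⟩
    have : Commute a y := hy a ha
    exact (this.zpow_right k).eq
  refine ⟨⟨?_⟩⟩
  rintro ⟨u, hu⟩ ⟨v, hv⟩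
  apply Subtype.ext
  obtain ⟨a1, ha1, b1, hb1, rfl⟩ := (mem_sup_of_commute A _ hcomm).mp hu
  obtain ⟨a2, ha2, b2, hb2, rfl⟩ := (mem_sup_of_commute A _ hcomm).mp hv
  show a1 * b1 * (a2 * b2) = a2 * b2 * (a1 * b1)
  have c1 : a1 * a2 = a2 * a1 := congrArg Subtype.val (hA.is_comm.comm ⟨a1, ha1⟩ ⟨a2, ha2⟩)
  have c2 : b1 * b2 = b2 * b1 := by
    obtain ⟨i, rfl⟩ := hb1
    obtain ⟨j, rfl⟩ := hb2
    exact ((Commute.refl y).zpow_zpow i j).eq
  have c3 := hcomm a2 ha2 b1 hb1
  have c4 := hcomm a1 ha1 b2 hb2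
  calc a1 * b1 * (a2 * b2) = a1 * (b1 * a2) * b2 := by group
    _ = a1 * (a2 * b1) * b2 := by rw [c3]
    _ = (a1 * a2) * (b1 * b2) := by group
    _ = (a2 * a1) * (b2 * b1) := by rw [c1, c2]
    _ = a2 * (a1 * b2) * b1 := by group
    _ = a2 * (b2 * a1) * b1 := by rw [c4]
    _ = a2 * b2 * (a1 * b1) := by group

/-- a group of exponent `p` and class at most two all of whose abelian subgroups have order at
most `p²` has order at most `p²`, or is nonabelian of order at most `p³`. -/
theorem small_of_exp_class_two {T : Type*} [Group T] [Finite T]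
    (hexp : ∀ x : T, x ^ p = 1) (hcl : ∀ x y z : T, ⁅x, y⁆ * z = z * ⁅x, y⁆)
    (hab : ∀ B : Subgroup T, IsMulCommutative B → Nat.card B ≤ p ^ 2) :
    Nat.card T ≤ p ^ 2 ∨ (Nat.card T ≤ p ^ 3 ∧ ∃ x y : T, x * y ≠ y * x) := by
  have hp : p.Prime := Fact.out
  by_cases hc : ∀ x y : T, x * y = y * x
  · left
    have h1 : IsMulCommutative (⊤ : Subgroup T) := ⟨⟨fun a b => Subtype.ext (hc a b)⟩⟩
    have := hab ⊤ h1
    rwa [Subgroup.card_top] at this
  · right
    push Not at hc
    obtain ⟨x, y0, hxy⟩ := hc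
    refine ⟨?_, x, y0, hxy⟩
    have hxZ : x ∉ Subgroup.center T := fun h => hxy ((Subgroup.mem_center_iff.mp h y0).symm)
    have hx1 : x ≠ 1 := by
      rintro rfl
      exact hxZ (Subgroup.one_mem _)
    have hord : ∀ z : T, z ≠ 1 → orderOf z = p := by
      intro z hz
      have := orderOf_dvd_of_pow_eq_one (hexp z)
      rcases (Nat.dvd_prime hp).mp this with h | h
      · exact absurd (orderOf_eq_one_iff.mp h) hz
      · exact h
    have hcardx : Nat.card (Subgroup.zpowers x) = p := by rw [Nat.card_zpowers, hord x hx1]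
    have hcommZ : ∀ a ∈ Subgroup.center T, ∀ b ∈ Subgroup.zpowers x, a * b = b * a :=
      fun a ha b _ => ((Subgroup.mem_center_iff.mp ha) b).symm
    have hdisj : Subgroup.center T ⊓ Subgroup.zpowers x = ⊥ := by
      by_contra hne
      have h1 : Nat.card (Subgroup.center T ⊓ Subgroup.zpowers x : Subgroup T) ∣ p := by
        rw [← hcardx]
        exact Subgroup.card_dvd_of_le inf_le_right
      rcases (Nat.dvd_prime hp).mp h1 with h | h
      · exact hne (Subgroup.card_eq_one.mp h)
      · have h2 : Subgroup.center T ⊓ Subgroup.zpowers x = Subgroup.zpowers x :=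
          Subgroup.eq_of_le_of_card_ge inf_le_right (by rw [h, hcardx])
        have h3 : x ∈ Subgroup.center T ⊓ Subgroup.zpowers x := by
          rw [h2]
          exact Subgroup.mem_zpowers x
        exact hxZ h3.1
    have hcardS1 : Nat.card (Subgroup.center T ⊔ Subgroup.zpowers x : Subgroup T)
        = Nat.card (Subgroup.center T) * p := by
      rw [card_sup_of_commute_of_disjoint _ _ hcommZ hdisj, hcardx]
    have hZc : IsMulCommutative (Subgroup.center T) := inferInstance
    have hS1ab : IsMulCommutative (Subgroup.center T ⊔ Subgroup.zpowers x : Subgroup T) :=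
      isMulCommutative_sup_zpowers _ hZc x (fun a ha => ((Subgroup.mem_center_iff.mp ha) x).symm)
    have hZle : Nat.card (Subgroup.center T) ≤ p := by
      have := hab _ hS1ab
      rw [hcardS1, pow_two] at this
      exact Nat.le_of_mul_le_mul_right this hp.pos
    have hPG : IsPGroup p T := fun g => ⟨1, by rw [pow_one]; exact hexp g⟩
    have hnt : Nontrivial T := ⟨⟨x, 1, hx1⟩⟩
    have hZge : p ≤ Nat.card (Subgroup.center T) := by
      have hlt := IsPGroup.bot_lt_center hPG
      obtain ⟨z, hzZ, hz1⟩ := SetLike.exists_of_lt hlt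
      have hz1' : z ≠ 1 := fun h => hz1 (by rw [h]; exact Subgroup.one_mem _)
      have h1 : orderOf (⟨z, hzZ⟩ : Subgroup.center T) = p := by
        rw [← Subgroup.orderOf_coe]
        exact hord z hz1'
      have h2 := orderOf_dvd_natCard (⟨z, hzZ⟩ : Subgroup.center T)
      rw [h1] at h2
      exact Nat.le_of_dvd Nat.card_pos h2
    have hZcard : Nat.card (Subgroup.center T) = p := le_antisymm hZle hZge
    rw [hZcard] at hcardS1
    -- the commutator homomorphism
    have hcen : ∀ y : T, ⁅x, y⁆ ∈ Subgroup.center T := by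
      intro y
      rw [Subgroup.mem_center_iff]
      intro g
      exact (hcl x y g).symm
    have hmul : ∀ a b : T, ⁅x, a * b⁆ = ⁅x, a⁆ * ⁅x, b⁆ := by
      intro a b
      have h1 := hcl x b a
      obtain ⟨c, hcdef⟩ : ∃ c : T, c = ⁅x, b⁆ := ⟨_, rfl⟩
      rw [← hcdef] at h1 ⊢
      have h2 : ⁅x, a * b⁆ = ⁅x, a⁆ * (a * ⁅x, b⁆ * a⁻¹) := by
        simp only [commutatorElement_def]
        group
      rw [h2, ← hcdef]
      have h3 : a * c * a⁻¹ = c := by
        rw [← h1]
        group
      rw [h3]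
    let f : T →* Subgroup.center T := MonoidHom.mk' (fun y => ⟨⁅x, y⁆, hcen y⟩) (by
      intro a b
      apply Subtype.ext
      exact hmul a b)
    have hf : ∀ y : T, ((f y : Subgroup.center T) : T) = ⁅x, y⁆ := fun y => rfl
    have hidx : f.ker.index ≤ p := by
      rw [Subgroup.index_ker, ← hZcard]
      exact Subgroup.card_le_card_group _
    have hker : ∀ y ∈ f.ker, x * y = y * x := by
      intro y hy
      rw [MonoidHom.mem_ker] at hy
      have h1 : ⁅x, y⁆ = 1 := by
        rw [← hf, hy]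
        rfl
      exact (commutatorElement_eq_one_iff_commute.mp h1).eq
    have hCle : f.ker ≤ Subgroup.center T ⊔ Subgroup.zpowers x := by
      intro y hy
      have hyc : ∀ a ∈ (Subgroup.center T ⊔ Subgroup.zpowers x : Subgroup T), a * y = y * a := by
        intro a ha
        obtain ⟨z, hz, b, hb, rfl⟩ := (mem_sup_of_commute _ _ hcommZ).mp ha
        obtain ⟨k, rfl⟩ := hb
        have c1 : Commute z y := ((Subgroup.mem_center_iff.mp hz) y).symm
        have c2 : Commute (x ^ k) y := (show Commute x y from hker y hy).zpow_left k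
        exact (c1.mul_left c2).eq
      have hS2 := isMulCommutative_sup_zpowers _ hS1ab y hyc
      have h1 := hab _ hS2
      have h2 : (Subgroup.center T ⊔ Subgroup.zpowers x : Subgroup T) =
          Subgroup.center T ⊔ Subgroup.zpowers x ⊔ Subgroup.zpowers y :=
        Subgroup.eq_of_le_of_card_ge le_sup_left (by rw [hcardS1, ← pow_two]; exact h1)
      rw [h2]
      exact (le_sup_right : Subgroup.zpowers y ≤ _) (Subgroup.mem_zpowers y)
    have hCcard : Nat.card f.ker ≤ p * p := by
      rw [← hcardS1]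
      exact Subgroup.card_le_of_le hCle
    calc Nat.card T = f.ker.index * Nat.card f.ker := (Subgroup.index_mul_card _).symm
      _ ≤ p * (p * p) := Nat.mul_le_mul hidx hCcard
      _ = p ^ 3 := by ring

end Small

section AutSmall'

universe u v

variable {p : ℕ} [Fact p.Prime] {L : Type u} [Group L]

theorem aut_pgroup_commutator_pow' (hp2 : p ≠ 2) [Finite L] (hodd : Odd (Nat.card L))
    [Group.IsSolvable L] {P0 : Type v} [Group P0] [Finite P0] (hP : IsPGroup p P0)
    (hsmall : Nat.card P0 ≤ p ^ 2 ∨ (Nat.card P0 ≤ p ^ 3 ∧ ∃ x y : P0, x * y ≠ y * x))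
    (φ : L →* MulAut P0) :
    ∀ g ∈ commutator L, ∃ k : ℕ, φ (g ^ p ^ k) = 1 := by
  have hp : p.Prime := Fact.out
  apply aut_pgroup_commutator_pow hp2 hodd hP _ φ
  rw [← Subgroup.index_eq_card]
  rcases hsmall with h | ⟨h3, x, y, hxy⟩
  · exact (Nat.le_of_dvd Nat.card_pos (Subgroup.index_dvd_card _)).trans h
  · have hne : frattini P0 ≠ ⊥ := by
      intro hbot
      have h1 : ⁅x, y⁆ ∈ frattini P0 :=
        Cfsg.Agent.Lib.Helper1.IsPGroup.commutator_le_frattini hP
          (Subgroup.commutator_mem_commutator (Subgroup.mem_top x) (Subgroup.mem_top y))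
      rw [hbot, Subgroup.mem_bot, commutatorElement_eq_one_iff_commute] at h1
      exact hxy h1.eq
    have h2 : 2 ≤ Nat.card (frattini P0) := (Subgroup.one_lt_card_iff_ne_bot _).mpr hne
    obtain ⟨r, hr⟩ := hP.index (frattini P0)
    have h4 : (frattini P0).index * Nat.card (frattini P0) = Nat.card P0 :=
      Subgroup.index_mul_card _
    rw [hr] at h4 ⊢
    have h5 : p ^ r * 2 ≤ p ^ 3 := by
      calc p ^ r * 2 ≤ p ^ r * Nat.card (frattini P0) := Nat.mul_le_mul_left _ h2
        _ = Nat.card P0 := h4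
        _ ≤ p ^ 3 := h3
    have h6 : r < 3 := by
      by_contra hge
      push Not at hge
      have h7 : p ^ 3 ≤ p ^ r := Nat.pow_le_pow_right hp.pos hge
      have h8 : 0 < p ^ 3 := pow_pos hp.pos 3
      omega
    exact Nat.pow_le_pow_right hp.pos (by omega)

end AutSmall'

section Core

universe u

variable {p : ℕ} [Fact p.Prime] {G : Type u} [Group G] [Finite G]

/-- **small faithful subgroup**: a `p`-subgroup `R` of rank at most two (`p` odd) contains a
subgroup `D`, normalized by `N_G(R)`, of order at most `p²` or nonabelian of order at most `p³`,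
on which every `p'`-element of `N_G(R)` not centralizing `R` acts nontrivially. -/
theorem exists_small_faithful (hp2 : p ≠ 2) (R : Subgroup G) (hR : IsPGroup p R)
    (hrk : Cfsg.PRankLE p 2 ↥R) :
    ∃ D : Subgroup G, D ≤ R ∧
      Subgroup.normalizer (R : Set G) ≤ Subgroup.normalizer (D : Set G) ∧
      (Nat.card D ≤ p ^ 2 ∨ (Nat.card D ≤ p ^ 3 ∧ ∃ x y : ↥D, x * y ≠ y * x)) ∧
      ∀ a ∈ Subgroup.normalizer (R : Set G), (orderOf a).Coprime p →
        a ∈ Subgroup.centralizer (D : Set G) → a ∈ Subgroup.centralizer (R : Set G) := by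
  have hp : p.Prime := Fact.out
  obtain ⟨Hc, hchar, hΦ, -, hCH⟩ :=
    Cfsg.Agent.Lib.Helper1.exists_critical_subgroup (P := ↥R) hR
  have hHp : IsPGroup p ↥Hc := hR.to_subgroup Hc
  -- commutators of `Hc` are central in `Hc`
  have hcentral : ∀ c ∈ commutator ↥Hc, ∀ z : ↥Hc, c * z = z * c := by
    intro c hc z
    have h1 : c ∈ frattini ↥Hc := Cfsg.Agent.Lib.Helper1.IsPGroup.commutator_le_frattini hHp hc
    have h2 : (c : ↥R) ∈ Subgroup.centralizer (Hc : Set ↥R) := hΦ ⟨c, h1, rfl⟩
    have h3 := (Subgroup.mem_centralizer_iff.mp h2) (z : ↥R) z.2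
    exact Subtype.ext h3.symm
  have hcl : ∀ x y z : ↥Hc, ⁅x, y⁆ * z = z * ⁅x, y⁆ := fun x y z =>
    hcentral _ (Subgroup.commutator_mem_commutator (Subgroup.mem_top x) (Subgroup.mem_top y)) z
  have h2cl : ⁅commutator ↥Hc, (⊤ : Subgroup ↥Hc)⁆ = ⊥ := by
    rw [Subgroup.commutator_eq_bot_iff_le_centralizer]
    intro c hc
    rw [Subgroup.mem_centralizer_iff]
    intro z _
    exact (hcentral c hc z).symm
  obtain ⟨D0, hD0⟩ : ∃ D0 : Subgroup ↥Hc, D0 = Subgroup.closure {y : ↥Hc | y ^ p = 1} := ⟨_, rfl⟩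
  have hD0exp : ∀ g ∈ D0, g ^ p = 1 := by
    intro g hg
    rw [hD0] at hg
    exact Cfsg.Agent.Lib.Helper1.pow_eq_one_of_mem_closure_of_class_two hp2 h2cl g hg
  have hD0mem : ∀ y : ↥Hc, y ^ p = 1 → y ∈ D0 := by
    intro y hy
    rw [hD0]
    exact Subgroup.subset_closure hy
  obtain ⟨ι, hι⟩ : ∃ ι : ↥Hc →* G, ι = R.subtype.comp Hc.subtype := ⟨_, rfl⟩
  have hιapp : ∀ y : ↥Hc, ι y = ((y : ↥R) : G) := by
    intro y
    rw [hι]
    rfl
  have hιinj : Function.Injective ι := by
    intro x y hxy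
    rw [hιapp, hιapp] at hxy
    exact Subtype.ext (Subtype.ext hxy)
  refine ⟨D0.map ι, ?_, ?_, ?_, ?_⟩
  · rintro _ ⟨d, _, rfl⟩
    rw [hιapp]
    exact (d : ↥R).2
  · -- normalized by `N_G(R)`
    apply Cfsg.Agent.Lib.Helper1.le_normalizer_of_forall_conj_mem'
    intro n hn x hx
    have hmapcl : D0.map ι = Subgroup.closure (ι '' {y : ↥Hc | y ^ p = 1}) := by
      rw [hD0, MonoidHom.map_closure]
    have hgen : Subgroup.closure (ι '' {y : ↥Hc | y ^ p = 1}) ≤
        (D0.map ι).comap (MulAut.conj n).toMonoidHom := by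
      rw [Subgroup.closure_le]
      rintro _ ⟨y, hy, rfl⟩
      have hy' : y ^ p = 1 := hy
      show n * ι y * n⁻¹ ∈ D0.map ι
      have hcH : (Cfsg.Agent.Lib.Helper1.conjNormalizer R n hn) (y : ↥R) ∈ Hc :=
        (Subgroup.characteristic_iff_map_le.mp hchar
          (Cfsg.Agent.Lib.Helper1.conjNormalizer R n hn)) ⟨(y : ↥R), y.2, rfl⟩
      refine ⟨⟨_, hcH⟩, hD0mem _ ?_, ?_⟩
      · apply Subtype.ext
        rw [Subgroup.coe_pow, ← map_pow]
        have : ((y : ↥R)) ^ p = 1 := by
          have := congrArg (fun t : ↥Hc => (t : ↥R)) hy'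
          simpa using this
        rw [this, map_one]
        rfl
      · rw [hιapp, hιapp]
        rfl
    rw [hmapcl] at hx
    exact hgen hx
  · -- size
    have hexp' : ∀ x : ↥D0, x ^ p = 1 := fun x => Subtype.ext (hD0exp x x.2)
    have hcl' : ∀ x y z : ↥D0, ⁅x, y⁆ * z = z * ⁅x, y⁆ := by
      intro x y z
      apply Subtype.ext
      exact hcl (x : ↥Hc) (y : ↥Hc) (z : ↥Hc)
    have hab' : ∀ B : Subgroup ↥D0, IsMulCommutative B → Nat.card B ≤ p ^ 2 := by
      intro B hB
      have h1 : IsMulCommutative ((B.map D0.subtype).map Hc.subtype : Subgroup ↥R) :=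
        Subgroup.map_isMulCommutative _ _
      have h2 : ∀ a ∈ ((B.map D0.subtype).map Hc.subtype : Subgroup ↥R), a ^ p = 1 := by
        rintro _ ⟨_, ⟨b, _, rfl⟩, rfl⟩
        have := hD0exp (b : ↥Hc) b.2
        have h3 := congrArg (fun t : ↥Hc => (t : ↥R)) this
        simpa using h3
      have h3 := hrk _ h1 h2
      rwa [Subgroup.card_map_of_injective Hc.subtype_injective,
        Subgroup.card_map_of_injective D0.subtype_injective] at h3
    have hsm := small_of_exp_class_two hexp' hcl' hab'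
    rw [Subgroup.card_map_of_injective hιinj]
    rcases hsm with h | ⟨h, x, y, hxy⟩
    · exact Or.inl h
    · refine Or.inr ⟨h, ⟨ι x, x, x.2, rfl⟩, ⟨ι y, y, y.2, rfl⟩, ?_⟩
      intro heq
      apply hxy
      have h1 := congrArg Subtype.val heq
      have h2 : ι ((x : ↥Hc) * (y : ↥Hc)) = ι ((y : ↥Hc) * (x : ↥Hc)) := by
        rw [map_mul, map_mul]
        exact h1
      exact Subtype.ext (hιinj h2)
  · -- faithfulness
    intro a haR hcop haD
    have := hchar
    have hH : IsPGroup p (Hc.map R.subtype : Subgroup G) :=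
      hR.to_le (Subgroup.map_subtype_le Hc)
    have haH : a ∈ Subgroup.normalizer ((Hc.map R.subtype : Subgroup G) : Set G) :=
      Cfsg.Agent.Lib.Helper1.normalizer_le_normalizer_map_of_characteristic R Hc haR
    have hfixp : ∀ x ∈ (Hc.map R.subtype : Subgroup G), x ^ p = 1 → x * a = a * x := by
      rintro _ ⟨h, hh, rfl⟩ hxp
      have hy : (⟨h, hh⟩ : ↥Hc) ^ p = 1 := by
        apply Subtype.ext
        apply Subtype.ext
        exact hxp
      have hmem : ι ⟨h, hh⟩ ∈ D0.map ι := ⟨_, hD0mem _ hy, rfl⟩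
      rw [hιapp] at hmem
      exact (Subgroup.mem_centralizer_iff.mp haD) _ hmem
    have hEe : Cfsg.IsElementaryAbelian p (⊥ : Subgroup G) :=
      ⟨⟨⟨fun a b => Subsingleton.elim _ _⟩⟩, fun a ha => by rw [Subgroup.mem_bot.mp ha, one_pow]⟩
    have hS := Cfsg.Agent.S1443.result p hp2 (Hc.map R.subtype) ⊥ (Subgroup.zpowers a) hH bot_le hEe
      (Subgroup.zpowers_le.mpr haH) (by rw [Nat.card_zpowers]; exact hcop)
      (by
        intro x hx hox
        rw [Subgroup.zpowers_le, Subgroup.mem_centralizer_iff]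
        intro h hh
        rw [Set.mem_singleton_iff] at hh
        subst hh
        apply hfixp h hx.1
        rw [← hox]
        exact pow_orderOf_eq_one h)
    have hab : ∀ b ∈ (Hc.map R.subtype : Subgroup G), a * b = b * a := by
      intro b hb
      exact ((Subgroup.mem_centralizer_iff.mp (hS (Subgroup.mem_zpowers a))) b hb).symm
    have hHR : (Hc.map R.subtype : Subgroup G) ≤ Subgroup.normalizer (R : Set G) :=
      (Subgroup.map_subtype_le Hc).trans Subgroup.le_normalizer
    have key := Cfsg.Agent.Lib.Helper17.thompson_AxB hH hcop hab (Nat.card R) R rfl hR haR hHR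
      (by
        intro x hx hxc
        have h1 : (⟨x, hx⟩ : ↥R) ∈ Subgroup.centralizer (Hc : Set ↥R) := by
          rw [Subgroup.mem_centralizer_iff]
          intro h hh
          apply Subtype.ext
          exact hxc (h : G) ⟨h, hh, rfl⟩
        exact hab x ⟨⟨x, hx⟩, hCH h1, rfl⟩)
    rw [Subgroup.mem_centralizer_iff]
    intro x hx
    exact (key x hx).symm

/-- **BG, Section 4 core**: a solvable group `A` of odd order normalizing a `p`-group `R` of rank
at most two (`p` odd): `A'` acts on `R` as a `p`-group. -/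
theorem rank_two_commutator_pgroup (hp2 : p ≠ 2) (R A : Subgroup G) (hR : IsPGroup p R)
    (hrk : Cfsg.PRankLE p 2 ↥R) (hA : A ≤ Subgroup.normalizer (R : Set G))
    (hAs : Group.IsSolvable A) (hAodd : Odd (Nat.card A)) :
    ∀ a ∈ ⁅A, A⁆, ∃ k : ℕ, a ^ p ^ k ∈ Subgroup.centralizer (R : Set G) := by
  have hp : p.Prime := Fact.out
  obtain ⟨D, hDR, hND, hsmall, hfaith⟩ := exists_small_faithful hp2 R hR hrk
  have hAD : A ≤ Subgroup.normalizer (D : Set G) := hA.trans hND
  have hDp : IsPGroup p D := hR.to_le hDR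
  have key := aut_pgroup_commutator_pow' hp2 hAodd hDp hsmall (conjActHom D A hAD)
  intro a ha
  rw [← Subgroup.map_subtype_commutator] at ha
  obtain ⟨g, hg, rfl⟩ := ha
  obtain ⟨k, hk⟩ := key g hg
  -- `b = a ^ p ^ k` centralizes `D`
  have hbD : (g : G) ^ p ^ k ∈ Subgroup.centralizer (D : Set G) := by
    rw [Subgroup.mem_centralizer_iff]
    intro x hx
    have h1 : conjActHom D A hAD (g ^ p ^ k) ⟨x, hx⟩ = ⟨x, hx⟩ := by
      rw [hk]
      rfl
    have h2 := congrArg (fun y : D => (y : G)) h1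
    simp only [conjActHom_apply, Subgroup.coe_pow] at h2
    calc x * (g : G) ^ p ^ k = ((g : G) ^ p ^ k * x * ((g : G) ^ p ^ k)⁻¹) * (g : G) ^ p ^ k := by
          rw [h2]
      _ = (g : G) ^ p ^ k * x := by group
  -- split off the `p`-part of the order
  obtain ⟨s, m, hm, hsm⟩ := Nat.exists_eq_pow_mul_and_not_dvd (orderOf_pos ((g : G) ^ p ^ k)).ne' p
    hp.ne_one
  refine ⟨k + s, ?_⟩
  have hc : ((g : G) ^ p ^ k) ^ p ^ s ∈ Subgroup.centralizer (R : Set G) := by
    apply hfaith
    · exact hA (Subgroup.pow_mem _ (Subgroup.pow_mem _ g.2 _) _)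
    · have h1 : (((g : G) ^ p ^ k) ^ p ^ s) ^ m = 1 := by
        rw [← pow_mul, ← hsm]
        exact pow_orderOf_eq_one _
      have h2 : orderOf (((g : G) ^ p ^ k) ^ p ^ s) ∣ m := orderOf_dvd_of_pow_eq_one h1
      exact Nat.Coprime.coprime_dvd_left h2 ((Nat.Prime.coprime_iff_not_dvd hp).mpr hm).symm
    · exact Subgroup.pow_mem _ hbD _
  rw [pow_add, pow_mul]
  exact hc

end Core

end Cfsg.Agent.Lib.Helper10
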