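import Mathlib
import Cfsg.Agent.Lib.Helper10.Rank2Core
import Cfsg.Agent.Lib.Helper10.PComponent
import Cfsg.Agent.Lib.Helper1.Fitting
import Cfsg.Agent.Lib.Helper9.Rank

/-!
Solvable groups of odd order and `p`-rank at most two (BG, Section 4): `G/O_{p',p}(G)` is an
abelian `p'`-group all of whose prime divisors are smaller than `p`, and consequences.
-/

set_option autoImplicit false

namespace Cfsg.Agent.Lib.Helper10

open scoped Classical
open scoped commutatorElement

section AutPrime

universe v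

variable {p : ℕ} [Fact p.Prime]

/-- the automorphism group of an elementary abelian group of rank two embeds in `GL₂(p)`. -/
theorem exists_mulAut_to_gl2 {Q : Type v} [CommGroup Q] [Finite Q] [Module (ZMod p) (Additive Q)]
    (hd : Module.finrank (ZMod p) (Additive Q) = 2) :
    ∃ f : MulAut Q →* GL (Fin 2) (ZMod p), Function.Injective f := by
  have hfinW : Finite (Additive Q) := Finite.of_equiv Q Additive.ofMul
  let F : MulAut Q → (Additive Q →ₗ[ZMod p] Additive Q) := fun g =>
    (MulEquiv.toAdditive g).toAddMonoidHom.toZModLinearMap p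
  have hF : ∀ (g : MulAut Q) (v : Additive Q),
      F g v = Additive.ofMul (g (Additive.toMul v)) := fun g v => rfl
  have hF1 : F 1 = 1 := by
    ext v
    rw [hF]
    rfl
  have hFm : ∀ g h : MulAut Q, F (g * h) = F g * F h := by
    intro g h
    ext v
    rw [hF]
    rfl
  let ρ : MulAut Q →* Module.End (ZMod p) (Additive Q) :=
    { toFun := F
      map_one' := hF1
      map_mul' := hFm }
  let b : Module.Basis (Fin 2) (ZMod p) (Additive Q) :=
    Module.finBasisOfFinrankEq (ZMod p) (Additive Q) hd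
  let E : (Module.End (ZMod p) (Additive Q))ˣ ≃* GL (Fin 2) (ZMod p) :=
    Units.mapEquiv (LinearMap.toMatrixAlgEquiv b).toRingEquiv.toMulEquiv
  refine ⟨E.toMonoidHom.comp ρ.toHomUnits, ?_⟩
  intro g h hgh
  have h1 : ρ.toHomUnits g = ρ.toHomUnits h := E.injective hgh
  have h2 : F g = F h := by
    have := congrArg Units.val h1
    rw [MonoidHom.coe_toHomUnits, MonoidHom.coe_toHomUnits] at this
    exact this
  ext x
  have h3 : F g (Additive.ofMul x) = F h (Additive.ofMul x) := by rw [h2]
  rw [hF, hF] at h3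
  exact congrArg Additive.toMul h3

theorem card_gl2_zmod : Nat.card (GL (Fin 2) (ZMod p)) = (p ^ 2 - 1) * (p ^ 2 - p) := by
  rw [Matrix.card_GL_field, Fin.prod_univ_two, ZMod.card]
  simp

/-- an automorphism of prime order `q ≠ p` of an elementary abelian group of order at most `p²`:
`q` divides `|GL₂(p)|`. -/
theorem aut_elemAb_prime_order_dvd {Q : Type v} [CommGroup Q] [Finite Q]
    [Module (ZMod p) (Additive Q)] (hQ : Nat.card Q ≤ p ^ 2) (β : MulAut Q) (q : ℕ)
    (hq : q.Prime) (hβ : orderOf β = q) : q ∣ (p ^ 2 - 1) * (p ^ 2 - p) := by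
  have hp : p.Prime := Fact.out
  have hfinW : Finite (Additive Q) := Finite.of_equiv Q Additive.ofMul
  have hcardW : Nat.card (Additive Q) = Nat.card Q := Nat.card_congr Additive.ofMul.symm
  have hcard : Nat.card Q = p ^ Module.finrank (ZMod p) (Additive Q) := by
    rw [← hcardW, Module.natCard_eq_pow_finrank (K := ZMod p) (V := Additive Q), Nat.card_zmod]
  have hd2 : Module.finrank (ZMod p) (Additive Q) ≤ 2 := by
    rw [hcard] at hQ
    exact (Nat.pow_le_pow_iff_right hp.one_lt).mp hQ
  rcases Nat.lt_or_ge (Module.finrank (ZMod p) (Additive Q)) 2 with hd | hd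
  · have h01 : Module.finrank (ZMod p) (Additive Q) = 0 ∨
        Module.finrank (ZMod p) (Additive Q) = 1 := by omega
    have hcyc : IsCyclic Q := by
      rcases h01 with h0 | h1
      · rw [h0, pow_zero] at hcard
        have : Subsingleton Q := (Nat.card_eq_one_iff_unique.mp hcard).1
        exact isCyclic_of_subsingleton
      · rw [h1, pow_one] at hcard
        exact isCyclic_of_prime_card hcard
    have h1 : orderOf (IsCyclic.mulAutMulEquiv Q β) = q := by
      rw [← hβ]
      exact orderOf_injective (IsCyclic.mulAutMulEquiv Q).toMonoidHom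
        (IsCyclic.mulAutMulEquiv Q).injective β
    have h2 : q ∣ Nat.card (ZMod (Nat.card Q))ˣ := by
      rw [← h1]
      exact orderOf_dvd_natCard _
    have hpos : NeZero (Nat.card Q) := ⟨Nat.card_pos.ne'⟩
    rw [Nat.card_eq_fintype_card, ZMod.card_units_eq_totient] at h2
    rcases h01 with h0 | h1'
    · rw [hcard, h0, pow_zero, Nat.totient_one] at h2
      exact absurd (Nat.dvd_one.mp h2) hq.one_lt.ne'
    · rw [hcard, h1', pow_one, Nat.totient_prime hp] at h2
      have h3 : p ^ 2 - p = p * (p - 1) := by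
        rw [pow_two, Nat.mul_sub_one]
      rw [h3]
      exact Dvd.dvd.mul_left (Dvd.dvd.mul_left h2 p) _
  · have hd' : Module.finrank (ZMod p) (Additive Q) = 2 := le_antisymm hd2 hd
    obtain ⟨f, hf⟩ := exists_mulAut_to_gl2 (p := p) hd'
    have h1 : orderOf (f β) = q := by
      rw [← hβ]
      exact orderOf_injective f hf β
    rw [← card_gl2_zmod, ← h1]
    exact orderOf_dvd_natCard _

/-- an automorphism of prime order `q ≠ p` of a small `p`-group: `q` divides `|GL₂(p)|`. -/
theorem aut_small_prime_order_dvd {P0 : Type v} [Group P0] [Finite P0] (hP : IsPGroup p P0)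
    (hsmall : Nat.card P0 ≤ p ^ 2 ∨ (Nat.card P0 ≤ p ^ 3 ∧ ∃ x y : P0, x * y ≠ y * x))
    (α : MulAut P0) (q : ℕ) (hq : q.Prime) (hqp : q ≠ p) (hα : orderOf α = q) :
    q ∣ (p ^ 2 - 1) * (p ^ 2 - p) := by
  have hp : p.Prime := Fact.out
  -- the Frattini quotient is small
  have hfr : Nat.card (P0 ⧸ frattini P0) ≤ p ^ 2 := by
    rw [← Subgroup.index_eq_card]
    rcases hsmall with h | ⟨h3, x, y, hxy⟩
    · exact (Nat.le_of_dvd Nat.card_pos (Subgroup.index_dvd_card _)).trans h
    · have hne : frattini P0 ≠ ⊥ := by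
        intro hbot
        have h1 : ⁅x, y⁆ ∈ frattini P0 :=
          Cfsg.Agent.Lib.Helper1.IsPGroup.commutator_le_frattini hP
            (Subgroup.commutator_mem_commutator (Subgroup.mem_top x) (Subgroup.mem_top y))
        rw [hbot, Subgroup.mem_bot, commutatorElement_eq_one_iff_commute] at h1
        exact hxy h1.eq
      have h2 : 2 ≤ Nat.card (frattini P0) := (Subgroup.one_lt_card_iff_ne_bot _).mpr hne
      obtain ⟨r, hr⟩ := hP.index (frattini P0)
      have h4 : (frattini P0).index * Nat.card (frattini P0) = Nat.card P0 :=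
        Subgroup.index_mul_card _
      rw [hr] at h4 ⊢
      have h5 : p ^ r * 2 ≤ p ^ 3 := by
        calc p ^ r * 2 ≤ p ^ r * Nat.card (frattini P0) := Nat.mul_le_mul_left _ h2
          _ = Nat.card P0 := h4
          _ ≤ p ^ 3 := h3
      have h6 : r < 3 := by
        by_contra hge
        push Not at hge
        have h7 : p ^ 3 ≤ p ^ r := Nat.pow_le_pow_right hp.pos hge
        have h8 : 0 < p ^ 3 := pow_pos hp.pos 3
        omega
      exact Nat.pow_le_pow_right hp.pos (by omega)
  have hcomm : ∀ x y : P0 ⧸ frattini P0, x * y = y * x := by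
    intro x y
    obtain ⟨x, rfl⟩ := QuotientGroup.mk_surjective x
    obtain ⟨y, rfl⟩ := QuotientGroup.mk_surjective y
    rw [← QuotientGroup.mk_mul, ← QuotientGroup.mk_mul, QuotientGroup.eq]
    apply Cfsg.Agent.Lib.Helper1.IsPGroup.commutator_le_frattini hP
    have h1 : (x * y)⁻¹ * (y * x) = ⁅y⁻¹, x⁻¹⁆ := by
      rw [commutatorElement_def]; group
    rw [h1]
    exact Subgroup.commutator_mem_commutator (Subgroup.mem_top _) (Subgroup.mem_top _)
  have hexp : ∀ x : P0 ⧸ frattini P0, x ^ p = 1 := by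
    intro x
    obtain ⟨x, rfl⟩ := QuotientGroup.mk_surjective x
    rw [← QuotientGroup.mk_pow, QuotientGroup.eq_one_iff]
    exact Cfsg.Agent.Lib.Helper1.IsPGroup.pow_mem_frattini hP x
  let iC : CommGroup (P0 ⧸ frattini P0) :=
    { (inferInstance : Group (P0 ⧸ frattini P0)) with mul_comm := hcomm }
  let iM : @Module (ZMod p) (Additive (P0 ⧸ frattini P0)) _
      (@AddCommGroup.toAddCommMonoid _ (@Additive.addCommGroup _ iC)) :=
    @AddCommGroup.zmodModule p (Additive (P0 ⧸ frattini P0)) (@Additive.addCommGroup _ iC) (by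
      intro x
      show Additive.ofMul ((Additive.toMul x) ^ p) = 0
      rw [hexp]
      rfl)
  -- the induced automorphism is nontrivial of order `q`
  have hβ1 : Cfsg.Agent.S4208.frattiniHom P0 α ≠ 1 := by
    intro h1
    have hαker : α ∈ (Cfsg.Agent.S4208.frattiniHom P0).ker := h1
    obtain ⟨n, hn⟩ := hP.exists_card_eq
    obtain ⟨r, hr⟩ := hP.index (frattini P0)
    have hdvd := Cfsg.Agent.S4207.result hn hr (Subgroup.zpowers α) (by
      intro β hβ x
      have hβker : β ∈ (Cfsg.Agent.S4208.frattiniHom P0).ker :=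
        (Subgroup.zpowers_le.mpr hαker) hβ
      rw [MonoidHom.mem_ker] at hβker
      have h2 : Cfsg.Agent.S4208.frattiniHom P0 β (QuotientGroup.mk x) = QuotientGroup.mk x := by
        rw [hβker]; rfl
      rw [Cfsg.Agent.S4208.frattiniHom_mk, QuotientGroup.eq_iff_div_mem, div_eq_mul_inv] at h2
      exact h2)
    rw [Nat.card_zpowers, hα] at hdvd
    exact hqp ((Nat.prime_dvd_prime_iff_eq hq hp).mp (hq.dvd_of_dvd_pow hdvd))
  have hβq : orderOf (Cfsg.Agent.S4208.frattiniHom P0 α) = q := by
    have h1 : (Cfsg.Agent.S4208.frattiniHom P0 α) ^ q = 1 := by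
      rw [← map_pow, ← hα, pow_orderOf_eq_one, map_one]
    have h2 := orderOf_dvd_of_pow_eq_one h1
    rcases (Nat.dvd_prime hq).mp h2 with h | h
    · exact absurd (orderOf_eq_one_iff.mp h) hβ1
    · exact h
  exact @aut_elemAb_prime_order_dvd p _ (P0 ⧸ frattini P0) iC inferInstance iM hfr
    (Cfsg.Agent.S4208.frattiniHom P0 α) q hq hβq

end AutPrime

section Rank2

universe u

variable {p : ℕ} [Fact p.Prime] {G : Type u} [Group G] [Finite G]

/-- a `p'`-element of prime order `q` normalizing but not centralizing a `p`-group of rank at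
most two: `q` divides `|GL₂(p)|`. -/
theorem prime_order_dvd_of_not_centralizing (hp2 : p ≠ 2) (R : Subgroup G) (hR : IsPGroup p R)
    (hrk : Cfsg.PRankLE p 2 ↥R) (a : G) (ha : a ∈ Subgroup.normalizer (R : Set G)) (q : ℕ)
    (hq : q.Prime) (hqp : q ≠ p) (hoa : orderOf a = q)
    (hac : a ∉ Subgroup.centralizer (R : Set G)) : q ∣ (p ^ 2 - 1) * (p ^ 2 - p) := by
  have hp : p.Prime := Fact.out
  obtain ⟨D, hDR, hND, hsmall, hfaith⟩ := exists_small_faithful hp2 R hR hrk
  have hcop : (orderOf a).Coprime p := by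
    rw [hoa]
    exact (Nat.coprime_primes hq hp).mpr hqp
  have haD : a ∉ Subgroup.centralizer (D : Set G) := fun h => hac (hfaith a ha hcop h)
  have hLN : Subgroup.zpowers a ≤ Subgroup.normalizer (D : Set G) :=
    Subgroup.zpowers_le.mpr (hND ha)
  obtain ⟨α, hα⟩ : ∃ α : MulAut ↥D,
      α = conjActHom D (Subgroup.zpowers a) hLN ⟨a, Subgroup.mem_zpowers a⟩ := ⟨_, rfl⟩
  have hαq : α ^ q = 1 := by
    rw [hα, ← map_pow]
    have h1 : (⟨a, Subgroup.mem_zpowers a⟩ : Subgroup.zpowers a) ^ q = 1 := by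
      apply Subtype.ext
      rw [Subgroup.coe_pow, Subgroup.coe_one, ← hoa]
      exact pow_orderOf_eq_one a
    rw [h1, map_one]
  have hα1 : α ≠ 1 := by
    intro h
    apply haD
    rw [Subgroup.mem_centralizer_iff]
    intro x hx
    have h1 : α ⟨x, hx⟩ = ⟨x, hx⟩ := by rw [h]; rfl
    have h2 := congrArg (fun y : ↥D => (y : G)) h1
    rw [hα] at h2
    simp only [conjActHom_apply] at h2
    calc x * a = a * x * a⁻¹ * a := by rw [h2]
      _ = a * x := by group
  have hoα : orderOf α = q := by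
    rcases (Nat.dvd_prime hq).mp (orderOf_dvd_of_pow_eq_one hαq) with h | h
    · exact absurd (orderOf_eq_one_iff.mp h) hα1
    · exact h
  exact aut_small_prime_order_dvd (hR.to_le hDR) hsmall α q hq hqp hoα

/-- the `p`-rank does not grow in quotients by normal `p'`-subgroups. -/
theorem pRankLE_quotient (N : Subgroup G) [N.Normal] (hN : (Nat.card N).Coprime p) {k : ℕ}
    (h : Cfsg.PRankLE p k G) : Cfsg.PRankLE p k (G ⧸ N) := by
  have hp : p.Prime := Fact.out
  intro A hAc hAp
  have hAP : IsPGroup p A := by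
    intro a
    refine ⟨1, ?_⟩
    apply Subtype.ext
    rw [pow_one, Subgroup.coe_pow, Subgroup.coe_one]
    exact hAp a a.2
  -- the preimage of `A` and one of its Sylow subgroups
  obtain ⟨H, hH⟩ : ∃ H : Subgroup G, H = A.comap (QuotientGroup.mk' N) := ⟨_, rfl⟩
  have hNH : N ≤ H := by
    rw [hH]
    intro x hx
    rw [Subgroup.mem_comap]
    have : QuotientGroup.mk' N x = 1 := (QuotientGroup.eq_one_iff x).mpr hx
    rw [this]
    exact one_mem _
  obtain ⟨P⟩ : Nonempty (Sylow p ↥H) := inferInstance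
  obtain ⟨P', hP'⟩ : ∃ P' : Subgroup G, P' = (P : Subgroup ↥H).map H.subtype := ⟨_, rfl⟩
  have hP'H : P' ≤ H := by
    rw [hP']
    exact Subgroup.map_subtype_le _
  have hP'p : IsPGroup p P' := by
    rw [hP']
    exact P.2.map _
  have hcardP' : Nat.card P' = Nat.card (P : Subgroup ↥H) := by
    rw [hP']
    exact Nat.card_congr ((P : Subgroup ↥H).equivMapOfInjective H.subtype
      H.subtype_injective).toEquiv.symm
  -- `mk` is injective on `P'`
  have hdisj : Disjoint P' N := by
    apply Subgroup.disjoint_of_coprime_natCard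
    obtain ⟨n, hn⟩ := hP'p.exists_card_eq
    rw [hn]
    exact (Nat.Coprime.pow_left n hN.symm)
  have hinj : ∀ x ∈ P', ∀ y ∈ P', (QuotientGroup.mk' N x = QuotientGroup.mk' N y) → x = y := by
    intro x hx y hy hxy
    have h1 : x⁻¹ * y ∈ N := by
      have := QuotientGroup.eq.mp hxy
      exact this
    have h2 : x⁻¹ * y ∈ P' := mul_mem (inv_mem hx) hy
    have h3 : x⁻¹ * y = 1 := Subgroup.disjoint_def.mp hdisj h2 h1
    calc x = x * (x⁻¹ * y) := by rw [h3, mul_one]
      _ = y := by group
  have hP'c : IsMulCommutative ↥P' := by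
    refine ⟨⟨?_⟩⟩
    rintro ⟨x, hx⟩ ⟨y, hy⟩
    apply Subtype.ext
    show x * y = y * x
    apply hinj _ (mul_mem hx hy) _ (mul_mem hy hx)
    rw [map_mul, map_mul]
    have hxA : QuotientGroup.mk' N x ∈ A := by
      have := hP'H hx
      rw [hH] at this
      exact this
    have hyA : QuotientGroup.mk' N y ∈ A := by
      have := hP'H hy
      rw [hH] at this
      exact this
    have := hAc.is_comm.comm ⟨_, hxA⟩ ⟨_, hyA⟩
    exact congrArg Subtype.val this
  have hP'e : ∀ x ∈ P', x ^ p = 1 := by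
    intro x hx
    apply hinj _ (pow_mem hx p) _ (one_mem _)
    rw [map_pow, map_one]
    apply hAp
    have := hP'H hx
    rw [hH] at this
    exact this
  have hle := h P' hP'c hP'e
  -- cardinalities
  have hcardH : Nat.card H = Nat.card N * Nat.card A := by
    have h1 : H.index = A.index := by
      rw [hH]
      exact Subgroup.index_comap_of_surjective A (QuotientGroup.mk'_surjective N)
    have h2 : Nat.card H * H.index = Nat.card G := Subgroup.card_mul_index H
    have h3 : Nat.card A * A.index = Nat.card (G ⧸ N) := Subgroup.card_mul_index A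
    have h4 : Nat.card N * N.index = Nat.card G := Subgroup.card_mul_index N
    have h5 : N.index = Nat.card (G ⧸ N) := Subgroup.index_eq_card N
    have h6 : 0 < A.index := Nat.pos_of_ne_zero Subgroup.index_ne_zero_of_finite
    apply Nat.eq_of_mul_eq_mul_right h6
    rw [← h1, h2, ← h4, h5, ← h3, h1, mul_assoc]
  have hPcard : Nat.card (P : Subgroup ↥H) = p ^ (Nat.card H).factorization p := P.card_eq_multiplicity
  obtain ⟨n, hn⟩ := hAP.exists_card_eq
  have hfac : (Nat.card H).factorization p = n := by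
    rw [hcardH, hn, Nat.factorization_mul Nat.card_pos.ne' (pow_pos hp.pos n).ne']
    simp only [Finsupp.coe_add, Pi.add_apply]
    rw [Nat.factorization_eq_zero_of_not_dvd, zero_add, hp.factorization_pow]
    · simp
    · intro hdvd
      have := Nat.Coprime.eq_one_of_dvd hN.symm hdvd
      exact hp.one_lt.ne' this
  rw [hn, ← hfac, ← hPcard, ← hcardP']
  exact hle

/-- an odd prime `q ≠ p` dividing `|GL₂(p)|` is smaller than `p`. -/
theorem lt_of_odd_prime_dvd_card_gl2 (hp2 : p ≠ 2) {q : ℕ} (hq : q.Prime) (hq2 : q ≠ 2)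
    (hqp : q ≠ p)
    (hdvd : q ∣ (p ^ 2 - 1) * (p ^ 2 - p)) : q < p := by
  have hp : p.Prime := Fact.out
  have h1 : p ^ 2 - 1 = (p - 1) * (p + 1) := by
    have : 1 ≤ p := hp.pos
    zify [this, Nat.one_le_pow 2 p this]
    ring
  have h2 : p ^ 2 - p = p * (p - 1) := by
    rw [pow_two, Nat.mul_sub_one]
  rw [h1, h2] at hdvd
  have hp1 : 0 < p - 1 := Nat.sub_pos_of_lt hp.one_lt
  have hcase : q ∣ p - 1 ∨ q ∣ p + 1 := by
    rcases (Nat.Prime.dvd_mul hq).mp hdvd with h | h
    · rcases (Nat.Prime.dvd_mul hq).mp h with h | h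
      · exact Or.inl h
      · exact Or.inr h
    · rcases (Nat.Prime.dvd_mul hq).mp h with h | h
      · exact absurd ((Nat.prime_dvd_prime_iff_eq hq hp).mp h) hqp
      · exact Or.inl h
  rcases hcase with h | h
  · have := Nat.le_of_dvd hp1 h
    omega
  · obtain ⟨c, hc⟩ := h
    have hqodd : q % 2 = 1 := by
      rcases hq.eq_two_or_odd with h | h
      · exact absurd h hq2
      · exact h
    rcases hp.eq_two_or_odd with hp2' | hpodd
    · exact absurd hp2' hp2
    · have hc2 : c % 2 = 0 := by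
        have : (q * c) % 2 = 0 := by rw [← hc]; omega
        rw [Nat.mul_mod, hqodd] at this
        omega
      have hcpos : 2 ≤ c := by
        rcases Nat.eq_zero_or_pos c with h0 | h0
        · subst h0; omega
        · omega
      have : q * 2 ≤ q * c := Nat.mul_le_mul_left q hcpos
      have hq1 := hq.two_le
      omega

/-- **BG, Section 4**: a solvable group `G` of odd order with `O_{p'}(G) = 1` and `p`-rank at
most two: `G' ≤ O_p(G)`, `O_p(G)` is a Sylow subgroup, and all prime divisors of `|G|` are at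
most `p`. -/
theorem rank_two_core_free [Group.IsSolvable G] (hodd : Odd (Nat.card G)) (hp2 : p ≠ 2)
    (hrk : Cfsg.PRankLE p 2 G) (hcore : Cfsg.pPrimeCore p G = ⊥) :
    commutator G ≤ Cfsg.pCore p G ∧ ((Cfsg.pCore p G).index).Coprime p ∧
      ∀ q : ℕ, q.Prime → q ∣ Nat.card G → q ≤ p := by
  have hp : p.Prime := Fact.out
  have hTn : (Cfsg.pCore p G).Normal := Cfsg.Agent.Lib.Helper1.pCore_normal p
  have hTp : IsPGroup p (Cfsg.pCore p G) := Cfsg.Agent.Lib.Helper1.pCore_isPGroup p
  have hCT : Subgroup.centralizer (Cfsg.pCore p G : Set G) ≤ Cfsg.pCore p G :=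
    Cfsg.Agent.Lib.Helper1.centralizer_pCore_le p hcore
  have hTrk : Cfsg.PRankLE p 2 ↥(Cfsg.pCore p G) :=
    Cfsg.Agent.Lib.Helper9.pRankLE_of_injective (Cfsg.pCore p G).subtype
      (Cfsg.pCore p G).subtype_injective hrk
  have hTN : Subgroup.normalizer (Cfsg.pCore p G : Set G) = ⊤ :=
    Subgroup.normalizer_eq_top_iff.mpr hTn
  -- the commutator subgroup is a `p`-group
  have hcomm : commutator G ≤ Cfsg.pCore p G := by
    have htopodd : Odd (Nat.card (⊤ : Subgroup G)) := by
      rw [Subgroup.card_top]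
      exact hodd
    have htops : Group.IsSolvable (⊤ : Subgroup G) :=
      Group.isSolvable_of_isSolvable_injective (Subgroup.subtype_injective _)
    have key := rank_two_commutator_pgroup hp2 (Cfsg.pCore p G) ⊤ hTp hTrk
      (by rw [hTN]) htops htopodd
    apply Cfsg.Agent.Lib.Helper1.le_pCore inferInstance
    intro ⟨a, ha⟩
    obtain ⟨k, hk⟩ := key a ha
    obtain ⟨m, hm⟩ := hTp ⟨a ^ p ^ k, hCT hk⟩
    refine ⟨k + m, ?_⟩
    apply Subtype.ext
    have := congrArg Subtype.val hm
    simp only [Subgroup.coe_pow, Subgroup.coe_one] at this ⊢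
    rw [pow_add, pow_mul]
    exact this
  -- the core is a Sylow subgroup
  obtain ⟨S⟩ : Nonempty (Sylow p G) := inferInstance
  have hTS : Cfsg.pCore p G ≤ S := Cfsg.Agent.Lib.Helper1.pCore_le_sylow S
  have hSn : (S : Subgroup G).Normal := by
    refine ⟨fun x hx g => ?_⟩
    have h1 : g * x * g⁻¹ = ⁅g, x⁆ * x := by
      rw [commutatorElement_def]; group
    rw [h1]
    exact mul_mem (hTS (hcomm (Subgroup.commutator_mem_commutator (Subgroup.mem_top g)
      (Subgroup.mem_top x)))) hx
  have hST : (S : Subgroup G) = Cfsg.pCore p G :=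
    le_antisymm (Cfsg.Agent.Lib.Helper1.le_pCore hSn S.2) hTS
  have hidx : ((Cfsg.pCore p G).index).Coprime p := by
    rw [← hST]
    exact (hp.coprime_iff_not_dvd.mpr S.not_dvd_index).symm
  refine ⟨hcomm, hidx, ?_⟩
  intro q hq hqG
  by_contra hlt
  push Not at hlt
  have hqp : q ≠ p := by omega
  have hq2 : q ≠ 2 := by
    rintro rfl
    exact (Nat.not_even_iff_odd.mpr hodd) (even_iff_two_dvd.mpr hqG)
  have : Fact q.Prime := ⟨hq⟩
  obtain ⟨a, hoa⟩ := exists_prime_orderOf_dvd_card' q hqG
  have haN : a ∈ Subgroup.normalizer (Cfsg.pCore p G : Set G) := by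
    rw [hTN]; exact Subgroup.mem_top a
  have hac : a ∉ Subgroup.centralizer (Cfsg.pCore p G : Set G) := by
    intro hc
    obtain ⟨m, hm⟩ := hTp ⟨a, hCT hc⟩
    have h1 : a ^ p ^ m = 1 := by
      have := congrArg Subtype.val hm
      simpa using this
    have h2 : q ∣ p ^ m := by
      rw [← hoa]
      exact orderOf_dvd_of_pow_eq_one h1
    exact hqp ((Nat.prime_dvd_prime_iff_eq hq hp).mp (hq.dvd_of_dvd_pow h2))
  have hdvd := prime_order_dvd_of_not_centralizing hp2 (Cfsg.pCore p G) hTp hTrk a haN q hq hqp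
    hoa hac
  have := lt_of_odd_prime_dvd_card_gl2 hp2 hq hq2 hqp hdvd
  omega

/-- a normal `p'`-subgroup of `p`-power index is a normal `p`-complement, contains every
`p'`-subgroup, and lies in `O_{p'}`. -/
theorem normal_pComplement_of_index_pow (M : Subgroup G) [M.Normal]
    (hM : (Nat.card M).Coprime p) {k : ℕ} (hk : M.index = p ^ k) :
    Cfsg.HasNormalPComplement p G ∧
      (∀ L : Subgroup G, (Nat.card L).Coprime p → L ≤ M) ∧ M ≤ Cfsg.pPrimeCore p G := by
  have hp : p.Prime := Fact.out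
  refine ⟨?_, ?_, Cfsg.Agent.Lib.Helper1.le_pPrimeCore inferInstance hM⟩
  · obtain ⟨P⟩ : Nonempty (Sylow p G) := inferInstance
    refine ⟨P, M, inferInstance, ?_⟩
    have hcardG : Nat.card G = Nat.card M * p ^ k := by
      rw [← hk]
      exact (Subgroup.card_mul_index M).symm
    have hfac : (Nat.card G).factorization p = k := by
      rw [hcardG, Nat.factorization_mul Nat.card_pos.ne' (pow_pos hp.pos k).ne']
      simp only [Finsupp.coe_add, Pi.add_apply]
      rw [Nat.factorization_eq_zero_of_not_dvd, zero_add, hp.factorization_pow]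
      · simp
      · intro hdvd
        have := Nat.Coprime.eq_one_of_dvd hM.symm hdvd
        exact hp.one_lt.ne' this
    have hPcard : Nat.card (P : Subgroup G) = p ^ k := by
      rw [P.card_eq_multiplicity, hfac]
    apply Subgroup.isComplement'_of_coprime
    · rw [hPcard, hcardG]
    · rw [hPcard]
      exact Nat.Coprime.pow_right k hM
  · intro L hL x hx
    have h1 : orderOf (QuotientGroup.mk' M x) ∣ Nat.card L := by
      have h2 : orderOf (QuotientGroup.mk' M x) ∣ orderOf x := orderOf_map_dvd _ x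
      have h3 : orderOf x ∣ Nat.card L := by
        have : orderOf (⟨x, hx⟩ : L) = orderOf x := Subgroup.orderOf_mk x hx
        rw [← this]
        exact orderOf_dvd_natCard _
      exact h2.trans h3
    have h4 : orderOf (QuotientGroup.mk' M x) ∣ p ^ k := by
      rw [← hk, Subgroup.index_eq_card]
      exact orderOf_dvd_natCard _
    have h5 : orderOf (QuotientGroup.mk' M x) = 1 :=
      Nat.eq_one_of_dvd_coprimes (Nat.Coprime.pow_right k hL) h1 h4
    have h6 := orderOf_eq_one_iff.mp h5
    exact (QuotientGroup.eq_one_iff x).mp h6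

/-- **BG, Section 4**: structure of a solvable group of odd order and `p`-rank at most two. -/
theorem rank_two_structure [Group.IsSolvable G] (hodd : Odd (Nat.card G)) (hp2 : p ≠ 2)
    (hrk : Cfsg.PRankLE p 2 G) :
    commutator (G ⧸ Cfsg.pPrimeCore p G) ≤ Cfsg.pCore p (G ⧸ Cfsg.pPrimeCore p G) ∧
      ((Cfsg.pCore p (G ⧸ Cfsg.pPrimeCore p G)).index).Coprime p ∧
      ∀ q : ℕ, q.Prime → q ∣ Nat.card (G ⧸ Cfsg.pPrimeCore p G) → q ≤ p := by
  have hNn : (Cfsg.pPrimeCore p G).Normal := Cfsg.Agent.Lib.Helper1.pPrimeCore_normal p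
  apply rank_two_core_free
  · have h1 : Nat.card (G ⧸ Cfsg.pPrimeCore p G) ∣ Nat.card G := by
      rw [← Subgroup.index_eq_card]
      exact Subgroup.index_dvd_card _
    obtain ⟨c, hc⟩ := h1
    rw [hc] at hodd
    exact (Nat.odd_mul.mp hodd).1
  · exact hp2
  · exact pRankLE_quotient _ (Cfsg.Agent.Lib.Helper1.pPrimeCore_coprime p) hrk
  · exact pPrimeCore_quotient_eq_bot p

/-- consequences of the structure `G' ≤ O_{p',p}(G)`, `O_{p',p}(G)` of `p'`-index, all prime
divisors of `|G/O_{p'}(G)|` at most `p`, in a group of odd order. -/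
theorem rank_two_conclusions (hodd : Odd (Nat.card G))
    (H1 : commutator (G ⧸ Cfsg.pPrimeCore p G) ≤ Cfsg.pCore p (G ⧸ Cfsg.pPrimeCore p G))
    (H2 : ((Cfsg.pCore p (G ⧸ Cfsg.pPrimeCore p G)).index).Coprime p)
    (H3 : ∀ q : ℕ, q.Prime → q ∣ Nat.card (G ⧸ Cfsg.pPrimeCore p G) → q ≤ p) :
    (∀ q : ℕ, q.Prime → q ∣ (Cfsg.pPrimeCore p G).index → q ≤ p) ∧
      ((p = 3 ∨ ∀ q : ℕ, q.Prime → q ∣ Nat.card G → p ≤ q) → Cfsg.HasNormalPComplement p G) ∧
      Cfsg.HasNormalPComplement p ↥(commutator G) ∧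
      (∀ L : Subgroup ↥(commutator G), (Nat.card L).Coprime p →
        L ≤ Cfsg.pPrimeCore p ↥(commutator G)) ∧
      commutator G ≤ Cfsg.pPrimePCore p G ∧ ((Cfsg.pPrimePCore p G).index).Coprime p := by
  have hp : p.Prime := Fact.out
  have hNn : (Cfsg.pPrimeCore p G).Normal := Cfsg.Agent.Lib.Helper1.pPrimeCore_normal p
  have hNc : (Nat.card (Cfsg.pPrimeCore p G)).Coprime p :=
    Cfsg.Agent.Lib.Helper1.pPrimeCore_coprime p
  have hTp : IsPGroup p (Cfsg.pCore p (G ⧸ Cfsg.pPrimeCore p G)) :=
    Cfsg.Agent.Lib.Helper1.pCore_isPGroup p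
  have hQdvd : Nat.card (G ⧸ Cfsg.pPrimeCore p G) ∣ Nat.card G := by
    rw [← Subgroup.index_eq_card]
    exact Subgroup.index_dvd_card _
  -- the map from the commutator subgroup to the quotient
  obtain ⟨θ, hθ⟩ : ∃ θ : ↥(commutator G) →* G ⧸ Cfsg.pPrimeCore p G,
      θ = (QuotientGroup.mk' (Cfsg.pPrimeCore p G)).comp (commutator G).subtype := ⟨_, rfl⟩
  have hθr : θ.range ≤ Cfsg.pCore p (G ⧸ Cfsg.pPrimeCore p G) := by
    rintro _ ⟨⟨x, hx⟩, rfl⟩
    apply H1
    rw [hθ]
    show QuotientGroup.mk' (Cfsg.pPrimeCore p G) x ∈ commutator (G ⧸ Cfsg.pPrimeCore p G)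
    have h1 : QuotientGroup.mk' (Cfsg.pPrimeCore p G) x ∈
        (commutator G).map (QuotientGroup.mk' (Cfsg.pPrimeCore p G)) := ⟨x, hx, rfl⟩
    rw [commutator_def, Subgroup.map_commutator] at h1
    rw [commutator_def]
    exact Subgroup.commutator_mono le_top le_top h1
  have hker : (Nat.card θ.ker).Coprime p := by
    have h1 : θ.ker.map (commutator G).subtype ≤ Cfsg.pPrimeCore p G := by
      rintro _ ⟨x, hx, rfl⟩
      have hx' : θ x = 1 := MonoidHom.mem_ker.mp hx
      rw [hθ] at hx'
      exact (QuotientGroup.eq_one_iff _).mp hx'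
    have h2 : Nat.card θ.ker = Nat.card (θ.ker.map (commutator G).subtype) :=
      Nat.card_congr (θ.ker.equivMapOfInjective _ (commutator G).subtype_injective).toEquiv
    rw [h2]
    exact Nat.Coprime.coprime_dvd_left (Subgroup.card_dvd_of_le h1) hNc
  obtain ⟨k, hk⟩ : ∃ k : ℕ, θ.ker.index = p ^ k := by
    rw [Subgroup.index_ker]
    exact (hTp.to_le hθr).exists_card_eq
  obtain ⟨h3a, h3b, h3c⟩ := normal_pComplement_of_index_pow θ.ker hker hk
  refine ⟨?_, ?_, h3a, fun L hL => (h3b L hL).trans h3c, ?_, ?_⟩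
  · intro q hq hqi
    rw [Subgroup.index_eq_card] at hqi
    exact H3 q hq hqi
  · intro hcase
    have hall : ∀ {q : ℕ}, q.Prime → q ∣ Nat.card (G ⧸ Cfsg.pPrimeCore p G) → q = p := by
      intro q hq hqd
      have hle := H3 q hq hqd
      rcases hcase with h3 | hmin
      · have hq2 : q ≠ 2 := by
          rintro rfl
          exact (Nat.not_even_iff_odd.mpr hodd) (even_iff_two_dvd.mpr (hqd.trans hQdvd))
        have := hq.two_le
        omega
      · exact le_antisymm hle (hmin q hq (hqd.trans hQdvd))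
    have hpow := Nat.eq_prime_pow_of_unique_prime_dvd Nat.card_pos.ne' hall
    rw [← Subgroup.index_eq_card] at hpow
    exact (normal_pComplement_of_index_pow (Cfsg.pPrimeCore p G) hNc hpow).1
  · intro x hx
    rw [Cfsg.pPrimePCore, Subgroup.mem_comap]
    exact hθr ⟨⟨x, hx⟩, by rw [hθ]; rfl⟩
  · rw [Cfsg.pPrimePCore, Subgroup.index_comap_of_surjective _ (QuotientGroup.mk'_surjective _)]
    exact H2

/-- **BG, Section 4** (all conclusions): a solvable group of odd order with `p`-rank at most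
two. -/
theorem rank_two_all [Group.IsSolvable G] (hodd : Odd (Nat.card G)) (hp2 : p ≠ 2)
    (hrk : Cfsg.PRankLE p 2 G) :
    (∀ q : ℕ, q.Prime → q ∣ (Cfsg.pPrimeCore p G).index → q ≤ p) ∧
      ((p = 3 ∨ ∀ q : ℕ, q.Prime → q ∣ Nat.card G → p ≤ q) → Cfsg.HasNormalPComplement p G) ∧
      Cfsg.HasNormalPComplement p ↥(commutator G) ∧
      (∀ L : Subgroup ↥(commutator G), (Nat.card L).Coprime p →
        L ≤ Cfsg.pPrimeCore p ↥(commutator G)) ∧
      commutator G ≤ Cfsg.pPrimePCore p G ∧ ((Cfsg.pPrimePCore p G).index).Coprime p := by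
  obtain ⟨H1, H2, H3⟩ := rank_two_structure hodd hp2 hrk
  exact rank_two_conclusions hodd H1 H2 H3

end Rank2

end Cfsg.Agent.Lib.Helper10
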