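import Mathlib
import Cfsg.Prelude.Def_CaseTheorems
import Cfsg.Agent.Lib.Helper10.Rank2Core
import Cfsg.Agent.Lib.Helper10.Rank2Solv
import Cfsg.Agent.Lib.Helper10.NilAction

/-!
Groups of odd order acting on narrow `p`-groups (BG, Section 5): a `p`-group `R` containing an
element `x` whose centralizer has at most `p²` elements of order dividing `p`.  There is a
subgroup `D` of exponent `p`, normalized by `N_G(R)`, on which `p'`-elements act faithfully, and
either `D` is small or the series `D ≥ [D, R] ≥ [D, R, R] ≥ ⋯` has all factors of order at most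
`p`.
-/

set_option autoImplicit false

namespace Cfsg.Agent.Lib.Helper10

open scoped Classical
open scoped commutatorElement

section ExpFaithful

universe u

variable {p : ℕ} [Fact p.Prime] {G : Type u} [Group G] [Finite G]

/-- **faithful subgroup of exponent `p`**: a `p`-subgroup `R` (`p` odd) contains a subgroup `D`
of exponent `p` and class at most two, normalized by `N_G(R)`, on which every `p'`-element of
`N_G(R)` not centralizing `R` acts nontrivially. -/
theorem exists_exp_faithful (hp2 : p ≠ 2) (R : Subgroup G) (hR : IsPGroup p R) :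
    ∃ D : Subgroup G, D ≤ R ∧
      Subgroup.normalizer (R : Set G) ≤ Subgroup.normalizer (D : Set G) ∧
      (∀ g ∈ D, g ^ p = 1) ∧
      (∀ x ∈ D, ∀ y ∈ D, ∀ z ∈ D, ⁅x, y⁆ * z = z * ⁅x, y⁆) ∧
      ∀ a ∈ Subgroup.normalizer (R : Set G), (orderOf a).Coprime p →
        a ∈ Subgroup.centralizer (D : Set G) → a ∈ Subgroup.centralizer (R : Set G) := by
  have hp : p.Prime := Fact.out
  obtain ⟨Hc, hchar, hΦ, -, hCH⟩ :=
    Cfsg.Agent.Lib.Helper1.exists_critical_subgroup (P := ↥R) hR
  have hHp : IsPGroup p ↥Hc := hR.to_subgroup Hc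
  -- commutators of `Hc` are central in `Hc`
  have hcentral : ∀ c ∈ commutator ↥Hc, ∀ z : ↥Hc, c * z = z * c := by
    intro c hc z
    have h1 : c ∈ frattini ↥Hc := Cfsg.Agent.Lib.Helper1.IsPGroup.commutator_le_frattini hHp hc
    have h2 : (c : ↥R) ∈ Subgroup.centralizer (Hc : Set ↥R) := hΦ ⟨c, h1, rfl⟩
    have h3 := (Subgroup.mem_centralizer_iff.mp h2) (z : ↥R) z.2
    exact Subtype.ext h3.symm
  have hcl : ∀ x y z : ↥Hc, ⁅x, y⁆ * z = z * ⁅x, y⁆ := fun x y z =>
    hcentral _ (Subgroup.commutator_mem_commutator (Subgroup.mem_top x) (Subgroup.mem_top y)) z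
  have h2cl : ⁅commutator ↥Hc, (⊤ : Subgroup ↥Hc)⁆ = ⊥ := by
    rw [Subgroup.commutator_eq_bot_iff_le_centralizer]
    intro c hc
    rw [Subgroup.mem_centralizer_iff]
    intro z _
    exact (hcentral c hc z).symm
  obtain ⟨D0, hD0⟩ : ∃ D0 : Subgroup ↥Hc, D0 = Subgroup.closure {y : ↥Hc | y ^ p = 1} := ⟨_, rfl⟩
  have hD0exp : ∀ g ∈ D0, g ^ p = 1 := by
    intro g hg
    rw [hD0] at hg
    exact Cfsg.Agent.Lib.Helper1.pow_eq_one_of_mem_closure_of_class_two hp2 h2cl g hg
  have hD0mem : ∀ y : ↥Hc, y ^ p = 1 → y ∈ D0 := by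
    intro y hy
    rw [hD0]
    exact Subgroup.subset_closure hy
  obtain ⟨ι, hι⟩ : ∃ ι : ↥Hc →* G, ι = R.subtype.comp Hc.subtype := ⟨_, rfl⟩
  have hιapp : ∀ y : ↥Hc, ι y = ((y : ↥R) : G) := by
    intro y
    rw [hι]
    rfl
  have hιinj : Function.Injective ι := by
    intro x y hxy
    rw [hιapp, hιapp] at hxy
    exact Subtype.ext (Subtype.ext hxy)
  refine ⟨D0.map ι, ?_, ?_, ?_, ?_, ?_⟩
  · rintro _ ⟨d, _, rfl⟩
    rw [hιapp]
    exact (d : ↥R).2
  · -- normalized by `N_G(R)`
    apply Cfsg.Agent.Lib.Helper1.le_normalizer_of_forall_conj_mem'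
    intro n hn x hx
    have hmapcl : D0.map ι = Subgroup.closure (ι '' {y : ↥Hc | y ^ p = 1}) := by
      rw [hD0, MonoidHom.map_closure]
    have hgen : Subgroup.closure (ι '' {y : ↥Hc | y ^ p = 1}) ≤
        (D0.map ι).comap (MulAut.conj n).toMonoidHom := by
      rw [Subgroup.closure_le]
      rintro _ ⟨y, hy, rfl⟩
      have hy' : y ^ p = 1 := hy
      show n * ι y * n⁻¹ ∈ D0.map ι
      have hcH : (Cfsg.Agent.Lib.Helper1.conjNormalizer R n hn) (y : ↥R) ∈ Hc :=
        (Subgroup.characteristic_iff_map_le.mp hchar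
          (Cfsg.Agent.Lib.Helper1.conjNormalizer R n hn)) ⟨(y : ↥R), y.2, rfl⟩
      refine ⟨⟨_, hcH⟩, hD0mem _ ?_, ?_⟩
      · apply Subtype.ext
        rw [Subgroup.coe_pow, ← map_pow]
        have : ((y : ↥R)) ^ p = 1 := by
          have := congrArg (fun t : ↥Hc => (t : ↥R)) hy'
          simpa using this
        rw [this, map_one]
        rfl
      · rw [hιapp, hιapp]
        rfl
    rw [hmapcl] at hx
    exact hgen hx
  · rintro _ ⟨d, hd, rfl⟩
    rw [← map_pow, hD0exp d hd, map_one]
  · rintro _ ⟨x, _, rfl⟩ _ ⟨y, _, rfl⟩ _ ⟨z, _, rfl⟩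
    rw [← map_commutatorElement, ← map_mul, ← map_mul, hcl]
  · -- faithfulness
    intro a haR hcop haD
    have := hchar
    have hH : IsPGroup p (Hc.map R.subtype : Subgroup G) :=
      hR.to_le (Subgroup.map_subtype_le Hc)
    have haH : a ∈ Subgroup.normalizer ((Hc.map R.subtype : Subgroup G) : Set G) :=
      Cfsg.Agent.Lib.Helper1.normalizer_le_normalizer_map_of_characteristic R Hc haR
    have hfixp : ∀ x ∈ (Hc.map R.subtype : Subgroup G), x ^ p = 1 → x * a = a * x := by
      rintro _ ⟨h, hh, rfl⟩ hxp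
      have hy : (⟨h, hh⟩ : ↥Hc) ^ p = 1 := by
        apply Subtype.ext
        apply Subtype.ext
        exact hxp
      have hmem : ι ⟨h, hh⟩ ∈ D0.map ι := ⟨_, hD0mem _ hy, rfl⟩
      rw [hιapp] at hmem
      exact (Subgroup.mem_centralizer_iff.mp haD) _ hmem
    have hEe : Cfsg.IsElementaryAbelian p (⊥ : Subgroup G) :=
      ⟨⟨⟨fun a b => Subsingleton.elim _ _⟩⟩, fun a ha => by rw [Subgroup.mem_bot.mp ha, one_pow]⟩
    have hS := Cfsg.Agent.S1443.result p hp2 (Hc.map R.subtype) ⊥ (Subgroup.zpowers a) hH bot_le hEe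
      (Subgroup.zpowers_le.mpr haH) (by rw [Nat.card_zpowers]; exact hcop)
      (by
        intro x hx hox
        rw [Subgroup.zpowers_le, Subgroup.mem_centralizer_iff]
        intro h hh
        rw [Set.mem_singleton_iff] at hh
        subst hh
        apply hfixp h hx.1
        rw [← hox]
        exact pow_orderOf_eq_one h)
    have hab : ∀ b ∈ (Hc.map R.subtype : Subgroup G), a * b = b * a := by
      intro b hb
      exact ((Subgroup.mem_centralizer_iff.mp (hS (Subgroup.mem_zpowers a))) b hb).symm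
    have hHR : (Hc.map R.subtype : Subgroup G) ≤ Subgroup.normalizer (R : Set G) :=
      (Subgroup.map_subtype_le Hc).trans Subgroup.le_normalizer
    have key := Cfsg.Agent.Lib.Helper17.thompson_AxB hH hcop hab (Nat.card R) R rfl hR haR hHR
      (by
        intro x hx hxc
        have h1 : (⟨x, hx⟩ : ↥R) ∈ Subgroup.centralizer (Hc : Set ↥R) := by
          rw [Subgroup.mem_centralizer_iff]
          intro h hh
          apply Subtype.ext
          exact hxc (h : G) ⟨h, hh, rfl⟩
        exact hab x ⟨⟨x, hx⟩, hCH h1, rfl⟩)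
    rw [Subgroup.mem_centralizer_iff]
    intro x hx
    exact (key x hx).symm

end ExpFaithful

section Counting

variable {G : Type*} [Group G] [Finite G]

/-- **counting commutators**: if all commutators `[g, x]`, `g ∈ P`, lie in `N`, then
`|P| ≤ |N| · |C_P(x)|`. -/
theorem card_le_card_mul_card_centralizer (P N : Subgroup G) (x : G)
    (h : ∀ g ∈ P, ⁅g, x⁆ ∈ N) :
    Nat.card P ≤ Nat.card N * Nat.card (P ⊓ Subgroup.centralizer ({x} : Set G) : Subgroup G) := by
  obtain ⟨C, hC⟩ : ∃ C : Subgroup G, C = P ⊓ Subgroup.centralizer ({x} : Set G) := ⟨_, rfl⟩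
  rw [← hC]
  let f : ↥P → ↥N := fun g => ⟨⁅(g : G), x⁆, h g g.2⟩
  let r : ↥N → ↥P := fun v => if hv : ∃ g : ↥P, f g = v then hv.choose else 1
  have hr : ∀ g : ↥P, f (r (f g)) = f g := by
    intro g
    have hv : ∃ g' : ↥P, f g' = f g := ⟨g, rfl⟩
    show f (if hv : ∃ g' : ↥P, f g' = f g then hv.choose else 1) = f g
    rw [dif_pos hv]
    exact hv.choose_spec
  have hmem : ∀ g : ↥P, ((r (f g) : ↥P) : G)⁻¹ * (g : G) ∈ C := by
    intro g
    have h1 := congrArg (fun v : ↥N => (v : G)) (hr g)
    have h2 : ⁅((r (f g) : ↥P) : G), x⁆ = ⁅(g : G), x⁆ := h1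
    rw [hC, Subgroup.mem_inf]
    refine ⟨P.mul_mem (P.inv_mem (r (f g)).2) g.2, ?_⟩
    rw [Subgroup.mem_centralizer_iff]
    intro y hy
    rw [Set.mem_singleton_iff] at hy
    subst hy
    rw [commutatorElement_def, commutatorElement_def] at h2
    have h3 : ((r (f g) : ↥P) : G) * y * ((r (f g) : ↥P) : G)⁻¹ = (g : G) * y * (g : G)⁻¹ := by
      have := congrArg (fun t => t * y) h2
      simpa using this
    calc y * (((r (f g) : ↥P) : G)⁻¹ * (g : G))
        = ((r (f g) : ↥P) : G)⁻¹ * (((r (f g) : ↥P) : G) * y * ((r (f g) : ↥P) : G)⁻¹) *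
            (g : G) := by group
      _ = ((r (f g) : ↥P) : G)⁻¹ * ((g : G) * y * (g : G)⁻¹) * (g : G) := by rw [h3]
      _ = ((r (f g) : ↥P) : G)⁻¹ * (g : G) * y := by group
  let F : ↥P → ↥N × ↥C := fun g => (f g, ⟨_, hmem g⟩)
  have hF : Function.Injective F := by
    intro g g' hgg
    have h1 : f g = f g' := congrArg Prod.fst hgg
    have h2 := congrArg (fun t : ↥N × ↥C => ((t.2 : ↥C) : G)) hgg
    have h3 : ((r (f g) : ↥P) : G)⁻¹ * (g : G) = ((r (f g') : ↥P) : G)⁻¹ * (g' : G) := h2
    rw [h1] at h3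
    exact Subtype.ext (mul_left_cancel h3)
  have := Nat.card_le_card_of_injective F hF
  rwa [Nat.card_prod] at this

end Counting

section Chain

variable {G : Type*} [Group G]

/-- the series `D ≥ [D, R] ≥ [D, R, R] ≥ ⋯`. -/
def relLower (D R : Subgroup G) : ℕ → Subgroup G
  | 0 => D
  | n + 1 => ⁅relLower D R n, R⁆

theorem relLower_zero (D R : Subgroup G) : relLower D R 0 = D := rfl

theorem relLower_succ (D R : Subgroup G) (n : ℕ) :
    relLower D R (n + 1) = ⁅relLower D R n, R⁆ := rfl

/-- elements normalizing `D` and `R` normalize every term. -/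
theorem conj_mem_relLower (D R : Subgroup G) (n : G)
    (hD : n ∈ Subgroup.normalizer (D : Set G)) (hR : n ∈ Subgroup.normalizer (R : Set G)) :
    ∀ (i : ℕ) (g : G), g ∈ relLower D R i → n * g * n⁻¹ ∈ relLower D R i := by
  intro i
  induction i with
  | zero =>
    intro g hg
    exact (Subgroup.mem_normalizer_iff.mp hD g).mp hg
  | succ i ih =>
    intro g hg
    rw [relLower_succ] at hg ⊢
    have hle : ⁅relLower D R i, R⁆ ≤
        (⁅relLower D R i, R⁆).comap (MulAut.conj n).toMonoidHom := by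
      rw [Subgroup.commutator_le]
      intro a ha b hb
      show n * ⁅a, b⁆ * n⁻¹ ∈ ⁅relLower D R i, R⁆
      have h1 : n * ⁅a, b⁆ * n⁻¹ = ⁅n * a * n⁻¹, n * b * n⁻¹⁆ := by
        rw [commutatorElement_def, commutatorElement_def]
        group
      rw [h1]
      exact Subgroup.commutator_mem_commutator (ih a ha)
        ((Subgroup.mem_normalizer_iff.mp hR b).mp hb)
    exact hle hg

theorem relLower_normalizer_le (D R : Subgroup G) (i : ℕ) :
    Subgroup.normalizer (D : Set G) ⊓ Subgroup.normalizer (R : Set G) ≤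
      Subgroup.normalizer (relLower D R i : Set G) := by
  apply Cfsg.Agent.Lib.Helper1.le_normalizer_of_forall_conj_mem'
  intro n hn g hg
  exact conj_mem_relLower D R n hn.1 hn.2 i g hg

/-- the series is decreasing when `R` normalizes `D`. -/
theorem relLower_succ_le (D R : Subgroup G) (hRD : R ≤ Subgroup.normalizer (D : Set G)) (i : ℕ) :
    relLower D R (i + 1) ≤ relLower D R i := by
  rw [relLower_succ, Subgroup.commutator_le]
  intro a ha b hb
  have h1 : b * a⁻¹ * b⁻¹ ∈ relLower D R i :=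
    conj_mem_relLower D R b (hRD hb) (Subgroup.le_normalizer hb) i _ (inv_mem ha)
  have h2 : ⁅a, b⁆ = a * (b * a⁻¹ * b⁻¹) := by
    rw [commutatorElement_def]; group
  rw [h2]
  exact mul_mem ha h1

theorem relLower_le (D R : Subgroup G) (hRD : R ≤ Subgroup.normalizer (D : Set G)) (i : ℕ) :
    relLower D R i ≤ D := by
  induction i with
  | zero => exact le_rfl
  | succ i ih => exact (relLower_succ_le D R hRD i).trans ih

/-- the series reaches the trivial group when `D ≤ R` are `p`-groups. -/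
theorem relLower_eq_bot [Finite G] {p : ℕ} [Fact p.Prime] (D R : Subgroup G) (hR : IsPGroup p R)
    (hDR : D ≤ R) (hRD : R ≤ Subgroup.normalizer (D : Set G)) :
    relLower D R (Nat.card D) = ⊥ := by
  have key : ∀ i : ℕ, relLower D R i = ⊥ ∨ Nat.card (relLower D R i) + i ≤ Nat.card D := by
    intro i
    induction i with
    | zero => right; rw [relLower_zero]; omega
    | succ i ih =>
      rcases ih with h | h
      · left
        rw [relLower_succ, h]
        exact Subgroup.commutator_bot_left R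
      · by_cases hbot : relLower D R (i + 1) = ⊥
        · exact Or.inl hbot
        · right
          have hle := relLower_succ_le D R hRD i
          have hne : relLower D R (i + 1) ≠ relLower D R i := by
            intro heq
            have h1 : relLower D R i ≤ ⁅relLower D R i, R⁆ := by
              rw [← relLower_succ, heq]
            have h2 := Cfsg.Agent.Lib.Helper17.eq_bot_of_le_commutator_pgroups
              (hR.to_le ((relLower_le D R hRD i).trans hDR)) hR
              (by
                intro n hn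
                exact relLower_normalizer_le D R i ⟨hRD hn, Subgroup.le_normalizer hn⟩) h1
            rw [heq, h2] at hbot
            exact hbot rfl
          have hlt : relLower D R (i + 1) < relLower D R i := lt_of_le_of_ne hle hne
          have := Cfsg.Agent.Lib.Helper1.card_lt_of_lt hlt
          omega
  rcases key (Nat.card D) with h | h
  · exact h
  · have : 0 < Nat.card (relLower D R (Nat.card D)) := Nat.card_pos
    omega

/-- **stabilizing a series**: an element acting trivially on all factors of the series, which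
has exponent `p`, has a `p`-power centralizing `D`. -/
theorem pow_mem_centralizer_of_stabilizes {p : ℕ} (D R : Subgroup G)
    (hRD : R ≤ Subgroup.normalizer (D : Set G)) (hexp : ∀ g ∈ D, g ^ p = 1) (a : G)
    (hstab : ∀ (i : ℕ), ∀ g ∈ relLower D R i, a * g * a⁻¹ * g⁻¹ ∈ relLower D R (i + 1))
    (m : ℕ) (hm : relLower D R m = ⊥) :
    a ^ p ^ m ∈ Subgroup.centralizer (D : Set G) := by
  -- powers of `a` also act trivially on the factors
  have hpow : ∀ (k i : ℕ), ∀ g ∈ relLower D R i,
      a ^ k * g * (a ^ k)⁻¹ * g⁻¹ ∈ relLower D R (i + 1) := by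
    intro k
    induction k with
    | zero =>
      intro i g _
      simp
    | succ k ih =>
      intro i g hg
      have h1 := ih i g hg
      have hg' : a ^ k * g * (a ^ k)⁻¹ ∈ relLower D R i := by
        have := mul_mem (relLower_succ_le D R hRD i h1) hg
        simpa using this
      have h2 := hstab i _ hg'
      have h3 : a ^ (k + 1) * g * (a ^ (k + 1))⁻¹ * g⁻¹ =
          (a * (a ^ k * g * (a ^ k)⁻¹) * a⁻¹ * (a ^ k * g * (a ^ k)⁻¹)⁻¹) *
            (a ^ k * g * (a ^ k)⁻¹ * g⁻¹) := by
        rw [pow_succ']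
        group
      rw [h3]
      exact mul_mem h2 h1
  have key : ∀ j : ℕ, j ≤ m → ∀ g ∈ relLower D R (m - j), a ^ p ^ j * g = g * a ^ p ^ j := by
    intro j
    induction j with
    | zero =>
      intro _ g hg
      rw [Nat.sub_zero, hm, Subgroup.mem_bot] at hg
      rw [hg, mul_one, one_mul]
    | succ j ih =>
      intro hj g hg
      have hjm : j ≤ m := by omega
      have hidx : m - (j + 1) + 1 = m - j := by omega
      obtain ⟨b, hb⟩ : ∃ b, b = a ^ p ^ j := ⟨_, rfl⟩
      have hn : b * g * b⁻¹ * g⁻¹ ∈ relLower D R (m - j) := by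
        rw [hb, ← hidx]
        exact hpow _ _ g hg
      obtain ⟨n, hn'⟩ : ∃ n, n = b * g * b⁻¹ * g⁻¹ := ⟨_, rfl⟩
      rw [← hn'] at hn
      have hbn : b * n = n * b := by
        rw [hb]
        exact ih hjm n hn
      have hbg : b * g = n * g * b := by
        rw [hn']; group
      have hbk : ∀ k : ℕ, b ^ k * g = n ^ k * g * b ^ k := by
        intro k
        induction k with
        | zero => simp
        | succ k ihk =>
          have hbnk : b * n ^ k = n ^ k * b := (Commute.pow_right hbn k).eq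
          calc b ^ (k + 1) * g = b * (b ^ k * g) := by rw [pow_succ']; group
            _ = b * (n ^ k * g * b ^ k) := by rw [ihk]
            _ = (b * n ^ k) * g * b ^ k := by group
            _ = n ^ k * (b * g) * b ^ k := by rw [hbnk]; group
            _ = n ^ k * (n * g * b) * b ^ k := by rw [hbg]
            _ = n ^ (k + 1) * g * b ^ (k + 1) := by rw [pow_succ, pow_succ']; group
      have hnp : n ^ p = 1 := hexp n (relLower_le D R hRD _ hn)
      have := hbk p
      rw [hnp, one_mul] at this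
      rw [pow_succ, pow_mul, ← hb]
      exact this
  rw [Subgroup.mem_centralizer_iff]
  intro g hg
  have := key m le_rfl g (by rw [Nat.sub_self]; exact hg)
  exact this.symm

end Chain

section QuotientSection

variable {X : Type*} [Group X]

theorem mulAut_comm_of_isCyclic {C : Type*} [Group C] [IsCyclic C] (α β : MulAut C) :
    α * β = β * α := by
  apply (IsCyclic.mulAutMulEquiv C).injective
  rw [map_mul, map_mul, mul_comm]

theorem card_map_mk_mul_card [Finite X] (N P : Subgroup X) [N.Normal] (hNP : N ≤ P) :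
    Nat.card (P.map (QuotientGroup.mk' N)) * Nat.card N = Nat.card P := by
  have h1 : (P.map (QuotientGroup.mk' N)).index = P.index := by
    have h2 : P = (P.map (QuotientGroup.mk' N)).comap (QuotientGroup.mk' N) := by
      rw [QuotientGroup.comap_map_mk', sup_of_le_right hNP]
    conv_rhs => rw [h2]
    exact (Subgroup.index_comap_of_surjective _ (QuotientGroup.mk'_surjective N)).symm
  have h3 := Subgroup.card_mul_index (P.map (QuotientGroup.mk' N))
  have h4 := Subgroup.card_mul_index N
  have h5 := Subgroup.card_mul_index P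
  have h6 : N.index = Nat.card (X ⧸ N) := Subgroup.index_eq_card N
  have h7 : 0 < P.index := Nat.pos_of_ne_zero Subgroup.index_ne_zero_of_finite
  apply Nat.eq_of_mul_eq_mul_right h7
  rw [← h5] at h4
  rw [h1, ← h6] at h3
  calc Nat.card (P.map (QuotientGroup.mk' N)) * Nat.card N * P.index
      = Nat.card N * (Nat.card (P.map (QuotientGroup.mk' N)) * P.index) := by ring
    _ = Nat.card N * N.index := by rw [h3]
    _ = Nat.card P * P.index := h4

/-- the action of `X` on the section `P / N`. -/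
noncomputable def sectionHom (N P : Subgroup X) [N.Normal] [hP : P.Normal] :
    X →* MulAut ↥(P.map (QuotientGroup.mk' N)) :=
  have : (P.map (QuotientGroup.mk' N)).Normal :=
    hP.map _ (QuotientGroup.mk'_surjective N)
  (MulAut.conjNormal).comp (QuotientGroup.mk' N)

theorem sectionHom_eq_one_iff (N P : Subgroup X) [N.Normal] [hP : P.Normal] (a : X) :
    sectionHom N P a = 1 ↔ ∀ g ∈ P, a * g * a⁻¹ * g⁻¹ ∈ N := by
  have hn : (P.map (QuotientGroup.mk' N)).Normal := hP.map _ (QuotientGroup.mk'_surjective N)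
  constructor
  · intro h g hg
    have h1 : sectionHom N P a ⟨QuotientGroup.mk' N g, ⟨g, hg, rfl⟩⟩ =
        ⟨QuotientGroup.mk' N g, ⟨g, hg, rfl⟩⟩ := by
      rw [h]; rfl
    have h2 := congrArg (fun y : ↥(P.map (QuotientGroup.mk' N)) => (y : X ⧸ N)) h1
    have h3 : QuotientGroup.mk' N a * QuotientGroup.mk' N g * (QuotientGroup.mk' N a)⁻¹ =
        QuotientGroup.mk' N g := h2
    apply (QuotientGroup.eq_one_iff _).mp
    have : ((a * g * a⁻¹ * g⁻¹ : X) : X ⧸ N) =
        QuotientGroup.mk' N a * QuotientGroup.mk' N g * (QuotientGroup.mk' N a)⁻¹ *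
          (QuotientGroup.mk' N g)⁻¹ := by
      simp
    rw [this, h3, mul_inv_cancel]
  · intro h
    ext ⟨y, hy⟩
    obtain ⟨g, hg, rfl⟩ := hy
    show QuotientGroup.mk' N a * QuotientGroup.mk' N g * (QuotientGroup.mk' N a)⁻¹ =
      QuotientGroup.mk' N g
    have h1 := (QuotientGroup.eq_one_iff _).mpr (h g hg)
    have : ((a * g * a⁻¹ * g⁻¹ : X) : X ⧸ N) =
        QuotientGroup.mk' N a * QuotientGroup.mk' N g * (QuotientGroup.mk' N a)⁻¹ *
          (QuotientGroup.mk' N g)⁻¹ := by
      simp
    rw [this] at h1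
    exact mul_inv_eq_one.mp h1

variable [Finite X] {p : ℕ} [Fact p.Prime]

theorem isCyclic_section (N P : Subgroup X) [N.Normal] (hNP : N ≤ P) (hPp : IsPGroup p P)
    (hcard : Nat.card P ≤ p * Nat.card N) :
    IsCyclic ↥(P.map (QuotientGroup.mk' N)) ∧
      (Nat.card ↥(P.map (QuotientGroup.mk' N)) = 1 ∨
        Nat.card ↥(P.map (QuotientGroup.mk' N)) = p) := by
  have hp : p.Prime := Fact.out
  have h1 := card_map_mk_mul_card N P hNP
  have h2 : Nat.card (P.map (QuotientGroup.mk' N)) ≤ p := by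
    have hNpos : 0 < Nat.card N := Nat.card_pos
    rw [← h1] at hcard
    exact Nat.le_of_mul_le_mul_right hcard hNpos
  have h3 : IsPGroup p (P.map (QuotientGroup.mk' N)) := hPp.map _
  obtain ⟨k, hk⟩ := h3.exists_card_eq
  have hk1 : k ≤ 1 := by
    by_contra hlt
    push Not at hlt
    have : p ^ 2 ≤ p ^ k := Nat.pow_le_pow_right hp.pos hlt
    rw [← hk] at this
    have := hp.one_lt
    nlinarith
  rcases Nat.le_one_iff_eq_zero_or_eq_one.mp hk1 with h0 | h1'
  · rw [h0, pow_zero] at hk
    have : Subsingleton ↥(P.map (QuotientGroup.mk' N)) :=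
      (Nat.card_eq_one_iff_unique.mp hk).1
    exact ⟨isCyclic_of_subsingleton, Or.inl hk⟩
  · rw [h1', pow_one] at hk
    exact ⟨isCyclic_of_prime_card hk, Or.inr hk⟩

/-- the derived subgroup acts trivially on a normal section of order at most `p`. -/
theorem commutator_acts_trivially_on_section (N P : Subgroup X) [N.Normal] [P.Normal]
    (hNP : N ≤ P) (hPp : IsPGroup p P) (hcard : Nat.card P ≤ p * Nat.card N) :
    ∀ a ∈ commutator X, ∀ g ∈ P, a * g * a⁻¹ * g⁻¹ ∈ N := by
  obtain ⟨hcyc, -⟩ := isCyclic_section N P hNP hPp hcard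
  have hle : commutator X ≤ (sectionHom N P).ker := by
    rw [commutator_eq_closure, Subgroup.closure_le]
    rintro _ ⟨u, v, rfl⟩
    show sectionHom N P ⁅u, v⁆ = 1
    rw [map_commutatorElement, commutatorElement_eq_one_iff_commute]
    exact mulAut_comm_of_isCyclic _ _
  intro a ha
  exact (sectionHom_eq_one_iff N P a).mp (hle ha)

/-- an element acting nontrivially on a normal section of order `p`, with `q`-th power acting
trivially (`q` prime): `q` divides `p - 1`. -/
theorem prime_dvd_pred_of_acts_on_section (N P : Subgroup X) [N.Normal] [P.Normal]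
    (hNP : N ≤ P) (hPp : IsPGroup p P) (hcard : Nat.card P ≤ p * Nat.card N) (a : X) (q : ℕ)
    (hq : q.Prime) (haq : ∀ g ∈ P, a ^ q * g * (a ^ q)⁻¹ * g⁻¹ ∈ N)
    (ha : ∃ g ∈ P, a * g * a⁻¹ * g⁻¹ ∉ N) : q ∣ p - 1 := by
  have hp : p.Prime := Fact.out
  obtain ⟨hcyc, hcases⟩ := isCyclic_section N P hNP hPp hcard
  have h1 : (sectionHom N P a) ^ q = 1 := by
    rw [← map_pow]
    exact (sectionHom_eq_one_iff N P _).mpr haq
  have h2 : sectionHom N P a ≠ 1 := by
    intro h
    obtain ⟨g, hg, hgn⟩ := ha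
    exact hgn ((sectionHom_eq_one_iff N P a).mp h g hg)
  have h3 : orderOf (sectionHom N P a) = q := by
    rcases (Nat.dvd_prime hq).mp (orderOf_dvd_of_pow_eq_one h1) with h | h
    · exact absurd (orderOf_eq_one_iff.mp h) h2
    · exact h
  have h4 : q ∣ Nat.card (MulAut ↥(P.map (QuotientGroup.mk' N))) := by
    rw [← h3]
    exact orderOf_dvd_natCard _
  rw [IsCyclic.card_mulAut] at h4
  rcases hcases with h | h
  · rw [h, Nat.totient_one] at h4
    exact absurd (Nat.dvd_one.mp h4) hq.one_lt.ne'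
  · rw [h, Nat.totient_prime hp] at h4
    exact h4

end QuotientSection

section Narrow

universe u

variable {p : ℕ} [Fact p.Prime] {G : Type u} [Group G] [Finite G]

/-- a **narrow witness** for a subgroup `R`: a subgroup `S ≤ R` of order at most `p²` and an
element `x ∈ S` such that every element of `C_R(x)` of order dividing `p` lies in `S`. -/
def HasNarrowWitness (p : ℕ) (R : Subgroup G) : Prop :=
  ∃ S : Subgroup G, S ≤ R ∧ Nat.card S ≤ p ^ 2 ∧
    ∃ x ∈ S, ∀ g ∈ R, g * x = x * g → g ^ p = 1 → g ∈ S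

theorem card_le_of_ne_of_card_le_sq {A B : Subgroup G} (hAB : A ≤ B) (hne : A ≠ B)
    (hB : IsPGroup p B) (hcard : Nat.card B ≤ p ^ 2) : Nat.card A ≤ p := by
  have hp : p.Prime := Fact.out
  obtain ⟨i, hi⟩ := hB.exists_card_eq
  obtain ⟨l, hl⟩ := (hB.to_le hAB).exists_card_eq
  have hlt : Nat.card A < Nat.card B := Cfsg.Agent.Lib.Helper1.card_lt_of_lt (lt_of_le_of_ne hAB hne)
  rw [hi] at hcard
  have hi2 : i ≤ 2 := (Nat.pow_le_pow_iff_right hp.one_lt).mp hcard
  rw [hi, hl] at hlt
  have hli : l < i := (Nat.pow_lt_pow_iff_right hp.one_lt).mp hlt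
  rw [hl]
  calc p ^ l ≤ p ^ 1 := Nat.pow_le_pow_right hp.pos (by omega)
    _ = p := pow_one p

/-- **BG, Section 5 core**: a `p`-subgroup `R` with a narrow witness (`p` odd) contains a
subgroup `D` of exponent `p`, normalized by `N_G(R)`, on which `p'`-elements act faithfully, and
either `D` is small or the series `D ≥ [D, R] ≥ ⋯` has factors of order at most `p`. -/
theorem exists_narrow_faithful (hp2 : p ≠ 2) (R : Subgroup G) (hR : IsPGroup p R)
    (hw : HasNarrowWitness p R) :
    ∃ D : Subgroup G, D ≤ R ∧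
      Subgroup.normalizer (R : Set G) ≤ Subgroup.normalizer (D : Set G) ∧
      (∀ g ∈ D, g ^ p = 1) ∧
      (∀ a ∈ Subgroup.normalizer (R : Set G), (orderOf a).Coprime p →
        a ∈ Subgroup.centralizer (D : Set G) → a ∈ Subgroup.centralizer (R : Set G)) ∧
      ((Nat.card D ≤ p ^ 2 ∨ (Nat.card D ≤ p ^ 3 ∧ ∃ x y : ↥D, x * y ≠ y * x)) ∨
        ∀ i : ℕ, Nat.card (relLower D R i) ≤ p * Nat.card (relLower D R (i + 1))) := by
  have hp : p.Prime := Fact.out
  obtain ⟨D, hDR, hND, hexp, hcl, hfaith⟩ := exists_exp_faithful hp2 R hR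
  obtain ⟨S, hSR, hScard, x, hxS, hS⟩ := hw
  refine ⟨D, hDR, hND, hexp, hfaith, ?_⟩
  have hSp : IsPGroup p S := hR.to_le hSR
  obtain ⟨C, hC⟩ : ∃ C : Subgroup G, C = D ⊓ Subgroup.centralizer ({x} : Set G) := ⟨_, rfl⟩
  have hCmem : ∀ g : G, g ∈ C ↔ g ∈ D ∧ g * x = x * g := by
    intro g
    rw [hC, Subgroup.mem_inf, Subgroup.mem_centralizer_iff]
    constructor
    · rintro ⟨h1, h2⟩
      exact ⟨h1, (h2 x rfl).symm⟩
    · rintro ⟨h1, h2⟩
      refine ⟨h1, ?_⟩
      intro y hy
      rw [Set.mem_singleton_iff] at hy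
      rw [hy]
      exact h2.symm
  have hCS : C ≤ S := by
    intro g hg
    obtain ⟨h1, h2⟩ := (hCmem g).mp hg
    exact hS g (hDR h1) h2 (hexp g h1)
  have hRD : R ≤ Subgroup.normalizer (D : Set G) := Subgroup.le_normalizer.trans hND
  by_cases hxD : x ∈ D
  · left
    have hCcard : Nat.card C ≤ p ^ 2 := (Subgroup.card_le_of_le hCS).trans hScard
    -- if `x` is central in `D` then `D = C`
    by_cases hxZ : ∀ g ∈ D, g * x = x * g
    · left
      have hDC : D ≤ C := fun g hg => (hCmem g).mpr ⟨hg, hxZ g hg⟩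
      exact (Subgroup.card_le_of_le hDC).trans hCcard
    · push Not at hxZ
      obtain ⟨u, huD, hux⟩ := hxZ
      right
      obtain ⟨Z, hZ⟩ : ∃ Z : Subgroup G, Z = D ⊓ Subgroup.centralizer (D : Set G) := ⟨_, rfl⟩
      have hZC : Z ≤ C := by
        intro g hg
        rw [hZ, Subgroup.mem_inf, Subgroup.mem_centralizer_iff] at hg
        exact (hCmem g).mpr ⟨hg.1, (hg.2 x hxD).symm⟩
      have hZne : Z ≠ C := by
        intro heq
        have hxC : x ∈ C := (hCmem x).mpr ⟨hxD, rfl⟩
        rw [← heq, hZ, Subgroup.mem_inf, Subgroup.mem_centralizer_iff] at hxC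
        exact hux (hxC.2 u huD)
      have hZcard : Nat.card Z ≤ p :=
        card_le_of_ne_of_card_le_sq hZC hZne (hSp.to_le hCS) hCcard
      have hcomm : ∀ g ∈ D, ⁅g, x⁆ ∈ Z := by
        intro g hg
        rw [hZ, Subgroup.mem_inf, Subgroup.mem_centralizer_iff]
        refine ⟨?_, ?_⟩
        · rw [commutatorElement_def]
          exact mul_mem (mul_mem (mul_mem hg hxD) (inv_mem hg)) (inv_mem hxD)
        · intro z hz
          exact (hcl g hg x hxD z hz).symm
      have hcount := card_le_card_mul_card_centralizer D Z x hcomm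
      rw [← hC] at hcount
      refine ⟨?_, ⟨u, huD⟩, ⟨x, hxD⟩, ?_⟩
      · calc Nat.card D ≤ Nat.card Z * Nat.card C := hcount
          _ ≤ p * p ^ 2 := Nat.mul_le_mul hZcard hCcard
          _ = p ^ 3 := by ring
      · intro h
        exact hux (congrArg Subtype.val h)
  · right
    have hCne : C ≠ S := by
      intro heq
      rw [← heq] at hxS
      exact hxD ((hCmem x).mp hxS).1
    have hCcard : Nat.card C ≤ p := card_le_of_ne_of_card_le_sq hCS hCne hSp hScard
    intro i
    have hcomm : ∀ g ∈ relLower D R i, ⁅g, x⁆ ∈ relLower D R (i + 1) := by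
      intro g hg
      rw [relLower_succ]
      exact Subgroup.commutator_mem_commutator hg (hSR hxS)
    have hcount := card_le_card_mul_card_centralizer (relLower D R i) (relLower D R (i + 1)) x
      hcomm
    have hle : (relLower D R i ⊓ Subgroup.centralizer ({x} : Set G) : Subgroup G) ≤ C := by
      rw [hC]
      exact inf_le_inf_right _ (relLower_le D R hRD i)
    calc Nat.card (relLower D R i)
        ≤ Nat.card (relLower D R (i + 1)) *
          Nat.card (relLower D R i ⊓ Subgroup.centralizer ({x} : Set G) : Subgroup G) := hcount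
      _ ≤ Nat.card (relLower D R (i + 1)) * p :=
          Nat.mul_le_mul_left _ ((Subgroup.card_le_of_le hle).trans hCcard)
      _ = p * Nat.card (relLower D R (i + 1)) := mul_comm _ _

/-- from a `p`-power centralizing a faithful subgroup to a `p`-power centralizing `R`. -/
theorem exists_pow_mem_centralizer_of_faithful (R D : Subgroup G)
    (hfaith : ∀ a ∈ Subgroup.normalizer (R : Set G), (orderOf a).Coprime p →
      a ∈ Subgroup.centralizer (D : Set G) → a ∈ Subgroup.centralizer (R : Set G))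
    (a : G) (haR : a ∈ Subgroup.normalizer (R : Set G)) (k : ℕ)
    (hk : a ^ p ^ k ∈ Subgroup.centralizer (D : Set G)) :
    ∃ k' : ℕ, a ^ p ^ k' ∈ Subgroup.centralizer (R : Set G) := by
  have hp : p.Prime := Fact.out
  obtain ⟨s, m, hm, hsm⟩ := Nat.exists_eq_pow_mul_and_not_dvd (orderOf_pos (a ^ p ^ k)).ne' p
    hp.ne_one
  refine ⟨k + s, ?_⟩
  have hc : (a ^ p ^ k) ^ p ^ s ∈ Subgroup.centralizer (R : Set G) := by
    apply hfaith
    · exact Subgroup.pow_mem _ (Subgroup.pow_mem _ haR _) _
    · have h1 : ((a ^ p ^ k) ^ p ^ s) ^ m = 1 := by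
        rw [← pow_mul, ← hsm]
        exact pow_orderOf_eq_one _
      have h2 : orderOf ((a ^ p ^ k) ^ p ^ s) ∣ m := orderOf_dvd_of_pow_eq_one h1
      exact Nat.Coprime.coprime_dvd_left h2 ((Nat.Prime.coprime_iff_not_dvd hp).mpr hm).symm
    · exact Subgroup.pow_mem _ hk _
  rw [pow_add, pow_mul]
  exact hc

/-- translation of the section lemmas to subgroups of `G` normalized by `N_G(R)`. -/
theorem section_facts (R P N : Subgroup G) (hNP : N ≤ P) (hPR : P ≤ R) (hPp : IsPGroup p P)
    (hnP : Subgroup.normalizer (R : Set G) ≤ Subgroup.normalizer (P : Set G))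
    (hnN : Subgroup.normalizer (R : Set G) ≤ Subgroup.normalizer (N : Set G))
    (hcard : Nat.card P ≤ p * Nat.card N) :
    (∀ a ∈ ⁅Subgroup.normalizer (R : Set G), Subgroup.normalizer (R : Set G)⁆, ∀ g ∈ P,
      a * g * a⁻¹ * g⁻¹ ∈ N) ∧
    (∀ a ∈ Subgroup.normalizer (R : Set G), ∀ q : ℕ, q.Prime →
      (∀ g ∈ P, a ^ q * g * (a ^ q)⁻¹ * g⁻¹ ∈ N) → (∃ g ∈ P, a * g * a⁻¹ * g⁻¹ ∉ N) →
      q ∣ p - 1) := by
  obtain ⟨X, hX⟩ : ∃ X : Subgroup G, X = Subgroup.normalizer (R : Set G) := ⟨_, rfl⟩
  rw [← hX] at hnP hnN ⊢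
  have hPX : P ≤ X := by
    rw [hX]
    exact hPR.trans Subgroup.le_normalizer
  have hNX : N ≤ X := hNP.trans hPX
  have hn1 : (N.subgroupOf X).Normal := (Subgroup.normal_subgroupOf_iff_le_normalizer hNX).mpr hnN
  have hn2 : (P.subgroupOf X).Normal := (Subgroup.normal_subgroupOf_iff_le_normalizer hPX).mpr hnP
  have hle : N.subgroupOf X ≤ P.subgroupOf X := by
    intro y hy
    rw [Subgroup.mem_subgroupOf] at hy ⊢
    exact hNP hy
  have hPp' : IsPGroup p (P.subgroupOf X) := hPp.comap_subtype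
  have hc1 : Nat.card (P.subgroupOf X) = Nat.card P :=
    Nat.card_congr (Subgroup.subgroupOfEquivOfLe hPX).toEquiv
  have hc2 : Nat.card (N.subgroupOf X) = Nat.card N :=
    Nat.card_congr (Subgroup.subgroupOfEquivOfLe hNX).toEquiv
  have hcard' : Nat.card (P.subgroupOf X) ≤ p * Nat.card (N.subgroupOf X) := by
    rw [hc1, hc2]
    exact hcard
  constructor
  · intro a ha g hg
    rw [← Subgroup.map_subtype_commutator] at ha
    obtain ⟨a', ha', rfl⟩ := ha
    have := commutator_acts_trivially_on_section (N.subgroupOf X) (P.subgroupOf X) hle hPp'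
      hcard' a' ha' ⟨g, hPX hg⟩ (Subgroup.mem_subgroupOf.mpr hg)
    rw [Subgroup.mem_subgroupOf] at this
    exact this
  · intro a ha q hq haq hex
    obtain ⟨g, hg, hgn⟩ := hex
    apply prime_dvd_pred_of_acts_on_section (N.subgroupOf X) (P.subgroupOf X) hle hPp' hcard'
      ⟨a, ha⟩ q hq
    · rintro ⟨y, hyX⟩ hy
      rw [Subgroup.mem_subgroupOf] at hy ⊢
      exact haq y hy
    · refine ⟨⟨g, hPX hg⟩, Subgroup.mem_subgroupOf.mpr hg, ?_⟩
      intro h
      rw [Subgroup.mem_subgroupOf] at h
      exact hgn h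

/-- **BG, Theorem 5.5(a)**: a solvable group `A` of odd order normalizing a `p`-group `R` with a
narrow witness (`p` odd): `A'` acts on `R` as a `p`-group. -/
theorem narrow_commutator_pgroup (hp2 : p ≠ 2) (R A : Subgroup G) (hR : IsPGroup p R)
    (hw : HasNarrowWitness p R) (hA : A ≤ Subgroup.normalizer (R : Set G))
    (hAs : Group.IsSolvable A) (hAodd : Odd (Nat.card A)) :
    ∀ a ∈ ⁅A, A⁆, ∃ k : ℕ, a ^ p ^ k ∈ Subgroup.centralizer (R : Set G) := by
  have hp : p.Prime := Fact.out
  obtain ⟨D, hDR, hND, hexp, hfaith, hcases⟩ := exists_narrow_faithful hp2 R hR hw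
  have hAD : A ≤ Subgroup.normalizer (D : Set G) := hA.trans hND
  have hDp : IsPGroup p D := hR.to_le hDR
  have hRD : R ≤ Subgroup.normalizer (D : Set G) := Subgroup.le_normalizer.trans hND
  intro a ha
  have haR : a ∈ Subgroup.normalizer (R : Set G) := hA (Subgroup.commutator_le_self A ha)
  suffices hD : ∃ k : ℕ, a ^ p ^ k ∈ Subgroup.centralizer (D : Set G) by
    obtain ⟨k, hk⟩ := hD
    exact exists_pow_mem_centralizer_of_faithful R D hfaith a haR k hk
  rcases hcases with hsmall | hchain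
  · have key := aut_pgroup_commutator_pow' hp2 hAodd hDp hsmall (conjActHom D A hAD)
    rw [← Subgroup.map_subtype_commutator] at ha
    obtain ⟨g, hg, rfl⟩ := ha
    obtain ⟨k, hk⟩ := key g hg
    refine ⟨k, ?_⟩
    rw [Subgroup.mem_centralizer_iff]
    intro x hx
    have h1 : conjActHom D A hAD (g ^ p ^ k) ⟨x, hx⟩ = ⟨x, hx⟩ := by
      rw [hk]
      rfl
    have h2 := congrArg (fun y : D => (y : G)) h1
    simp only [conjActHom_apply, Subgroup.coe_pow] at h2
    calc x * (g : G) ^ p ^ k = ((g : G) ^ p ^ k * x * ((g : G) ^ p ^ k)⁻¹) * (g : G) ^ p ^ k := by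
          rw [h2]
      _ = (g : G) ^ p ^ k * x := by group
  · refine ⟨Nat.card D, ?_⟩
    apply pow_mem_centralizer_of_stabilizes D R hRD hexp a _ (Nat.card D)
      (relLower_eq_bot D R hR hDR hRD)
    intro i g hg
    have hnorm : ∀ j : ℕ, Subgroup.normalizer (R : Set G) ≤
        Subgroup.normalizer (relLower D R j : Set G) := fun j =>
      (le_inf hND le_rfl).trans (relLower_normalizer_le D R j)
    have hfacts := section_facts R (relLower D R i) (relLower D R (i + 1))
      (relLower_succ_le D R hRD i) ((relLower_le D R hRD i).trans hDR)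
      (hR.to_le ((relLower_le D R hRD i).trans hDR)) (hnorm i) (hnorm (i + 1)) (hchain i)
    exact hfacts.1 a (Subgroup.commutator_mono hA hA ha) g hg

/-- a `p'`-element normalizing a small `p`-group `D`, not centralizing it, whose `q`-th power
centralizes it (`q ≠ p` prime): `q` divides `|GL₂(p)|`. -/
theorem prime_dvd_of_small_acts (D : Subgroup G) (hDp : IsPGroup p D)
    (hsmall : Nat.card D ≤ p ^ 2 ∨ (Nat.card D ≤ p ^ 3 ∧ ∃ x y : ↥D, x * y ≠ y * x))
    (a : G) (haD : a ∈ Subgroup.normalizer (D : Set G)) (q : ℕ) (hq : q.Prime) (hqp : q ≠ p)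
    (haq : a ^ q ∈ Subgroup.centralizer (D : Set G))
    (hac : a ∉ Subgroup.centralizer (D : Set G)) : q ∣ (p ^ 2 - 1) * (p ^ 2 - p) := by
  have hLN : Subgroup.zpowers a ≤ Subgroup.normalizer (D : Set G) :=
    Subgroup.zpowers_le.mpr haD
  obtain ⟨α, hα⟩ : ∃ α : MulAut ↥D,
      α = conjActHom D (Subgroup.zpowers a) hLN ⟨a, Subgroup.mem_zpowers a⟩ := ⟨_, rfl⟩
  have hαq : α ^ q = 1 := by
    rw [hα, ← map_pow]
    ext ⟨x, hx⟩
    rw [conjActHom_apply]
    show a ^ q * x * (a ^ q)⁻¹ = x
    have := (Subgroup.mem_centralizer_iff.mp haq) x hx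
    rw [← this]
    group
  have hα1 : α ≠ 1 := by
    intro h
    apply hac
    rw [Subgroup.mem_centralizer_iff]
    intro x hx
    have h1 : α ⟨x, hx⟩ = ⟨x, hx⟩ := by rw [h]; rfl
    have h2 := congrArg (fun y : ↥D => (y : G)) h1
    rw [hα] at h2
    simp only [conjActHom_apply] at h2
    calc x * a = a * x * a⁻¹ * a := by rw [h2]
      _ = a * x := by group
  have hoα : orderOf α = q := by
    rcases (Nat.dvd_prime hq).mp (orderOf_dvd_of_pow_eq_one hαq) with h | h
    · exact absurd (orderOf_eq_one_iff.mp h) hα1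
    · exact h
  exact aut_small_prime_order_dvd hDp hsmall α q hq hqp hoα

/-- rank at most two: a `p'`-element normalizing `R`, not centralizing it, with `q`-th power
centralizing it: `q` divides `|GL₂(p)|`. -/
theorem rank_two_prime_dvd (hp2 : p ≠ 2) (R : Subgroup G) (hR : IsPGroup p R)
    (hrk : Cfsg.PRankLE p 2 ↥R) (a : G) (ha : a ∈ Subgroup.normalizer (R : Set G))
    (hcop : (orderOf a).Coprime p) (q : ℕ) (hq : q.Prime) (hqp : q ≠ p)
    (haq : a ^ q ∈ Subgroup.centralizer (R : Set G))
    (hac : a ∉ Subgroup.centralizer (R : Set G)) : q ∣ (p ^ 2 - 1) * (p ^ 2 - p) := by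
  obtain ⟨D, hDR, hND, hsmall, hfaith⟩ := exists_small_faithful hp2 R hR hrk
  exact prime_dvd_of_small_acts D (hR.to_le hDR) hsmall a (hND ha) q hq hqp
    (Subgroup.centralizer_le hDR haq) (fun h => hac (hfaith a ha hcop h))

/-- **BG, Theorem 5.5(b), weak form**: a `p'`-element normalizing a `p`-group `R` with a narrow
witness, not centralizing it, with `q`-th power centralizing it: `q` divides `|GL₂(p)|` or
`p - 1`. -/
theorem narrow_prime_dvd (hp2 : p ≠ 2) (R : Subgroup G) (hR : IsPGroup p R)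
    (hw : HasNarrowWitness p R) (a : G) (ha : a ∈ Subgroup.normalizer (R : Set G))
    (hcop : (orderOf a).Coprime p) (q : ℕ) (hq : q.Prime) (hqp : q ≠ p)
    (haq : a ^ q ∈ Subgroup.centralizer (R : Set G))
    (hac : a ∉ Subgroup.centralizer (R : Set G)) :
    q ∣ (p ^ 2 - 1) * (p ^ 2 - p) ∨ q ∣ p - 1 := by
  obtain ⟨D, hDR, hND, hexp, hfaith, hcases⟩ := exists_narrow_faithful hp2 R hR hw
  have hDp : IsPGroup p D := hR.to_le hDR
  have hRD : R ≤ Subgroup.normalizer (D : Set G) := Subgroup.le_normalizer.trans hND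
  have hacD : a ∉ Subgroup.centralizer (D : Set G) := fun h => hac (hfaith a ha hcop h)
  rcases hcases with hsmall | hchain
  · left
    exact prime_dvd_of_small_acts D hDp hsmall a (hND ha) q hq hqp
      (Subgroup.centralizer_le hDR haq) hacD
  · right
    have hnorm : ∀ j : ℕ, Subgroup.normalizer (R : Set G) ≤
        Subgroup.normalizer (relLower D R j : Set G) := fun j =>
      (le_inf hND le_rfl).trans (relLower_normalizer_le D R j)
    -- some factor is acted on nontrivially
    have hex : ∃ i : ℕ, ∃ g ∈ relLower D R i, a * g * a⁻¹ * g⁻¹ ∉ relLower D R (i + 1) := by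
      by_contra hall
      push Not at hall
      have h1 := pow_mem_centralizer_of_stabilizes D R hRD hexp a hall (Nat.card D)
        (relLower_eq_bot D R hR hDR hRD)
      exact hacD (mem_of_pow_prime_pow_mem hcop h1)
    obtain ⟨i, hi⟩ := hex
    have hfacts := section_facts R (relLower D R i) (relLower D R (i + 1))
      (relLower_succ_le D R hRD i) ((relLower_le D R hRD i).trans hDR)
      (hR.to_le ((relLower_le D R hRD i).trans hDR)) (hnorm i) (hnorm (i + 1)) (hchain i)
    apply hfacts.2 a ha q hq _ hi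
    intro g hg
    have hgR : g ∈ R := hDR (relLower_le D R hRD i hg)
    have := (Subgroup.mem_centralizer_iff.mp haq) g hgR
    have h2 : a ^ q * g * (a ^ q)⁻¹ * g⁻¹ = 1 := by
      rw [← this]
      group
    rw [h2]
    exact one_mem _

/-- rank at most two or narrow witness. -/
def IsNarrowSub (p : ℕ) (R : Subgroup G) : Prop :=
  Cfsg.PRankLE p 2 ↥R ∨ HasNarrowWitness p R

theorem isNarrowSub_commutator_pgroup (hp2 : p ≠ 2) (R A : Subgroup G) (hR : IsPGroup p R)
    (hn : IsNarrowSub p R) (hA : A ≤ Subgroup.normalizer (R : Set G))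
    (hAs : Group.IsSolvable A) (hAodd : Odd (Nat.card A)) :
    ∀ a ∈ ⁅A, A⁆, ∃ k : ℕ, a ^ p ^ k ∈ Subgroup.centralizer (R : Set G) := by
  rcases hn with h | h
  · exact rank_two_commutator_pgroup hp2 R A hR h hA hAs hAodd
  · exact narrow_commutator_pgroup hp2 R A hR h hA hAs hAodd

/-- an odd prime `q ≠ p` such that some `p'`-element acts on `R` with order `q`: `q < p`. -/
theorem isNarrowSub_prime_lt (hp2 : p ≠ 2) (R : Subgroup G) (hR : IsPGroup p R)
    (hn : IsNarrowSub p R) (a : G) (ha : a ∈ Subgroup.normalizer (R : Set G))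
    (hcop : (orderOf a).Coprime p) (q : ℕ) (hq : q.Prime) (hqp : q ≠ p) (hq2 : q ≠ 2)
    (haq : a ^ q ∈ Subgroup.centralizer (R : Set G))
    (hac : a ∉ Subgroup.centralizer (R : Set G)) : q < p := by
  have hp : p.Prime := Fact.out
  have hcase : q ∣ (p ^ 2 - 1) * (p ^ 2 - p) ∨ q ∣ p - 1 := by
    rcases hn with h | h
    · exact Or.inl (rank_two_prime_dvd hp2 R hR h a ha hcop q hq hqp haq hac)
    · exact narrow_prime_dvd hp2 R hR h a ha hcop q hq hqp haq hac
  rcases hcase with h | h
  · exact lt_of_odd_prime_dvd_card_gl2 hp2 hq hq2 hqp h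
  · have h1 : 0 < p - 1 := Nat.sub_pos_of_lt hp.one_lt
    have := Nat.le_of_dvd h1 h
    omega

end Narrow

end Cfsg.Agent.Lib.Helper10
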