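import Mathlib
import Cfsg.Prelude.Def_OddOrderLocal
import Cfsg.Agent.Lib.Helper10.NarrowAct
import Cfsg.Agent.Lib.Helper10.NilAction
import Cfsg.Agent.Lib.Helper9.Rank

/-!
Solvable groups of odd order whose Fitting subgroup is narrow at every prime: the derived subgroup
is nilpotent (BG, Theorem 4.20(a) and its narrow version).
-/

set_option autoImplicit false

namespace Cfsg.Agent.Lib.Helper10

open scoped Classical
open scoped commutatorElement

section ElemAb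

variable {G : Type*} [Group G]

/-- the join of two elementwise commuting elementary abelian subgroups is elementary abelian. -/
theorem elemAb_sup {p : ℕ} (A B : Subgroup G) (hAc : IsMulCommutative A) (hBc : IsMulCommutative B)
    (hAe : ∀ a ∈ A, a ^ p = 1) (hBe : ∀ b ∈ B, b ^ p = 1)
    (hcomm : ∀ a ∈ A, ∀ b ∈ B, a * b = b * a) :
    IsMulCommutative (A ⊔ B : Subgroup G) ∧ ∀ g ∈ A ⊔ B, g ^ p = 1 := by
  constructor
  · refine ⟨⟨?_⟩⟩
    rintro ⟨u, hu⟩ ⟨v, hv⟩
    apply Subtype.ext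
    obtain ⟨a1, ha1, b1, hb1, rfl⟩ := (mem_sup_of_commute A B hcomm).mp hu
    obtain ⟨a2, ha2, b2, hb2, rfl⟩ := (mem_sup_of_commute A B hcomm).mp hv
    show a1 * b1 * (a2 * b2) = a2 * b2 * (a1 * b1)
    have c1 : a1 * a2 = a2 * a1 := congrArg Subtype.val (hAc.is_comm.comm ⟨a1, ha1⟩ ⟨a2, ha2⟩)
    have c2 : b1 * b2 = b2 * b1 := congrArg Subtype.val (hBc.is_comm.comm ⟨b1, hb1⟩ ⟨b2, hb2⟩)
    have c3 := hcomm a2 ha2 b1 hb1
    have c4 := hcomm a1 ha1 b2 hb2
    calc a1 * b1 * (a2 * b2) = a1 * (b1 * a2) * b2 := by group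
      _ = a1 * (a2 * b1) * b2 := by rw [c3]
      _ = (a1 * a2) * (b1 * b2) := by group
      _ = (a2 * a1) * (b2 * b1) := by rw [c1, c2]
      _ = a2 * (a1 * b2) * b1 := by group
      _ = a2 * (b2 * a1) * b1 := by rw [c4]
      _ = a2 * b2 * (a1 * b1) := by group
  · intro g hg
    obtain ⟨a, ha, b, hb, rfl⟩ := (mem_sup_of_commute A B hcomm).mp hg
    have hc : Commute a b := hcomm a ha b hb
    rw [hc.mul_pow, hAe a ha, hBe b hb, mul_one]

theorem elemAb_zpowers {p : ℕ} (y : G) (hy : y ^ p = 1) :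
    IsMulCommutative (Subgroup.zpowers y : Subgroup G) ∧ ∀ b ∈ Subgroup.zpowers y, b ^ p = 1 := by
  constructor
  · refine ⟨⟨?_⟩⟩
    rintro ⟨u, ⟨i, rfl⟩⟩ ⟨v, ⟨j, rfl⟩⟩
    apply Subtype.ext
    exact ((Commute.refl y).zpow_zpow i j).eq
  · rintro b ⟨i, rfl⟩
    rw [← zpow_natCast, ← zpow_mul, mul_comm, zpow_mul, zpow_natCast, hy, one_zpow]

end ElemAb

section NarrowWitness

universe u

variable {p : ℕ} [Fact p.Prime] {G : Type u} [Group G] [Finite G]

/-- a nontrivial `p`-subgroup has an element of order `p` commuting with all its elements. -/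
theorem exists_central_order_p (R : Subgroup G) (hR : IsPGroup p R) (hne : R ≠ ⊥) :
    ∃ z ∈ R, z ≠ 1 ∧ z ^ p = 1 ∧ ∀ r ∈ R, z * r = r * z := by
  have hp : p.Prime := Fact.out
  have hnt : Nontrivial ↥R := (Subgroup.nontrivial_iff_ne_bot R).mpr hne
  have hcn := hR.center_nontrivial
  obtain ⟨c, hc⟩ := exists_ne (1 : ↥(Subgroup.center ↥R))
  obtain ⟨k, hk⟩ := (IsPGroup.iff_orderOf.mp hR) (c : ↥R)
  have hk0 : k ≠ 0 := by
    rintro rfl
    rw [pow_zero, orderOf_eq_one_iff] at hk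
    apply hc
    exact Subtype.ext hk
  obtain ⟨j, rfl⟩ := Nat.exists_eq_succ_of_ne_zero hk0
  refine ⟨(((c : ↥R) ^ p ^ j : ↥R) : G), (((c : ↥R) ^ p ^ j : ↥R)).2, ?_, ?_, ?_⟩
  · intro h
    have h1 : ((c : ↥R) ^ p ^ j : ↥R) = 1 := Subtype.ext h
    have h2 := orderOf_dvd_of_pow_eq_one h1
    rw [hk] at h2
    have h3 := Nat.le_of_dvd (pow_pos hp.pos j) h2
    have h4 : p ^ j < p ^ (j + 1) := Nat.pow_lt_pow_right hp.one_lt (Nat.lt_succ_self j)
    rw [Nat.succ_eq_add_one] at h3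
    omega
  · rw [← Subgroup.coe_pow, ← pow_mul, ← pow_succ, ← hk, pow_orderOf_eq_one]
    rfl
  · intro r hr
    have h1 : ((c : ↥R) ^ p ^ j : ↥R) ∈ Subgroup.center ↥R := pow_mem c.2 _
    have h2 := (Subgroup.mem_center_iff.mp h1) ⟨r, hr⟩
    have h3 := congrArg Subtype.val h2
    exact h3.symm

/-- **narrow witness from a small centralizer**: a `p`-group `R` with an elementary abelian
subgroup `E` whose centralizer in `R` has rank at most two is narrow. -/
theorem isNarrowSub_of_centralizer_rank (R E : Subgroup G) (hR : IsPGroup p R) (hER : E ≤ R)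
    (hEc : IsMulCommutative E) (hEe : ∀ a ∈ E, a ^ p = 1)
    (hrk : Cfsg.PRankLE p 2 ↥(R ⊓ Subgroup.centralizer (E : Set G) : Subgroup G)) :
    IsNarrowSub p R := by
  have hp : p.Prime := Fact.out
  by_cases h2 : Cfsg.PRankLE p 2 ↥R
  · exact Or.inl h2
  right
  obtain ⟨B, hBR, hBc, hBe, hBcard⟩ := Cfsg.Agent.Lib.Helper9.exists_elemAb_card_of_not_pRankLE h2
  -- a maximal elementary abelian subgroup containing `E`
  obtain ⟨E₀, ⟨hEE₀, hE₀R, hE₀c, hE₀e⟩, hmax⟩ :=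
    (Set.toFinite {A : Subgroup G | E ≤ A ∧ A ≤ R ∧ IsMulCommutative A ∧
      ∀ a ∈ A, a ^ p = 1}).exists_maximal ⟨E, le_rfl, hER, hEc, hEe⟩
  have hmax' : ∀ A : Subgroup G, E₀ ≤ A → A ≤ R → IsMulCommutative A → (∀ a ∈ A, a ^ p = 1) →
      A ≤ E₀ := by
    intro A h1 h2 h3 h4
    exact hmax ⟨hEE₀.trans h1, h2, h3, h4⟩ h1
  have hE₀C : E₀ ≤ R ⊓ Subgroup.centralizer (E : Set G) := by
    intro x hx
    rw [Subgroup.mem_inf]
    refine ⟨hE₀R hx, ?_⟩
    rw [Subgroup.mem_centralizer_iff]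
    intro e he
    exact congrArg Subtype.val (hE₀c.is_comm.comm ⟨e, hEE₀ he⟩ ⟨x, hx⟩)
  have hE₀card : Nat.card E₀ ≤ p ^ 2 :=
    Cfsg.Agent.Lib.Helper9.card_le_of_pRankLE hE₀C hE₀c hE₀e hrk
  have hE₀p : IsPGroup p E₀ := hR.to_le hE₀R
  -- `E₀` is not central in `R`
  have hnc : ∃ x ∈ E₀, ∃ r ∈ R, x * r ≠ r * x := by
    by_contra hall
    push Not at hall
    have h1 := elemAb_sup B E₀ hBc hE₀c hBe hE₀e (fun b hb x hx => (hall x hx b (hBR hb)).symm)
    have h2 : B ⊔ E₀ ≤ E₀ := hmax' _ le_sup_right (sup_le hBR hE₀R) h1.1 h1.2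
    have h3 : Nat.card B ≤ Nat.card E₀ := Subgroup.card_le_of_le (le_sup_left.trans h2)
    omega
  obtain ⟨x, hxE₀, r, hrR, hxr⟩ := hnc
  have hRne : R ≠ ⊥ := by
    intro h
    rw [h, Subgroup.mem_bot] at hrR
    rw [hrR] at hxr
    simp at hxr
  obtain ⟨z, hzR, hz1, hzp, hzc⟩ := exists_central_order_p R hR hRne
  -- `z ∈ E₀`
  have hzE₀ : z ∈ E₀ := by
    have hz := elemAb_zpowers (p := p) z hzp
    have h1 := elemAb_sup E₀ (Subgroup.zpowers z) hE₀c hz.1 hE₀e hz.2 (by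
      rintro a ha b ⟨i, rfl⟩
      have : Commute z a := hzc a (hE₀R ha)
      exact (this.zpow_left i).eq.symm)
    have h2 : E₀ ⊔ Subgroup.zpowers z ≤ E₀ :=
      hmax' _ le_sup_left (sup_le hE₀R (Subgroup.zpowers_le.mpr hzR)) h1.1 h1.2
    exact h2 (Subgroup.mem_sup_right (Subgroup.mem_zpowers z))
  -- `E₀` is generated by `z` and `x`
  have hcommzx : ∀ a ∈ Subgroup.zpowers z, ∀ b ∈ Subgroup.zpowers x, a * b = b * a := by
    rintro a ⟨i, rfl⟩ b ⟨j, rfl⟩
    have : Commute z x := hzc x (hE₀R hxE₀)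
    exact (this.zpow_zpow i j).eq
  have hME₀ : Subgroup.zpowers z ⊔ Subgroup.zpowers x ≤ E₀ :=
    sup_le (Subgroup.zpowers_le.mpr hzE₀) (Subgroup.zpowers_le.mpr hxE₀)
  have hMeq : Subgroup.zpowers z ⊔ Subgroup.zpowers x = E₀ := by
    by_contra hne
    have h1 := card_le_of_ne_of_card_le_sq hME₀ hne hE₀p hE₀card
    have hxz : x ∉ Subgroup.zpowers z := by
      rintro ⟨i, hi⟩
      apply hxr
      rw [← hi]
      have : Commute z r := hzc r hrR
      exact (this.zpow_left i).eq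
    have hlt : Subgroup.zpowers z < Subgroup.zpowers z ⊔ Subgroup.zpowers x := by
      refine lt_of_le_of_ne le_sup_left ?_
      intro heq
      apply hxz
      rw [heq]
      exact Subgroup.mem_sup_right (Subgroup.mem_zpowers x)
    have h2 := Cfsg.Agent.Lib.Helper1.card_lt_of_lt hlt
    have h3 : Nat.card (Subgroup.zpowers z) = p := by
      rw [Nat.card_zpowers]
      exact orderOf_eq_prime hzp hz1
    omega
  refine ⟨E₀, hE₀R, hE₀card, x, hxE₀, ?_⟩
  intro g hgR hgx hgp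
  have hg := elemAb_zpowers (p := p) g hgp
  have h1 := elemAb_sup E₀ (Subgroup.zpowers g) hE₀c hg.1 hE₀e hg.2 (by
    rintro a ha b ⟨i, rfl⟩
    rw [← hMeq] at ha
    obtain ⟨u, ⟨k, rfl⟩, v, ⟨l, rfl⟩, rfl⟩ := (mem_sup_of_commute _ _ hcommzx).mp ha
    have c1 : Commute g z := (hzc g hgR).symm
    have c2 : Commute g x := hgx
    have c3 : Commute (g ^ i) (z ^ k * x ^ l) :=
      ((c1.zpow_zpow i k).mul_right (c2.zpow_zpow i l))
    exact c3.eq.symm)
  have h2 : E₀ ⊔ Subgroup.zpowers g ≤ E₀ :=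
    hmax' _ le_sup_left (sup_le hE₀R (Subgroup.zpowers_le.mpr hgR)) h1.1 h1.2
  exact h2 (Subgroup.mem_sup_right (Subgroup.mem_zpowers g))

end NarrowWitness

section FittingNarrow

universe u

variable {G : Type u} [Group G] [Finite G]

theorem pCore_two_eq_bot_of_odd (hodd : Odd (Nat.card G)) : Cfsg.pCore 2 G = ⊥ := by
  have : Fact (Nat.Prime 2) := ⟨Nat.prime_two⟩
  obtain ⟨k, hk⟩ := (Cfsg.Agent.Lib.Helper1.pCore_isPGroup (G := G) 2).exists_card_eq
  have h1 : Nat.card (Cfsg.pCore 2 G) ∣ Nat.card G := Subgroup.card_subgroup_dvd_card _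
  rw [hk] at h1
  rcases Nat.eq_zero_or_pos k with h0 | h0
  · rw [h0, pow_zero] at hk
    exact Subgroup.card_eq_one.mp hk
  · exfalso
    have h2 : 2 ∣ Nat.card G := (dvd_pow_self 2 h0.ne').trans h1
    exact (Nat.not_even_iff_odd.mpr hodd) (even_iff_two_dvd.mpr h2)

theorem fittingSubgroup_le_pPrimeCore_sup_pCore (p : ℕ) [Fact p.Prime] :
    Cfsg.fittingSubgroup G ≤ Cfsg.pPrimeCore p G ⊔ Cfsg.pCore p G := by
  have hp : p.Prime := Fact.out
  rw [Cfsg.Agent.Lib.Helper1.fittingSubgroup_eq_iSup_primes]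
  refine iSup_le fun q => ?_
  by_cases hq : (q : ℕ) = p
  · rw [hq]
    exact le_sup_right
  · refine le_trans ?_ le_sup_left
    have : Fact (q : ℕ).Prime := ⟨q.2⟩
    apply Cfsg.Agent.Lib.Helper1.le_pPrimeCore (Cfsg.Agent.Lib.Helper1.pCore_normal _)
    obtain ⟨k, hk⟩ := (Cfsg.Agent.Lib.Helper1.pCore_isPGroup (G := G) (q : ℕ)).exists_card_eq
    rw [hk]
    exact Nat.Coprime.pow_left k ((Nat.coprime_primes q.2 hp).mpr hq)

/-- a `p`-element of the Fitting subgroup lies in `O_p(G)`. -/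
theorem mem_pCore_of_mem_fittingSubgroup (p : ℕ) [Fact p.Prime] (x : G)
    (hx : x ∈ Cfsg.fittingSubgroup G) (k : ℕ) (hk : x ^ p ^ k = 1) : x ∈ Cfsg.pCore p G := by
  have hp : p.Prime := Fact.out
  have hn : (Cfsg.pCore p G).Normal := Cfsg.Agent.Lib.Helper1.pCore_normal p
  have hx2 : x ∈ ((Cfsg.pPrimeCore p G ⊔ Cfsg.pCore p G : Subgroup G) : Set G) :=
    fittingSubgroup_le_pPrimeCore_sup_pCore p hx
  rw [Subgroup.mul_normal] at hx2
  obtain ⟨d, hd, r, hr, hdr⟩ := hx2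
  have hmk : QuotientGroup.mk' (Cfsg.pCore p G) x = QuotientGroup.mk' (Cfsg.pCore p G) d := by
    rw [← hdr, map_mul]
    have : QuotientGroup.mk' (Cfsg.pCore p G) r = 1 := (QuotientGroup.eq_one_iff r).mpr hr
    rw [this, mul_one]
  have ho1 : orderOf (QuotientGroup.mk' (Cfsg.pCore p G) x) ∣ p ^ k := by
    apply orderOf_dvd_of_pow_eq_one
    rw [← map_pow, hk, map_one]
  have ho2 : orderOf (QuotientGroup.mk' (Cfsg.pCore p G) x) ∣
      Nat.card (Cfsg.pPrimeCore p G) := by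
    rw [hmk]
    refine (orderOf_map_dvd _ d).trans ?_
    have : orderOf (⟨d, hd⟩ : Cfsg.pPrimeCore p G) = orderOf d := Subgroup.orderOf_mk d hd
    rw [← this]
    exact orderOf_dvd_natCard _
  have hcop : (Nat.card (Cfsg.pPrimeCore p G)).Coprime (p ^ k) :=
    Nat.Coprime.pow_right k (Cfsg.Agent.Lib.Helper1.pPrimeCore_coprime p)
  have ho3 : orderOf (QuotientGroup.mk' (Cfsg.pCore p G) x) = 1 :=
    Nat.eq_one_of_dvd_coprimes hcop ho2 ho1
  exact (QuotientGroup.eq_one_iff x).mp (orderOf_eq_one_iff.mp ho3)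

/-- `O_q(G)` and `O_p(G)` commute elementwise for distinct primes. -/
theorem pCore_le_centralizer_pCore (p q : ℕ) [Fact p.Prime] [Fact q.Prime] (hpq : q ≠ p) :
    Cfsg.pCore q G ≤ Subgroup.centralizer (Cfsg.pCore p G : Set G) := by
  have hp : p.Prime := Fact.out
  have hq : q.Prime := Fact.out
  have hdisj : Disjoint (Cfsg.pCore p G) (Cfsg.pCore q G) := by
    apply Subgroup.disjoint_of_coprime_natCard
    obtain ⟨k, hk⟩ := (Cfsg.Agent.Lib.Helper1.pCore_isPGroup (G := G) p).exists_card_eq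
    obtain ⟨l, hl⟩ := (Cfsg.Agent.Lib.Helper1.pCore_isPGroup (G := G) q).exists_card_eq
    rw [hk, hl]
    exact Nat.Coprime.pow k l ((Nat.coprime_primes hp hq).mpr hpq.symm)
  intro y hy
  rw [Subgroup.mem_centralizer_iff]
  intro x hx
  exact (Subgroup.commute_of_normal_of_disjoint _ _ (Cfsg.Agent.Lib.Helper1.pCore_normal p)
    (Cfsg.Agent.Lib.Helper1.pCore_normal q) hdisj x y hx hy).eq

/-- **BG, Theorem 4.20(a), narrow form**: in a solvable group of odd order all of whose `O_q(G)`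
are narrow, the derived subgroup lies in the Fitting subgroup. -/
theorem commutator_le_fittingSubgroup_of_narrow [Group.IsSolvable G] (hodd : Odd (Nat.card G))
    (hn : ∀ q : ℕ, q.Prime → q ≠ 2 → IsNarrowSub q (Cfsg.pCore q G)) :
    commutator G ≤ Cfsg.fittingSubgroup G := by
  apply le_fittingSubgroup_of_forall_pow_mem_centralizer
  intro q hq a ha
  by_cases hq2 : q = 2
  · refine ⟨0, ?_⟩
    rw [hq2, pCore_two_eq_bot_of_odd hodd, Subgroup.coe_bot, Subgroup.mem_centralizer_iff]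
    intro x hx
    rw [Set.mem_singleton_iff] at hx
    rw [hx, one_mul, mul_one]
  · have : Fact q.Prime := ⟨hq⟩
    have htopodd : Odd (Nat.card (⊤ : Subgroup G)) := by
      rw [Subgroup.card_top]
      exact hodd
    have htops : Group.IsSolvable (⊤ : Subgroup G) :=
      Group.isSolvable_of_isSolvable_injective (Subgroup.subtype_injective _)
    have hTn : (Cfsg.pCore q G).Normal := Cfsg.Agent.Lib.Helper1.pCore_normal q
    have hTN : Subgroup.normalizer (Cfsg.pCore q G : Set G) = ⊤ :=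
      Subgroup.normalizer_eq_top_iff.mpr hTn
    exact isNarrowSub_commutator_pgroup hq2 (Cfsg.pCore q G) ⊤
      (Cfsg.Agent.Lib.Helper1.pCore_isPGroup q) (hn q hq hq2) (by rw [hTN]) htops htopodd a ha

/-- narrowness of all `O_q(G)` from a rank condition on `C_{F(G)}(E)`. -/
theorem isNarrowSub_pCore_of_rank (p : ℕ) [Fact p.Prime] (E : Subgroup G)
    (hE : E ≤ Cfsg.fittingSubgroup G) (hEe : Cfsg.IsElementaryAbelian p E)
    (hr : Cfsg.RankLE 2 ↥(Cfsg.fittingSubgroup G ⊓ Subgroup.centralizer (E : Set G) : Subgroup G)) :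
    ∀ q : ℕ, q.Prime → IsNarrowSub q (Cfsg.pCore q G) := by
  intro q hq
  have : Fact q.Prime := ⟨hq⟩
  have hEp : E ≤ Cfsg.pCore p G := by
    intro e he
    apply mem_pCore_of_mem_fittingSubgroup p e (hE he) 1
    rw [pow_one]
    exact hEe.2 e he
  by_cases hqp : q = p
  · subst hqp
    apply isNarrowSub_of_centralizer_rank (Cfsg.pCore q G) E
      (Cfsg.Agent.Lib.Helper1.pCore_isPGroup q) hEp hEe.1 hEe.2
    exact Cfsg.Agent.Lib.Helper9.pRankLE_of_le
      (inf_le_inf_right _ (Cfsg.Agent.Lib.Helper1.pCore_le_fittingSubgroup q)) (hr q hq)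
  · left
    apply Cfsg.Agent.Lib.Helper9.pRankLE_of_le _ (hr q hq)
    apply le_inf (Cfsg.Agent.Lib.Helper1.pCore_le_fittingSubgroup q)
    exact (pCore_le_centralizer_pCore p q hqp).trans (Subgroup.centralizer_le hEp)

end FittingNarrow

end Cfsg.Agent.Lib.Helper10
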