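import Mathlib
import Cfsg.Prelude.Def_PLocal
import Cfsg.Prelude.Def_Transfer
import Cfsg.Agent.Lib.Helper10.NarrowAct
import Cfsg.Agent.Lib.Helper1.ClassTwo
import Cfsg.Agent.Lib.Helper1.ClassThree
import Cfsg.Agent.S0636
import Cfsg.Agent.Lib.Helper10.NarrowFit
import Cfsg.Agent.Lib.Helper10.PGroup

/-!
For `p > 3`: if the elements of order dividing `p` of a `p`-group `R` generate a subgroup of order at
most `p ^ 2`, the same holds in every quotient of `R`.
-/

set_option autoImplicit false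

open scoped commutatorElement

namespace Cfsg.Agent.Lib.Helper10

universe u

/-- `Ω₁` is normal -/
theorem omegaOne_top_normal {Q : Type*} [Group Q] (p : ℕ) :
    (Cfsg.omegaOne p (⊤ : Subgroup Q)).Normal := by
  refine ⟨fun n hn g => ?_⟩
  have h1 : (Cfsg.omegaOne p (⊤ : Subgroup Q)).map (MulAut.conj g).toMonoidHom ≤
      Cfsg.omegaOne p (⊤ : Subgroup Q) := by
    unfold Cfsg.omegaOne
    rw [MonoidHom.map_closure]
    apply Subgroup.closure_mono
    rintro _ ⟨y, ⟨-, hy⟩, rfl⟩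
    refine ⟨Subgroup.mem_top _, ?_⟩
    show (g * y * g⁻¹) ^ p = 1
    rw [conj_pow, hy, mul_one, mul_inv_cancel]
  exact h1 (Subgroup.mem_map_of_mem _ hn)

/-- in a commutative `Ω₁` every element has order dividing `p` -/
theorem pow_eq_one_of_mem_omegaOne_of_comm {Q : Type*} [Group Q] (p : ℕ)
    (hc : ∀ a ∈ Cfsg.omegaOne p (⊤ : Subgroup Q), ∀ b ∈ Cfsg.omegaOne p (⊤ : Subgroup Q),
      a * b = b * a) :
    ∀ x ∈ Cfsg.omegaOne p (⊤ : Subgroup Q), x ^ p = 1 := by
  have key : ∀ x ∈ Cfsg.omegaOne p (⊤ : Subgroup Q),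
      x ∈ Cfsg.omegaOne p (⊤ : Subgroup Q) ∧ x ^ p = 1 := by
    intro x hx
    unfold Cfsg.omegaOne at hx
    induction hx using Subgroup.closure_induction with
    | mem y hy => exact ⟨Subgroup.subset_closure hy, hy.2⟩
    | one => exact ⟨one_mem _, one_pow _⟩
    | mul a b _ _ iha ihb =>
      refine ⟨mul_mem iha.1 ihb.1, ?_⟩
      have hcomm : Commute a b := hc a iha.1 b ihb.1
      rw [hcomm.mul_pow, iha.2, ihb.2, one_mul]
    | inv a _ iha =>
      refine ⟨inv_mem iha.1, ?_⟩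
      rw [inv_pow, iha.2, inv_one]
  exact fun x hx => (key x hx).2

/-- **central quotient of order `p`** -/
theorem card_omegaOne_quotient_central {R : Type u} [Group R] [Finite R] {p : ℕ} [Fact p.Prime]
    (hp : 3 < p) (hR : IsPGroup p R)
    (hO : Nat.card ↥(Cfsg.omegaOne p (⊤ : Subgroup R)) ≤ p ^ 2)
    (T : Subgroup R) [hTn : T.Normal] (hTc : T ≤ Subgroup.center R) (hTcard : Nat.card ↥T = p) :
    Nat.card ↥(Cfsg.omegaOne p (⊤ : Subgroup (R ⧸ T))) ≤ p ^ 2 := by
  have hpp : p.Prime := Fact.out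
  have hp2 : p ≠ 2 := by omega
  by_contra hcon
  push Not at hcon
  have hQ : IsPGroup p (R ⧸ T) := hR.to_quotient T
  obtain ⟨X, hXdef⟩ : ∃ X : Subgroup (R ⧸ T), X = Cfsg.omegaOne p (⊤ : Subgroup (R ⧸ T)) :=
    ⟨_, rfl⟩
  rw [← hXdef] at hcon
  have hXn : X.Normal := by
    rw [hXdef]
    exact omegaOne_top_normal p
  have hp_lt : p < p ^ 2 := by
    have := hpp.one_lt
    nlinarith
  -- `X` is not cyclic
  have hXnc : ¬ IsCyclic ↥X := by
    intro hcyc
    have hexp : ∀ x ∈ X, x ^ p = 1 := by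
      rw [hXdef]
      apply pow_eq_one_of_mem_omegaOne_of_comm
      intro a ha b hb
      rw [← hXdef] at ha hb
      have hcomm : IsMulCommutative ↥X := inferInstance
      exact congrArg Subtype.val (hcomm.is_comm.comm ⟨a, ha⟩ ⟨b, hb⟩)
    obtain ⟨g, hg⟩ := hcyc.exists_generator
    have h1 : orderOf g = Nat.card ↥X := orderOf_eq_card_of_forall_mem_zpowers hg
    have h2 : g ^ p = 1 := Subtype.ext (hexp g g.2)
    have h3 : orderOf g ∣ p := orderOf_dvd_of_pow_eq_one h2
    have h4 := Nat.le_of_dvd hpp.pos h3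
    omega
  obtain ⟨U, hUX, hUn, hUe, hUcard⟩ := Cfsg.Agent.S0636.result hp2 hQ X hXnc
  -- an element of order `p` outside `U`
  obtain ⟨x, hxp, hxU⟩ : ∃ x : R ⧸ T, x ^ p = 1 ∧ x ∉ U := by
    by_contra hno
    push Not at hno
    have h1 : X ≤ U := by
      rw [hXdef]
      unfold Cfsg.omegaOne
      rw [Subgroup.closure_le]
      rintro y ⟨-, hy⟩
      exact hno y hy
    have h2 := Subgroup.card_le_of_le h1
    omega
  obtain ⟨Kb, hKb⟩ : ∃ Kb : Subgroup (R ⧸ T), Kb = U ⊔ Subgroup.zpowers x := ⟨_, rfl⟩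
  have hUKb : U ≤ Kb := by rw [hKb]; exact le_sup_left
  have hxKb : x ∈ Kb := by rw [hKb]; exact le_sup_right (a := U) (Subgroup.mem_zpowers x)
  have hKbmem : ∀ k ∈ Kb, ∃ u ∈ U, ∃ i : ℕ, k = u * x ^ i := by
    intro k hk
    rw [hKb, Subgroup.mem_sup_of_normal_left] at hk
    obtain ⟨u, hu, z, hz, rfl⟩ := hk
    obtain ⟨i, rfl⟩ := (Subgroup.mem_zpowers_iff).mp hz
    refine ⟨u, hu, (i % (p : ℤ)).toNat, ?_⟩
    congr 1
    have h1 : ((i % (p : ℤ)).toNat : ℤ) = i % (p : ℤ) :=
      Int.toNat_of_nonneg (Int.emod_nonneg _ (by exact_mod_cast hpp.ne_zero))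
    rw [← zpow_natCast, h1]
    conv_lhs => rw [← Int.emod_add_mul_ediv i p]
    rw [zpow_add, zpow_mul, zpow_natCast, hxp, one_zpow, mul_one]
  -- the order of `Kb`
  have hKbcard_le : Nat.card ↥Kb ≤ p ^ 3 := by
    have hsurj : Function.Surjective
        (fun ui : ↥U × Fin p => (⟨(ui.1 : R ⧸ T) * x ^ (ui.2 : ℕ),
          mul_mem (hUKb ui.1.2) (Subgroup.pow_mem _ hxKb _)⟩ : ↥Kb)) := by
      rintro ⟨k, hk⟩
      obtain ⟨u, hu, i, rfl⟩ := hKbmem k hk
      refine ⟨(⟨u, hu⟩, ⟨i % p, Nat.mod_lt _ hpp.pos⟩), ?_⟩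
      apply Subtype.ext
      show u * x ^ (i % p) = u * x ^ i
      congr 1
      conv_rhs => rw [← Nat.mod_add_div i p]
      rw [pow_add, pow_mul, hxp, one_pow, mul_one]
    have h1 := Nat.card_le_card_of_surjective _ hsurj
    rw [Nat.card_prod, hUcard, Nat.card_fin] at h1
    calc Nat.card ↥Kb ≤ p ^ 2 * p := h1
      _ = p ^ 3 := by ring
  have hKbcard_ge : p ^ 3 ≤ Nat.card ↥Kb := by
    have h1 : U < Kb := by
      refine lt_of_le_of_ne hUKb ?_
      intro h
      apply hxU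
      rw [h]
      exact hxKb
    have h2 := Cfsg.Agent.Lib.Helper1.card_lt_of_lt h1
    rw [hUcard] at h2
    obtain ⟨j, hj⟩ := (hQ.to_subgroup Kb).exists_card_eq
    rw [hj] at h2 ⊢
    have h3 : 2 < j := (Nat.pow_lt_pow_iff_right hpp.one_lt).mp h2
    exact Nat.pow_le_pow_right hpp.pos h3
  have hKbcard : Nat.card ↥Kb = p ^ 3 := le_antisymm hKbcard_le hKbcard_ge
  -- commutators of `Kb` are central in `Kb`
  have hKbcen : ∀ a ∈ Kb, ∀ b ∈ Kb, ∀ c ∈ Kb, ⁅a, b⁆ * c = c * ⁅a, b⁆ := by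
    have hKp : IsPGroup p ↥Kb := hQ.to_subgroup Kb
    have hnt : Nontrivial ↥Kb := by
      rw [← Finite.one_lt_card_iff_nontrivial, hKbcard]
      exact Nat.one_lt_pow (by norm_num) hpp.one_lt
    have hZnt : Nontrivial ↥(Subgroup.center ↥Kb) := hKp.center_nontrivial
    have hZcard : p ≤ Nat.card ↥(Subgroup.center ↥Kb) := by
      obtain ⟨j, hj⟩ := (hKp.to_subgroup (Subgroup.center ↥Kb)).exists_card_eq
      have h1 : 1 < Nat.card ↥(Subgroup.center ↥Kb) := Finite.one_lt_card
      rw [hj] at h1 ⊢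
      have hj0 : j ≠ 0 := by
        rintro rfl
        simp at h1
      calc p = p ^ 1 := (pow_one p).symm
        _ ≤ p ^ j := Nat.pow_le_pow_right hpp.pos (by omega)
    have hquot : Nat.card (↥Kb ⧸ Subgroup.center ↥Kb) ≤ p ^ 2 := by
      have h1 := Subgroup.card_eq_card_quotient_mul_card_subgroup (Subgroup.center ↥Kb)
      rw [hKbcard] at h1
      by_contra hgt
      push Not at hgt
      have h2 : p ^ 2 * p < Nat.card (↥Kb ⧸ Subgroup.center ↥Kb) *
          Nat.card ↥(Subgroup.center ↥Kb) :=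
        Nat.mul_lt_mul_of_lt_of_le hgt hZcard (by omega)
      have h3 : p ^ 2 * p = p ^ 3 := by ring
      omega
    have hcomm : commutator ↥Kb ≤ Subgroup.center ↥Kb := by
      have hQp : IsPGroup p (↥Kb ⧸ Subgroup.center ↥Kb) := hKp.to_quotient _
      obtain ⟨j, hj⟩ := hQp.exists_card_eq
      have hj2 : j ≤ 2 := by
        rw [hj] at hquot
        exact (Nat.pow_le_pow_iff_right hpp.one_lt).mp hquot
      have hcommQ : IsMulCommutative (↥Kb ⧸ Subgroup.center ↥Kb) := by
        interval_cases j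
        · rw [pow_zero] at hj
          have hsub : Subsingleton (↥Kb ⧸ Subgroup.center ↥Kb) :=
            (Nat.card_eq_one_iff_unique.mp hj).1
          exact ⟨⟨fun a b => Subsingleton.elim _ _⟩⟩
        · rw [pow_one] at hj
          have hcyc : IsCyclic (↥Kb ⧸ Subgroup.center ↥Kb) := isCyclic_of_prime_card hj
          exact IsCyclic.isMulCommutative
        · exact IsPGroup.isMulCommutative_of_card_eq_prime_sq hj
      exact (Subgroup.Normal.quotient_commutative_iff_commutator_le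
        (N := Subgroup.center ↥Kb)).mp hcommQ
    intro a ha b hb c hc
    have h1 : ⁅(⟨a, ha⟩ : ↥Kb), ⟨b, hb⟩⁆ ∈ commutator ↥Kb :=
      Subgroup.commutator_mem_commutator (Subgroup.mem_top _) (Subgroup.mem_top _)
    have h2 := (Subgroup.mem_center_iff.mp (hcomm h1)) ⟨c, hc⟩
    have h3 := congrArg Subtype.val h2
    exact h3.symm
  -- `Kb` has exponent `p`
  have hKbexp : ∀ k ∈ Kb, k ^ p = 1 := by
    intro k hk
    obtain ⟨u, hu, i, rfl⟩ := hKbmem k hk
    have hxi : x ^ i ∈ Kb := Subgroup.pow_mem _ hxKb _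
    have huK : u ∈ Kb := hUKb hu
    have hca := hKbcen (x ^ i) hxi u huK u huK
    have hcb := hKbcen (x ^ i) hxi u huK (x ^ i) hxi
    rw [Cfsg.Agent.Lib.Helper1.mul_pow_of_commutator_central hca hcb p, hUe.2 u hu, one_mul,
      ← pow_mul, mul_comm i p, pow_mul, hxp, one_pow, one_mul]
    have h1 : ⁅x ^ i, u⁆ ^ p = 1 := by
      rw [← Cfsg.Agent.Lib.Helper1.commutatorElement_pow_left hcb p, ← pow_mul, mul_comm i p,
        pow_mul, hxp, one_pow, commutatorElement_one_left]
    have h2 : p ∣ p.choose 2 := hpp.dvd_choose_self (by norm_num) (by omega)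
    obtain ⟨m, hm⟩ := h2
    rw [hm, pow_mul, h1, one_pow]
  -- the preimage `K` of `Kb`
  obtain ⟨K, hK⟩ : ∃ K : Subgroup R, K = Kb.comap (QuotientGroup.mk' T) := ⟨_, rfl⟩
  have hKmem : ∀ k : R, k ∈ K ↔ QuotientGroup.mk' T k ∈ Kb := by
    intro k
    rw [hK, Subgroup.mem_comap]
  have hTK : T ≤ K := by
    intro t ht
    rw [hKmem, QuotientGroup.mk'_apply, (QuotientGroup.eq_one_iff t).mpr ht]
    exact one_mem _
  have hKpowT : ∀ k ∈ K, k ^ p ∈ T := by
    intro k hk
    rw [← QuotientGroup.eq_one_iff, ← QuotientGroup.mk'_apply, map_pow]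
    exact hKbexp _ ((hKmem k).mp hk)
  have hTexp : ∀ t ∈ T, t ^ p = 1 := by
    intro t ht
    have h1 : (⟨t, ht⟩ : ↥T) ^ Nat.card ↥T = 1 := pow_card_eq_one'
    rw [hTcard] at h1
    exact congrArg Subtype.val h1
  have hKcard : p ^ 4 ≤ Nat.card ↥K := by
    have h1 := card_map_mk_mul_card T K hTK
    have h2 : K.map (QuotientGroup.mk' T) = Kb := by
      rw [hK]
      exact Subgroup.map_comap_eq_self_of_surjective (QuotientGroup.mk'_surjective T) Kb
    rw [h2, hKbcard, hTcard] at h1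
    rw [← h1]
    exact le_of_eq (by ring)
  -- commutators of `K` are central modulo `T`
  have hKcomm : ∀ c ∈ commutator ↥K, ∀ g ∈ Kb,
      QuotientGroup.mk' T ((c : ↥K) : R) * g = g * QuotientGroup.mk' T ((c : ↥K) : R) := by
    intro c hc
    rw [commutator_eq_closure] at hc
    induction hc using Subgroup.closure_induction with
    | mem y hy =>
      obtain ⟨a, b, rfl⟩ := hy
      intro g hg
      have h1 : QuotientGroup.mk' T ((⁅a, b⁆ : ↥K) : R) =
          ⁅QuotientGroup.mk' T (a : R), QuotientGroup.mk' T (b : R)⁆ := by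
        rw [← map_commutatorElement]
        rfl
      rw [h1]
      exact hKbcen _ ((hKmem _).mp a.2) _ ((hKmem _).mp b.2) g hg
    | one =>
      intro g _
      simp
    | mul a b _ _ iha ihb =>
      intro g hg
      rw [Subgroup.coe_mul, map_mul, mul_assoc, ihb g hg, ← mul_assoc, iha g hg, mul_assoc]
    | inv a _ iha =>
      intro g hg
      rw [Subgroup.coe_inv, map_inv]
      have := iha g hg
      calc (QuotientGroup.mk' T ((a : ↥K) : R))⁻¹ * g
          = (QuotientGroup.mk' T ((a : ↥K) : R))⁻¹ * (g * QuotientGroup.mk' T ((a : ↥K) : R)) *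
            (QuotientGroup.mk' T ((a : ↥K) : R))⁻¹ := by group
        _ = (QuotientGroup.mk' T ((a : ↥K) : R))⁻¹ * (QuotientGroup.mk' T ((a : ↥K) : R) * g) *
            (QuotientGroup.mk' T ((a : ↥K) : R))⁻¹ := by rw [this]
        _ = g * (QuotientGroup.mk' T ((a : ↥K) : R))⁻¹ := by group
  have hγ3 : ⁅commutator ↥K, (⊤ : Subgroup ↥K)⁆ ≤ T.subgroupOf K := by
    rw [Subgroup.commutator_le]
    intro c hc g _
    rw [Subgroup.mem_subgroupOf, ← QuotientGroup.eq_one_iff, ← QuotientGroup.mk'_apply]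
    have h1 : QuotientGroup.mk' T ((⁅c, g⁆ : ↥K) : R) =
        ⁅QuotientGroup.mk' T (c : R), QuotientGroup.mk' T (g : R)⁆ := by
      rw [← map_commutatorElement]
      rfl
    rw [h1, commutatorElement_eq_one_iff_mul_comm]
    exact hKcomm c hc _ ((hKmem _).mp g.2)
  have hTcenK : T.subgroupOf K ≤ Subgroup.center ↥K := by
    intro t ht
    rw [Subgroup.mem_subgroupOf] at ht
    rw [Subgroup.mem_center_iff]
    intro g
    apply Subtype.ext
    exact (Subgroup.mem_center_iff.mp (hTc ht)) (g : R)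
  have h4 : ⁅⁅commutator ↥K, (⊤ : Subgroup ↥K)⁆, (⊤ : Subgroup ↥K)⁆ = ⊥ := by
    rw [Subgroup.commutator_eq_bot_iff_le_centralizer, Subgroup.coe_top, Subgroup.centralizer_univ]
    exact hγ3.trans hTcenK
  -- commutators of `K` have order dividing `p`
  have hp2' : p ∣ p.choose 2 := hpp.dvd_choose_self (by norm_num) (by omega)
  have hcupow : ∀ a b : ↥K, Cfsg.Agent.Lib.Helper1.ClassThree.cu a b ^ p = 1 := by
    intro a b
    have hw : Cfsg.Agent.Lib.Helper1.ClassThree.cw a b ^ p = 1 := by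
      have h1 : Cfsg.Agent.Lib.Helper1.ClassThree.cw a b ∈ T.subgroupOf K := by
        apply hγ3
        unfold Cfsg.Agent.Lib.Helper1.ClassThree.cw
        apply Subgroup.commutator_mem_commutator _ (Subgroup.mem_top _)
        exact inv_mem (Cfsg.Agent.Lib.Helper1.ClassThree.cu_mem a b)
      rw [Subgroup.mem_subgroupOf] at h1
      apply Subtype.ext
      rw [Subgroup.coe_pow]
      exact hTexp _ h1
    have h := Cfsg.Agent.Lib.Helper1.ClassThree.conj_pow_formula a b
      (Cfsg.Agent.Lib.Helper1.ClassThree.cu a b) (Cfsg.Agent.Lib.Helper1.ClassThree.cw a b)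
      (Cfsg.Agent.Lib.Helper1.ClassThree.rel1 a b) (Cfsg.Agent.Lib.Helper1.ClassThree.rel2 a b)
      (Cfsg.Agent.Lib.Helper1.ClassThree.cw_commute h4 a b a)
      (Cfsg.Agent.Lib.Helper1.ClassThree.cw_commute h4 a b _).symm p
    have hcen : a ^ p ∈ Subgroup.center ↥K := by
      apply hTcenK
      rw [Subgroup.mem_subgroupOf, Subgroup.coe_pow]
      exact hKpowT _ a.2
    have h5 : (a ^ p)⁻¹ * b * a ^ p = b := by
      have := (Subgroup.mem_center_iff.mp hcen) b
      rw [mul_assoc, this, ← mul_assoc, inv_mul_cancel, one_mul]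
    rw [h5, Cfsg.Agent.Lib.Helper1.ClassThree.pow_eq_one_of_dvd hw hp2', mul_one] at h
    exact (mul_eq_left.mp h.symm)
  have hder : commutator ↥K ≤ Subgroup.closure {x : ↥K | x ^ p = 1} := by
    rw [commutator_eq_closure]
    apply Subgroup.closure_mono
    rintro _ ⟨a, b, rfl⟩
    have := hcupow b⁻¹ a⁻¹
    unfold Cfsg.Agent.Lib.Helper1.ClassThree.cu at this
    rw [inv_inv, inv_inv] at this
    exact this
  have hmul : ∀ a b : ↥K, (a * b) ^ p = a ^ p * b ^ p :=
    Cfsg.Agent.Lib.Helper1.ClassThree.mul_pow_prime h4 hpp hp hder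
  -- the power map and the count
  obtain ⟨φ, hφ⟩ : ∃ φ : ↥K →* ↥K, ∀ k : ↥K, φ k = k ^ p :=
    ⟨MonoidHom.mk' (fun k => k ^ p) hmul, fun k => rfl⟩
  have hrange : Nat.card ↥φ.range ≤ p := by
    have h1 : φ.range ≤ T.subgroupOf K := by
      rintro _ ⟨k, rfl⟩
      rw [hφ, Subgroup.mem_subgroupOf, Subgroup.coe_pow]
      exact hKpowT _ k.2
    have h2 := Subgroup.card_le_of_le h1
    have h3 : Nat.card ↥(T.subgroupOf K) = Nat.card ↥T :=
      Nat.card_congr (Subgroup.subgroupOfEquivOfLe hTK).toEquiv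
    omega
  have hker : Nat.card ↥φ.ker ≤ p ^ 2 := by
    refine le_trans ?_ hO
    apply Nat.card_le_card_of_injective
      (fun k : ↥φ.ker => (⟨((k : ↥K) : R), by
        unfold Cfsg.omegaOne
        apply Subgroup.subset_closure
        refine ⟨Subgroup.mem_top _, ?_⟩
        have h1 := k.2
        rw [MonoidHom.mem_ker, hφ] at h1
        have h2 := congrArg Subtype.val h1
        rw [Subgroup.coe_pow] at h2
        exact h2⟩ : ↥(Cfsg.omegaOne p (⊤ : Subgroup R))))
    intro k1 k2 h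
    have h1 : ((k1 : ↥K) : R) = ((k2 : ↥K) : R) := by
      have h2 := congrArg (fun y : ↥(Cfsg.omegaOne p (⊤ : Subgroup R)) => (y : R)) h
      exact h2
    exact Subtype.ext (Subtype.ext h1)
  have hcount : Nat.card ↥φ.ker * Nat.card ↥φ.range = Nat.card ↥K := by
    rw [← Subgroup.index_ker]
    exact Subgroup.card_mul_index _
  have h6 : Nat.card ↥K ≤ p ^ 2 * p := by
    rw [← hcount]
    exact Nat.mul_le_mul hker hrange
  have h7 : p ^ 2 * p < p ^ 4 := by
    have h8 : p ^ 4 = p ^ 2 * p * p := by ring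
    rw [h8]
    have h9 : 0 < p ^ 2 * p := by positivity
    have := hpp.one_lt
    nlinarith
  omega

/-- `Ω₁` is transported by isomorphisms -/
theorem card_omegaOne_top_congr {G H : Type*} [Group G] [Group H] (e : G ≃* H) (p : ℕ) :
    Nat.card ↥(Cfsg.omegaOne p (⊤ : Subgroup G)) = Nat.card ↥(Cfsg.omegaOne p (⊤ : Subgroup H)) := by
  have h1 : (Cfsg.omegaOne p (⊤ : Subgroup G)).map e.toMonoidHom =
      Cfsg.omegaOne p (⊤ : Subgroup H) := by
    unfold Cfsg.omegaOne
    rw [MonoidHom.map_closure]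
    congr 1
    ext y
    constructor
    · rintro ⟨x, ⟨-, hx⟩, rfl⟩
      refine ⟨Subgroup.mem_top _, ?_⟩
      show (e x) ^ p = 1
      rw [← map_pow, hx, map_one]
    · rintro ⟨-, hy⟩
      refine ⟨e.symm y, ⟨Subgroup.mem_top _, ?_⟩, ?_⟩
      · rw [← map_pow, hy, map_one]
      · show e (e.symm y) = y
        exact e.apply_symm_apply y
  rw [← h1]
  exact Nat.card_congr (e.subgroupMap _).toEquiv

theorem card_omegaOne_quotient_aux {p : ℕ} [Fact p.Prime] (hp : 3 < p) :
    ∀ (n : ℕ) {R : Type u} [Group R] [Finite R], Nat.card R ≤ n → IsPGroup p R →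
      Nat.card ↥(Cfsg.omegaOne p (⊤ : Subgroup R)) ≤ p ^ 2 → ∀ (T : Subgroup R) [T.Normal],
      Nat.card ↥(Cfsg.omegaOne p (⊤ : Subgroup (R ⧸ T))) ≤ p ^ 2 := by
  have hpp : p.Prime := Fact.out
  intro n
  induction n with
  | zero =>
    intro R _ _ hcard
    have := Nat.card_pos (α := R)
    omega
  | succ n ih =>
    intro R _ _ hcard hR hO T hTn
    by_cases hbot : T = ⊥
    · subst hbot
      rw [card_omegaOne_top_congr (QuotientGroup.quotientBot (G := R)) p]
      exact hO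
    · have h1 := normal_inf_center_ne_bot hR T hbot
      obtain ⟨z, hzmem, hz1, hzp, -⟩ := exists_central_order_p (p := p) (T ⊓ Subgroup.center R)
        (hR.to_subgroup _) h1
      rw [Subgroup.mem_inf] at hzmem
      have hzcard : Nat.card ↥(Subgroup.zpowers z) = p := by
        rw [Nat.card_zpowers, orderOf_eq_prime hzp hz1]
      have hT0c : Subgroup.zpowers z ≤ Subgroup.center R := Subgroup.zpowers_le.mpr hzmem.2
      have hT0T : Subgroup.zpowers z ≤ T := Subgroup.zpowers_le.mpr hzmem.1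
      have hT0n : (Subgroup.zpowers z).Normal := by
        refine ⟨fun t ht g => ?_⟩
        have := (Subgroup.mem_center_iff.mp (hT0c ht)) g
        rw [this, mul_inv_cancel_right]
        exact ht
      have hO1 := card_omegaOne_quotient_central hp hR hO (Subgroup.zpowers z) hT0c hzcard
      have hcard1 : Nat.card (R ⧸ Subgroup.zpowers z) ≤ n := by
        have h2 := Subgroup.card_eq_card_quotient_mul_card_subgroup (Subgroup.zpowers z)
        rw [hzcard] at h2
        have h3 : 0 < Nat.card (R ⧸ Subgroup.zpowers z) := Nat.card_pos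
        have := hpp.two_le
        nlinarith
      have hT1n : (T.map (QuotientGroup.mk' (Subgroup.zpowers z))).Normal :=
        hTn.map _ (QuotientGroup.mk'_surjective _)
      have h4 := ih hcard1 (hR.to_quotient _) hO1 (T.map (QuotientGroup.mk' (Subgroup.zpowers z)))
      rw [card_omegaOne_top_congr
        (QuotientGroup.quotientQuotientEquivQuotient (Subgroup.zpowers z) T hT0T) p] at h4
      exact h4

/-- **quotients**: for `p > 3`, the bound `p ^ 2` on `Ω₁` passes to quotients -/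
theorem card_omegaOne_quotient {p : ℕ} [Fact p.Prime] (hp : 3 < p) {R : Type u} [Group R]
    [Finite R] (hR : IsPGroup p R)
    (hO : Nat.card ↥(Cfsg.omegaOne p (⊤ : Subgroup R)) ≤ p ^ 2) (T : Subgroup R) [T.Normal] :
    Nat.card ↥(Cfsg.omegaOne p (⊤ : Subgroup (R ⧸ T))) ≤ p ^ 2 :=
  card_omegaOne_quotient_aux hp (Nat.card R) le_rfl hR hO T

end Cfsg.Agent.Lib.Helper10
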