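import Mathlib
import Cfsg.Prelude.Def_PLocal
import Cfsg.Prelude.Def_OddOrderLocal
import Cfsg.Agent.Lib.Helper10.OmegaQuot
import Cfsg.Agent.Lib.Helper1.Frattini
import Cfsg.Agent.Lib.Helper1.Extraspecial

/-!
Huppert's criterion (for `p > 3`): a `p`-group whose elements of order dividing `p` generate a subgroup
of order at most `p ^ 2` is metacyclic.
-/

set_option autoImplicit false

open scoped commutatorElement

namespace Cfsg.Agent.Lib.Helper10

universe u

/-- a normal subgroup of index at most `p ^ 2` of a `p`-group contains the derived subgroup -/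
theorem commutator_le_of_index_le_sq {R : Type*} [Group R] [Finite R] {p : ℕ} [Fact p.Prime]
    (hR : IsPGroup p R) (N : Subgroup R) [N.Normal] (hN : N.index ≤ p ^ 2) : commutator R ≤ N := by
  have hpp : p.Prime := Fact.out
  have hQp : IsPGroup p (R ⧸ N) := hR.to_quotient _
  obtain ⟨j, hj⟩ := hQp.exists_card_eq
  have hj2 : j ≤ 2 := by
    rw [Subgroup.index_eq_card, hj] at hN
    exact (Nat.pow_le_pow_iff_right hpp.one_lt).mp hN
  have hcommQ : IsMulCommutative (R ⧸ N) := by
    interval_cases j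
    · rw [pow_zero] at hj
      have hsub : Subsingleton (R ⧸ N) := (Nat.card_eq_one_iff_unique.mp hj).1
      exact ⟨⟨fun a b => Subsingleton.elim _ _⟩⟩
    · rw [pow_one] at hj
      have hcyc : IsCyclic (R ⧸ N) := isCyclic_of_prime_card hj
      exact IsCyclic.isMulCommutative
    · exact IsPGroup.isMulCommutative_of_card_eq_prime_sq hj
  exact (Subgroup.Normal.quotient_commutative_iff_commutator_le (N := N)).mp hcommQ

/-- strict inclusion of `p`-subgroups multiplies the order by at least `p` -/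
theorem card_mul_le_of_lt {R : Type*} [Group R] [Finite R] {p : ℕ} [Fact p.Prime]
    (hR : IsPGroup p R) {A B : Subgroup R} (h : A < B) : p * Nat.card ↥A ≤ Nat.card ↥B := by
  have hpp : p.Prime := Fact.out
  obtain ⟨i, hi⟩ := (hR.to_subgroup A).exists_card_eq
  obtain ⟨j, hj⟩ := (hR.to_subgroup B).exists_card_eq
  have h1 := Cfsg.Agent.Lib.Helper1.card_lt_of_lt h
  rw [hi, hj] at h1 ⊢
  have h2 : i < j := (Nat.pow_lt_pow_iff_right hpp.one_lt).mp h1
  calc p * p ^ i = p ^ (i + 1) := by ring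
    _ ≤ p ^ j := Nat.pow_le_pow_right hpp.pos h2

/-- two generators modulo a subgroup of index at most `p ^ 2` -/
theorem exists_second_generator {R : Type*} [Group R] [Finite R] {p : ℕ} [Fact p.Prime]
    (hR : IsPGroup p R) (N : Subgroup R) (hN : N.index ≤ p ^ 2) (u : R)
    (hu : u ∉ N ∨ N.index ≤ p) :
    ∃ v : R, Subgroup.zpowers u ⊔ Subgroup.zpowers v ⊔ N = ⊤ := by
  have hpp : p.Prime := Fact.out
  by_cases htop : Subgroup.zpowers u ⊔ N = ⊤
  · refine ⟨1, ?_⟩
    rw [Subgroup.zpowers_one_eq_bot, sup_bot_eq]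
    exact htop
  · obtain ⟨v, -, hv⟩ := SetLike.exists_of_lt (lt_top_iff_ne_top.mpr htop)
    refine ⟨v, ?_⟩
    have h1 : Subgroup.zpowers u ⊔ N < Subgroup.zpowers u ⊔ Subgroup.zpowers v ⊔ N := by
      refine lt_of_le_of_ne (sup_le (le_sup_left.trans le_sup_left) le_sup_right) ?_
      intro h
      apply hv
      rw [h]
      exact le_sup_left (a := Subgroup.zpowers u ⊔ Subgroup.zpowers v)
        (le_sup_right (a := Subgroup.zpowers u) (Subgroup.mem_zpowers v))
    have h2 := card_mul_le_of_lt hR h1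
    have h3 := Subgroup.card_mul_index N
    have hcard : Nat.card R ≤ Nat.card ↥(Subgroup.zpowers u ⊔ Subgroup.zpowers v ⊔ N) := by
      rcases hu with hu | hu
      · have h4 : N < Subgroup.zpowers u ⊔ N := by
          refine lt_of_le_of_ne le_sup_right ?_
          intro h
          apply hu
          rw [h]
          exact le_sup_left (a := Subgroup.zpowers u) (Subgroup.mem_zpowers u)
        have h5 := card_mul_le_of_lt hR h4
        calc Nat.card R = Nat.card ↥N * N.index := h3.symm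
          _ ≤ Nat.card ↥N * p ^ 2 := Nat.mul_le_mul_left _ hN
          _ = p * (p * Nat.card ↥N) := by ring
          _ ≤ p * Nat.card ↥(Subgroup.zpowers u ⊔ N) := Nat.mul_le_mul_left _ h5
          _ ≤ _ := h2
      · have h5 : Nat.card ↥N ≤ Nat.card ↥(Subgroup.zpowers u ⊔ N) :=
          Subgroup.card_le_of_le le_sup_right
        calc Nat.card R = Nat.card ↥N * N.index := h3.symm
          _ ≤ Nat.card ↥N * p := Nat.mul_le_mul_left _ hu
          _ = p * Nat.card ↥N := mul_comm _ _
          _ ≤ p * Nat.card ↥(Subgroup.zpowers u ⊔ N) := Nat.mul_le_mul_left _ h5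
          _ ≤ _ := h2
    exact Subgroup.card_eq_iff_eq_top _ |>.mp (le_antisymm (Subgroup.card_le_card_group _) hcard)

/-- a cyclic normal subgroup generating the group together with one more element gives a
metacyclic group -/
theorem isMetacyclic_of_two_generators {R : Type*} [Group R] (u v : R)
    (hn : (Subgroup.zpowers u).Normal) (htop : Subgroup.zpowers u ⊔ Subgroup.zpowers v = ⊤) :
    Cfsg.IsMetacyclic R := by
  refine ⟨Subgroup.zpowers u, hn, inferInstance, ?_⟩
  have hsurj : Function.Surjective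
      ((QuotientGroup.mk' (Subgroup.zpowers u)).comp (Subgroup.zpowers v).subtype) := by
    intro q
    obtain ⟨r, rfl⟩ := QuotientGroup.mk'_surjective _ q
    have hr : r ∈ Subgroup.zpowers u ⊔ Subgroup.zpowers v := by
      rw [htop]
      exact Subgroup.mem_top r
    rw [Subgroup.mem_sup_of_normal_left] at hr
    obtain ⟨y, hy, z, hz, rfl⟩ := hr
    refine ⟨⟨z, hz⟩, ?_⟩
    simp only [MonoidHom.coe_comp, Function.comp_apply, Subgroup.coe_subtype,
      QuotientGroup.mk'_apply, QuotientGroup.mk_mul]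
    rw [(QuotientGroup.eq_one_iff y).mpr hy, one_mul]
  exact isCyclic_of_surjective _ hsurj

/-- in a class two group generated by `a` and `b` the derived subgroup is generated by `⁅a, b⁆` -/
theorem commutator_le_zpowers_of_two_generators {R : Type*} [Group R]
    (hcen : commutator R ≤ Subgroup.center R) (a b : R)
    (htop : Subgroup.zpowers a ⊔ Subgroup.zpowers b = ⊤) :
    commutator R ≤ Subgroup.zpowers ⁅a, b⁆ := by
  have hc : ∀ x y : R, ⁅x, y⁆ ∈ Subgroup.center R := fun x y =>
    hcen (Subgroup.commutator_mem_commutator (Subgroup.mem_top x) (Subgroup.mem_top y))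
  have hcl : Subgroup.closure ({a, b} : Set R) = ⊤ := by
    rw [← htop, Subgroup.zpowers_eq_closure, Subgroup.zpowers_eq_closure, ← Subgroup.closure_union]
    rfl
  have hmulL : ∀ x y z : R, ⁅x * y, z⁆ = ⁅x, z⁆ * ⁅y, z⁆ := by
    intro x y z
    have h1 : ⁅x * y, z⁆ = x * ⁅y, z⁆ * x⁻¹ * ⁅x, z⁆ := by
      simp only [commutatorElement_def]; group
    have h2 : x * ⁅y, z⁆ = ⁅y, z⁆ * x := (Subgroup.mem_center_iff.mp (hc y z)) x
    have h3 : ⁅y, z⁆ * ⁅x, z⁆ = ⁅x, z⁆ * ⁅y, z⁆ :=
      (Subgroup.mem_center_iff.mp (hc x z)) ⁅y, z⁆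
    rw [h1, h2, mul_inv_cancel_right, h3]
  have hinvL : ∀ x z : R, ⁅x⁻¹, z⁆ = (⁅x, z⁆)⁻¹ := by
    intro x z
    have h1 := hmulL x x⁻¹ z
    rw [mul_inv_cancel, commutatorElement_one_left] at h1
    exact eq_inv_of_mul_eq_one_right h1.symm
  have hswap : ∀ x z : R, ⁅x, z⁆ = (⁅z, x⁆)⁻¹ := fun x z => (commutatorElement_inv z x).symm
  have hmulR : ∀ x y z : R, ⁅x, y * z⁆ = ⁅x, y⁆ * ⁅x, z⁆ := by
    intro x y z
    calc ⁅x, y * z⁆ = (⁅y * z, x⁆)⁻¹ := hswap x (y * z)
      _ = (⁅y, x⁆ * ⁅z, x⁆)⁻¹ := by rw [hmulL]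
      _ = (⁅z, x⁆)⁻¹ * (⁅y, x⁆)⁻¹ := mul_inv_rev _ _
      _ = ⁅x, z⁆ * ⁅x, y⁆ := by rw [← hswap x z, ← hswap x y]
      _ = ⁅x, y⁆ * ⁅x, z⁆ := ((Subgroup.mem_center_iff.mp (hc x y)) ⁅x, z⁆)
  have hinvR : ∀ x z : R, ⁅x, z⁻¹⁆ = (⁅x, z⁆)⁻¹ := by
    intro x z
    have h1 := hmulR x z z⁻¹
    rw [mul_inv_cancel, commutatorElement_one_right] at h1
    exact eq_inv_of_mul_eq_one_right h1.symm
  have key : ∀ x y : R, ⁅x, y⁆ ∈ Subgroup.zpowers ⁅a, b⁆ := by
    intro x y
    have hx : x ∈ Subgroup.closure ({a, b} : Set R) := by rw [hcl]; exact Subgroup.mem_top x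
    have hy : y ∈ Subgroup.closure ({a, b} : Set R) := by rw [hcl]; exact Subgroup.mem_top y
    induction hx, hy using Subgroup.closure_induction₂ with
    | mem x y hx hy =>
      rcases hx with rfl | hx <;> rcases hy with rfl | hy
      · rw [commutatorElement_self]; exact one_mem _
      · rw [Set.mem_singleton_iff] at hy; subst hy
        exact Subgroup.mem_zpowers _
      · rw [Set.mem_singleton_iff] at hx; subst hx
        rw [hswap x y]
        exact inv_mem (Subgroup.mem_zpowers _)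
      · rw [Set.mem_singleton_iff] at hx hy; subst hx; subst hy
        rw [commutatorElement_self]; exact one_mem _
    | one_left x hx => rw [commutatorElement_one_left]; exact one_mem _
    | one_right x hx => rw [commutatorElement_one_right]; exact one_mem _
    | mul_left x y z hx hy hz h1 h2 => rw [hmulL]; exact mul_mem h1 h2
    | mul_right y z x hy hz hx h1 h2 => rw [hmulR]; exact mul_mem h1 h2
    | inv_left x y hx hy h => rw [hinvL]; exact inv_mem h
    | inv_right x y hx hy h => rw [hinvR]; exact inv_mem h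
  rw [commutator_eq_closure, Subgroup.closure_le]
  rintro _ ⟨x, y, rfl⟩
  exact key x y

/-- **Lemma B**: a `p`-group (`p` odd) of class at most two with derived subgroup of exponent `p`
and `Ω₁` of order at most `p ^ 2` is metacyclic. -/
theorem isMetacyclic_of_class_two {R : Type u} [Group R] [Finite R] {p : ℕ} [Fact p.Prime]
    (hp2 : p ≠ 2) (hR : IsPGroup p R) (h2 : ⁅commutator R, (⊤ : Subgroup R)⁆ = ⊥)
    (hexp : ∀ c ∈ commutator R, c ^ p = 1)
    (hO : Nat.card ↥(Cfsg.omegaOne p (⊤ : Subgroup R)) ≤ p ^ 2) : Cfsg.IsMetacyclic R := by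
  have hpp : p.Prime := Fact.out
  have hcen : commutator R ≤ Subgroup.center R :=
    Cfsg.Agent.Lib.Helper1.commutator_le_center_of_class_two h2
  have hder : commutator R ≤ Subgroup.closure {x : R | x ^ p = 1} :=
    fun c hc => Subgroup.subset_closure (hexp c hc)
  have hmul : ∀ a b : R, (a * b) ^ p = a ^ p * b ^ p :=
    Cfsg.Agent.Lib.Helper1.ClassThree.mul_pow_prime_of_class_two hp2 h2 hder
  obtain ⟨φ, hφ⟩ : ∃ φ : R →* R, ∀ k : R, φ k = k ^ p :=
    ⟨MonoidHom.mk' (fun k => k ^ p) hmul, fun k => rfl⟩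
  obtain ⟨P, hP⟩ : ∃ P : Subgroup R, P = φ.range := ⟨_, rfl⟩
  have hPfrat : P ≤ frattini R := by
    rw [hP]
    rintro _ ⟨x, rfl⟩
    rw [hφ]
    exact Cfsg.Agent.Lib.Helper1.IsPGroup.pow_mem_frattini hR x
  have hPcen : P ≤ Subgroup.center R := by
    rw [hP]
    rintro _ ⟨x, rfl⟩
    rw [hφ, Subgroup.mem_center_iff]
    intro y
    have hc : ⁅x, y⁆ ∈ Subgroup.center R :=
      hcen (Subgroup.commutator_mem_commutator (Subgroup.mem_top x) (Subgroup.mem_top y))
    have hcx := ((Subgroup.mem_center_iff.mp hc) x).symm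
    have h1 : ⁅x ^ p, y⁆ = 1 := by
      rw [Cfsg.Agent.Lib.Helper1.commutatorElement_pow_left hcx p]
      exact hexp _ (Subgroup.commutator_mem_commutator (Subgroup.mem_top x) (Subgroup.mem_top y))
    exact (commutatorElement_eq_one_iff_mul_comm.mp h1).symm
  have hPn : P.Normal := by
    refine ⟨fun t ht g => ?_⟩
    have := (Subgroup.mem_center_iff.mp (hPcen ht)) g
    rw [this, mul_inv_cancel_right]
    exact ht
  have hker : Nat.card ↥φ.ker ≤ p ^ 2 := by
    refine le_trans ?_ hO
    apply Nat.card_le_card_of_injective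
      (fun k : ↥φ.ker => (⟨(k : R), by
        unfold Cfsg.omegaOne
        apply Subgroup.subset_closure
        refine ⟨Subgroup.mem_top _, ?_⟩
        have h1 := k.2
        rw [MonoidHom.mem_ker, hφ] at h1
        exact h1⟩ : ↥(Cfsg.omegaOne p (⊤ : Subgroup R))))
    intro k1 k2 h
    have h2 := congrArg (fun y : ↥(Cfsg.omegaOne p (⊤ : Subgroup R)) => (y : R)) h
    exact Subtype.ext h2
  have hidx : P.index ≤ p ^ 2 := by
    have h1 : Nat.card ↥φ.ker * Nat.card ↥φ.range = Nat.card R := by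
      rw [← Subgroup.index_ker]
      exact Subgroup.card_mul_index _
    have h2 := Subgroup.card_mul_index P
    rw [hP] at h2 ⊢
    have h3 : 0 < Nat.card ↥φ.range := Nat.card_pos
    have h4 : φ.range.index = Nat.card ↥φ.ker := by
      apply Nat.eq_of_mul_eq_mul_left h3
      rw [h2, ← h1, mul_comm]
    rw [h4]
    exact hker
  have hcommP : commutator R ≤ P := commutator_le_of_index_le_sq hR P hidx
  have hnongen : ∀ H : Subgroup R, H ⊔ P = ⊤ → H = ⊤ := by
    intro H hH
    apply frattini_nongenerating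
    rw [eq_top_iff, ← hH]
    exact sup_le_sup_left hPfrat H
  -- choose the first generator
  obtain ⟨u, hu, hcu⟩ : ∃ u : R, (u ∉ P ∨ P.index ≤ p) ∧ commutator R ≤ Subgroup.zpowers u := by
    by_cases hab : commutator R = ⊥
    · by_cases hPtop : P = ⊤
      · refine ⟨1, Or.inr ?_, ?_⟩
        · rw [hPtop, Subgroup.index_top]
          exact hpp.one_lt.le
        · rw [hab]; exact bot_le
      · obtain ⟨u, -, hu⟩ := SetLike.exists_of_lt (lt_top_iff_ne_top.mpr hPtop)
        exact ⟨u, Or.inl hu, by rw [hab]; exact bot_le⟩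
    · -- nonabelian case
      have hPtop : P ≠ ⊤ := by
        intro h
        apply hab
        have h1 : (⊥ : Subgroup R) = ⊤ := hnongen ⊥ (by rw [bot_sup_eq]; exact h)
        rw [eq_bot_iff]
        intro x _
        have : x ∈ (⊤ : Subgroup R) := Subgroup.mem_top x
        rw [← h1] at this
        exact this
      obtain ⟨a, -, ha⟩ := SetLike.exists_of_lt (lt_top_iff_ne_top.mpr hPtop)
      obtain ⟨b, hb⟩ := exists_second_generator hR P hidx a (Or.inl ha)
      have hab_top : Subgroup.zpowers a ⊔ Subgroup.zpowers b = ⊤ := hnongen _ hb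
      have hcz := commutator_le_zpowers_of_two_generators hcen a b hab_top
      have hc1 : ⁅a, b⁆ ≠ 1 := by
        intro h
        apply hab
        rw [eq_bot_iff]
        refine hcz.trans ?_
        rw [h, Subgroup.zpowers_one_eq_bot]
      have hcP : ⁅a, b⁆ ∈ P :=
        hcommP (Subgroup.commutator_mem_commutator (Subgroup.mem_top a) (Subgroup.mem_top b))
      -- an element of largest order whose powers contain `⁅a, b⁆`
      obtain ⟨u, hu, hmax⟩ := Set.exists_max_image {u : R | ⁅a, b⁆ ∈ Subgroup.zpowers u}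
        (fun u => orderOf u) (Set.toFinite _) ⟨⁅a, b⁆, Subgroup.mem_zpowers _⟩
      refine ⟨u, Or.inl ?_, hcz.trans (Subgroup.zpowers_le.mpr hu)⟩
      intro huP
      rw [hP] at huP
      obtain ⟨w, hw⟩ := huP
      rw [hφ] at hw
      have hu' : ⁅a, b⁆ ∈ Subgroup.zpowers u := hu
      have hu1 : u ≠ 1 := by
        intro h
        rw [h, Subgroup.zpowers_one_eq_bot, Subgroup.mem_bot] at hu'
        exact hc1 hu'
      have hw1 : w ≠ 1 := by
        rintro rfl
        rw [one_pow] at hw
        exact hu1 hw.symm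
      have hwmem : ⁅a, b⁆ ∈ Subgroup.zpowers w := by
        have h1 : Subgroup.zpowers u ≤ Subgroup.zpowers w := by
          rw [Subgroup.zpowers_le, ← hw]
          exact Subgroup.pow_mem _ (Subgroup.mem_zpowers w) p
        exact h1 hu
      have h1 := hmax w hwmem
      obtain ⟨j, hj⟩ := (IsPGroup.iff_orderOf.mp hR) w
      have hj0 : j ≠ 0 := by
        rintro rfl
        rw [pow_zero, orderOf_eq_one_iff] at hj
        exact hw1 hj
      have hdvd : p ∣ orderOf w := by
        rw [hj]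
        exact dvd_pow_self p hj0
      have h2 : orderOf u = orderOf w / p := by
        rw [← hw]
        exact orderOf_pow_of_dvd hpp.ne_zero hdvd
      have h3 : 0 < orderOf w := orderOf_pos w
      have h4 : orderOf w / p < orderOf w := Nat.div_lt_self h3 hpp.one_lt
      omega
  obtain ⟨v, hv⟩ := exists_second_generator hR P hidx u hu
  have huv : Subgroup.zpowers u ⊔ Subgroup.zpowers v = ⊤ := hnongen _ hv
  exact isMetacyclic_of_two_generators u v (Subgroup.Normal.of_commutator_le R hcu) huv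

/-- homomorphic images of metacyclic groups are metacyclic -/
theorem isMetacyclic_of_surjective {G H : Type*} [Group G] [Group H] (f : G →* H)
    (hf : Function.Surjective f) (hG : Cfsg.IsMetacyclic G) : Cfsg.IsMetacyclic H := by
  obtain ⟨N, hNn, hNc, hQc⟩ := hG
  have hfNn : (N.map f).Normal := hNn.map f hf
  refine ⟨N.map f, hfNn, ?_, ?_⟩
  · have hs : Function.Surjective (f.subgroupMap N) := f.subgroupMap_surjective N
    exact isCyclic_of_surjective _ hs
  · have hle : N ≤ (N.map f).comap f := Subgroup.le_comap_map f N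
    have hs : Function.Surjective (QuotientGroup.map N (N.map f) f hle) := by
      intro q
      obtain ⟨h, rfl⟩ := QuotientGroup.mk'_surjective _ q
      obtain ⟨g, rfl⟩ := hf h
      exact ⟨QuotientGroup.mk' N g, rfl⟩
    exact isCyclic_of_surjective _ hs

/-- `Φ(R') γ₃(R)` -/
def huppertSub (p : ℕ) (R : Type*) [Group R] : Subgroup R :=
  Subgroup.closure ({x | ∃ c ∈ commutator R, x = c ^ p} ∪
    {x | ∃ c ∈ commutator R, ∃ g : R, x = ⁅c, g⁆})

theorem huppertSub_le_commutator (p : ℕ) (R : Type*) [Group R] :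
    huppertSub p R ≤ commutator R := by
  unfold huppertSub
  rw [Subgroup.closure_le]
  rintro x (⟨c, hc, rfl⟩ | ⟨c, hc, g, rfl⟩)
  · exact Subgroup.pow_mem _ hc p
  · have hn : (commutator R).Normal := inferInstance
    have h1 : ⁅c, g⁆ = c * (g * c⁻¹ * g⁻¹) := by
      rw [commutatorElement_def]; group
    rw [h1]
    exact mul_mem hc (hn.conj_mem _ (inv_mem hc) g)

theorem map_huppertSub_le {G H : Type*} [Group G] [Group H] (p : ℕ) (f : G →* H) :
    (huppertSub p G).map f ≤ huppertSub p H := by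
  have hcomm : ∀ c ∈ commutator G, f c ∈ commutator H := by
    intro c hc
    have h1 : (commutator G).map f ≤ commutator H := by
      rw [commutator_def, commutator_def, Subgroup.map_commutator]
      exact Subgroup.commutator_mono le_top le_top
    exact h1 (Subgroup.mem_map_of_mem f hc)
  unfold huppertSub
  rw [MonoidHom.map_closure]
  apply Subgroup.closure_mono
  rintro _ ⟨x, (⟨c, hc, rfl⟩ | ⟨c, hc, g, rfl⟩), rfl⟩
  · left
    exact ⟨f c, hcomm c hc, map_pow f c p⟩
  · right
    exact ⟨f c, hcomm c hc, f g, map_commutatorElement f c g⟩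

instance huppertSub_normal (p : ℕ) (R : Type*) [Group R] : (huppertSub p R).Normal := by
  refine ⟨fun n hn g => ?_⟩
  have h1 := map_huppertSub_le p (MulAut.conj g).toMonoidHom (G := R) (H := R)
  exact h1 (Subgroup.mem_map_of_mem _ hn)

theorem exists_nat_pow_of_mem_zpowers {G : Type*} [Group G] [Finite G] {x y : G}
    (h : y ∈ Subgroup.zpowers x) : ∃ k : ℕ, x ^ k = y := by
  have h1 : y ∈ Submonoid.powers x := (mem_powers_iff_mem_zpowers).mpr h
  exact (Submonoid.mem_powers_iff y x).mp h1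

/-- **lifting**: if `R / M` is metacyclic for a central subgroup `M` of order `p` contained in
`Φ(R') γ₃(R)`, then `R` is metacyclic. -/
theorem isMetacyclic_of_central_quotient {R : Type u} [Group R] [Finite R] {p : ℕ}
    [Fact p.Prime] (hR : IsPGroup p R) (M : Subgroup R) [hMn : M.Normal]
    (hMc : M ≤ Subgroup.center R) (hMcard : Nat.card ↥M = p) (hMH : M ≤ huppertSub p R)
    (hmeta : Cfsg.IsMetacyclic (R ⧸ M)) : Cfsg.IsMetacyclic R := by
  have hpp : p.Prime := Fact.out
  obtain ⟨Nb, hNbn, hNbc, hQc⟩ := hmeta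
  obtain ⟨⟨abar, habar⟩, hgen⟩ := hNbc.exists_generator
  obtain ⟨a, rfl⟩ := QuotientGroup.mk'_surjective M abar
  obtain ⟨bbb, hbgen⟩ := hQc.exists_generator
  obtain ⟨bb, rfl⟩ := QuotientGroup.mk'_surjective Nb bbb
  obtain ⟨b, rfl⟩ := QuotientGroup.mk'_surjective M bb
  have hMcomm : ∀ m ∈ M, ∀ g : R, g * m = m * g := fun m hm g =>
    (Subgroup.mem_center_iff.mp (hMc hm)) g
  have hMexp : ∀ m ∈ M, m ^ p = 1 := by
    intro m hm
    have h1 : (⟨m, hm⟩ : ↥M) ^ Nat.card ↥M = 1 := pow_card_eq_one'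
    rw [hMcard] at h1
    exact congrArg Subtype.val h1
  obtain ⟨A1, hA1⟩ : ∃ A1 : Subgroup R, A1 = Nb.comap (QuotientGroup.mk' M) := ⟨_, rfl⟩
  have hA1n : A1.Normal := by
    rw [hA1]
    exact hNbn.comap _
  have hA1mem : ∀ x : R, x ∈ A1 ↔ QuotientGroup.mk' M x ∈ Nb := by
    intro x
    rw [hA1, Subgroup.mem_comap]
  have haA1 : a ∈ A1 := (hA1mem a).mpr habar
  have hMA1 : M ≤ A1 := by
    intro m hm
    rw [hA1mem, QuotientGroup.mk'_apply, (QuotientGroup.eq_one_iff m).mpr hm]
    exact one_mem _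
  -- elements of `A1`
  have hA1form : ∀ x ∈ A1, ∃ i : ℕ, ∃ m ∈ M, x = a ^ i * m := by
    intro x hx
    have h1 := hgen ⟨QuotientGroup.mk' M x, (hA1mem x).mp hx⟩
    obtain ⟨i, hi⟩ := exists_nat_pow_of_mem_zpowers h1
    have h2 := congrArg Subtype.val hi
    rw [Subgroup.coe_pow] at h2
    have h3 : QuotientGroup.mk' M (a ^ i) = QuotientGroup.mk' M x := by
      rw [map_pow]
      exact h2
    rw [QuotientGroup.mk'_apply, QuotientGroup.mk'_apply, QuotientGroup.eq] at h3
    exact ⟨i, _, h3, by group⟩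
  -- elements of `R`
  have hRform : ∀ r : R, ∃ j : ℕ, ∃ x ∈ A1, r = b ^ j * x := by
    intro r
    have h1 := hbgen (QuotientGroup.mk' Nb (QuotientGroup.mk' M r))
    obtain ⟨j, hj⟩ := exists_nat_pow_of_mem_zpowers h1
    rw [← map_pow, ← map_pow] at hj
    have hj2 : (QuotientGroup.mk' M (b ^ j))⁻¹ * QuotientGroup.mk' M r ∈ Nb := by
      have h3 : ((QuotientGroup.mk' M (b ^ j) : R ⧸ M) : (R ⧸ M) ⧸ Nb) =
          ((QuotientGroup.mk' M r : R ⧸ M) : (R ⧸ M) ⧸ Nb) := hj
      exact QuotientGroup.eq.mp h3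
    rw [← map_inv, ← map_mul] at hj2
    exact ⟨j, _, (hA1mem _).mpr hj2, by group⟩
  -- `A1` is abelian
  have hA1comm : ∀ x ∈ A1, ∀ y ∈ A1, x * y = y * x := by
    intro x hx y hy
    obtain ⟨i, m, hm, rfl⟩ := hA1form x hx
    obtain ⟨j, n, hn, rfl⟩ := hA1form y hy
    have h1 : Commute (a ^ i) (a ^ j) := (Commute.refl a).pow_pow i j
    have h2 : Commute m (a ^ j) := (hMcomm m hm (a ^ j)).symm
    have h3 : Commute (a ^ i) n := hMcomm n hn (a ^ i)
    have h4 : Commute m n := hMcomm n hn m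
    exact ((h1.mul_right h3).mul_left (h2.mul_right h4)).eq
  -- the commutator map with `b` on `A1`
  have hcbA1 : ∀ x ∈ A1, ⁅x, b⁆ ∈ A1 := by
    intro x hx
    have h1 : ⁅x, b⁆ = x * (b * x⁻¹ * b⁻¹) := by
      rw [commutatorElement_def]; group
    rw [h1]
    exact mul_mem hx (hA1n.conj_mem _ (inv_mem hx) b)
  obtain ⟨ψ, hψ⟩ : ∃ ψ : ↥A1 →* R, ∀ x : ↥A1, ψ x = ⁅(x : R), b⁆ := by
    refine ⟨MonoidHom.mk' (fun x : ↥A1 => ⁅(x : R), b⁆) ?_, fun x => rfl⟩
    intro x y
    show ⁅((x * y : ↥A1) : R), b⁆ = ⁅(x : R), b⁆ * ⁅(y : R), b⁆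
    rw [Subgroup.coe_mul]
    have h1 : ⁅(x : R) * (y : R), b⁆ = (x : R) * ⁅(y : R), b⁆ * (x : R)⁻¹ * ⁅(x : R), b⁆ := by
      simp only [commutatorElement_def]; group
    have h2 : (x : R) * ⁅(y : R), b⁆ = ⁅(y : R), b⁆ * (x : R) :=
      hA1comm _ x.2 _ (hcbA1 _ y.2)
    have h3 : ⁅(y : R), b⁆ * ⁅(x : R), b⁆ = ⁅(x : R), b⁆ * ⁅(y : R), b⁆ :=
      hA1comm _ (hcbA1 _ y.2) _ (hcbA1 _ x.2)
    rw [h1, h2, mul_inv_cancel_right, h3]
  have hψM : ∀ m (hm : m ∈ M), ψ ⟨m, hMA1 hm⟩ = 1 := by
    intro m hm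
    rw [hψ, commutatorElement_eq_one_iff_mul_comm]
    exact (hMcomm m hm b).symm
  have hψform : ∀ x : ↥A1, ∃ i : ℕ, ψ x = ⁅a, b⁆ ^ i := by
    rintro ⟨x, hx⟩
    obtain ⟨i, m, hm, rfl⟩ := hA1form x hx
    refine ⟨i, ?_⟩
    have h1 : (⟨a ^ i * m, hx⟩ : ↥A1) = (⟨a, haA1⟩ : ↥A1) ^ i * ⟨m, hMA1 hm⟩ := by
      apply Subtype.ext
      rw [Subgroup.coe_mul, Subgroup.coe_pow]
    rw [h1, map_mul, map_pow, hψM m hm, mul_one, hψ]
  -- the range of `ψ` is normal with abelian quotient
  have hrange_le : ψ.range ≤ Subgroup.zpowers ⁅a, b⁆ := by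
    rintro _ ⟨x, rfl⟩
    obtain ⟨i, hi⟩ := hψform x
    rw [hi]
    exact Subgroup.pow_mem _ (Subgroup.mem_zpowers _) i
  have hrangeA1 : ψ.range ≤ A1 := by
    rintro _ ⟨x, rfl⟩
    rw [hψ]
    exact hcbA1 _ x.2
  have hconjb : ∀ y ∈ ψ.range, b * y * b⁻¹ ∈ ψ.range ∧ b⁻¹ * y * b ∈ ψ.range := by
    rintro _ ⟨x, rfl⟩
    constructor
    · refine ⟨⟨b * (x : R) * b⁻¹, hA1n.conj_mem _ x.2 b⟩, ?_⟩
      rw [hψ, hψ]
      simp only [commutatorElement_def]; group
    · refine ⟨⟨b⁻¹ * (x : R) * b⁻¹⁻¹, hA1n.conj_mem _ x.2 b⁻¹⟩, ?_⟩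
      rw [hψ, hψ]
      simp only [commutatorElement_def]; group
  have hDn : ψ.range.Normal := by
    have hbN : b ∈ Subgroup.normalizer (ψ.range : Set R) := by
      rw [Subgroup.mem_normalizer_iff]
      intro n
      constructor
      · intro hn
        exact (hconjb n hn).1
      · intro hn
        have := (hconjb _ hn).2
        have h1 : b⁻¹ * (b * n * b⁻¹) * b = n := by group
        rw [h1] at this
        exact this
    have hA1N : A1 ≤ Subgroup.normalizer (ψ.range : Set R) := by
      intro x hx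
      rw [Subgroup.mem_normalizer_iff]
      intro n
      have key : ∀ y ∈ ψ.range, x * y * x⁻¹ = y := by
        intro y hy
        rw [hA1comm x hx y (hrangeA1 hy), mul_inv_cancel_right]
      constructor
      · intro hn
        rw [key n hn]
        exact hn
      · intro hn
        have h1 := key _ hn
        have h2 : n = x * n * x⁻¹ := by
          have h3 : x⁻¹ * (x * (x * n * x⁻¹) * x⁻¹) * x = x⁻¹ * (x * n * x⁻¹) * x := by rw [h1]
          have h4 : x⁻¹ * (x * (x * n * x⁻¹) * x⁻¹) * x = x * n * x⁻¹ := by group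
          have h5 : x⁻¹ * (x * n * x⁻¹) * x = n := by group
          rw [h4, h5] at h3
          exact h3.symm
        rw [h2]
        exact hn
    have htop : Subgroup.normalizer (ψ.range : Set R) = ⊤ := by
      rw [eq_top_iff]
      intro r _
      obtain ⟨j, x, hx, rfl⟩ := hRform r
      exact mul_mem (Subgroup.pow_mem _ hbN j) (hA1N hx)
    exact Subgroup.normalizer_eq_top_iff.mp htop
  have hcommD : commutator R ≤ ψ.range := by
    rw [← Subgroup.Normal.quotient_commutative_iff_commutator_le]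
    refine ⟨⟨?_⟩⟩
    intro q1 q2
    obtain ⟨r, rfl⟩ := QuotientGroup.mk'_surjective ψ.range q1
    obtain ⟨s', rfl⟩ := QuotientGroup.mk'_surjective ψ.range q2
    obtain ⟨j, x, hx, rfl⟩ := hRform r
    obtain ⟨k, y, hy, rfl⟩ := hRform s'
    have hbx : ∀ z ∈ A1, Commute (QuotientGroup.mk' ψ.range b) (QuotientGroup.mk' ψ.range z) := by
      intro z hz
      have h1 : ⁅z, b⁆ ∈ ψ.range := ⟨⟨z, hz⟩, hψ _⟩
      have h2 : QuotientGroup.mk' ψ.range ⁅z, b⁆ = 1 := by
        rw [QuotientGroup.mk'_apply]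
        exact (QuotientGroup.eq_one_iff _).mpr h1
      rw [map_commutatorElement, commutatorElement_eq_one_iff_commute] at h2
      exact h2.symm
    have hxy : Commute (QuotientGroup.mk' ψ.range x) (QuotientGroup.mk' ψ.range y) := by
      show QuotientGroup.mk' ψ.range x * QuotientGroup.mk' ψ.range y =
        QuotientGroup.mk' ψ.range y * QuotientGroup.mk' ψ.range x
      rw [← map_mul, ← map_mul, hA1comm x hx y hy]
    have hbb : Commute (QuotientGroup.mk' ψ.range b) (QuotientGroup.mk' ψ.range b) :=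
      Commute.refl _
    have hgoal : Commute (QuotientGroup.mk' ψ.range (b ^ j * x))
        (QuotientGroup.mk' ψ.range (b ^ k * y)) := by
      rw [map_mul, map_mul, map_pow, map_pow]
      apply Commute.mul_left
      · apply Commute.mul_right
        · exact hbb.pow_pow j k
        · exact (hbx y hy).pow_left j
      · apply Commute.mul_right
        · exact ((hbx x hx).pow_left k).symm
        · exact hxy
    exact hgoal.eq
  -- `M` lies in the powers of `⁅a, b⁆`
  have hMd : ∀ m ∈ M, ∃ i : ℕ, m = ⁅a, b⁆ ^ i := by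
    intro m hm
    have h1 : m ∈ ψ.range := hcommD (huppertSub_le_commutator p R (hMH hm))
    obtain ⟨x, rfl⟩ := h1
    obtain ⟨i, hi⟩ := hψform x
    exact ⟨i, hi⟩
  obtain ⟨k0, m0, hm0, hd⟩ := hA1form ⁅a, b⁆ (hcbA1 a haA1)
  have hMa : M ≤ Subgroup.zpowers a := by
    by_cases hdp : ⁅a, b⁆ ^ p = 1
    · -- then `Φ(R') γ₃(R)` is trivial
      exfalso
      have hcz : commutator R ≤ Subgroup.zpowers ⁅a, b⁆ := hcommD.trans hrange_le
      have hzeq : ψ.range = Subgroup.zpowers ⁅a, b⁆ := by
        apply le_antisymm hrange_le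
        rw [Subgroup.zpowers_le]
        exact ⟨⟨a, haA1⟩, hψ _⟩
      have hzn : (Subgroup.zpowers ⁅a, b⁆).Normal := hzeq ▸ hDn
      have hzc : Subgroup.zpowers ⁅a, b⁆ ≤ Subgroup.center R := by
        by_cases hd1 : ⁅a, b⁆ = 1
        · rw [hd1, Subgroup.zpowers_one_eq_bot]
          exact bot_le
        · apply Cfsg.Agent.Lib.Helper1.le_center_of_normal_of_card_prime hR
          rw [Nat.card_zpowers, orderOf_eq_prime hdp hd1]
      have hH : huppertSub p R = ⊥ := by
        rw [eq_bot_iff]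
        unfold huppertSub
        rw [Subgroup.closure_le]
        rintro x (⟨c, hc, rfl⟩ | ⟨c, hc, g, rfl⟩)
        · obtain ⟨i, rfl⟩ := exists_nat_pow_of_mem_zpowers (hcz hc)
          rw [SetLike.mem_coe, Subgroup.mem_bot, ← pow_mul, mul_comm, pow_mul, hdp, one_pow]
        · rw [SetLike.mem_coe, Subgroup.mem_bot, commutatorElement_eq_one_iff_mul_comm]
          exact ((Subgroup.mem_center_iff.mp (hzc (hcz hc))) g).symm
      have hMbot : M = ⊥ := by
        rw [eq_bot_iff, ← hH]
        exact hMH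
      rw [hMbot, Subgroup.card_bot] at hMcard
      exact hpp.one_lt.ne hMcard
    · intro m hm
      obtain ⟨i, rfl⟩ := hMd m hm
      have h1 : (⁅a, b⁆ ^ i) ^ p = 1 := hMexp _ hm
      obtain ⟨t, ht⟩ := (IsPGroup.iff_orderOf.mp hR) ⁅a, b⁆
      have ht2 : 2 ≤ t := by
        by_contra hlt
        push Not at hlt
        apply hdp
        have h2 : orderOf ⁅a, b⁆ ∣ p := by
          rw [ht]
          calc p ^ t ∣ p ^ 1 := pow_dvd_pow p (by omega)
            _ = p := pow_one p
        exact orderOf_dvd_iff_pow_eq_one.mp h2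
      have h3 : p ^ t ∣ i * p := by
        rw [← ht, orderOf_dvd_iff_pow_eq_one, pow_mul]
        exact h1
      have h4 : p ∣ i := by
        obtain ⟨t', rfl⟩ : ∃ t', t = t' + 2 := ⟨t - 2, by omega⟩
        have h5 : p * p ∣ i * p := by
          refine dvd_trans ?_ h3
          exact ⟨p ^ t', by ring⟩
        exact Nat.dvd_of_mul_dvd_mul_right hpp.pos h5
      obtain ⟨i', rfl⟩ := h4
      rw [hd]
      have hc1 : Commute (a ^ k0) m0 := hMcomm m0 hm0 (a ^ k0)
      rw [hc1.mul_pow, pow_mul m0, hMexp m0 hm0, one_pow, mul_one, ← pow_mul]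
      exact Subgroup.pow_mem _ (Subgroup.mem_zpowers a) _
  -- conclusion
  have hA1eq : Subgroup.zpowers a = A1 := by
    apply le_antisymm (Subgroup.zpowers_le.mpr haA1)
    intro x hx
    obtain ⟨i, m, hm, rfl⟩ := hA1form x hx
    exact mul_mem (Subgroup.pow_mem _ (Subgroup.mem_zpowers a) i) (hMa hm)
  have han : (Subgroup.zpowers a).Normal := hA1eq ▸ hA1n
  apply isMetacyclic_of_two_generators a b han
  rw [eq_top_iff]
  intro r _
  obtain ⟨j, x, hx, rfl⟩ := hRform r
  rw [← hA1eq] at hx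
  exact mul_mem (le_sup_right (a := Subgroup.zpowers a) (Subgroup.pow_mem _ (Subgroup.mem_zpowers b) j))
    (le_sup_left (a := Subgroup.zpowers a) hx)

/-- **Huppert's lemma**: `R` is metacyclic as soon as `R / Φ(R') γ₃(R)` is. -/
theorem isMetacyclic_of_huppert_quotient_aux {p : ℕ} [Fact p.Prime] :
    ∀ (n : ℕ) {R : Type u} [Group R] [Finite R], Nat.card R ≤ n → IsPGroup p R →
      Cfsg.IsMetacyclic (R ⧸ huppertSub p R) → Cfsg.IsMetacyclic R := by
  have hpp : p.Prime := Fact.out
  intro n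
  induction n with
  | zero =>
    intro R _ _ hcard
    have := Nat.card_pos (α := R)
    omega
  | succ n ih =>
    intro R _ _ hcard hR hmeta
    by_cases hbot : huppertSub p R = ⊥
    · have e : R ⧸ huppertSub p R ≃* R :=
        (QuotientGroup.quotientMulEquivOfEq hbot).trans QuotientGroup.quotientBot
      exact isMetacyclic_of_surjective e.toMonoidHom e.surjective hmeta
    · have h1 := normal_inf_center_ne_bot hR (huppertSub p R) hbot
      obtain ⟨z, hzmem, hz1, hzp, -⟩ := exists_central_order_p (p := p)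
        (huppertSub p R ⊓ Subgroup.center R) (hR.to_subgroup _) h1
      rw [Subgroup.mem_inf] at hzmem
      have hzcard : Nat.card ↥(Subgroup.zpowers z) = p := by
        rw [Nat.card_zpowers, orderOf_eq_prime hzp hz1]
      have hMc : Subgroup.zpowers z ≤ Subgroup.center R := Subgroup.zpowers_le.mpr hzmem.2
      have hMH : Subgroup.zpowers z ≤ huppertSub p R := Subgroup.zpowers_le.mpr hzmem.1
      have hMn : (Subgroup.zpowers z).Normal := by
        refine ⟨fun t ht g => ?_⟩
        have := (Subgroup.mem_center_iff.mp (hMc ht)) g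
        rw [this, mul_inv_cancel_right]
        exact ht
      have hcard1 : Nat.card (R ⧸ Subgroup.zpowers z) ≤ n := by
        have h2 := Subgroup.card_eq_card_quotient_mul_card_subgroup (Subgroup.zpowers z)
        rw [hzcard] at h2
        have h3 : 0 < Nat.card (R ⧸ Subgroup.zpowers z) := Nat.card_pos
        have := hpp.two_le
        nlinarith
      have hle : huppertSub p R ≤
          (huppertSub p (R ⧸ Subgroup.zpowers z)).comap (QuotientGroup.mk' (Subgroup.zpowers z)) :=
        Subgroup.map_le_iff_le_comap.mp (map_huppertSub_le p _)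
      have hsurj : Function.Surjective (QuotientGroup.map (huppertSub p R)
          (huppertSub p (R ⧸ Subgroup.zpowers z)) (QuotientGroup.mk' (Subgroup.zpowers z)) hle) := by
        intro q
        obtain ⟨q', rfl⟩ := QuotientGroup.mk'_surjective _ q
        obtain ⟨r, rfl⟩ := QuotientGroup.mk'_surjective _ q'
        exact ⟨QuotientGroup.mk' _ r, rfl⟩
      have hmeta1 := isMetacyclic_of_surjective _ hsurj hmeta
      have hmeta2 := ih hcard1 (hR.to_quotient _) hmeta1
      exact isMetacyclic_of_central_quotient hR (Subgroup.zpowers z) hMc hzcard hMH hmeta2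

/-- **Huppert's criterion** (`p > 3`): `|Ω₁(R)| ≤ p ^ 2` implies `R` metacyclic. -/
theorem isMetacyclic_of_card_omegaOne_le {p : ℕ} [Fact p.Prime] (hp : 3 < p) {R : Type u}
    [Group R] [Finite R] (hR : IsPGroup p R)
    (hO : Nat.card ↥(Cfsg.omegaOne p (⊤ : Subgroup R)) ≤ p ^ 2) : Cfsg.IsMetacyclic R := by
  have hp2 : p ≠ 2 := by omega
  apply isMetacyclic_of_huppert_quotient_aux (p := p) (Nat.card R) le_rfl hR
  have hcomm : ∀ c ∈ commutator (R ⧸ huppertSub p R),
      ∃ c0 ∈ commutator R, QuotientGroup.mk' (huppertSub p R) c0 = c := by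
    intro c hc
    have h1 : commutator (R ⧸ huppertSub p R) =
        (commutator R).map (QuotientGroup.mk' (huppertSub p R)) := by
      rw [commutator_def, commutator_def, Subgroup.map_commutator,
        Subgroup.map_top_of_surjective _ (QuotientGroup.mk'_surjective _)]
    rw [h1] at hc
    exact hc
  apply isMetacyclic_of_class_two hp2 (hR.to_quotient _)
  · rw [Subgroup.commutator_eq_bot_iff_le_centralizer, Subgroup.coe_top, Subgroup.centralizer_univ]
    intro c hc
    obtain ⟨c0, hc0, rfl⟩ := hcomm c hc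
    rw [Subgroup.mem_center_iff]
    intro g
    obtain ⟨g0, rfl⟩ := QuotientGroup.mk'_surjective _ g
    have h1 : ⁅c0, g0⁆ ∈ huppertSub p R := by
      unfold huppertSub
      exact Subgroup.subset_closure (Or.inr ⟨c0, hc0, g0, rfl⟩)
    have h2 : QuotientGroup.mk' (huppertSub p R) ⁅c0, g0⁆ = 1 := by
      rw [QuotientGroup.mk'_apply]
      exact (QuotientGroup.eq_one_iff _).mpr h1
    rw [map_commutatorElement, commutatorElement_eq_one_iff_mul_comm] at h2
    exact h2.symm
  · intro c hc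
    obtain ⟨c0, hc0, rfl⟩ := hcomm c hc
    have h1 : c0 ^ p ∈ huppertSub p R := by
      unfold huppertSub
      exact Subgroup.subset_closure (Or.inl ⟨c0, hc0, rfl⟩)
    rw [← map_pow, QuotientGroup.mk'_apply]
    exact (QuotientGroup.eq_one_iff _).mpr h1
  · exact card_omegaOne_quotient hp hR hO (huppertSub p R)

end Cfsg.Agent.Lib.Helper10
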