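import Mathlib
import Cfsg.Prelude.Def_PLocal
import Cfsg.Prelude.Def_OddOrderLocal
import Cfsg.Agent.S0638
import Cfsg.Agent.Lib.Helper1.Basic
import Cfsg.Agent.Lib.Helper1.ClassTwo
import Cfsg.Agent.Lib.Helper1.Coprime
import Cfsg.Agent.Lib.Helper1.CoprimeAbelian
import Cfsg.Agent.Lib.Helper10.PGroup
import Cfsg.Agent.Lib.Helper10.MetaCrit

/-!
Automorphisms of metacyclic `p`-groups, `p` odd: a nonabelian metacyclic `p`-group has a
characteristic section `L / Z` (with `Z` containing the derived subgroup) on which every automorphism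
acts trivially.  Consequence: a metacyclic `p`-group `K` with `K = [K, A]` for a `p'`-group `A` is abelian.
-/

set_option autoImplicit false

open scoped commutatorElement

namespace Cfsg.Agent.Lib.Helper10

universe u

/-- A group embedding into a metacyclic group is metacyclic. -/
theorem isMetacyclic_of_injective {H R : Type*} [Group H] [Group R] (f : H →* R)
    (hf : Function.Injective f) (hR : Cfsg.IsMetacyclic R) : Cfsg.IsMetacyclic H := by
  obtain ⟨N, hN, hNc, hQc⟩ := hR
  have := hN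
  have := hNc
  have := hQc
  refine ⟨N.comap f, inferInstance, ?_, ?_⟩
  · have hg : Function.Injective (f.subgroupComap N) := by
      intro x y hxy
      have h1 : f x.1 = f y.1 := congrArg Subtype.val hxy
      exact Subtype.ext (hf h1)
    exact isCyclic_of_injective (f.subgroupComap N) hg
  · have hg : Function.Injective (QuotientGroup.map (N.comap f) N f le_rfl) := by
      rw [injective_iff_map_eq_one]
      intro x hx
      obtain ⟨y, rfl⟩ := QuotientGroup.mk_surjective x
      rw [QuotientGroup.map_mk, QuotientGroup.eq_one_iff] at hx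
      exact (QuotientGroup.eq_one_iff y).mpr hx
    exact isCyclic_of_injective _ hg

/-- Two homomorphisms into a cyclic subgroup, the first onto, with nested kernels: the second is a
power of the first. -/
theorem exists_pow_of_ker_le {X P : Type*} [Group X] [Group P] [Finite P]
    (f g : X →* P) (c : P) (x0 : X) (hx0 : f x0 = c) (hf : ∀ x, f x ∈ Subgroup.zpowers c)
    (hg : g x0 ∈ Subgroup.zpowers c) (hk : f.ker ≤ g.ker) : ∃ m : ℕ, ∀ x, g x = (f x) ^ m := by
  have hnat : ∀ y ∈ Subgroup.zpowers c, ∃ n : ℕ, c ^ n = y := by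
    intro y hy
    rw [← mem_powers_iff_mem_zpowers] at hy
    exact (Submonoid.mem_powers_iff y c).mp hy
  obtain ⟨m, hm⟩ := hnat _ hg
  refine ⟨m, fun x => ?_⟩
  obtain ⟨n, hn⟩ := hnat _ (hf x)
  have hker : (x0 ^ n)⁻¹ * x ∈ f.ker := by
    rw [MonoidHom.mem_ker, map_mul, map_inv, map_pow, hx0, hn, inv_mul_cancel]
  have h2 := hk hker
  rw [MonoidHom.mem_ker, map_mul, map_inv, map_pow, inv_mul_eq_one] at h2
  rw [← h2, ← hm, ← hn, ← pow_mul, ← pow_mul, mul_comm]

theorem char_mem_iff {P : Type*} [Group P] (H : Subgroup P) [hH : H.Characteristic] (α : P ≃* P)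
    (x : P) : α x ∈ H ↔ x ∈ H := by
  have h := hH.fixed α
  constructor
  · intro hx
    have h1 : x ∈ H.comap α.toMonoidHom := hx
    rwa [h] at h1
  · intro hx
    have h1 : x ∈ H.comap α.toMonoidHom := by rw [h]; exact hx
    exact h1

theorem characteristic_of_forall_mem {P : Type*} [Group P] (H : Subgroup P)
    (h : ∀ α : P ≃* P, ∀ x ∈ H, α x ∈ H) : H.Characteristic := by
  rw [Subgroup.characteristic_iff_le_comap]
  intro α x hx
  exact h α x hx

theorem map_equiv_eq_of_characteristic {P : Type*} [Group P] (N : Subgroup P) [N.Characteristic]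
    (α : P ≃* P) : N.map (α : P →* P) = N := by
  ext x
  constructor
  · rintro ⟨y, hy, rfl⟩
    exact (char_mem_iff N α y).mpr hy
  · intro hx
    refine ⟨α.symm x, (char_mem_iff N α.symm x).mpr hx, ?_⟩
    simp

theorem comap_mk'_characteristic {P : Type*} [Group P] (N : Subgroup P) [N.Characteristic]
    (Z : Subgroup (P ⧸ N)) [Z.Characteristic] :
    (Z.comap (QuotientGroup.mk' N)).Characteristic := by
  apply characteristic_of_forall_mem
  intro α x hx
  rw [Subgroup.mem_comap] at hx ⊢
  have h1 := (char_mem_iff Z (QuotientGroup.congr N N α (map_equiv_eq_of_characteristic N α))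
    (QuotientGroup.mk' N x)).mpr hx
  exact h1

theorem comm_mem_commutator {P : Type*} [Group P] (x y : P) : ⁅x, y⁆ ∈ commutator P := by
  rw [commutator_def]
  exact Subgroup.commutator_mem_commutator (Subgroup.mem_top x) (Subgroup.mem_top y)

theorem comm_mem_center {P : Type*} [Group P] (hcen : commutator P ≤ Subgroup.center P) (x y : P) :
    ⁅x, y⁆ ∈ Subgroup.center P :=
  hcen (comm_mem_commutator x y)

theorem exists_last_false (Q : ℕ → Prop) (h0 : ¬ Q 0) (hn : ∃ n, Q n) :
    ∃ k, ¬ Q k ∧ Q (k + 1) := by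
  classical
  have hpos : Nat.find hn ≠ 0 := by
    intro h
    have h1 := Nat.find_spec hn
    rw [h] at h1
    exact h0 h1
  obtain ⟨k, hk⟩ := Nat.exists_eq_succ_of_ne_zero hpos
  refine ⟨k, Nat.find_min hn (by omega), ?_⟩
  have h1 := Nat.find_spec hn
  rwa [hk] at h1

/-- in a subgroup of prime order every nontrivial element generates -/
theorem mem_zpowers_of_card_prime {P : Type*} [Group P] {p : ℕ} [Fact p.Prime] (H : Subgroup P)
    (hH : Nat.card H = p) {c x : P} (hc : c ∈ H) (hc1 : c ≠ 1) (hx : x ∈ H) :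
    x ∈ Subgroup.zpowers c := by
  have hc1' : (⟨c, hc⟩ : H) ≠ 1 := fun h => hc1 (congrArg Subtype.val h)
  have h1 : (⟨x, hx⟩ : H) ∈ Subgroup.zpowers (⟨c, hc⟩ : H) := mem_zpowers_of_prime_card hH hc1'
  obtain ⟨n, hn⟩ := Subgroup.mem_zpowers_iff.mp h1
  refine Subgroup.mem_zpowers_iff.mpr ⟨n, ?_⟩
  have h2 := congrArg Subtype.val hn
  simpa using h2

/-! ### class two -/

/-- In a class-two group, `x ↦ ⁅x, u⁆` is a homomorphism. -/
def commLeftHom {P : Type*} [Group P] (hcen : commutator P ≤ Subgroup.center P) (u : P) :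
    P →* P where
  toFun x := ⁅x, u⁆
  map_one' := commutatorElement_one_left u
  map_mul' x y := by
    have hc := Subgroup.mem_center_iff.mp (comm_mem_center hcen y u)
    have h1 : ⁅x * y, u⁆ = x * ⁅y, u⁆ * x⁻¹ * ⁅x, u⁆ := by
      simp only [commutatorElement_def]; group
    calc ⁅x * y, u⁆ = x * ⁅y, u⁆ * x⁻¹ * ⁅x, u⁆ := h1
      _ = ⁅y, u⁆ * x * x⁻¹ * ⁅x, u⁆ := by rw [hc x]
      _ = ⁅y, u⁆ * ⁅x, u⁆ := by rw [mul_inv_cancel_right]
      _ = ⁅x, u⁆ * ⁅y, u⁆ := (hc ⁅x, u⁆).symm

theorem commLeftHom_apply {P : Type*} [Group P] (hcen : commutator P ≤ Subgroup.center P)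
    (u x : P) : commLeftHom hcen u x = ⁅x, u⁆ := rfl

/-- In a class-two group, `u ↦ ⁅l, u⁆` is a homomorphism. -/
def commRightHom {P : Type*} [Group P] (hcen : commutator P ≤ Subgroup.center P) (l : P) :
    P →* P where
  toFun u := ⁅l, u⁆
  map_one' := commutatorElement_one_right l
  map_mul' x y := by
    have hc := Subgroup.mem_center_iff.mp (comm_mem_center hcen l y)
    have h1 : ⁅l, x * y⁆ = ⁅l, x⁆ * (x * ⁅l, y⁆ * x⁻¹) := by
      simp only [commutatorElement_def]; group
    calc ⁅l, x * y⁆ = ⁅l, x⁆ * (x * ⁅l, y⁆ * x⁻¹) := h1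
      _ = ⁅l, x⁆ * (⁅l, y⁆ * x * x⁻¹) := by rw [hc x]
      _ = ⁅l, x⁆ * ⁅l, y⁆ := by rw [mul_inv_cancel_right]

theorem commRightHom_apply {P : Type*} [Group P] (hcen : commutator P ≤ Subgroup.center P)
    (l u : P) : commRightHom hcen l u = ⁅l, u⁆ := rfl

/-- the `p ^ (k+1)`-th power map of a class-two group with derived subgroup of exponent `p` odd -/
def pwHom {P : Type*} [Group P] {p : ℕ} [Fact p.Prime] (hp : p ≠ 2)
    (hcen : commutator P ≤ Subgroup.center P) (hexp : ∀ c ∈ commutator P, c ^ p = 1) (k : ℕ) :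
    P →* P where
  toFun x := x ^ p ^ (k + 1)
  map_one' := one_pow _
  map_mul' x y := by
    have hpp : p.Prime := Fact.out
    have hc := Subgroup.mem_center_iff.mp (comm_mem_center hcen y x)
    have h1 := Cfsg.Agent.Lib.Helper1.mul_pow_of_commutator_central (x := x) (y := y)
      (hc x).symm (hc y).symm (p ^ (k + 1))
    have hdvd : p ∣ (p ^ (k + 1)).choose 2 := by
      apply Nat.Prime.dvd_choose_pow hpp (by norm_num)
      intro h
      have h2 : p ∣ 2 := by rw [h]; exact dvd_pow_self p (Nat.succ_ne_zero k)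
      exact hp ((Nat.prime_dvd_prime_iff_eq hpp Nat.prime_two).mp h2)
    obtain ⟨t, ht⟩ := hdvd
    rw [h1, ht, pow_mul, hexp _ (comm_mem_commutator y x), one_pow, mul_one]

theorem pwHom_apply {P : Type*} [Group P] {p : ℕ} [Fact p.Prime] (hp : p ≠ 2)
    (hcen : commutator P ≤ Subgroup.center P) (hexp : ∀ c ∈ commutator P, c ^ p = 1) (k : ℕ)
    (x : P) : pwHom hp hcen hexp k x = x ^ p ^ (k + 1) := rfl

theorem pwHom_equiv {P : Type*} [Group P] {p : ℕ} [Fact p.Prime] (hp : p ≠ 2)
    (hcen : commutator P ≤ Subgroup.center P) (hexp : ∀ c ∈ commutator P, c ^ p = 1) (k : ℕ)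
    (α : P ≃* P) (x : P) : pwHom hp hcen hexp k (α x) = α (pwHom hp hcen hexp k x) := by
  rw [pwHom_apply, pwHom_apply, map_pow]

theorem pwHom_zero_mem_center {P : Type*} [Group P] {p : ℕ} [Fact p.Prime] (hp : p ≠ 2)
    (hcen : commutator P ≤ Subgroup.center P) (hexp : ∀ c ∈ commutator P, c ^ p = 1) (x : P) :
    pwHom hp hcen hexp 0 x ∈ Subgroup.center P := by
  rw [Subgroup.mem_center_iff]
  intro y
  have hc := Subgroup.mem_center_iff.mp (comm_mem_center hcen x y)
  have h1 : ⁅x ^ p, y⁆ = ⁅x, y⁆ ^ p :=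
    Cfsg.Agent.Lib.Helper1.commutatorElement_pow_left (hc x).symm p
  rw [hexp _ (comm_mem_commutator x y)] at h1
  have h2 : x ^ p * y = y * x ^ p := commutatorElement_eq_one_iff_mul_comm.mp h1
  rw [pwHom_apply, zero_add, pow_one]
  exact h2.symm

/-! ### the reduction lemmas -/

theorem commutator_le_center_of_min {P : Type*} [Group P] [Finite P] {p : ℕ} [Fact p.Prime]
    (hP : IsPGroup p P) (hne : commutator P ≠ ⊥)
    (hmin : ∀ N : Subgroup P, N.Characteristic → N ≠ ⊥ → commutator P ≤ N) :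
    commutator P ≤ Subgroup.center P := by
  have h1 : commutator P ⊓ Subgroup.center P ≠ ⊥ := normal_inf_center_ne_bot hP (commutator P) hne
  have h2 : (commutator P ⊓ Subgroup.center P).Characteristic := inferInstance
  exact (hmin _ h2 h1).trans inf_le_right

theorem commutator_exp_of_min {P : Type*} [Group P] [Finite P] {p : ℕ} [Fact p.Prime]
    (hP : IsPGroup p P) (hcen : commutator P ≤ Subgroup.center P) (hne : commutator P ≠ ⊥)
    (hmin : ∀ N : Subgroup P, N.Characteristic → N ≠ ⊥ → commutator P ≤ N) :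
    ∀ c ∈ commutator P, c ^ p = 1 := by
  have hpp : p.Prime := Fact.out
  let N : Subgroup P :=
    { carrier := {c | c ∈ commutator P ∧ c ^ p = 1}
      mul_mem' := by
        rintro a b ⟨ha, ha'⟩ ⟨hb, hb'⟩
        refine ⟨mul_mem ha hb, ?_⟩
        have hcomm : Commute a b := Subgroup.mem_center_iff.mp (hcen hb) a
        rw [hcomm.mul_pow, ha', hb', one_mul]
      one_mem' := ⟨one_mem _, one_pow _⟩
      inv_mem' := by
        rintro a ⟨ha, ha'⟩
        exact ⟨inv_mem ha, by rw [inv_pow, ha', inv_one]⟩ }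
  have hNmem : ∀ c, c ∈ N ↔ c ∈ commutator P ∧ c ^ p = 1 := fun c => Iff.rfl
  have hNchar : N.Characteristic := by
    apply characteristic_of_forall_mem
    intro α x hx
    rw [hNmem] at hx ⊢
    exact ⟨(char_mem_iff (commutator P) α x).mpr hx.1, by rw [← map_pow, hx.2, map_one]⟩
  have hNne : N ≠ ⊥ := by
    have hPc : IsPGroup p (commutator P) := hP.to_subgroup _
    have hdvd : p ∣ Nat.card (commutator P) := by
      rcases hPc.card_eq_or_dvd with h | h
      · exact absurd (Subgroup.card_eq_one.mp h) hne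
      · exact h
    obtain ⟨c, hc⟩ := exists_prime_orderOf_dvd_card' p hdvd
    intro hbot
    have hcp : c ^ p = 1 := by rw [← hc]; exact pow_orderOf_eq_one c
    have hcN : (c : P) ∈ N := by
      rw [hNmem]
      refine ⟨c.2, ?_⟩
      have h3 := congrArg Subtype.val hcp
      simpa using h3
    rw [hbot, Subgroup.mem_bot] at hcN
    have hc1 : c = 1 := Subtype.ext hcN
    rw [hc1, orderOf_one] at hc
    exact hpp.one_lt.ne hc
  intro c hc
  exact ((hNmem c).mp ((hmin N hNchar hNne) hc)).2

theorem card_commutator_of_min {P : Type*} [Group P] [Finite P] {p : ℕ} [Fact p.Prime]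
    (hm : Cfsg.IsMetacyclic P) (hne : commutator P ≠ ⊥)
    (hexp : ∀ c ∈ commutator P, c ^ p = 1) : Nat.card (commutator P) = p := by
  have hpp : p.Prime := Fact.out
  obtain ⟨N, hN, hNc, hQc⟩ := hm
  have := hN
  have := hNc
  have := hQc
  have hle : commutator P ≤ N := by
    have hcommQ : IsMulCommutative (P ⧸ N) := IsCyclic.isMulCommutative
    exact (Subgroup.Normal.quotient_commutative_iff_commutator_le (N := N)).mp hcommQ
  haveI : IsCyclic (commutator P) :=
    isCyclic_of_injective (Subgroup.inclusion hle) (Subgroup.inclusion_injective hle)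
  obtain ⟨c, hc⟩ := IsCyclic.exists_generator (α := commutator P)
  have hcard : orderOf c = Nat.card (commutator P) := orderOf_eq_card_of_forall_mem_zpowers hc
  have hcp : c ^ p = 1 := by
    apply Subtype.ext
    have h3 := hexp c.1 c.2
    simpa using h3
  have hdvd : orderOf c ∣ p := orderOf_dvd_of_pow_eq_one hcp
  rcases (Nat.dvd_prime hpp).mp hdvd with h | h
  · exfalso
    apply hne
    apply Subgroup.card_eq_one.mp
    rw [← hcard, h]
  · rw [← hcard, h]

/-- The reduced case: every nontrivial characteristic subgroup contains the derived subgroup. -/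
theorem reduced_case {P : Type u} [Group P] [Finite P] {p : ℕ} [Fact p.Prime] (hp : p ≠ 2)
    (hP : IsPGroup p P) (hm : Cfsg.IsMetacyclic P) (hna : ∃ x y : P, x * y ≠ y * x)
    (hmin : ∀ N : Subgroup P, N.Characteristic → N ≠ ⊥ → commutator P ≤ N) :
    ∃ Z L : Subgroup P, Z.Characteristic ∧ L.Characteristic ∧ Z < L ∧ commutator P ≤ Z ∧
      ∀ α : P ≃* P, ∀ l ∈ L, α l * l⁻¹ ∈ Z := by
  have hpp : p.Prime := Fact.out
  have hne : commutator P ≠ ⊥ := by
    intro h
    obtain ⟨x, y, hxy⟩ := hna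
    apply hxy
    have h1 : ⁅x, y⁆ ∈ commutator P := comm_mem_commutator x y
    rw [h, Subgroup.mem_bot] at h1
    exact commutatorElement_eq_one_iff_mul_comm.mp h1
  have hcen := commutator_le_center_of_min hP hne hmin
  have hexp := commutator_exp_of_min hP hcen hne hmin
  have hcard := card_commutator_of_min hm hne hexp
  have hnc : ¬ IsCyclic P := by
    intro hcyc
    obtain ⟨x, y, hxy⟩ := hna
    refine hxy (commutative_of_cyclic_center_quotient (MonoidHom.id P) ?_ x y)
    intro z hz
    rw [MonoidHom.mem_ker, MonoidHom.id_apply] at hz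
    rw [hz]
    exact one_mem _
  obtain ⟨-, hΩcard⟩ := Cfsg.Agent.S0638.result hp hP hm hnc
  -- the `p`-th power map
  obtain ⟨F0, hF0⟩ : ∃ F0 : P →* P, F0 = pwHom hp hcen hexp 0 := ⟨_, rfl⟩
  have hF0app : ∀ x, F0 x = x ^ p := by
    intro x
    rw [hF0, pwHom_apply, zero_add, pow_one]
  have hker : F0.ker = Cfsg.omegaOne p (⊤ : Subgroup P) := by
    apply le_antisymm
    · intro x hx
      apply Subgroup.subset_closure
      refine ⟨Subgroup.mem_top x, ?_⟩
      have h1 := MonoidHom.mem_ker.mp hx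
      rwa [hF0app] at h1
    · unfold Cfsg.omegaOne
      rw [Subgroup.closure_le]
      rintro x ⟨-, hx⟩
      rw [SetLike.mem_coe, MonoidHom.mem_ker, hF0app, hx]
  have hidx : F0.range.index = p ^ 2 := by
    have h1 : F0.ker.index = Nat.card F0.range := Subgroup.index_ker F0
    have h2 : Nat.card F0.ker * F0.ker.index = Nat.card P := Subgroup.card_mul_index F0.ker
    have h3 : Nat.card F0.range * F0.range.index = Nat.card P := Subgroup.card_mul_index F0.range
    have h4 : Nat.card F0.ker = p ^ 2 := by rw [hker]; exact hΩcard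
    have h5 : 0 < Nat.card F0.range := Nat.card_pos
    rw [h1, h4] at h2
    have h6 : Nat.card F0.range * F0.range.index = Nat.card F0.range * p ^ 2 := by
      rw [h3, ← h2, mul_comm]
    exact Nat.eq_of_mul_eq_mul_left h5 h6
  have hZcen : F0.range ≤ Subgroup.center P := by
    rintro _ ⟨x, rfl⟩
    rw [hF0]
    exact pwHom_zero_mem_center hp hcen hexp x
  have hcenZ : Subgroup.center P = F0.range := by
    apply le_antisymm _ hZcen
    have hdvd : (Subgroup.center P).index ∣ p ^ 2 := hidx ▸ Subgroup.index_dvd_of_le hZcen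
    obtain ⟨j, hj2, hj⟩ := (Nat.dvd_prime_pow hpp).mp hdvd
    have hj' : j = 2 := by
      by_contra hne2
      have hj1 : j ≤ 1 := by omega
      have hcyc : IsCyclic (P ⧸ Subgroup.center P) := by
        interval_cases j
        · rw [pow_zero] at hj
          have h1 : Nat.card (P ⧸ Subgroup.center P) = 1 := by
            rw [← Subgroup.index_eq_card]; exact hj
          haveI : Subsingleton (P ⧸ Subgroup.center P) := (Nat.card_eq_one_iff_unique.mp h1).1
          exact isCyclic_of_subsingleton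
        · rw [pow_one] at hj
          exact isCyclic_of_prime_card (p := p) (by rw [← Subgroup.index_eq_card]; exact hj)
      obtain ⟨x, y, hxy⟩ := hna
      exact hxy (commutative_of_cyclic_center_quotient (QuotientGroup.mk' (Subgroup.center P))
        (by rw [QuotientGroup.ker_mk']) x y)
    rw [hj'] at hj
    have h1 := Subgroup.relIndex_mul_index hZcen
    rw [hj, hidx] at h1
    have h2 : F0.range.relIndex (Subgroup.center P) = 1 := by
      have hpos : 0 < p ^ 2 := pow_pos hpp.pos 2
      exact Nat.eq_of_mul_eq_mul_right hpos (by rw [h1, one_mul])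
    exact Subgroup.relIndex_eq_one.mp h2
  -- choice of the level
  obtain ⟨n, hn⟩ := hP.exists_card_eq
  have hQn : ∃ k, ∀ x : P, x ^ p ^ (k + 1) = 1 := ⟨n, fun x => by
    rw [pow_succ, pow_mul, ← hn, pow_card_eq_one', one_pow]⟩
  have hQ0 : ¬ ∀ x : P, x ^ p ^ (0 + 1) = 1 := by
    intro h1
    apply hne
    rw [eq_bot_iff]
    refine hcen.trans ?_
    rw [hcenZ]
    rintro _ ⟨x, rfl⟩
    rw [Subgroup.mem_bot, hF0app]
    have h2 := h1 x
    rwa [zero_add, pow_one] at h2
  obtain ⟨k, hknot, hk1⟩ := exists_last_false (fun k => ∀ x : P, x ^ p ^ (k + 1) = 1) hQ0 hQn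
  obtain ⟨F, hF⟩ : ∃ F : P →* P, F = pwHom hp hcen hexp k := ⟨_, rfl⟩
  have hFapp : ∀ x, F x = x ^ p ^ (k + 1) := by
    intro x
    rw [hF, pwHom_apply]
  have hFequiv : ∀ (α : P ≃* P) (x : P), F (α x) = α (F x) := by
    intro α x
    rw [hF]
    exact pwHom_equiv hp hcen hexp k α x
  have hFne : F.range ≠ ⊥ := by
    intro h
    apply hknot
    intro x
    have h1 : F x ∈ F.range := ⟨x, rfl⟩
    rw [h, Subgroup.mem_bot, hFapp] at h1
    exact h1
  have hFchar : F.range.Characteristic := by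
    apply characteristic_of_forall_mem
    rintro α _ ⟨x, rfl⟩
    exact ⟨α x, hFequiv α x⟩
  have hP'F : commutator P ≤ F.range := hmin _ hFchar hFne
  have hFF : ∀ x, F (x ^ p) = 1 := by
    intro x
    rw [hFapp, ← pow_mul, ← pow_succ']
    exact hk1 x
  -- the two subgroups
  obtain ⟨L1, hL1⟩ : ∃ L1 : Subgroup P, L1 = (commutator P).comap F := ⟨_, rfl⟩
  have hL1mem : ∀ x, x ∈ L1 ↔ F x ∈ commutator P := by
    intro x
    rw [hL1, Subgroup.mem_comap]
  have hZL0 : F0.range ≤ F.ker := by
    rintro _ ⟨x, rfl⟩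
    rw [MonoidHom.mem_ker, hF0app]
    exact hFF x
  have hL01 : F.ker ≤ L1 := by
    intro x hx
    rw [hL1mem, MonoidHom.mem_ker.mp hx]
    exact one_mem _
  have hL0char : F.ker.Characteristic := by
    apply characteristic_of_forall_mem
    intro α x hx
    rw [MonoidHom.mem_ker] at hx ⊢
    rw [hFequiv, hx, map_one]
  have hL1char : L1.Characteristic := by
    apply characteristic_of_forall_mem
    intro α x hx
    rw [hL1mem] at hx ⊢
    rw [hFequiv]
    exact (char_mem_iff (commutator P) α _).mpr hx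
  have hrel : F.ker.relIndex L1 = p := by
    let F' : ↥L1 →* ↥(commutator P) :=
      { toFun := fun x => ⟨F x.1, (hL1mem x.1).mp x.2⟩
        map_one' := Subtype.ext (map_one F)
        map_mul' := fun x y => Subtype.ext (map_mul F x.1 y.1) }
    have hF'surj : Function.Surjective F' := by
      rintro ⟨c, hc⟩
      obtain ⟨w, hw⟩ := hP'F hc
      exact ⟨⟨w, (hL1mem w).mpr (by rw [hw]; exact hc)⟩, Subtype.ext hw⟩
    have hF'ker : F'.ker = F.ker.subgroupOf L1 := by
      ext x
      rw [MonoidHom.mem_ker, Subgroup.mem_subgroupOf, MonoidHom.mem_ker]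
      constructor
      · intro h; exact congrArg Subtype.val h
      · intro h; exact Subtype.ext h
    have h1 := Subgroup.index_ker F'
    rw [MonoidHom.range_eq_top.mpr hF'surj, Subgroup.card_top, hcard, hF'ker] at h1
    exact h1
  have hidx2 : F0.range.relIndex F.ker * (F.ker.relIndex L1 * L1.index) = p ^ 2 := by
    rw [Subgroup.relIndex_mul_index hL01, Subgroup.relIndex_mul_index hZL0, hidx]
  rw [hrel] at hidx2
  have hab : F0.range.relIndex F.ker * L1.index = p := by
    have h1 : p * (F0.range.relIndex F.ker * L1.index) = p * p := by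
      rw [← sq, ← hidx2]; ring
    exact Nat.eq_of_mul_eq_mul_left hpp.pos h1
  -- a nontrivial commutator and a root of it
  obtain ⟨⟨c0, hc0⟩, hc01'⟩ := Subgroup.ne_bot_iff_exists_ne_one.mp hne
  have hc01 : c0 ≠ 1 := fun h => hc01' (Subtype.ext h)
  obtain ⟨w, hw⟩ := hP'F hc0
  have hzp : ∀ x ∈ commutator P, x ∈ Subgroup.zpowers c0 := fun x hx =>
    mem_zpowers_of_card_prime (commutator P) hcard hc0 hc01 hx
  have hwL1 : w ∈ L1 := (hL1mem w).mpr (by rw [hw]; exact hc0)
  rcases (Nat.dvd_prime hpp).mp (Dvd.intro _ hab) with ha | ha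
  · -- case (a): `ker F = range F0`, `L1` of index `p`
    have hL0Z : F.ker ≤ F0.range := Subgroup.relIndex_eq_one.mp ha
    have hL1idx : L1.index = p := by rw [ha, one_mul] at hab; exact hab
    refine ⟨L1, ⊤, hL1char, inferInstance, ?_, ?_, ?_⟩
    · rw [lt_top_iff_ne_top]
      intro h
      rw [h, Subgroup.index_top] at hL1idx
      exact hpp.one_lt.ne hL1idx
    · exact hcen.trans (hcenZ.le.trans (hZL0.trans hL01))
    · intro α u _
      by_contra hw'
      obtain ⟨m, hm⟩ := exists_pow_of_ker_le (F.comp L1.subtype)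
        ((commLeftHom hcen u).comp L1.subtype) c0 ⟨w, hwL1⟩ hw
        (fun x => hzp _ ((hL1mem x.1).mp x.2)) (hzp _ (comm_mem_commutator w u))
        (by
          intro x hx
          rw [MonoidHom.mem_ker] at hx ⊢
          have hx1 : (x : P) ∈ F.ker := hx
          have hx2 := Subgroup.mem_center_iff.mp (hZcen (hL0Z hx1)) u
          have h3 : ⁅(x : P), u⁆ = 1 := commutatorElement_eq_one_iff_mul_comm.mpr hx2.symm
          exact h3)
      have hm' : ∀ l ∈ L1, ⁅l, u⁆ = (F l) ^ m := fun l hl => hm ⟨l, hl⟩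
      -- every element of `L1` commutes with `α u * u⁻¹`
      have hcommL : ∀ l' ∈ L1, ⁅l', α u * u⁻¹⁆ = 1 := by
        intro l' hl'
        have hl : α.symm l' ∈ L1 := (char_mem_iff L1 α.symm l').mpr hl'
        have h1 : ⁅l', α u⁆ = ⁅l', u⁆ := by
          calc ⁅l', α u⁆ = ⁅α (α.symm l'), α u⁆ := by rw [MulEquiv.apply_symm_apply]
            _ = α ⁅α.symm l', u⁆ := (map_commutatorElement α _ _).symm
            _ = α ((F (α.symm l')) ^ m) := by rw [hm' _ hl]
            _ = (F (α (α.symm l'))) ^ m := by rw [map_pow, hFequiv α]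
            _ = (F l') ^ m := by rw [MulEquiv.apply_symm_apply]
            _ = ⁅l', u⁆ := (hm' _ hl').symm
        have h2 : ⁅l', α u * u⁻¹⁆ = ⁅l', α u⁆ * ⁅l', u⁆⁻¹ := by
          have h3 := map_mul (commRightHom hcen l') (α u) u⁻¹
          have h4 := map_inv (commRightHom hcen l') u
          simp only [commRightHom_apply] at h3 h4
          rw [h3, h4]
        rw [h2, h1, mul_inv_cancel]
      obtain ⟨C, hC⟩ : ∃ C : Subgroup P, C = Subgroup.centralizer ({α u * u⁻¹} : Set P) := ⟨_, rfl⟩
      have hCmem : ∀ g, g ∈ C ↔ (α u * u⁻¹) * g = g * (α u * u⁻¹) := by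
        intro g
        rw [hC, Subgroup.mem_centralizer_iff]
        constructor
        · intro h; exact h _ rfl
        · intro h x hx
          rw [Set.mem_singleton_iff] at hx
          rw [hx]; exact h
      have hL1C : L1 ≤ C := by
        intro l' hl'
        rw [hCmem]
        exact (commutatorElement_eq_one_iff_mul_comm.mp (hcommL l' hl')).symm
      have hwC : α u * u⁻¹ ∈ C := by rw [hCmem]
      have hCdvd : C.index ∣ p := hL1idx ▸ Subgroup.index_dvd_of_le hL1C
      rcases (Nat.dvd_prime hpp).mp hCdvd with hC1 | hCp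
      · have hCtop : C = ⊤ := Subgroup.index_eq_one.mp hC1
        have hwcen : α u * u⁻¹ ∈ Subgroup.center P := by
          rw [Subgroup.mem_center_iff]
          intro g
          have hg : g ∈ C := by rw [hCtop]; exact Subgroup.mem_top g
          exact ((hCmem g).mp hg).symm
        rw [hcenZ] at hwcen
        exact hw' (hL01 (hZL0 hwcen))
      · have h1 := Subgroup.relIndex_mul_index hL1C
        rw [hCp, hL1idx] at h1
        have h2 : L1.relIndex C = 1 := Nat.eq_of_mul_eq_mul_right hpp.pos (by rw [h1, one_mul])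
        exact hw' (Subgroup.relIndex_eq_one.mp h2 hwC)
  · -- case (b): `L1 = ⊤`, `ker F` of index `p`
    have hb : L1.index = 1 := by
      rw [ha] at hab
      exact Nat.eq_of_mul_eq_mul_left hpp.pos (by rw [hab, mul_one])
    have hL1top : L1 = ⊤ := Subgroup.index_eq_one.mp hb
    have hL0idx : F.ker.index = p := by
      have h1 := Subgroup.relIndex_mul_index hL01
      rw [hrel, hb, mul_one] at h1
      exact h1.symm
    have hFmem : ∀ x, F x ∈ commutator P := fun x => by
      have h1 : x ∈ L1 := by rw [hL1top]; exact Subgroup.mem_top x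
      exact (hL1mem x).mp h1
    have hcenL0 : Subgroup.center P ≤ F.ker := hcenZ.le.trans hZL0
    have hcenidx : (Subgroup.center P).index = p ^ 2 := by rw [hcenZ]; exact hidx
    have hL0ab : ∀ x ∈ F.ker, ∀ y ∈ F.ker, x * y = y * x := by
      have h1 := Subgroup.relIndex_mul_index hcenL0
      rw [hL0idx, hcenidx, sq] at h1
      have h2 : (Subgroup.center P).relIndex F.ker = p := Nat.eq_of_mul_eq_mul_right hpp.pos h1
      haveI : IsCyclic (↥F.ker ⧸ (Subgroup.center P).subgroupOf F.ker) := by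
        apply isCyclic_of_prime_card (p := p)
        rw [← Subgroup.index_eq_card]
        exact h2
      intro x hx y hy
      have h3 := commutative_of_cyclic_center_quotient
        (QuotientGroup.mk' ((Subgroup.center P).subgroupOf F.ker))
        (by
          rw [QuotientGroup.ker_mk']
          intro z hz
          rw [Subgroup.mem_center_iff]
          intro g
          apply Subtype.ext
          exact Subgroup.mem_center_iff.mp (Subgroup.mem_subgroupOf.mp hz) (g : P))
        (⟨x, hx⟩ : ↥F.ker) ⟨y, hy⟩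
      exact congrArg Subtype.val h3
    refine ⟨Subgroup.center P, F.ker, inferInstance, hL0char, ?_, hcen, ?_⟩
    · refine lt_of_le_of_ne hcenL0 ?_
      intro h
      have h1 : (Subgroup.center P).index = p := by rw [h]; exact hL0idx
      rw [hcenidx] at h1
      have h2 : p * p = p * 1 := by rw [← sq, h1, mul_one]
      exact hpp.one_lt.ne' (Nat.eq_of_mul_eq_mul_left hpp.pos h2)
    · intro α l hl
      obtain ⟨m, hm⟩ := exists_pow_of_ker_le F (commRightHom hcen l) c0 w hw
        (fun x => hzp _ (hFmem x)) (hzp _ (comm_mem_commutator l w))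
        (by
          intro x hx
          rw [MonoidHom.mem_ker, commRightHom_apply]
          exact commutatorElement_eq_one_iff_mul_comm.mpr (hL0ab l hl x hx))
      rw [Subgroup.mem_center_iff]
      intro u'
      have h1 : ⁅α l, u'⁆ = ⁅l, u'⁆ := by
        calc ⁅α l, u'⁆ = ⁅α l, α (α.symm u')⁆ := by rw [MulEquiv.apply_symm_apply]
          _ = α ⁅l, α.symm u'⁆ := (map_commutatorElement α _ _).symm
          _ = α ((F (α.symm u')) ^ m) := by
              have h5 := hm (α.symm u')
              rw [commRightHom_apply] at h5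
              rw [h5]
          _ = (F (α (α.symm u'))) ^ m := by rw [map_pow, hFequiv α]
          _ = (F u') ^ m := by rw [MulEquiv.apply_symm_apply]
          _ = ⁅l, u'⁆ := by
              have h5 := hm u'
              rw [commRightHom_apply] at h5
              exact h5.symm
      have h2 : ⁅α l * l⁻¹, u'⁆ = ⁅α l, u'⁆ * ⁅l, u'⁆⁻¹ := by
        have h3 := map_mul (commLeftHom hcen u') (α l) l⁻¹
        have h4 := map_inv (commLeftHom hcen u') l
        simp only [commLeftHom_apply] at h3 h4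
        rw [h3, h4]
      have h3 : ⁅α l * l⁻¹, u'⁆ = 1 := by rw [h2, h1, mul_inv_cancel]
      exact (commutatorElement_eq_one_iff_mul_comm.mp h3).symm

theorem exists_char_central_factor_aux {p : ℕ} [Fact p.Prime] (hp : p ≠ 2) :
    ∀ (n : ℕ) (P : Type u) [Group P] [Finite P], Nat.card P ≤ n → IsPGroup p P →
      Cfsg.IsMetacyclic P → (∃ x y : P, x * y ≠ y * x) →
      ∃ Z L : Subgroup P, Z.Characteristic ∧ L.Characteristic ∧ Z < L ∧ commutator P ≤ Z ∧
        ∀ α : P ≃* P, ∀ l ∈ L, α l * l⁻¹ ∈ Z := by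
  intro n
  induction n with
  | zero =>
    intro P _ _ hcard
    exfalso
    have h1 : 0 < Nat.card P := Nat.card_pos
    omega
  | succ n ih =>
    intro P _ _ hcard hP hm hna
    by_cases hmin : ∀ N : Subgroup P, N.Characteristic → N ≠ ⊥ → commutator P ≤ N
    · exact reduced_case hp hP hm hna hmin
    · push_neg at hmin
      obtain ⟨N, hNchar, hNne, hNP'⟩ := hmin
      haveI := hNchar
      have hcardQ : Nat.card (P ⧸ N) ≤ n := by
        have h1 : Nat.card N * N.index = Nat.card P := Subgroup.card_mul_index N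
        have h2 : 1 < Nat.card N := (Subgroup.one_lt_card_iff_ne_bot N).mpr hNne
        have h3 : 0 < N.index := Nat.pos_of_ne_zero Subgroup.index_ne_zero_of_finite
        rw [← Subgroup.index_eq_card]
        nlinarith
      have hQp : IsPGroup p (P ⧸ N) := hP.to_quotient N
      have hQm : Cfsg.IsMetacyclic (P ⧸ N) :=
        isMetacyclic_of_surjective (QuotientGroup.mk' N) (QuotientGroup.mk'_surjective N) hm
      have hQna : ∃ x y : P ⧸ N, x * y ≠ y * x := by
        by_contra hall
        push_neg at hall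
        apply hNP'
        rw [commutator_def, Subgroup.commutator_le]
        intro x _ y _
        have h1 : (QuotientGroup.mk' N) ⁅x, y⁆ = 1 := by
          rw [map_commutatorElement, commutatorElement_eq_one_iff_mul_comm]
          exact hall _ _
        exact (QuotientGroup.eq_one_iff _).mp h1
      obtain ⟨Z, L, hZc, hLc, hlt, hcomm, hact⟩ := ih (P ⧸ N) hcardQ hQp hQm hQna
      haveI := hZc
      haveI := hLc
      refine ⟨Z.comap (QuotientGroup.mk' N), L.comap (QuotientGroup.mk' N),
        comap_mk'_characteristic N Z, comap_mk'_characteristic N L,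
        (Subgroup.comap_lt_comap_of_surjective (QuotientGroup.mk'_surjective N)).mpr hlt, ?_, ?_⟩
      · rw [commutator_def, Subgroup.commutator_le]
        intro x _ y _
        rw [Subgroup.mem_comap, map_commutatorElement]
        exact hcomm (comm_mem_commutator _ _)
      · intro α l hl
        rw [Subgroup.mem_comap] at hl ⊢
        rw [map_mul, map_inv]
        have h1 := hact (QuotientGroup.congr N N α (map_equiv_eq_of_characteristic N α))
          (QuotientGroup.mk' N l) hl
        exact h1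

/-- A nonabelian metacyclic `p`-group, `p` odd, has characteristic subgroups `Z < L` with
`P' ≤ Z` such that every automorphism acts trivially on `L / Z`. -/
theorem exists_char_central_factor {p : ℕ} [Fact p.Prime] (hp : p ≠ 2) {P : Type u} [Group P]
    [Finite P] (hP : IsPGroup p P) (hm : Cfsg.IsMetacyclic P) (hna : ∃ x y : P, x * y ≠ y * x) :
    ∃ Z L : Subgroup P, Z.Characteristic ∧ L.Characteristic ∧ Z < L ∧ commutator P ≤ Z ∧
      ∀ α : P ≃* P, ∀ l ∈ L, α l * l⁻¹ ∈ Z :=
  exists_char_central_factor_aux hp (Nat.card P) P le_rfl hP hm hna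

/-! ### coprime action on an abelian quotient -/

/-- If `K = [K, A]` under a coprime action and `Z ≤ K` is an invariant normal subgroup with `K / Z`
abelian, then every element of `K` centralized by `A` modulo `Z` lies in `Z`. -/
theorem mem_of_commutator_mem_of_coprime {G : Type*} [Group G] [Finite G] (K A Z : Subgroup G)
    (hZK : Z ≤ K) (hAK : A ≤ Subgroup.normalizer (K : Set G))
    (hAZ : A ≤ Subgroup.normalizer (Z : Set G)) (hKZ : K ≤ Subgroup.normalizer (Z : Set G))
    (hab : ⁅K, K⁆ ≤ Z) (hcop : (Nat.card A).Coprime (Nat.card K)) (hKA : ⁅K, A⁆ = K)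
    {c : G} (hc : c ∈ K) (hca : ∀ a ∈ A, ⁅c, a⁆ ∈ Z) : c ∈ Z := by
  obtain ⟨X, hX⟩ : ∃ X : Subgroup G, X = Subgroup.normalizer (Z : Set G) := ⟨_, rfl⟩
  haveI hZn : (Z.subgroupOf X).Normal := by rw [hX]; exact Subgroup.normal_in_normalizer
  obtain ⟨π, hπ⟩ : ∃ π : ↥X →* ↥X ⧸ Z.subgroupOf X, π = QuotientGroup.mk' (Z.subgroupOf X) :=
    ⟨_, rfl⟩
  have hπ1 : ∀ x : ↥X, π x = 1 ↔ (x : G) ∈ Z := by
    intro x
    rw [hπ, QuotientGroup.mk'_apply, QuotientGroup.eq_one_iff, Subgroup.mem_subgroupOf]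
  have hπeq : ∀ x y : ↥X, (x : G) * (y : G)⁻¹ ∈ Z → π x = π y := by
    intro x y hxy
    have h1 : π (x * y⁻¹) = 1 := (hπ1 _).mpr (by simpa using hxy)
    rw [map_mul, map_inv, mul_inv_eq_one] at h1
    exact h1
  have hKX : K ≤ X := hX ▸ hKZ
  have hAX : A ≤ X := hX ▸ hAZ
  obtain ⟨V, hV⟩ : ∃ V : Subgroup (↥X ⧸ Z.subgroupOf X), V = (K.subgroupOf X).map π := ⟨_, rfl⟩
  obtain ⟨B, hB⟩ : ∃ B : Subgroup (↥X ⧸ Z.subgroupOf X), B = (A.subgroupOf X).map π := ⟨_, rfl⟩
  have hVmem : ∀ v ∈ V, ∃ k : ↥X, (k : G) ∈ K ∧ π k = v := by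
    intro v hv
    rw [hV] at hv
    obtain ⟨k, hk, rfl⟩ := hv
    exact ⟨k, Subgroup.mem_subgroupOf.mp hk, rfl⟩
  have hBmem : ∀ b ∈ B, ∃ a : ↥X, (a : G) ∈ A ∧ π a = b := by
    intro b hb
    rw [hB] at hb
    obtain ⟨a, ha, rfl⟩ := hb
    exact ⟨a, Subgroup.mem_subgroupOf.mp ha, rfl⟩
  have hmemV : ∀ k : ↥X, (k : G) ∈ K → π k ∈ V := by
    intro k hk
    rw [hV]
    exact ⟨k, Subgroup.mem_subgroupOf.mpr hk, rfl⟩
  have hmemB : ∀ a : ↥X, (a : G) ∈ A → π a ∈ B := by
    intro a ha
    rw [hB]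
    exact ⟨a, Subgroup.mem_subgroupOf.mpr ha, rfl⟩
  haveI hVab : IsMulCommutative V := by
    refine ⟨⟨fun a b => ?_⟩⟩
    obtain ⟨k1, hk1, hk1'⟩ := hVmem a.1 a.2
    obtain ⟨k2, hk2, hk2'⟩ := hVmem b.1 b.2
    apply Subtype.ext
    rw [Subgroup.coe_mul, Subgroup.coe_mul, ← hk1', ← hk2', ← map_mul, ← map_mul]
    apply hπeq
    have h1 : ((k1 * k2 : ↥X) : G) * ((k2 * k1 : ↥X) : G)⁻¹ = ⁅(k1 : G), (k2 : G)⁆ := by
      rw [commutatorElement_def, Subgroup.coe_mul, Subgroup.coe_mul]; group
    rw [h1]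
    exact hab (Subgroup.commutator_mem_commutator hk1 hk2)
  have hBV : B ≤ Subgroup.normalizer (V : Set (↥X ⧸ Z.subgroupOf X)) := by
    apply Cfsg.Agent.Lib.Helper1.le_normalizer_of_forall_conj_mem'
    intro b hb v hv
    obtain ⟨a, ha, rfl⟩ := hBmem b hb
    obtain ⟨k, hk, rfl⟩ := hVmem v hv
    rw [← map_inv, ← map_mul, ← map_mul]
    apply hmemV
    rw [Subgroup.coe_mul, Subgroup.coe_mul, Subgroup.coe_inv]
    exact (Subgroup.mem_normalizer_iff.mp (hAK ha) _).mp hk
  have hcopBV : (Nat.card B).Coprime (Nat.card V) := by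
    have h1 : Nat.card B ∣ Nat.card A := by
      rw [hB]
      refine (Subgroup.card_map_dvd _ _).trans ?_
      rw [Nat.card_congr (Subgroup.subgroupOfEquivOfLe hAX).toEquiv]
    have h2 : Nat.card V ∣ Nat.card K := by
      rw [hV]
      refine (Subgroup.card_map_dvd _ _).trans ?_
      rw [Nat.card_congr (Subgroup.subgroupOfEquivOfLe hKX).toEquiv]
    exact Nat.Coprime.of_dvd h1 h2 hcop
  have hbot := Cfsg.Agent.Lib.Helper1.abelian_centralizer_inf_commutator_eq_bot B V hBV hcopBV
  have hVB : ⁅V, B⁆ = V := by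
    rw [hV, hB, ← Subgroup.map_commutator]
    congr 1
    apply Subgroup.map_injective (Subgroup.subtype_injective X)
    rw [Subgroup.map_commutator, Subgroup.map_subgroupOf_eq_of_le hKX,
      Subgroup.map_subgroupOf_eq_of_le hAX, hKA]
  have hcX : c ∈ X := hKX hc
  have h1 : π ⟨c, hcX⟩ ∈ (V ⊓ Subgroup.centralizer (B : Set (↥X ⧸ Z.subgroupOf X))) ⊓ ⁅V, B⁆ := by
    refine Subgroup.mem_inf.mpr ⟨Subgroup.mem_inf.mpr ⟨hmemV _ hc, ?_⟩, ?_⟩
    · rw [Subgroup.mem_centralizer_iff]
      intro b hb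
      obtain ⟨a, ha, rfl⟩ := hBmem b hb
      rw [← map_mul, ← map_mul]
      apply hπeq
      have h2 : ((a * ⟨c, hcX⟩ : ↥X) : G) * ((⟨c, hcX⟩ * a : ↥X) : G)⁻¹ = (⁅c, (a : G)⁆)⁻¹ := by
        rw [commutatorElement_def, Subgroup.coe_mul, Subgroup.coe_mul]; group
      rw [h2]
      exact inv_mem (hca _ ha)
    · rw [hVB]
      exact hmemV _ hc
  rw [hbot, Subgroup.mem_bot] at h1
  exact (hπ1 _).mp h1

/-- **Metacyclic groups generated by coprime commutators are abelian** (`p` odd): if a `p'`-group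
`A` normalizes the metacyclic `p`-group `K` and `K = [K, A]`, then `K` is abelian. -/
theorem commute_of_metacyclic_commutator_eq {G : Type u} [Group G] [Finite G] {p : ℕ}
    [Fact p.Prime] (hp : p ≠ 2) (K A : Subgroup G) (hK : IsPGroup p K)
    (hKm : Cfsg.IsMetacyclic K) (hA : A ≤ Subgroup.normalizer (K : Set G))
    (hcop : (Nat.card A).Coprime p) (hKA : ⁅K, A⁆ = K) : ∀ x ∈ K, ∀ y ∈ K, x * y = y * x := by
  by_contra hna
  push_neg at hna
  obtain ⟨x, hx, y, hy, hxy⟩ := hna
  have hna' : ∃ a b : ↥K, a * b ≠ b * a :=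
    ⟨⟨x, hx⟩, ⟨y, hy⟩, fun h => hxy (congrArg Subtype.val h)⟩
  obtain ⟨Z, L, hZc, hLc, hlt, hcomm, hact⟩ := exists_char_central_factor hp hK hKm hna'
  haveI := hZc
  haveI := hLc
  obtain ⟨l, hlL, hlZ⟩ := SetLike.exists_of_lt hlt
  have hnormZ : ∀ a ∈ Subgroup.normalizer (K : Set G), ∀ z ∈ Z.map K.subtype,
      a * z * a⁻¹ ∈ Z.map K.subtype := by
    rintro a ha _ ⟨z, hz, rfl⟩
    exact ⟨K.normalizerMonoidHom ⟨a, ha⟩ z, (char_mem_iff Z _ z).mpr hz, rfl⟩
  have hAZ : A ≤ Subgroup.normalizer ((Z.map K.subtype : Subgroup G) : Set G) :=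
    Cfsg.Agent.Lib.Helper1.le_normalizer_of_forall_conj_mem'
      (fun a ha z hz => hnormZ a (hA ha) z hz)
  have hKZ : K ≤ Subgroup.normalizer ((Z.map K.subtype : Subgroup G) : Set G) :=
    Cfsg.Agent.Lib.Helper1.le_normalizer_of_forall_conj_mem'
      (fun a ha z hz => hnormZ a (Subgroup.le_normalizer ha) z hz)
  have hab : ⁅K, K⁆ ≤ Z.map K.subtype := by
    rw [← Subgroup.map_subtype_commutator]
    exact Subgroup.map_mono hcomm
  have hcop' : (Nat.card A).Coprime (Nat.card K) := by
    obtain ⟨n, hn⟩ := hK.exists_card_eq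
    rw [hn]
    exact hcop.pow_right n
  have hca : ∀ a ∈ A, ⁅(l : G), a⁆ ∈ Z.map K.subtype := by
    intro a ha
    have h1 : a * (l : G) * a⁻¹ * (l : G)⁻¹ ∈ Z.map K.subtype :=
      ⟨_, hact (K.normalizerMonoidHom ⟨a, hA ha⟩) l hlL, rfl⟩
    have h2 : ⁅(l : G), a⁆ = (a * (l : G) * a⁻¹ * (l : G)⁻¹)⁻¹ := by
      rw [commutatorElement_def]; group
    rw [h2]
    exact inv_mem h1
  have hcZ : (l : G) ∈ Z.map K.subtype :=
    mem_of_commutator_mem_of_coprime K A (Z.map K.subtype) (Subgroup.map_subtype_le Z) hA hAZ hKZ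
      hab hcop' hKA l.2 hca
  obtain ⟨z, hz, hzl⟩ := hcZ
  have hzl' : z = l := Subtype.ext hzl
  exact hlZ (hzl' ▸ hz)

end Cfsg.Agent.Lib.Helper10
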