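import Mathlib
import Cfsg.Agent.Lib.Helper10.UniqueOrderP
import Cfsg.Agent.Lib.Helper10.FittingHall
import Cfsg.Agent.Lib.Helper12.Generation

set_option autoImplicit false

namespace Cfsg.Agent.Lib.Helper10

open Cfsg.Agent.Lib.Helper12

/-- the subgroup generated by two commuting elements of exponent `r` is abelian of exponent `r` -/
theorem closure_pair_props {G : Type*} [Group G] {z w : G} (hc : z * w = w * z) {r : ℕ}
    (hz : z ^ r = 1) (hw : w ^ r = 1) :
    (∀ a ∈ Subgroup.closure ({z, w} : Set G), ∀ b ∈ Subgroup.closure ({z, w} : Set G),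
        a * b = b * a) ∧
      ∀ a ∈ Subgroup.closure ({z, w} : Set G), a ^ r = 1 := by
  have hk : ∀ x ∈ ({z, w} : Set G), ∀ y ∈ ({z, w} : Set G), x * y = y * x := by
    intro x hx y hy
    rcases hx with rfl | hx
    · rcases hy with rfl | hy
      · rfl
      · rw [Set.mem_singleton_iff] at hy
        subst hy
        exact hc
    · rw [Set.mem_singleton_iff] at hx
      subst hx
      rcases hy with rfl | hy
      · exact hc.symm
      · rw [Set.mem_singleton_iff] at hy
        subst hy
        rfl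
  have h1 : Subgroup.closure ({z, w} : Set G) ≤ Subgroup.centralizer ({z, w} : Set G) := by
    rw [Subgroup.closure_le]
    intro x hx
    rw [SetLike.mem_coe, Subgroup.mem_centralizer_iff]
    intro y hy
    exact hk y hy x hx
  have h2 : Subgroup.closure ({z, w} : Set G) ≤
      Subgroup.centralizer (Subgroup.closure ({z, w} : Set G) : Set G) := by
    rw [Subgroup.closure_le]
    intro x hx
    rw [SetLike.mem_coe, Subgroup.mem_centralizer_iff]
    intro y hy
    exact ((Subgroup.mem_centralizer_iff.mp (h1 hy)) x hx).symm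
  have hcomm : ∀ a ∈ Subgroup.closure ({z, w} : Set G), ∀ b ∈ Subgroup.closure ({z, w} : Set G),
      a * b = b * a := by
    intro a ha b hb
    exact ((Subgroup.mem_centralizer_iff.mp (h2 ha)) b hb).symm
  refine ⟨hcomm, ?_⟩
  intro a ha
  induction ha using Subgroup.closure_induction with
  | mem x hx =>
    rcases hx with rfl | hx
    · exact hz
    · rw [Set.mem_singleton_iff] at hx
      subst hx
      exact hw
  | one => exact one_pow r
  | mul x y hx hy ihx ihy =>
    rw [(show Commute x y from hcomm x hx y hy).mul_pow, ihx, ihy, one_mul]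
  | inv x hx ihx => rw [inv_pow, ihx, inv_one]

/-- **Sylow subgroups of Frobenius complements**: an `r`-subgroup `S` acting fixed-point-freely
(by conjugation) on a nontrivial `r'`-subgroup `K` has at most one subgroup of order `r`. -/
theorem uniqueOrderP_of_fpf {G : Type*} [Group G] [Finite G] {r : ℕ} [Fact r.Prime]
    (S K : Subgroup G) (hS : IsPGroup r S) (hK : K ≠ ⊥)
    (hSK : S ≤ Subgroup.normalizer (K : Set G)) (hrK : ¬ r ∣ Nat.card K)
    (hfpf : ∀ s ∈ S, s ≠ 1 → ∀ k ∈ K, s * k = k * s → k = 1) : UniqueOrderP r ↥S := by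
  have hr : r.Prime := Fact.out
  intro x y hx hx1 hy
  have hnt : Nontrivial ↥S := ⟨⟨x, 1, hx1⟩⟩
  have hcn : Nontrivial ↥(Subgroup.center ↥S) := hS.center_nontrivial
  obtain ⟨⟨z0, hz0⟩, hz01⟩ := exists_ne (1 : ↥(Subgroup.center ↥S))
  have hz01' : z0 ≠ 1 := fun h => hz01 (Subtype.ext h)
  obtain ⟨z, hzz0, hzr, hz1⟩ := exists_orderOf_eq_prime_zpowers hS z0 hz01'
  have hzc : z ∈ Subgroup.center ↥S := (Subgroup.zpowers_le.mpr hz0) hzz0
  -- every element of order dividing `r` lies in `⟨z⟩`
  have claim : ∀ w : ↥S, w ^ r = 1 → w ∈ Subgroup.zpowers z := by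
    intro w hw
    by_contra hwz
    have hzG : (z : G) ^ r = 1 := by
      have := congrArg Subtype.val hzr
      simpa using this
    have hwG : (w : G) ^ r = 1 := by
      have := congrArg Subtype.val hw
      simpa using this
    have hcG : (z : G) * (w : G) = (w : G) * (z : G) := by
      have := (Subgroup.mem_center_iff.mp hzc) w
      exact (congrArg Subtype.val this).symm
    obtain ⟨hcomm, hexp⟩ := closure_pair_props hcG hzG hwG
    have hAS : Subgroup.closure ({(z : G), (w : G)} : Set G) ≤ S := by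
      rw [Subgroup.closure_le]
      intro g hg
      rcases hg with rfl | hg
      · exact z.2
      · rw [Set.mem_singleton_iff] at hg
        subst hg
        exact w.2
    have hzA : (z : G) ∈ Subgroup.closure ({(z : G), (w : G)} : Set G) :=
      Subgroup.subset_closure (Set.mem_insert _ _)
    have hwA : (w : G) ∈ Subgroup.closure ({(z : G), (w : G)} : Set G) :=
      Subgroup.subset_closure (Set.mem_insert_of_mem _ (Set.mem_singleton _))
    have hwz' : (w : G) ∉ Subgroup.zpowers (z : G) := by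
      intro hmem
      apply hwz
      obtain ⟨k, hk⟩ := Subgroup.mem_zpowers_iff.mp hmem
      refine Subgroup.mem_zpowers_iff.mpr ⟨k, ?_⟩
      apply Subtype.ext
      rw [Subgroup.coe_zpow]
      exact hk
    have hz1' : (z : G) ≠ 1 := fun h => hz1 (Subtype.ext h)
    have hle := le_genC_of_noncyclic hcomm hexp (hAS.trans hSK) hrK hwA hzA hwz' hz1'
    have hbot : genC (Subgroup.closure ({(z : G), (w : G)} : Set G)) K = ⊥ := by
      rw [eq_bot_iff]
      apply iSup_le
      rintro ⟨a, haA, ha1⟩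
      intro k hk
      obtain ⟨hkK, hkC⟩ := Subgroup.mem_inf.mp hk
      rw [Subgroup.mem_bot]
      apply hfpf a (hAS haA) ha1 k hkK
      exact ((Subgroup.mem_centralizer_iff.mp hkC) a (Set.mem_singleton a))
    rw [hbot, le_bot_iff] at hle
    exact hK hle
  have hxz := claim x hx
  have hyz := claim y hy
  have hox : orderOf x = r := orderOf_eq_prime hx hx1
  have hoz : orderOf z = r := orderOf_eq_prime hzr hz1
  have heq : Subgroup.zpowers x = Subgroup.zpowers z := by
    apply Subgroup.eq_of_le_of_card_ge (Subgroup.zpowers_le.mpr hxz)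
    rw [Nat.card_zpowers, Nat.card_zpowers, hox, hoz]
  rw [heq]
  exact hyz

/-- cyclic or quaternion -/
theorem isCyclic_or_quaternion_of_fpf {G : Type*} [Group G] [Finite G] {r : ℕ} [Fact r.Prime]
    (S K : Subgroup G) (hS : IsPGroup r S) (hK : K ≠ ⊥)
    (hSK : S ≤ Subgroup.normalizer (K : Set G)) (hrK : ¬ r ∣ Nat.card K)
    (hfpf : ∀ s ∈ S, s ≠ 1 → ∀ k ∈ K, s * k = k * s → k = 1) :
    IsCyclic ↥S ∨ (r = 2 ∧ ∃ n : ℕ, Nonempty (↥S ≃* QuaternionGroup (2 ^ n))) :=
  isCyclic_or_quaternion_of_uniqueOrderP hS (uniqueOrderP_of_fpf S K hS hK hSK hrK hfpf)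

/-- a cyclic group is commutative (elementwise form) -/
theorem mul_comm_of_isCyclic {C : Type*} [Group C] (hC : IsCyclic C) (a b : C) :
    a * b = b * a := by
  have := hC
  exact (IsCyclic.isMulCommutative (α := C)).is_comm.comm a b

/-- **NC**: a finite nilpotent group all of whose Sylow subgroups are cyclic is cyclic. -/
theorem isCyclic_of_isNilpotent_of_sylow_cyclic {N : Type*} [Group N] [Finite N]
    (hN : Group.IsNilpotent N)
    (hS : ∀ (r : ℕ) [Fact r.Prime] (S : Sylow r N), IsCyclic ↥S) : IsCyclic N := by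
  classical
  obtain ⟨φ⟩ := ((Group.isNilpotent_of_finite_tfae (G := N)).out 0 4 rfl rfl).mp hN
  have hcomm : ∀ a b : N, a * b = b * a := by
    intro a b
    obtain ⟨u, rfl⟩ := φ.surjective a
    obtain ⟨v, rfl⟩ := φ.surjective b
    rw [← map_mul, ← map_mul]
    congr 1
    funext r S
    have : Fact (r : ℕ).Prime := ⟨Nat.prime_of_mem_primeFactors r.2⟩
    exact mul_comm_of_isCyclic (hS r S) (u r S) (v r S)
  let _ : CommGroup N := { (inferInstance : Group N) with mul_comm := hcomm }
  apply IsCyclic.of_exponent_eq_card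
  apply Nat.dvd_antisymm Group.exponent_dvd_nat_card
  have hexp0 : Monoid.exponent N ≠ 0 := Monoid.exponent_ne_zero_of_finite
  rw [← Nat.factorization_prime_le_iff_dvd Nat.card_pos.ne' hexp0]
  intro r hr
  have : Fact r.Prime := ⟨hr⟩
  rw [← hr.pow_dvd_iff_le_factorization hexp0]
  have S : Sylow r N := default
  obtain ⟨g, hg⟩ := (hS r S).exists_generator
  have h1 : orderOf g = Nat.card ↥(S : Subgroup N) := orderOf_eq_card_of_forall_mem_zpowers hg
  rw [← S.card_eq_multiplicity, ← h1, ← Subgroup.orderOf_coe]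
  exact Monoid.order_dvd_exponent _

/-- **NS**: structure of a finite nilpotent group whose Sylow subgroups are cyclic or
generalized quaternion. -/
theorem cyclic_or_cyclic_sup_quaternion {N : Type*} [Group N] [Finite N]
    (hN : Group.IsNilpotent N)
    (hS : ∀ (r : ℕ) [Fact r.Prime] (S : Sylow r N),
      IsCyclic ↥S ∨ (r = 2 ∧ ∃ n : ℕ, Nonempty (↥S ≃* QuaternionGroup (2 ^ n)))) :
    IsCyclic N ∨ ∃ C Q : Subgroup N, C ⊔ Q = ⊤ ∧ (∀ a ∈ C, ∀ b ∈ Q, a * b = b * a) ∧
      IsCyclic ↥C ∧ Odd (Nat.card ↥C) ∧ ∃ n : ℕ, Nonempty (↥Q ≃* QuaternionGroup (2 ^ n)) := by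
  by_cases hall : ∀ (r : ℕ) [Fact r.Prime] (S : Sylow r N), IsCyclic ↥S
  · left
    exact isCyclic_of_isNilpotent_of_sylow_cyclic hN hall
  right
  push Not at hall
  obtain ⟨r, hr, S, hSnc⟩ := hall
  rcases hS r S with h | ⟨rfl, n, hn⟩
  · exact absurd h hSnc
  have h2 : Fact (Nat.Prime 2) := ⟨Nat.prime_two⟩
  have hQn : (S : Subgroup N).Normal :=
    ((Group.isNilpotent_of_finite_tfae (G := N)).out 0 3 rfl rfl).mp hN 2 inferInstance S
  obtain ⟨C, hC⟩ := Subgroup.exists_right_complement'_of_coprime (S.card_coprime_index)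
  have hCcard : Nat.card ↥C = (S : Subgroup N).index := by
    have h2 := hC.card_mul_card
    have h3 := Subgroup.card_mul_index (S : Subgroup N)
    have hpos : 0 < Nat.card ↥(S : Subgroup N) := Nat.card_pos
    rw [← h3] at h2
    exact Nat.eq_of_mul_eq_mul_left hpos h2
  have hCodd : Odd (Nat.card ↥C) := by
    rw [hCcard, ← Nat.not_even_iff_odd, even_iff_two_dvd]
    exact S.not_dvd_index
  refine ⟨C, S, ?_, ?_, ?_, hCodd, n, hn⟩
  · rw [sup_comm]
    exact hC.sup_eq_top
  · intro a ha b hb
    have _ := hN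
    apply (commute_of_coprime_orderOf N a b _).eq
    have h1 : orderOf a ∣ Nat.card ↥C := Subgroup.orderOf_dvd_natCard C ha
    obtain ⟨k, hk⟩ := (IsPGroup.iff_orderOf.1 S.isPGroup') ⟨b, hb⟩
    rw [Subgroup.orderOf_mk] at hk
    rw [hk]
    apply Nat.Coprime.pow_right
    apply Nat.Coprime.coprime_dvd_left h1
    exact (Nat.coprime_two_right).mpr hCodd
  · apply isCyclic_of_isNilpotent_of_sylow_cyclic
    · have _ := hN
      infer_instance
    · intro q hq T
      by_cases hq2 : q = 2
      · subst hq2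
        have h1 : Nat.card ↥(T : Subgroup ↥C) = 1 := by
          obtain ⟨k, hk⟩ := IsPGroup.iff_card.mp T.isPGroup'
          have h3 : Nat.card ↥(T : Subgroup ↥C) ∣ Nat.card ↥C := Subgroup.card_subgroup_dvd_card _
          rw [hk] at h3 ⊢
          rcases Nat.eq_zero_or_pos k with h0 | h0
          · rw [h0, pow_zero]
          · exfalso
            have h4 : 2 ∣ Nat.card ↥C := (dvd_pow_self 2 h0.ne').trans h3
            rw [← even_iff_two_dvd, ← Nat.not_odd_iff_even] at h4
            exact h4 hCodd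
        have : Subsingleton ↥(T : Subgroup ↥C) := (Nat.card_eq_one_iff_unique.mp h1).1
        exact isCyclic_of_subsingleton
      · have hTp : IsPGroup q ↥((T : Subgroup ↥C).map C.subtype) := T.isPGroup'.map _
        obtain ⟨S', hS'⟩ := hTp.exists_le_sylow
        have hS'c : IsCyclic ↥(S' : Subgroup N) := by
          rcases hS q S' with h | ⟨h, _⟩
          · exact h
          · exact absurd h hq2
        have h1 : IsCyclic ↥((T : Subgroup ↥C).map C.subtype) := Subgroup.isCyclic_of_le hS'
        have e := (T : Subgroup ↥C).equivMapOfInjective C.subtype C.subtype_injective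
        exact isCyclic_of_surjective e.symm.toMonoidHom e.symm.surjective

/-- **nilpotent Frobenius complements**: a nilpotent subgroup `E` acting coprimely and
fixed-point-freely on a nontrivial subgroup `K` is cyclic or `C × Q` with `C` cyclic of odd order
and `Q` generalized quaternion. -/
theorem structure_of_nilpotent_fpf {G : Type*} [Group G] [Finite G] (E K : Subgroup G)
    (hE : Group.IsNilpotent ↥E) (hK : K ≠ ⊥) (hEK : E ≤ Subgroup.normalizer (K : Set G))
    (hcop : (Nat.card ↥E).Coprime (Nat.card ↥K))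
    (hfpf : ∀ e ∈ E, e ≠ 1 → ∀ k ∈ K, e * k = k * e → k = 1) :
    IsCyclic ↥E ∨ ∃ C Q : Subgroup G, C ⊔ Q = E ∧ (∀ a ∈ C, ∀ b ∈ Q, a * b = b * a) ∧
      IsCyclic ↥C ∧ Odd (Nat.card ↥C) ∧ ∃ n : ℕ, Nonempty (↥Q ≃* QuaternionGroup (2 ^ n)) := by
  have key : ∀ (r : ℕ) [Fact r.Prime] (S : Sylow r ↥E),
      IsCyclic ↥S ∨ (r = 2 ∧ ∃ n : ℕ, Nonempty (↥S ≃* QuaternionGroup (2 ^ n))) := by
    intro r hr S
    have hrp : r.Prime := Fact.out
    by_cases hrK : r ∣ Nat.card ↥K
    · left
      have h1 : Nat.card ↥(S : Subgroup ↥E) = 1 := by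
        obtain ⟨k, hk⟩ := IsPGroup.iff_card.mp S.isPGroup'
        have h3 : Nat.card ↥(S : Subgroup ↥E) ∣ Nat.card ↥E := Subgroup.card_subgroup_dvd_card _
        rw [hk] at h3 ⊢
        rcases Nat.eq_zero_or_pos k with h0 | h0
        · rw [h0, pow_zero]
        · exfalso
          have h4 : r ∣ Nat.card ↥E := (dvd_pow_self r h0.ne').trans h3
          have h5 := Nat.dvd_gcd h4 hrK
          rw [hcop.gcd_eq_one] at h5
          exact hrp.one_lt.ne' (Nat.dvd_one.mp h5)
      have : Subsingleton ↥(S : Subgroup ↥E) := (Nat.card_eq_one_iff_unique.mp h1).1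
      exact isCyclic_of_subsingleton
    · have hSp : IsPGroup r ↥((S : Subgroup ↥E).map E.subtype) := S.isPGroup'.map _
      have hSE : (S : Subgroup ↥E).map E.subtype ≤ E := Subgroup.map_subtype_le _
      have e := (S : Subgroup ↥E).equivMapOfInjective E.subtype E.subtype_injective
      rcases isCyclic_or_quaternion_of_fpf ((S : Subgroup ↥E).map E.subtype) K hSp hK
        (hSE.trans hEK) hrK (fun s hs hs1 => hfpf s (hSE hs) hs1) with h | ⟨h2, n, ⟨f⟩⟩
      · left
        have := h
        exact isCyclic_of_surjective e.symm.toMonoidHom e.symm.surjective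
      · right
        exact ⟨h2, n, ⟨e.trans f⟩⟩
  rcases cyclic_or_cyclic_sup_quaternion hE key with h | ⟨C, Q, hsup, hcomm, hCc, hCodd, n, ⟨f⟩⟩
  · left
    exact h
  · right
    have eC := C.equivMapOfInjective E.subtype E.subtype_injective
    have eQ := Q.equivMapOfInjective E.subtype E.subtype_injective
    refine ⟨C.map E.subtype, Q.map E.subtype, ?_, ?_, ?_, ?_, n, ⟨eQ.symm.trans f⟩⟩
    · rw [← Subgroup.map_sup, hsup, ← MonoidHom.range_eq_map, Subgroup.range_subtype]
    · rintro _ ⟨a, ha, rfl⟩ _ ⟨b, hb, rfl⟩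
      have := hcomm a ha b hb
      exact congrArg Subtype.val this
    · have := hCc
      exact isCyclic_of_surjective eC.toMonoidHom eC.surjective
    · rw [← Nat.card_congr eC.toEquiv]
      exact hCodd

/-- odd order case -/
theorem isCyclic_of_nilpotent_fpf_of_odd {G : Type*} [Group G] [Finite G] (E K : Subgroup G)
    (hE : Group.IsNilpotent ↥E) (hK : K ≠ ⊥) (hEK : E ≤ Subgroup.normalizer (K : Set G))
    (hcop : (Nat.card ↥E).Coprime (Nat.card ↥K))
    (hfpf : ∀ e ∈ E, e ≠ 1 → ∀ k ∈ K, e * k = k * e → k = 1) (hodd : Odd (Nat.card ↥E)) :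
    IsCyclic ↥E := by
  rcases structure_of_nilpotent_fpf E K hE hK hEK hcop hfpf with h | ⟨C, Q, hsup, -, -, -, n, ⟨f⟩⟩
  · exact h
  · exfalso
    have hQE : Q ≤ E := by rw [← hsup]; exact le_sup_right
    have h1 : Nat.card ↥Q ∣ Nat.card ↥E := Subgroup.card_dvd_of_le hQE
    have h2 : Nat.card ↥Q = 4 * 2 ^ n := by
      rw [Nat.card_congr f.toEquiv]
      have : NeZero (2 ^ n) := ⟨by positivity⟩
      rw [Nat.card_eq_fintype_card]
      exact QuaternionGroup.card (n := 2 ^ n)
    rw [h2] at h1
    have h3 : 2 ∣ Nat.card ↥E := (Dvd.intro (2 * 2 ^ n) (by ring)).trans h1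
    rw [← even_iff_two_dvd, ← Nat.not_odd_iff_even] at h3
    exact h3 hodd

end Cfsg.Agent.Lib.Helper10
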