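import Mathlib

set_option autoImplicit false

namespace Cfsg.Agent.Lib.Helper10

open scoped Classical

namespace FrobIdem

/-! ### character idempotents -/

section CharIdem

variable {S : Type*} [Ring S] {E : Type*} [Field E] {A : Type*} [CommGroup A] [Fintype A]
  (μ : E →+* S) (σ : A →* S)

/-- the idempotent attached to a character `χ`. -/
noncomputable def charIdem (χ : A →* Eˣ) : S :=
  μ ((Fintype.card A : E)⁻¹) * ∑ a : A, μ (((χ a)⁻¹ : Eˣ) : E) * σ a

theorem charIdem_def (χ : A →* Eˣ) : charIdem μ σ χ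
    = μ ((Fintype.card A : E)⁻¹) * ∑ a : A, μ (((χ a)⁻¹ : Eˣ) : E) * σ a := rfl

theorem mu_commute (c c' : E) : Commute (μ c) (μ c') := by
  show μ c * μ c' = μ c' * μ c
  rw [← map_mul, ← map_mul, mul_comm]

theorem sigma_mul_charIdem (hcomm : ∀ c a, Commute (μ c) (σ a)) (χ : A →* Eˣ) (b : A) :
    σ b * charIdem μ σ χ = μ (χ b : E) * charIdem μ σ χ := by
  unfold charIdem
  rw [← mul_assoc, ← (hcomm _ b).eq, mul_assoc, ← mul_assoc (μ (χ b : E)),
    (mu_commute μ (χ b : E) _).eq, mul_assoc]
  congr 1
  rw [Finset.mul_sum, Finset.mul_sum]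
  rw [← Equiv.sum_comp (Equiv.mulLeft b)
    (fun a => μ (χ b : E) * (μ (((χ a)⁻¹ : Eˣ) : E) * σ a))]
  apply Finset.sum_congr rfl
  intro a _
  simp only [Equiv.coe_mulLeft]
  have h1 : μ (χ b : E) * μ (((χ (b * a))⁻¹ : Eˣ) : E) = μ (((χ a)⁻¹ : Eˣ) : E) := by
    rw [← map_mul]
    congr 1
    rw [map_mul χ, mul_inv_rev, Units.val_mul, mul_comm (((χ a)⁻¹ : Eˣ) : E), ← mul_assoc,
      ← Units.val_mul, mul_inv_cancel, Units.val_one, one_mul]
  rw [← mul_assoc (μ (χ b : E)), h1, map_mul σ, ← mul_assoc, ← mul_assoc, (hcomm _ b).eq]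

theorem charIdem_mul_charIdem (hcomm : ∀ c a, Commute (μ c) (σ a))
    (hn : (Fintype.card A : E) ≠ 0) (χ ψ : A →* Eˣ) :
    charIdem μ σ χ * charIdem μ σ ψ = if χ = ψ then charIdem μ σ χ else 0 := by
  have h1 : charIdem μ σ χ * charIdem μ σ ψ
      = μ ((Fintype.card A : E)⁻¹ * ∑ a : A, ((Units.coeHom E).comp (χ⁻¹ * ψ)) a)
        * charIdem μ σ ψ := by
    rw [charIdem_def μ σ χ]
    rw [mul_assoc, Finset.sum_mul, map_mul, map_sum, mul_assoc, Finset.sum_mul]
    congr 1
    apply Finset.sum_congr rfl
    intro a _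
    rw [mul_assoc, sigma_mul_charIdem μ σ hcomm, ← mul_assoc, ← map_mul]
    rfl
  rw [h1, sum_hom_units ((Units.coeHom E).comp (χ⁻¹ * ψ))]
  by_cases h : χ = ψ
  · have h2 : (Units.coeHom E).comp (χ⁻¹ * ψ) = 1 := by
      ext a
      simp only [MonoidHom.comp_apply, MonoidHom.mul_apply, MonoidHom.inv_apply,
        Units.coeHom_apply, MonoidHom.one_apply, h, inv_mul_cancel, Units.val_one]
    rw [if_pos h2, if_pos h, inv_mul_cancel₀ hn, map_one, one_mul, h]
  · have h2 : (Units.coeHom E).comp (χ⁻¹ * ψ) ≠ 1 := by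
      intro h3
      apply h
      ext a
      have h4 := DFunLike.congr_fun h3 a
      simp only [MonoidHom.comp_apply, MonoidHom.mul_apply, MonoidHom.inv_apply,
        Units.coeHom_apply, MonoidHom.one_apply, Units.val_mul] at h4
      have h5 : ((χ a)⁻¹ * ψ a : Eˣ) = 1 := by
        apply Units.ext
        rw [Units.val_mul, h4, Units.val_one]
      rw [inv_mul_eq_one] at h5
      rw [h5]
    rw [if_neg h2, if_neg h, Nat.cast_zero, mul_zero, map_zero, zero_mul]

theorem sum_charIdem [HasEnoughRootsOfUnity E (Monoid.exponent A)] [Fintype (A →* Eˣ)]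
    (hn : (Fintype.card A : E) ≠ 0) :
    ∑ χ : A →* Eˣ, charIdem μ σ χ = 1 := by
  unfold charIdem
  rw [← Finset.mul_sum, Finset.sum_comm]
  have h1 : ∀ a : A, ∑ χ : A →* Eˣ, μ (((χ a)⁻¹ : Eˣ) : E) * σ a
      = if a = 1 then μ (Fintype.card A : E) else 0 := by
    intro a
    rw [← Finset.sum_mul, ← map_sum]
    have h2 : ∑ χ : A →* Eˣ, (((χ a)⁻¹ : Eˣ) : E)
        = ∑ χ : A →* Eˣ, ((Units.coeHom E).comp (MonoidHom.eval a⁻¹)) χ := by
      apply Finset.sum_congr rfl
      intro χ _
      show (((χ a)⁻¹ : Eˣ) : E) = ((χ a⁻¹ : Eˣ) : E)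
      rw [map_inv]
    rw [h2, sum_hom_units ((Units.coeHom E).comp (MonoidHom.eval (a⁻¹ : A) : (A →* Eˣ) →* Eˣ))]
    by_cases ha : a = 1
    · have h3 : (Units.coeHom E).comp (MonoidHom.eval (a⁻¹ : A) : (A →* Eˣ) →* Eˣ) = 1 := by
        ext χ
        simp only [MonoidHom.comp_apply, MonoidHom.eval_apply_apply, Units.coeHom_apply,
          MonoidHom.one_apply, ha, inv_one, map_one, Units.val_one]
      rw [if_pos h3, if_pos ha, ha, map_one, mul_one]
      have h4 : Fintype.card (A →* Eˣ) = Fintype.card A := by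
        have := CommGroup.card_monoidHom_of_hasEnoughRootsOfUnity A E
        rwa [Nat.card_eq_fintype_card, Nat.card_eq_fintype_card] at this
      rw [h4]
    · have h3 : (Units.coeHom E).comp (MonoidHom.eval (a⁻¹ : A) : (A →* Eˣ) →* Eˣ) ≠ 1 := by
        intro h3
        have ha' : a⁻¹ ≠ 1 := by simpa using ha
        obtain ⟨χ, hχ⟩ := CommGroup.exists_apply_ne_one_of_hasEnoughRootsOfUnity A E ha'
        apply hχ
        have h4 := DFunLike.congr_fun h3 χ
        simp only [MonoidHom.comp_apply, MonoidHom.eval_apply_apply, Units.coeHom_apply,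
          MonoidHom.one_apply] at h4
        exact Units.ext h4
      rw [if_neg h3, if_neg ha, Nat.cast_zero, map_zero, zero_mul]
  rw [Finset.sum_congr rfl (fun a _ => h1 a), Finset.sum_ite_eq' Finset.univ (1 : A),
    if_pos (Finset.mem_univ _), ← map_mul, inv_mul_cancel₀ hn, map_one]

theorem mul_charIdem_of_conj (u : S) (hu : ∀ c, Commute u (μ c)) (α : A ≃* A)
    (hα : ∀ a, u * σ a = σ (α a) * u) (χ : A →* Eˣ) :
    u * charIdem μ σ χ = charIdem μ σ (χ.comp α.symm.toMonoidHom) * u := by
  unfold charIdem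
  rw [← mul_assoc, (hu _).eq, mul_assoc, mul_assoc]
  congr 1
  rw [Finset.mul_sum, Finset.sum_mul]
  apply Fintype.sum_equiv α.toEquiv
  intro a
  show u * (μ (((χ a)⁻¹ : Eˣ) : E) * σ a)
    = μ (((χ (α.symm (α a)))⁻¹ : Eˣ) : E) * σ (α a) * u
  rw [MulEquiv.symm_apply_apply, ← mul_assoc, (hu _).eq, mul_assoc, hα, mul_assoc]

theorem commute_charIdem (u : S) (hu : ∀ c, Commute u (μ c)) (hσ : ∀ a, Commute u (σ a))
    (χ : A →* Eˣ) : Commute u (charIdem μ σ χ) := by
  unfold charIdem
  apply Commute.mul_right (hu _)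
  apply Commute.sum_right
  intro a _
  exact Commute.mul_right (hu _) (hσ a)

theorem mu_commute_charIdem (hcomm : ∀ c a, Commute (μ c) (σ a)) (c : E) (χ : A →* Eˣ) :
    Commute (μ c) (charIdem μ σ χ) :=
  commute_charIdem μ σ (μ c) (fun c' => mu_commute μ c c') (fun a => hcomm c a) χ

end CharIdem

/-! ### free permutation of orthogonal idempotents -/

section Regular

variable {S W R : Type*} [Ring S] [AddCommGroup W] [Module S W] [Group R] [Fintype R]
  (τ : R →* S) (π : R → S)

theorem card_eq_card_fixed_pow_regular [Finite W]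
    (horth : ∀ r s, π r * π s = if r = s then π r else 0) (hsum : ∑ r, π r = 1)
    (hconj : ∀ r s, τ r * π s = π (r * s) * τ r) :
    Nat.card W = Nat.card {w : W // ∀ r, τ r • w = w} ^ Fintype.card R := by
  have hidem : ∀ r, π r * π r = π r := fun r => by rw [horth, if_pos rfl]
  have hτinv : ∀ r, τ r⁻¹ * τ r = 1 := fun r => by rw [← map_mul, inv_mul_cancel, map_one]
  have hτinv' : ∀ r, τ r * τ r⁻¹ = 1 := fun r => by rw [← map_mul, mul_inv_cancel, map_one]
  have hconj' : ∀ r, τ r⁻¹ * π r = π 1 * τ r⁻¹ := fun r => by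
    rw [hconj, inv_mul_cancel]
  -- the first equivalence
  let e1 : (R → {w : W // π 1 • w = w}) → W := fun f => ∑ r, τ r • (f r).1
  have he1 : Function.Bijective e1 := by
    constructor
    · intro f g hfg
      funext s
      have key : ∀ h : R → {w : W // π 1 • w = w},
          (τ s⁻¹ * π s) • e1 h = (h s).1 := by
        intro h
        show (τ s⁻¹ * π s) • ∑ r, τ r • (h r).1 = (h s).1
        rw [Finset.smul_sum, Finset.sum_eq_single s]
        · rw [← mul_smul, mul_assoc]
          conv_lhs => rw [← (h s).2]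
          rw [← mul_smul, mul_assoc, mul_assoc, hconj, mul_one, ← mul_assoc (π s), hidem,
            ← mul_assoc, hconj', mul_assoc, hτinv, mul_one]
          exact (h s).2
        · intro r _ hrs
          conv_lhs => rw [← (h r).2]
          rw [← mul_smul, ← mul_smul, mul_assoc, mul_assoc, hconj, mul_one, ← mul_assoc (π s),
            horth, if_neg (Ne.symm hrs), zero_mul, mul_zero, zero_smul]
        · intro h1
          exact absurd (Finset.mem_univ s) h1
      apply Subtype.ext
      rw [← key f, ← key g, hfg]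
    · intro w
      refine ⟨fun r => ⟨(τ r⁻¹ * π r) • w, ?_⟩, ?_⟩
      · rw [← mul_smul, hconj', ← mul_assoc, hidem]
      · show ∑ r, τ r • ((τ r⁻¹ * π r) • w) = w
        have h1 : ∀ r, τ r • ((τ r⁻¹ * π r) • w) = π r • w := by
          intro r
          rw [← mul_smul, ← mul_assoc, hτinv', one_mul]
        rw [Finset.sum_congr rfl (fun r _ => h1 r), ← Finset.sum_smul, hsum, one_smul]
  -- the second equivalence
  let e2 : {w : W // ∀ r, τ r • w = w} → {w : W // π 1 • w = w} := fun w =>
    ⟨π 1 • w.1, by rw [← mul_smul, hidem]⟩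
  have he2 : Function.Bijective e2 := by
    constructor
    · intro w w' hww
      have key : ∀ u : {w : W // ∀ r, τ r • w = w}, ∑ r, τ r • (e2 u).1 = u.1 := by
        intro u
        show ∑ r, τ r • (π 1 • u.1) = u.1
        have h1 : ∀ r, τ r • (π 1 • u.1) = π r • u.1 := by
          intro r
          rw [← mul_smul, hconj, mul_one, mul_smul, u.2 r]
        rw [Finset.sum_congr rfl (fun r _ => h1 r), ← Finset.sum_smul, hsum, one_smul]
      apply Subtype.ext
      rw [← key w, ← key w', hww]
    · intro u
      refine ⟨⟨∑ r, τ r • u.1, ?_⟩, ?_⟩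
      · intro s
        rw [Finset.smul_sum]
        rw [← Equiv.sum_comp (Equiv.mulLeft s) (fun r => τ r • u.1)]
        apply Finset.sum_congr rfl
        intro r _
        rw [Equiv.coe_mulLeft, map_mul, mul_smul]
      · apply Subtype.ext
        show π 1 • ∑ r, τ r • u.1 = u.1
        rw [Finset.smul_sum, Finset.sum_eq_single (1 : R)]
        · rw [map_one, one_smul]
          exact u.2
        · intro r _ hr
          conv_lhs => rw [← u.2]
          rw [← mul_smul, ← mul_smul, mul_assoc, hconj, mul_one, ← mul_assoc, horth,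
            if_neg (Ne.symm hr), zero_mul, zero_smul]
        · intro h1
          exact absurd (Finset.mem_univ _) h1
  rw [← Nat.card_congr (Equiv.ofBijective e1 he1), Nat.card_fun,
    Nat.card_congr (Equiv.ofBijective e2 he2), Nat.card_eq_fintype_card (α := R)]

end Regular

section Free

variable {S W R I : Type*} [Ring S] [AddCommGroup W] [Module S W] [Group R] [Fintype R]
  [Fintype I]

/-- a free action admits an equivariant map to the group. -/
theorem exists_equivariant (act : R → I → I) (hact1 : ∀ i, act 1 i = i)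
    (hactm : ∀ r s i, act (r * s) i = act r (act s i))
    (hfree : ∀ r i, act r i = i → r = 1) :
    ∃ c : I → R, ∀ r i, c (act r i) = r * c i := by
  let inst : MulAction R I :=
    { smul := act
      one_smul := hact1
      mul_smul := hactm }
  have hsmul : ∀ (r : R) (i : I), r • i = act r i := fun _ _ => rfl
  let q : I → MulAction.orbitRel.Quotient R I := Quotient.mk''
  let rep : I → I := fun i => (q i).out
  have hrep : ∀ i, ∃ r : R, r • rep i = i := by
    intro i
    have h1 : (MulAction.orbitRel R I) (rep i) i := Quotient.exact (Quotient.out_eq (q i))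
    rw [MulAction.orbitRel_apply] at h1
    obtain ⟨r, hr⟩ := h1
    refine ⟨r⁻¹, ?_⟩
    rw [← hr]
    exact inv_smul_smul r i
  choose c hc using hrep
  refine ⟨c, ?_⟩
  intro r i
  have h1 : rep (act r i) = rep i := by
    have h2 : q (act r i) = q i := by
      apply Quotient.sound
      show (MulAction.orbitRel R I) (act r i) i
      rw [MulAction.orbitRel_apply]
      exact ⟨r, rfl⟩
    show (q (act r i)).out = (q i).out
    rw [h2]
  have h3 : c (act r i) • rep i = (r * c i) • rep i := by
    rw [mul_smul, hc i, ← h1, hc (act r i)]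
    rfl
  have h4 : ((r * c i)⁻¹ * c (act r i)) • rep i = rep i := by
    rw [mul_smul, h3, inv_smul_smul]
  have h5 := hfree _ _ h4
  rw [inv_mul_eq_one] at h5
  exact h5.symm

variable (τ : R →* S) (π : I → S)

theorem card_eq_card_fixed_pow_free [Finite W] (act : R → I → I) (hact1 : ∀ i, act 1 i = i)
    (hactm : ∀ r s i, act (r * s) i = act r (act s i))
    (hfree : ∀ r i, act r i = i → r = 1)
    (horth : ∀ i j, π i * π j = if i = j then π i else 0) (hsum : ∑ i, π i = 1)
    (hconj : ∀ r i, τ r * π i = π (act r i) * τ r) :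
    Nat.card W = Nat.card {w : W // ∀ r, τ r • w = w} ^ Fintype.card R := by
  obtain ⟨c, hc⟩ := exists_equivariant act hact1 hactm hfree
  let π' : R → S := fun r => ∑ i, if c i = r then π i else 0
  have hbij : ∀ r, Function.Bijective (act r) := by
    intro r
    refine Function.bijective_iff_has_inverse.mpr ⟨act r⁻¹, ?_, ?_⟩
    · intro i
      rw [← hactm, inv_mul_cancel, hact1]
    · intro i
      rw [← hactm, mul_inv_cancel, hact1]
  apply card_eq_card_fixed_pow_regular τ π'
  · intro r s
    show (∑ i, if c i = r then π i else 0) * (∑ j, if c j = s then π j else 0) = _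
    rw [Finset.sum_mul]
    have h1 : ∀ i, (if c i = r then π i else 0) * (∑ j, if c j = s then π j else 0)
        = if c i = r then (if r = s then π i else 0) else 0 := by
      intro i
      by_cases hi : c i = r
      · rw [if_pos hi, if_pos hi, Finset.mul_sum, Finset.sum_eq_single i]
        · rw [hi]
          by_cases hrs : r = s
          · rw [if_pos hrs, horth, if_pos rfl]
          · rw [if_neg hrs, mul_zero]
        · intro j _ hji
          by_cases hj : c j = s
          · rw [if_pos hj, horth, if_neg (Ne.symm hji)]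
          · rw [if_neg hj, mul_zero]
        · intro h2
          exact absurd (Finset.mem_univ _) h2
      · rw [if_neg hi, if_neg hi, zero_mul]
    rw [Finset.sum_congr rfl (fun i _ => h1 i)]
    by_cases hrs : r = s
    · rw [if_pos hrs]
      apply Finset.sum_congr rfl
      intro i _
      rw [if_pos hrs]
    · rw [if_neg hrs]
      apply Finset.sum_eq_zero
      intro i _
      rw [if_neg hrs, ite_self]
  · show ∑ r, ∑ i, (if c i = r then π i else 0) = 1
    rw [Finset.sum_comm]
    have h1 : ∀ i, ∑ r, (if c i = r then π i else 0) = π i := by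
      intro i
      rw [Finset.sum_ite_eq Finset.univ (c i), if_pos (Finset.mem_univ _)]
    rw [Finset.sum_congr rfl (fun i _ => h1 i), hsum]
  · intro r s
    show τ r * (∑ i, if c i = s then π i else 0) = (∑ j, if c j = r * s then π j else 0) * τ r
    rw [Finset.mul_sum, Finset.sum_mul]
    rw [← Equiv.sum_comp (Equiv.ofBijective (act r) (hbij r))
      (fun j => (if c j = r * s then π j else 0) * τ r)]
    apply Finset.sum_congr rfl
    intro i _
    rw [Equiv.ofBijective_apply, hc]
    by_cases hi : c i = s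
    · rw [if_pos hi, if_pos (by rw [hi]), hconj]
    · rw [if_neg hi, if_neg (by
        intro h2
        exact hi (mul_left_cancel h2)), mul_zero, zero_mul]

theorem card_range_pow_le [Finite W] (act : R → I → I) (hact1 : ∀ i, act 1 i = i)
    (hactm : ∀ r s i, act (r * s) i = act r (act s i))
    (hfree : ∀ r i, act r i = i → r = 1)
    (horth : ∀ i j, π i * π j = if i = j then π i else 0)
    (hconj : ∀ r i, τ r * π i = π (act r i) * τ r) (i₀ : I) :
    Nat.card {w : W // π i₀ • w = w} ^ Fintype.card R ≤ Nat.card W := by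
  have hτinv : ∀ r, τ r⁻¹ * τ r = 1 := fun r => by rw [← map_mul, inv_mul_cancel, map_one]
  let e1 : (R → {w : W // π i₀ • w = w}) → W := fun f => ∑ r, τ r • (f r).1
  have he1 : Function.Injective e1 := by
    intro f g hfg
    funext s
    have key : ∀ h : R → {w : W // π i₀ • w = w},
        (τ s⁻¹ * π (act s i₀)) • e1 h = (h s).1 := by
      intro h
      show (τ s⁻¹ * π (act s i₀)) • ∑ r, τ r • (h r).1 = (h s).1
      rw [Finset.smul_sum, Finset.sum_eq_single s]
      · conv_lhs => rw [← (h s).2]
        rw [← mul_smul, ← mul_smul, mul_assoc, mul_assoc, hconj, ← mul_assoc (π (act s i₀)),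
          horth, if_pos rfl, ← hconj, ← mul_assoc, hτinv, one_mul]
        exact (h s).2
      · intro r _ hrs
        conv_lhs => rw [← (h r).2]
        have hne : act s i₀ ≠ act r i₀ := by
          intro h2
          apply hrs
          have h3 : act (s⁻¹ * r) i₀ = i₀ := by
            rw [hactm, ← h2, ← hactm, inv_mul_cancel, hact1]
          have h4 := hfree _ _ h3
          rw [inv_mul_eq_one] at h4
          exact h4.symm
        rw [← mul_smul, ← mul_smul, mul_assoc, mul_assoc, hconj, ← mul_assoc (π (act s i₀)),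
          horth, if_neg hne, zero_mul, mul_zero, zero_smul]
      · intro h1
        exact absurd (Finset.mem_univ s) h1
    apply Subtype.ext
    rw [← key f, ← key g, hfg]
  have h1 := Nat.card_le_card_of_injective e1 he1
  rwa [Nat.card_fun, Nat.card_eq_fintype_card (α := R)] at h1

end Free

end FrobIdem

end Cfsg.Agent.Lib.Helper10
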