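import Mathlib
import Cfsg.Agent.Lib.Helper10.FrobIdem

set_option autoImplicit false

namespace Cfsg.Agent.Lib.Helper10

open scoped Classical

namespace FrobModule

open FrobIdem

/-! ### scalar extension via `Hom_F(E, V)` -/

section Ext

variable {F : Type*} [Field F] {V : Type*} [AddCommGroup V] [Module F V]
  {E : Type*} [Field E] [Algebra F E]

/-- scalar action of `E` on `Hom_F(E,V)` by precomposition with multiplication. -/
def muHom : E →+* Module.End F (E →ₗ[F] V) where
  toFun c := LinearMap.lcomp F V (LinearMap.mulLeft F c)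
  map_one' := by
    ext f x
    simp
  map_mul' c c' := by
    ext f x
    show f ((c * c') * x) = f (c' * (c * x))
    congr 1
    ring
  map_zero' := by
    ext f x
    simp
  map_add' c c' := by
    ext f x
    show f ((c + c') * x) = f (c * x) + f (c' * x)
    rw [add_mul, map_add]

theorem muHom_apply (c : E) (f : E →ₗ[F] V) (x : E) :
    (muHom (F := F) (V := V) c) f x = f (c * x) := rfl

/-- postcomposition. -/
def postHom : Module.End F V →+* Module.End F (E →ₗ[F] V) where
  toFun T := LinearMap.compRight F T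
  map_one' := by
    ext f x
    rfl
  map_mul' T T' := by
    ext f x
    rfl
  map_zero' := by
    ext f x
    rfl
  map_add' T T' := by
    ext f x
    rfl

theorem postHom_apply (T : Module.End F V) (f : E →ₗ[F] V) (x : E) :
    (postHom (E := E) T) f x = T (f x) := rfl

theorem muHom_commute_postHom (c : E) (T : Module.End F V) :
    Commute (muHom (F := F) (V := V) c) (postHom (E := E) T) := by
  show _ * _ = _ * _
  ext f x
  rfl

theorem exists_apply_one_eq (v : V) : ∃ f : E →ₗ[F] V, f 1 = v := by
  have hinj : LinearMap.ker (Algebra.linearMap F E) = ⊥ := by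
    rw [LinearMap.ker_eq_bot]
    exact (algebraMap F E).injective
  obtain ⟨g, hg⟩ := LinearMap.exists_leftInverse_of_injective (Algebra.linearMap F E) hinj
  refine ⟨(LinearMap.toSpanSingleton F V v).comp g, ?_⟩
  have h1 : g 1 = 1 := by
    have h2 := LinearMap.congr_fun hg 1
    rw [LinearMap.comp_apply, Algebra.linearMap_apply, map_one] at h2
    exact h2
  rw [LinearMap.comp_apply, h1, LinearMap.toSpanSingleton_apply, one_smul]

theorem postHom_injective : Function.Injective (postHom (F := F) (V := V) (E := E)) := by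
  intro T T' h
  ext v
  obtain ⟨f, hf⟩ := exists_apply_one_eq (F := F) (E := E) v
  have h1 := LinearMap.congr_fun (LinearMap.congr_fun h f) 1
  rw [postHom_apply, postHom_apply, hf] at h1
  exact h1

theorem card_ext [Finite V] [Module.Finite F E] :
    Nat.card (E →ₗ[F] V) = Nat.card V ^ Module.finrank F E := by
  have e := ((Module.finBasis F E).constr F : (Fin (Module.finrank F E) → V) ≃ₗ[F] (E →ₗ[F] V))
  rw [← Nat.card_congr e.toEquiv, Nat.card_fun, Nat.card_eq_fintype_card (α := Fin _),
    Fintype.card_fin]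

theorem card_ext_fixed [Finite V] [Module.Finite F E] {R : Type*} (τ : R → Module.End F V) :
    Nat.card {f : E →ₗ[F] V // ∀ r, postHom (E := E) (τ r) f = f}
      = Nat.card {v : V // ∀ r, τ r v = v} ^ Module.finrank F E := by
  let b := Module.finBasis F E
  let e : {f : E →ₗ[F] V // ∀ r, postHom (E := E) (τ r) f = f}
      ≃ (Fin (Module.finrank F E) → {v : V // ∀ r, τ r v = v}) :=
    { toFun := fun f i => ⟨f.1 (b i), fun r => by
        have h1 := LinearMap.congr_fun (f.2 r) (b i)
        rw [postHom_apply] at h1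
        exact h1⟩
      invFun := fun g => ⟨b.constr F (fun i => (g i).1), fun r => by
        apply b.ext
        intro i
        rw [postHom_apply, Module.Basis.constr_basis]
        exact (g i).2 r⟩
      left_inv := fun f => by
        apply Subtype.ext
        apply b.ext
        intro i
        show b.constr F (fun i => f.1 (b i)) (b i) = f.1 (b i)
        rw [Module.Basis.constr_basis]
      right_inv := fun g => by
        funext i
        apply Subtype.ext
        show b.constr F (fun i => (g i).1) (b i) = (g i).1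
        rw [Module.Basis.constr_basis] }
  rw [Nat.card_congr e, Nat.card_fun, Nat.card_eq_fintype_card (α := Fin _), Fintype.card_fin]

end Ext

/-! ### the character decomposition -/

section Decomp

variable {F : Type*} [Field F] {V : Type*} [AddCommGroup V] [Module F V]
  {E : Type*} [Field E] [Algebra F E]
  {A : Type*} [CommGroup A] [Fintype A] {R : Type*} [Group R]
  (σ : A →* Module.End F V) (τ : R →* Module.End F V) (φ : R →* MulAut A)

/-- the lifted action of `A`. -/
def sigmaW : A →* Module.End F (E →ₗ[F] V) := (postHom (E := E)).toMonoidHom.comp σ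

/-- the lifted action of `R`. -/
def tauW : R →* Module.End F (E →ₗ[F] V) := (postHom (E := E)).toMonoidHom.comp τ

theorem sigmaW_apply (a : A) : sigmaW (E := E) σ a = postHom (E := E) (σ a) := rfl

theorem tauW_apply (r : R) : tauW (E := E) τ r = postHom (E := E) (τ r) := rfl

theorem mu_commute_sigmaW (c : E) (a : A) :
    Commute (muHom (F := F) (V := V) c) (sigmaW (E := E) σ a) :=
  muHom_commute_postHom c (σ a)

/-- the action of `R` on the nontrivial characters. -/
def actChar (r : R) (χ : {χ : A →* Eˣ // χ ≠ 1}) : {χ : A →* Eˣ // χ ≠ 1} :=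
  ⟨χ.1.comp (φ r).symm.toMonoidHom, by
    intro h
    apply χ.2
    ext a
    have h1 := DFunLike.congr_fun h (φ r a)
    simp only [MonoidHom.comp_apply, MulEquiv.coe_toMonoidHom, MulEquiv.symm_apply_apply,
      MonoidHom.one_apply] at h1
    rw [h1, MonoidHom.one_apply]⟩

theorem actChar_apply (r : R) (χ : {χ : A →* Eˣ // χ ≠ 1}) (a : A) :
    (actChar (E := E) φ r χ).1 a = χ.1 ((φ r).symm a) := rfl

theorem actChar_one (χ : {χ : A →* Eˣ // χ ≠ 1}) : actChar (E := E) φ 1 χ = χ := by
  apply Subtype.ext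
  ext a
  rw [actChar_apply, map_one]
  rfl

theorem actChar_mul (r s : R) (χ : {χ : A →* Eˣ // χ ≠ 1}) :
    actChar (E := E) φ (r * s) χ = actChar φ r (actChar φ s χ) := by
  apply Subtype.ext
  ext a
  rw [actChar_apply, actChar_apply, actChar_apply]
  congr 2
  rw [MulEquiv.symm_apply_eq, map_mul, MulAut.mul_apply, MulEquiv.apply_symm_apply,
    MulEquiv.apply_symm_apply]

theorem actChar_free (hfree : ∀ r : R, r ≠ 1 → ∀ a : A, ∃ b : A, a = b⁻¹ * φ r b)
    (r : R) (χ : {χ : A →* Eˣ // χ ≠ 1}) (h : actChar (E := E) φ r χ = χ) : r = 1 := by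
  by_contra hr
  apply χ.2
  ext a
  obtain ⟨b, hb⟩ := hfree r hr a
  have h1 : χ.1 (φ r b) = χ.1 b := by
    have h2 := actChar_apply (E := E) φ r χ (φ r b)
    rw [h, MulEquiv.symm_apply_apply] at h2
    exact h2
  rw [hb, map_mul, map_inv, h1, inv_mul_cancel, MonoidHom.one_apply]

/-- the idempotents. -/
noncomputable def piChar (χ : {χ : A →* Eˣ // χ ≠ 1}) : Module.End F (E →ₗ[F] V) :=
  charIdem (muHom (F := F) (V := V)) (sigmaW (E := E) σ) χ.1

theorem piChar_orth (hn : (Fintype.card A : E) ≠ 0) (i j : {χ : A →* Eˣ // χ ≠ 1}) :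
    piChar (E := E) σ i * piChar σ j
      = @ite _ (i = j) (Classical.propDecidable _) (piChar σ i) 0 := by
  unfold piChar
  rw [charIdem_mul_charIdem _ _ (mu_commute_sigmaW σ) hn]
  by_cases h : i = j
  · rw [if_pos h, if_pos (by rw [h])]
  · rw [if_neg h, if_neg (fun h' => h (Subtype.ext h'))]

theorem charIdem_one_eq_zero (hCA : ∀ v : V, (∀ a, σ a v = v) → v = 0) :
    charIdem (muHom (F := F) (V := V)) (sigmaW (E := E) σ) (1 : A →* Eˣ) = 0 := by
  have h1 : ∀ b, sigmaW (E := E) σ b * charIdem (muHom (F := F) (V := V)) (sigmaW (E := E) σ) 1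
      = charIdem (muHom (F := F) (V := V)) (sigmaW (E := E) σ) 1 := by
    intro b
    rw [sigma_mul_charIdem _ _ (mu_commute_sigmaW σ), MonoidHom.one_apply, Units.val_one, map_one,
      one_mul]
  ext w e
  apply hCA
  intro a
  have h2 := LinearMap.congr_fun (LinearMap.congr_fun (h1 a) w) e
  rw [Module.End.mul_apply, sigmaW_apply, postHom_apply] at h2
  exact h2

theorem piChar_sum [HasEnoughRootsOfUnity E (Monoid.exponent A)] [Fintype (A →* Eˣ)]
    (hn : (Fintype.card A : E) ≠ 0) (hCA : ∀ v : V, (∀ a, σ a v = v) → v = 0) :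
    ∑ i : {χ : A →* Eˣ // χ ≠ 1}, piChar (E := E) σ i = 1 := by
  have h1 := sum_charIdem (muHom (F := F) (V := V)) (sigmaW (E := E) σ) hn
  rw [← Finset.add_sum_erase Finset.univ _ (Finset.mem_univ (1 : A →* Eˣ)),
    charIdem_one_eq_zero σ hCA, zero_add] at h1
  rw [← h1]
  symm
  apply Finset.sum_subtype
  intro χ
  rw [Finset.mem_erase]
  simp

theorem tauW_mul_piChar (hcompat : ∀ r a, τ r * σ a = σ (φ r a) * τ r) (r : R)
    (i : {χ : A →* Eˣ // χ ≠ 1}) :
    tauW (E := E) τ r * piChar σ i = piChar σ (actChar φ r i) * tauW τ r := by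
  unfold piChar
  apply mul_charIdem_of_conj _ _ _ _ (φ r)
  · intro a
    rw [tauW_apply, sigmaW_apply, sigmaW_apply, ← map_mul, ← map_mul, hcompat]
  · intro c
    exact (muHom_commute_postHom c (τ r)).symm

end Decomp

/-! ### the counting theorem, for a given extension field -/

section Count

variable {F : Type*} [Field F] [Finite F] {V : Type*} [AddCommGroup V] [Module F V] [Finite V]
  {E : Type*} [Field E] [Algebra F E] [Module.Finite F E]
  {A : Type*} [CommGroup A] [Fintype A] {R : Type*} [Group R] [Fintype R]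
  (σ : A →* Module.End F V) (τ : R →* Module.End F V) (φ : R →* MulAut A)

theorem finite_ext : Finite (E →ₗ[F] V) := by
  have e := ((Module.finBasis F E).constr F : (Fin (Module.finrank F E) → V) ≃ₗ[F] (E →ₗ[F] V))
  exact Finite.of_equiv _ e.toEquiv

theorem card_eq_card_fixed_pow_aux [HasEnoughRootsOfUnity E (Monoid.exponent A)]
    (hn : (Fintype.card A : E) ≠ 0)
    (hcompat : ∀ r a, τ r * σ a = σ (φ r a) * τ r)
    (hCA : ∀ v : V, (∀ a, σ a v = v) → v = 0)
    (hfree : ∀ r : R, r ≠ 1 → ∀ a : A, ∃ b : A, a = b⁻¹ * φ r b) :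
    Nat.card V = Nat.card {v : V // ∀ r, τ r v = v} ^ Fintype.card R := by
  haveI : Fintype (A →* Eˣ) := Fintype.ofFinite _
  haveI : Finite (E →ₗ[F] V) := finite_ext
  have hd : Module.finrank F E ≠ 0 := by
    have : 0 < Module.finrank F E := Module.finrank_pos
    omega
  have key := card_eq_card_fixed_pow_free (W := E →ₗ[F] V) (tauW (E := E) τ) (piChar (E := E) σ)
    (actChar (E := E) φ) (actChar_one φ) (actChar_mul φ) (actChar_free φ hfree)
    (piChar_orth σ hn) (piChar_sum σ hn hCA) (tauW_mul_piChar σ τ φ hcompat)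
  have h1 : Nat.card {w : E →ₗ[F] V // ∀ r, tauW (E := E) τ r • w = w}
      = Nat.card {v : V // ∀ r, τ r v = v} ^ Module.finrank F E :=
    card_ext_fixed (E := E) (fun r => τ r)
  rw [h1, card_ext, ← pow_mul, mul_comm, pow_mul] at key
  exact Nat.pow_left_injective hd key

theorem commute_of_card_le_aux [HasEnoughRootsOfUnity E (Monoid.exponent A)]
    (hn : (Fintype.card A : E) ≠ 0)
    (hcompat : ∀ r a, τ r * σ a = σ (φ r a) * τ r)
    (hCA : ∀ v : V, (∀ a, σ a v = v) → v = 0)
    (hfree : ∀ r : R, r ≠ 1 → ∀ a : A, ∃ b : A, a = b⁻¹ * φ r b)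
    (hV : Nat.card V ≤ Nat.card F ^ Fintype.card R)
    (x y : Module.End F V) (hx : ∀ a, Commute x (σ a)) (hy : ∀ a, Commute y (σ a)) :
    x * y = y * x := by
  haveI : Fintype (A →* Eˣ) := Fintype.ofFinite _
  haveI : Finite (E →ₗ[F] V) := finite_ext
  haveI : Finite E := Module.finite_of_finite F
  have hR : Fintype.card R ≠ 0 := Fintype.card_ne_zero
  apply postHom_injective (E := E)
  rw [map_mul, map_mul]
  set X := postHom (E := E) x with hX
  set Y := postHom (E := E) y with hY
  -- `X`, `Y` commute with the idempotents and the scalars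
  have hXμ : ∀ c : E, Commute X (muHom (F := F) (V := V) c) :=
    fun c => (muHom_commute_postHom c x).symm
  have hYμ : ∀ c : E, Commute Y (muHom (F := F) (V := V) c) :=
    fun c => (muHom_commute_postHom c y).symm
  have hXσ : ∀ a, Commute X (sigmaW (E := E) σ a) := by
    intro a
    show _ * _ = _ * _
    rw [sigmaW_apply, hX, ← map_mul, ← map_mul, (hx a).eq]
  have hYσ : ∀ a, Commute Y (sigmaW (E := E) σ a) := by
    intro a
    show _ * _ = _ * _
    rw [sigmaW_apply, hY, ← map_mul, ← map_mul, (hy a).eq]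
  have hXπ : ∀ i, Commute X (piChar (E := E) σ i) := fun i =>
    commute_charIdem _ _ X hXμ hXσ i.1
  have hYπ : ∀ i, Commute Y (piChar (E := E) σ i) := fun i =>
    commute_charIdem _ _ Y hYμ hYσ i.1
  have hμπ : ∀ c i, Commute (muHom (F := F) (V := V) c) (piChar (E := E) σ i) := fun c i =>
    mu_commute_charIdem _ _ (mu_commute_sigmaW σ) c i.1
  -- it is enough to check on each component
  have hsum := piChar_sum (E := E) σ hn hCA
  have hcomp : ∀ i, X * Y * piChar (E := E) σ i = Y * X * piChar σ i := by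
    intro i
    -- the size of the component
    have hle := card_range_pow_le (W := E →ₗ[F] V) (tauW (E := E) τ) (piChar (E := E) σ)
      (actChar (E := E) φ) (actChar_one φ) (actChar_mul φ) (actChar_free φ hfree)
      (piChar_orth σ hn) (tauW_mul_piChar σ τ φ hcompat) i
    have hW : Nat.card (E →ₗ[F] V) ≤ Nat.card E ^ Fintype.card R := by
      rw [card_ext, Module.natCard_eq_pow_finrank (K := F) (V := E), ← pow_mul, mul_comm,
        pow_mul]
      exact Nat.pow_le_pow_left hV _
    have hle2 : Nat.card {w : E →ₗ[F] V // piChar (E := E) σ i • w = w} ≤ Nat.card E :=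
      (Nat.pow_le_pow_iff_left hR).mp (hle.trans hW)
    by_cases hz : ∀ w : E →ₗ[F] V, piChar (E := E) σ i • w = w → w = 0
    · -- trivial component
      have h0 : piChar (E := E) σ i = 0 := by
        ext w e
        have h1 := hz (piChar (E := E) σ i w) (by
          show (piChar (E := E) σ i) ((piChar (E := E) σ i) w) = _
          rw [← Module.End.mul_apply, piChar_orth σ hn, if_pos rfl])
        rw [h1]
        rfl
      rw [h0, mul_zero, mul_zero]
    · push_neg at hz
      obtain ⟨w₀, hw₀, hw₀0⟩ := hz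
      -- the orbit map of `w₀` is a bijection
      let g : E → {w : E →ₗ[F] V // piChar (E := E) σ i • w = w} := fun c =>
        ⟨muHom (F := F) (V := V) c w₀, by
          show (piChar (E := E) σ i) (muHom (F := F) (V := V) c w₀) = _
          rw [← Module.End.mul_apply, ← (hμπ c i).eq, Module.End.mul_apply]
          congr 1⟩
      have hg : Function.Injective g := by
        intro c c' hcc
        by_contra hne
        apply hw₀0
        have h1 : muHom (F := F) (V := V) c w₀ = muHom (F := F) (V := V) c' w₀ :=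
          congrArg Subtype.val hcc
        have h2 : muHom (F := F) (V := V) (c - c') w₀ = 0 := by
          rw [map_sub, LinearMap.sub_apply, h1, sub_self]
        have h3 : muHom (F := F) (V := V) ((c - c')⁻¹) (muHom (F := F) (V := V) (c - c') w₀)
            = w₀ := by
          rw [← Module.End.mul_apply, ← map_mul, inv_mul_cancel₀ (sub_ne_zero.mpr hne), map_one,
            Module.End.one_apply]
        rw [← h3, h2, map_zero]
      have hgb : Function.Bijective g := hg.bijective_of_nat_card_le hle2
      -- `X` and `Y` act by scalars on `w₀`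
      have hXw : piChar (E := E) σ i • (X w₀) = X w₀ := by
        show (piChar (E := E) σ i) (X w₀) = X w₀
        rw [← Module.End.mul_apply, ← (hXπ i).eq, Module.End.mul_apply]
        congr 1
      have hYw : piChar (E := E) σ i • (Y w₀) = Y w₀ := by
        show (piChar (E := E) σ i) (Y w₀) = Y w₀
        rw [← Module.End.mul_apply, ← (hYπ i).eq, Module.End.mul_apply]
        congr 1
      obtain ⟨cX, hcX⟩ := hgb.2 ⟨X w₀, hXw⟩
      obtain ⟨cY, hcY⟩ := hgb.2 ⟨Y w₀, hYw⟩
      have hcX' : muHom (F := F) (V := V) cX w₀ = X w₀ := congrArg Subtype.val hcX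
      have hcY' : muHom (F := F) (V := V) cY w₀ = Y w₀ := congrArg Subtype.val hcY
      ext w e
      -- `π w` is a scalar multiple of `w₀`
      obtain ⟨c, hc⟩ := hgb.2 ⟨piChar (E := E) σ i w, by
        show (piChar (E := E) σ i) ((piChar (E := E) σ i) w) = _
        rw [← Module.End.mul_apply, piChar_orth σ hn, if_pos rfl]⟩
      have hc' : muHom (F := F) (V := V) c w₀ = piChar (E := E) σ i w := congrArg Subtype.val hc
      have hXY : X (Y (muHom (F := F) (V := V) c w₀)) = Y (X (muHom (F := F) (V := V) c w₀)) := by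
        have e1 : ∀ Z : Module.End F (E →ₗ[F] V), (∀ c, Commute Z (muHom (F := F) (V := V) c)) →
            ∀ (c : E) (w : E →ₗ[F] V), Z (muHom (F := F) (V := V) c w)
              = muHom (F := F) (V := V) c (Z w) := by
          intro Z hZ c w
          rw [← Module.End.mul_apply, (hZ c).eq, Module.End.mul_apply]
        have hL : X (Y (muHom (F := F) (V := V) c w₀)) = muHom (F := F) (V := V) c
            (muHom (F := F) (V := V) cY (muHom (F := F) (V := V) cX w₀)) := by
          rw [e1 Y hYμ, e1 X hXμ, ← hcY', e1 X hXμ, ← hcX']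
        have hR : Y (X (muHom (F := F) (V := V) c w₀)) = muHom (F := F) (V := V) c
            (muHom (F := F) (V := V) cX (muHom (F := F) (V := V) cY w₀)) := by
          rw [e1 X hXμ, e1 Y hYμ, ← hcX', e1 Y hYμ, ← hcY']
        rw [hL, hR]
        congr 1
        rw [← Module.End.mul_apply, ← Module.End.mul_apply,
          (mu_commute (muHom (F := F) (V := V)) cY cX).eq]
      show (X * Y * piChar (E := E) σ i) w e = (Y * X * piChar (E := E) σ i) w e
      rw [Module.End.mul_apply, Module.End.mul_apply, Module.End.mul_apply, Module.End.mul_apply,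
        ← hc', hXY]
  calc X * Y = X * Y * ∑ i, piChar (E := E) σ i := by rw [hsum, mul_one]
    _ = ∑ i, X * Y * piChar (E := E) σ i := Finset.mul_sum _ _ _
    _ = ∑ i, Y * X * piChar (E := E) σ i := Finset.sum_congr rfl (fun i _ => hcomp i)
    _ = Y * X * ∑ i, piChar (E := E) σ i := (Finset.mul_sum _ _ _).symm
    _ = Y * X := by rw [hsum, mul_one]

end Count

/-! ### the final statements over `ZMod ℓ` -/

section Final

theorem hasEnough_of_dvd (E : Type*) [Field E] [Finite E] (k : ℕ) (hk : k ∣ Nat.card E - 1) :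
    HasEnoughRootsOfUnity E k := by
  have hq : 2 ≤ Nat.card E := by
    have := Finite.one_lt_card (α := E)
    omega
  haveI : NeZero (Nat.card E - 1) := ⟨by omega⟩
  have hcu : Nat.card Eˣ = Nat.card E - 1 := Nat.card_units E
  have htop : rootsOfUnity (Nat.card E - 1) E = ⊤ := by
    rw [eq_top_iff]
    intro u _
    rw [mem_rootsOfUnity, ← hcu]
    exact pow_card_eq_one'
  haveI : HasEnoughRootsOfUnity E (Nat.card E - 1) := by
    apply HasEnoughRootsOfUnity.of_card_le
    rw [htop, Nat.card_congr (Subgroup.topEquiv (G := Eˣ)).toEquiv, hcu]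
  exact HasEnoughRootsOfUnity.of_dvd E hk

variable {ℓ : ℕ} [Fact ℓ.Prime] {V : Type*} [AddCommGroup V] [Module (ZMod ℓ) V] [Finite V]
  {A : Type*} [CommGroup A] [Finite A] {R : Type*} [Group R] [Finite R]
  (σ : A →* Module.End (ZMod ℓ) V) (τ : R →* Module.End (ZMod ℓ) V) (φ : R →* MulAut A)

theorem exists_field (hℓ : ¬ ℓ ∣ Nat.card A) :
    ∃ d : ℕ, d ≠ 0 ∧ Monoid.exponent A ∣ Nat.card (GaloisField ℓ d) - 1 ∧
      ((Nat.card A : ℕ) : GaloisField ℓ d) ≠ 0 := by
  have hp : ℓ.Prime := Fact.out
  have hm : 0 < Nat.card A := Nat.card_pos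
  have hcop : Nat.Coprime ℓ (Nat.card A) := (Nat.Prime.coprime_iff_not_dvd hp).mpr hℓ
  refine ⟨Nat.totient (Nat.card A), ?_, ?_, ?_⟩
  · exact (Nat.totient_pos.mpr hm).ne'
  · rw [GaloisField.card ℓ _ (Nat.totient_pos.mpr hm).ne']
    have h1 := Nat.ModEq.pow_totient hcop
    have h2 : Nat.card A ∣ ℓ ^ Nat.totient (Nat.card A) - 1 :=
      (Nat.modEq_iff_dvd' (Nat.one_le_pow _ _ hp.pos)).mp h1.symm
    exact dvd_trans Group.exponent_dvd_nat_card h2
  · intro h
    rw [CharP.cast_eq_zero_iff (GaloisField ℓ (Nat.totient (Nat.card A))) ℓ] at h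
    exact hℓ h

/-- **Theorem A**: a group `R` acting freely on an abelian `ℓ'`-group `A`, both acting on a
finite `ZMod ℓ`-module `V` with `C_V(A) = 0`: then `|V| = |C_V(R)| ^ |R|`. -/
theorem card_eq_card_fixed_pow
    (hcompat : ∀ r a, τ r * σ a = σ (φ r a) * τ r)
    (hℓ : ¬ ℓ ∣ Nat.card A)
    (hCA : ∀ v : V, (∀ a, σ a v = v) → v = 0)
    (hfree : ∀ r : R, r ≠ 1 → ∀ a : A, ∃ b : A, a = b⁻¹ * φ r b) :
    Nat.card V = Nat.card {v : V // ∀ r, τ r v = v} ^ Nat.card R := by
  obtain ⟨d, hd, hdvd, hne⟩ := exists_field (ℓ := ℓ) (A := A) hℓ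
  haveI : Fintype A := Fintype.ofFinite A
  haveI : Fintype R := Fintype.ofFinite R
  haveI := hasEnough_of_dvd (GaloisField ℓ d) _ hdvd
  rw [Nat.card_eq_fintype_card (α := R)]
  rw [Nat.card_eq_fintype_card] at hne
  exact card_eq_card_fixed_pow_aux (E := GaloisField ℓ d) σ τ φ hne hcompat hCA hfree

/-- **Theorem C, core**: in the situation of Theorem A, if moreover `|V| ≤ ℓ ^ |R|`, then any two
endomorphisms commuting with `A` commute. -/
theorem commute_of_card_le
    (hcompat : ∀ r a, τ r * σ a = σ (φ r a) * τ r)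
    (hℓ : ¬ ℓ ∣ Nat.card A)
    (hCA : ∀ v : V, (∀ a, σ a v = v) → v = 0)
    (hfree : ∀ r : R, r ≠ 1 → ∀ a : A, ∃ b : A, a = b⁻¹ * φ r b)
    (hV : Nat.card V ≤ ℓ ^ Nat.card R)
    (x y : Module.End (ZMod ℓ) V) (hx : ∀ a, Commute x (σ a)) (hy : ∀ a, Commute y (σ a)) :
    x * y = y * x := by
  obtain ⟨d, hd, hdvd, hne⟩ := exists_field (ℓ := ℓ) (A := A) hℓ
  haveI : Fintype A := Fintype.ofFinite A
  haveI : Fintype R := Fintype.ofFinite R
  haveI := hasEnough_of_dvd (GaloisField ℓ d) _ hdvd
  rw [Nat.card_eq_fintype_card (α := R)] at hV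
  rw [Nat.card_eq_fintype_card] at hne
  refine commute_of_card_le_aux (E := GaloisField ℓ d) σ τ φ hne hcompat hCA hfree ?_ x y hx hy
  rw [Nat.card_zmod]
  exact hV

end Final

end FrobModule

end Cfsg.Agent.Lib.Helper10
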