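import Mathlib
import Cfsg.Agent.Lib.Helper10.FrobModule

set_option autoImplicit false

namespace Cfsg.Agent.Lib.Helper10

open scoped Classical

namespace FrobAction

universe u v

/-! ### actions by automorphisms: fixed points, restriction, quotient -/

section Basic

variable {L : Type v} [Group L] {M : Type u} [Group M] (ψ : L →* MulAut M)

/-- the fixed points of a subgroup. -/
def fixedSub (H : Subgroup L) : Subgroup M where
  carrier := {m | ∀ h ∈ H, ψ h m = m}
  mul_mem' := by
    intro a b ha hb h hh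
    rw [map_mul, ha h hh, hb h hh]
  one_mem' := by
    intro h _
    rw [map_one]
  inv_mem' := by
    intro a ha h hh
    rw [map_inv, ha h hh]

theorem mem_fixedSub {H : Subgroup L} {m : M} : m ∈ fixedSub ψ H ↔ ∀ h ∈ H, ψ h m = m :=
  Iff.rfl

/-- invariant subgroups. -/
def Invariant (N : Subgroup M) : Prop := ∀ (g : L) (n : M), n ∈ N → ψ g n ∈ N

theorem psi_inv_apply (g : L) (m : M) : ψ g⁻¹ (ψ g m) = m := by
  rw [← MulAut.mul_apply, ← map_mul, inv_mul_cancel, map_one, MulAut.one_apply]

theorem psi_apply_inv (g : L) (m : M) : ψ g (ψ g⁻¹ m) = m := by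
  rw [← MulAut.mul_apply, ← map_mul, mul_inv_cancel, map_one, MulAut.one_apply]

/-- the restricted automorphism. -/
def resAut (N : Subgroup M) (hN : Invariant ψ N) (g : L) : N ≃* N where
  toFun n := ⟨ψ g n, hN g n n.2⟩
  invFun n := ⟨ψ g⁻¹ n, hN g⁻¹ n n.2⟩
  left_inv n := Subtype.ext (psi_inv_apply ψ g n)
  right_inv n := Subtype.ext (psi_apply_inv ψ g n)
  map_mul' a b := Subtype.ext (map_mul (ψ g) (a : M) (b : M))

/-- the restricted action. -/
def resHom (N : Subgroup M) (hN : Invariant ψ N) : L →* MulAut N where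
  toFun := resAut ψ N hN
  map_one' := by
    ext n
    show ψ 1 (n : M) = n
    rw [map_one, MulAut.one_apply]
  map_mul' g h := by
    ext n
    show ψ (g * h) (n : M) = ψ g (ψ h n)
    rw [map_mul, MulAut.mul_apply]

theorem resHom_apply (N : Subgroup M) (hN : Invariant ψ N) (g : L) (n : N) :
    ((resHom ψ N hN g n : N) : M) = ψ g n := rfl

theorem map_eq_of_invariant (N : Subgroup M) (hN : Invariant ψ N) (g : L) :
    N.map ((ψ g : M ≃* M) : M →* M) = N := by
  apply le_antisymm
  · rw [Subgroup.map_le_iff_le_comap]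
    intro n hn
    exact hN g n hn
  · intro n hn
    exact ⟨ψ g⁻¹ n, hN g⁻¹ n hn, psi_apply_inv ψ g n⟩

/-- the quotient action. -/
def quoHom (N : Subgroup M) [N.Normal] (hN : Invariant ψ N) : L →* MulAut (M ⧸ N) where
  toFun g := QuotientGroup.congr N N (ψ g) (map_eq_of_invariant ψ N hN g)
  map_one' := by
    ext q
    obtain ⟨m, rfl⟩ := QuotientGroup.mk_surjective q
    show ((ψ 1 m : M) : M ⧸ N) = m
    rw [map_one, MulAut.one_apply]
  map_mul' g h := by
    ext q
    obtain ⟨m, rfl⟩ := QuotientGroup.mk_surjective q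
    show ((ψ (g * h) m : M) : M ⧸ N) = ((ψ g (ψ h m) : M) : M ⧸ N)
    rw [map_mul, MulAut.mul_apply]

theorem quoHom_mk (N : Subgroup M) [N.Normal] (hN : Invariant ψ N) (g : L) (m : M) :
    quoHom ψ N hN g (m : M ⧸ N) = ((ψ g m : M) : M ⧸ N) := rfl

theorem invariant_fixedSub (H : Subgroup L) [H.Normal] : Invariant ψ (fixedSub ψ H) := by
  intro g m hm h hh
  have h1 : ψ h (ψ g m) = ψ g (ψ (g⁻¹ * h * g) m) := by
    rw [← MulAut.mul_apply, ← MulAut.mul_apply, ← map_mul, ← map_mul]
    congr 2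
    group
  have h2 : g⁻¹ * h * g ∈ H := by
    have := ‹H.Normal›.conj_mem h hh g⁻¹
    rwa [inv_inv] at this
  rw [h1, hm _ h2]

theorem invariant_center : Invariant ψ (Subgroup.center M) := by
  intro g n hn
  rw [Subgroup.mem_center_iff] at hn ⊢
  intro y
  have h1 := hn (ψ g⁻¹ y)
  have h2 := congrArg (ψ g) h1
  rw [map_mul, map_mul, psi_apply_inv] at h2
  exact h2

end Basic

/-! ### vanishing of the first cohomology, coprime abelian case -/

section Cohomology

theorem exists_fixed_of_cocycle {H : Type*} [Group H] [Fintype H] {N : Type*} [CommGroup N]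
    (θ : H →* MulAut N) (c : H → N) (hc : ∀ h k, c (h * k) = c h * θ h (c k))
    (m : ℕ) (hm : ∀ n : N, n ^ (Fintype.card H * m) = n) :
    ∃ u : N, ∀ h, c h * θ h u = u := by
  refine ⟨(∏ k, c k) ^ m, ?_⟩
  intro h
  have h1 : ∏ k, c k = c h ^ Fintype.card H * θ h (∏ k, c k) := by
    calc ∏ k, c k = ∏ k, c (h * k) := by
          symm
          exact Equiv.prod_comp (Equiv.mulLeft h) c
      _ = ∏ k, c h * θ h (c k) := Finset.prod_congr rfl (fun k _ => hc h k)
      _ = c h ^ Fintype.card H * θ h (∏ k, c k) := by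
          rw [Finset.prod_mul_distrib, Finset.prod_const, map_prod]
          rfl
  have h2 : θ h (∏ k, c k) = (c h ^ Fintype.card H)⁻¹ * ∏ k, c k := by
    rw [eq_inv_mul_iff_mul_eq]
    exact h1.symm
  rw [map_pow, h2, mul_pow, inv_pow, ← pow_mul, hm, mul_inv_cancel_left]

end Cohomology

section Lifting

variable {L : Type v} [Group L] [Finite L] {M : Type u} [Group M] [Finite M]
  (ψ : L →* MulAut M)

/-- fixed points in invariant cosets of an abelian invariant subgroup, coprime case. -/
theorem exists_fixed_in_coset (H : Subgroup L) (N : Subgroup M)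
    (hNab : ∀ x ∈ N, ∀ y ∈ N, x * y = y * x) (hNinv : Invariant ψ N)
    (hcop : (Nat.card H).Coprime (Nat.card N)) (x : M) (hx : ∀ h ∈ H, x⁻¹ * ψ h x ∈ N) :
    ∃ u ∈ N, ∀ h ∈ H, ψ h (x * u) = x * u := by
  let iC : CommGroup N :=
    { (inferInstance : Group N) with
      mul_comm := fun a b => Subtype.ext (hNab a a.2 b b.2) }
  haveI : Fintype H := Fintype.ofFinite H
  let θ : H →* MulAut N := (resHom ψ N hNinv).comp H.subtype
  let c : H → N := fun h => ⟨x⁻¹ * ψ h x, hx h h.2⟩
  have hc : ∀ h k : H, c (h * k) = c h * θ h (c k) := by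
    intro h k
    apply Subtype.ext
    show x⁻¹ * ψ ((h : L) * (k : L)) x = (x⁻¹ * ψ h x) * ψ h (x⁻¹ * ψ k x)
    rw [map_mul, MulAut.mul_apply, map_mul, map_inv]
    group
  -- the exponent
  obtain ⟨m, hm⟩ : ∃ m : ℕ, ∀ n : N, n ^ (Fintype.card H * m) = n := by
    by_cases h1 : Nat.card N = 1
    · refine ⟨0, ?_⟩
      intro n
      have : Subsingleton N := (Nat.card_eq_one_iff_unique.mp h1).1
      exact Subsingleton.elim _ _
    · have h2 : 1 < Nat.card N := by
        have : 0 < Nat.card N := Nat.card_pos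
        omega
      rw [Nat.card_eq_fintype_card] at hcop
      obtain ⟨m, -, hm⟩ := Nat.exists_mul_mod_eq_one_of_coprime hcop h2
      refine ⟨m, ?_⟩
      intro n
      rw [← pow_mod_natCard, hm, pow_one]
  obtain ⟨u, hu⟩ := @exists_fixed_of_cocycle H _ _ N iC θ c hc m hm
  refine ⟨u, u.2, ?_⟩
  intro h hh
  have h3 := congrArg Subtype.val (hu ⟨h, hh⟩)
  have h4 : (x⁻¹ * ψ h x) * ψ h (u : M) = u := h3
  rw [map_mul]
  calc ψ h x * ψ h (u : M) = x * ((x⁻¹ * ψ h x) * ψ h (u : M)) := by group
    _ = x * u := by rw [h4]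

variable (N : Subgroup M) [N.Normal] (hNab : ∀ x ∈ N, ∀ y ∈ N, x * y = y * x)
  (hNinv : Invariant ψ N)

/-- the natural map on fixed points. -/
def fixedMap (H : Subgroup L) : fixedSub ψ H →* fixedSub (quoHom ψ N hNinv) H where
  toFun m := ⟨((m : M) : M ⧸ N), by
    intro h hh
    rw [quoHom_mk, m.2 h hh]⟩
  map_one' := rfl
  map_mul' a b := rfl

include hNab in
theorem fixedMap_surjective (H : Subgroup L) (hcop : (Nat.card H).Coprime (Nat.card N)) :
    Function.Surjective (fixedMap ψ N hNinv H) := by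
  intro q
  obtain ⟨x, hx⟩ := QuotientGroup.mk_surjective (q : M ⧸ N)
  have h1 : ∀ h ∈ H, x⁻¹ * ψ h x ∈ N := by
    intro h hh
    have h2 := q.2 h hh
    rw [← hx, quoHom_mk] at h2
    rw [← QuotientGroup.eq]
    exact h2.symm
  obtain ⟨u, hu, hfix⟩ := exists_fixed_in_coset ψ H N hNab hNinv hcop x h1
  refine ⟨⟨x * u, hfix⟩, ?_⟩
  apply Subtype.ext
  show ((x * u : M) : M ⧸ N) = q
  rw [← hx, QuotientGroup.mk_mul, (QuotientGroup.eq_one_iff u).mpr hu, mul_one]

theorem card_ker_fixedMap (H : Subgroup L) :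
    Nat.card (fixedMap ψ N hNinv H).ker = Nat.card (fixedSub (resHom ψ N hNinv) H) := by
  apply Nat.card_congr
  refine
    { toFun := fun m => ⟨⟨(m : M), ?_⟩, ?_⟩
      invFun := fun n => ⟨⟨((n : N) : M), ?_⟩, ?_⟩
      left_inv := fun m => rfl
      right_inv := fun n => rfl }
  · have h1 := m.2
    rw [MonoidHom.mem_ker] at h1
    have h2 : (((m : fixedSub ψ H) : M) : M ⧸ N) = 1 := congrArg Subtype.val h1
    exact (QuotientGroup.eq_one_iff _).mp h2
  · intro h hh
    apply Subtype.ext
    exact (m : fixedSub ψ H).2 h hh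
  · intro h hh
    have h1 := congrArg Subtype.val (n.2 h hh)
    exact h1
  · rw [MonoidHom.mem_ker]
    apply Subtype.ext
    show ((((n : N) : M)) : M ⧸ N) = 1
    exact (QuotientGroup.eq_one_iff _).mpr (n : N).2

include hNab in
theorem card_fixedSub_eq (H : Subgroup L) (hcop : (Nat.card H).Coprime (Nat.card N)) :
    Nat.card (fixedSub ψ H) = Nat.card (fixedSub (resHom ψ N hNinv) H)
      * Nat.card (fixedSub (quoHom ψ N hNinv) H) := by
  have h1 := Subgroup.card_mul_index (fixedMap ψ N hNinv H).ker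
  rw [Subgroup.index_ker, card_ker_fixedMap,
    MonoidHom.range_eq_top.mpr (fixedMap_surjective ψ N hNab hNinv H hcop),
    Nat.card_congr (Subgroup.topEquiv).toEquiv] at h1
  exact h1.symm

include hNab in
theorem fixedSub_quo_trivial (H : Subgroup L) (hcop : (Nat.card H).Coprime (Nat.card N))
    (hfix : ∀ m : M, (∀ h ∈ H, ψ h m = m) → m = 1) :
    ∀ q : M ⧸ N, (∀ h ∈ H, quoHom ψ N hNinv h q = q) → q = 1 := by
  intro q hq
  obtain ⟨m, hm⟩ := fixedMap_surjective ψ N hNab hNinv H hcop ⟨q, hq⟩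
  have h1 : (m : M) = 1 := hfix m m.2
  have h2 : (((m : M)) : M ⧸ N) = q := congrArg Subtype.val hm
  rw [← h2, h1]
  rfl

include hNab in
theorem isCyclic_fixedSub_quo (H : Subgroup L) (hcop : (Nat.card H).Coprime (Nat.card N))
    (hcyc : IsCyclic (fixedSub ψ H)) : IsCyclic (fixedSub (quoHom ψ N hNinv) H) :=
  isCyclic_of_surjective _ (fixedMap_surjective ψ N hNab hNinv H hcop)

theorem isCyclic_fixedSub_res (H : Subgroup L) (N : Subgroup M) (hNinv : Invariant ψ N)
    (hcyc : IsCyclic (fixedSub ψ H)) : IsCyclic (fixedSub (resHom ψ N hNinv) H) := by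
  let f : fixedSub (resHom ψ N hNinv) H →* fixedSub ψ H :=
    { toFun := fun n => ⟨((n : N) : M), fun h hh => congrArg Subtype.val (n.2 h hh)⟩
      map_one' := rfl
      map_mul' := fun a b => rfl }
  have hf : Function.Injective f := by
    intro a b hab
    apply Subtype.ext
    apply Subtype.ext
    exact congrArg (fun z : fixedSub ψ H => (z : M)) hab
  exact isCyclic_of_injective f hf

/-- an element acting trivially on an invariant subgroup and on the quotient acts trivially,
in the coprime case. -/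
theorem eq_one_of_stabilizes (N : Subgroup M) (g : L)
    (hcop : (Nat.card L).Coprime (Nat.card N))
    (h1 : ∀ n ∈ N, ψ g n = n) (h2 : ∀ m : M, m⁻¹ * ψ g m ∈ N) : ψ g = 1 := by
  ext m
  rw [MulAut.one_apply]
  obtain ⟨n, hn⟩ : ∃ n : M, n = m⁻¹ * ψ g m := ⟨_, rfl⟩
  have hnN : n ∈ N := hn ▸ h2 m
  have hgm : ψ g m = m * n := by rw [hn]; group
  have h3 : ∀ k : ℕ, ψ (g ^ k) m = m * n ^ k := by
    intro k
    induction k with
    | zero => rw [pow_zero, map_one, MulAut.one_apply, pow_zero, mul_one]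
    | succ k ih =>
      rw [pow_succ', map_mul, MulAut.mul_apply, ih, map_mul, map_pow, h1 n hnN, pow_succ' n,
        hgm, mul_assoc]
  have h4 := h3 (orderOf g)
  rw [pow_orderOf_eq_one, map_one, MulAut.one_apply] at h4
  have h5 : n ^ orderOf g = 1 := by
    have := h4.symm
    rwa [mul_eq_left] at this
  have h6 : orderOf n ∣ orderOf g := orderOf_dvd_of_pow_eq_one h5
  have h7 : orderOf n ∣ Nat.card N := by
    have := orderOf_dvd_natCard (⟨n, hnN⟩ : N)
    rwa [Subgroup.orderOf_mk] at this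
  have h8 : orderOf n ∣ Nat.card L := dvd_trans h6 (orderOf_dvd_natCard g)
  have h9 : orderOf n = 1 := Nat.eq_one_of_dvd_coprimes hcop h8 h7
  rw [orderOf_eq_one_iff] at h9
  rw [hgm, h9, mul_one]

end Lifting

/-! ### abelian sections acting on elementary abelian groups -/

section AbelianSection

variable {ℓ : ℕ} [Fact ℓ.Prime] {L : Type v} [Group L] [Finite L] {Q : Type u} [CommGroup Q]
  [Finite Q] [Module (ZMod ℓ) (Additive Q)] (ψ : L →* MulAut Q)

/-- the action as linear endomorphisms. -/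
def actEnd : L →* Module.End (ZMod ℓ) (Additive Q) where
  toFun g := (MulEquiv.toAdditive (ψ g)).toAddMonoidHom.toZModLinearMap ℓ
  map_one' := by
    ext v
    show Additive.ofMul (ψ 1 (Additive.toMul v)) = v
    rw [map_one]
    rfl
  map_mul' g h := by
    ext v
    show Additive.ofMul (ψ (g * h) (Additive.toMul v))
      = Additive.ofMul (ψ g (ψ h (Additive.toMul v)))
    rw [map_mul]
    rfl

theorem actEnd_apply (g : L) (v : Additive Q) :
    actEnd (ℓ := ℓ) ψ g v = Additive.ofMul (ψ g (Additive.toMul v)) := rfl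

/-- the action on the abelianization of a normal subgroup. -/
def abAut (A : Subgroup L) [A.Normal] : L →* MulAut (Abelianization A) where
  toFun g := (MulAut.conjNormal g : MulAut A).abelianizationCongr
  map_one' := by
    ext x
    obtain ⟨a, rfl⟩ := QuotientGroup.mk_surjective x
    show (MulAut.conjNormal (1 : L) : MulAut A).abelianizationCongr (Abelianization.of a)
      = Abelianization.of a
    rw [abelianizationCongr_of, map_one, MulAut.one_apply]
  map_mul' g h := by
    ext x
    obtain ⟨a, rfl⟩ := QuotientGroup.mk_surjective x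
    show (MulAut.conjNormal (g * h) : MulAut A).abelianizationCongr (Abelianization.of a)
      = (MulAut.conjNormal g : MulAut A).abelianizationCongr
        ((MulAut.conjNormal h : MulAut A).abelianizationCongr (Abelianization.of a))
    rw [abelianizationCongr_of, abelianizationCongr_of, abelianizationCongr_of, map_mul,
      MulAut.mul_apply]

theorem abAut_of (A : Subgroup L) [A.Normal] (g : L) (a : A) :
    abAut A g (Abelianization.of a) = Abelianization.of (MulAut.conjNormal g a) := by
  show (MulAut.conjNormal g : MulAut A).abelianizationCongr (Abelianization.of a) = _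
  rw [abelianizationCongr_of]

theorem abelian_section_data (A R : Subgroup L) [A.Normal] (hAA : ⁅A, A⁆ ≤ ψ.ker)
    (hℓA : ¬ ℓ ∣ Nat.card A)
    (hCA : ∀ m : Q, (∀ a ∈ A, ψ a m = m) → m = 1)
    (hfpf : ∀ r ∈ R, r ≠ 1 → ∀ a ∈ A, r * a = a * r → a = 1) :
    ∃ (σ : Abelianization A →* Module.End (ZMod ℓ) (Additive Q))
      (τ : R →* Module.End (ZMod ℓ) (Additive Q)) (φ : R →* MulAut (Abelianization A)),
      (∀ a : A, σ (Abelianization.of a) = actEnd ψ (a : L)) ∧
      (∀ r : R, τ r = actEnd ψ (r : L)) ∧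
      (∀ r a, τ r * σ a = σ (φ r a) * τ r) ∧
      (¬ ℓ ∣ Nat.card (Abelianization A)) ∧
      (∀ v : Additive Q, (∀ a, σ a v = v) → v = 0) ∧
      (∀ r : R, r ≠ 1 → ∀ a : Abelianization A, ∃ b : Abelianization A, a = b⁻¹ * φ r b) := by
  have hker : commutator A ≤ ((actEnd (ℓ := ℓ) ψ).comp A.subtype).ker := by
    intro x hx
    rw [MonoidHom.mem_ker, MonoidHom.comp_apply]
    have h1 : (x : L) ∈ ⁅A, A⁆ := by
      rw [← Subgroup.map_subtype_commutator]
      exact ⟨x, hx, rfl⟩
    have h2 : ψ (x : L) = 1 := MonoidHom.mem_ker.mp (hAA h1)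
    ext v
    show Additive.ofMul (ψ (x : L) (Additive.toMul v)) = v
    rw [h2]
    rfl
  let σ : Abelianization A →* Module.End (ZMod ℓ) (Additive Q) :=
    QuotientGroup.lift (commutator A) ((actEnd (ℓ := ℓ) ψ).comp A.subtype) hker
  have hσ : ∀ a : A, σ (Abelianization.of a) = actEnd ψ (a : L) := fun a => rfl
  let τ : R →* Module.End (ZMod ℓ) (Additive Q) := (actEnd (ℓ := ℓ) ψ).comp R.subtype
  have hτ : ∀ r : R, τ r = actEnd ψ (r : L) := fun r => rfl
  let φ : R →* MulAut (Abelianization A) := (abAut A).comp R.subtype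
  have hφ : ∀ (r : R) (a : A),
      φ r (Abelianization.of a) = Abelianization.of (MulAut.conjNormal (r : L) a) :=
    fun r a => abAut_of A (r : L) a
  have hsurj : ∀ x : Abelianization A, ∃ a : A, Abelianization.of a = x :=
    fun x => QuotientGroup.mk_surjective x
  refine ⟨σ, τ, φ, hσ, hτ, ?_, ?_, ?_, ?_⟩
  · intro r a
    obtain ⟨a, rfl⟩ := hsurj a
    rw [hφ, hσ, hσ, hτ]
    ext v
    show Additive.ofMul (ψ (r : L) (ψ (a : L) (Additive.toMul v)))
      = Additive.ofMul (ψ ((MulAut.conjNormal (r : L) a : A) : L)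
        (ψ (r : L) (Additive.toMul v)))
    congr 1
    rw [MulAut.conjNormal_apply, map_mul, map_mul, MulAut.mul_apply, MulAut.mul_apply,
      psi_inv_apply]
  · intro h
    apply hℓA
    exact dvd_trans h (Subgroup.card_quotient_dvd_card (commutator A))
  · intro v hv
    have h1 : Additive.toMul v = 1 := by
      apply hCA
      intro a ha
      have h2 := hv (Abelianization.of ⟨a, ha⟩)
      rw [hσ, actEnd_apply] at h2
      exact congrArg Additive.toMul h2
    exact congrArg Additive.ofMul h1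
  · intro r hr a
    obtain ⟨a, rfl⟩ := hsurj a
    have hr' : (r : L) ≠ 1 := fun h => hr (Subtype.ext h)
    -- the map `b ↦ b⁻¹ * r b r⁻¹` is injective on `A`
    let f : A → A := fun b => b⁻¹ * MulAut.conjNormal (r : L) b
    have hf : Function.Injective f := by
      intro b c hbc
      have h1 : ((b : L))⁻¹ * ((r : L) * b * (r : L)⁻¹) = ((c : L))⁻¹ * ((r : L) * c * (r : L)⁻¹) := by
        have h2 := congrArg (fun z : A => (z : L)) hbc
        simp only [f, Subgroup.coe_mul, Subgroup.coe_inv, MulAut.conjNormal_apply] at h2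
        exact h2
      have h3 : (r : L) * ((c : L) * (b : L)⁻¹) = ((c : L) * (b : L)⁻¹) * (r : L) := by
        have h4 : (c : L) * (b : L)⁻¹ = (r : L) * (c * (b : L)⁻¹) * (r : L)⁻¹ := by
          calc (c : L) * (b : L)⁻¹
              = (c : L) * (((b : L))⁻¹ * ((r : L) * b * (r : L)⁻¹)) * ((r : L) * (b : L)⁻¹ * (r : L)⁻¹) := by
                group
            _ = (c : L) * (((c : L))⁻¹ * ((r : L) * c * (r : L)⁻¹)) * ((r : L) * (b : L)⁻¹ * (r : L)⁻¹) := by
                rw [h1]
            _ = (r : L) * (c * (b : L)⁻¹) * (r : L)⁻¹ := by group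
        calc (r : L) * ((c : L) * (b : L)⁻¹) = ((r : L) * (c * (b : L)⁻¹) * (r : L)⁻¹) * r := by
              group
          _ = ((c : L) * (b : L)⁻¹) * (r : L) := by rw [← h4]
      have h5 := hfpf r r.2 hr' _ (A.mul_mem c.2 (A.inv_mem b.2)) h3
      apply Subtype.ext
      rw [mul_inv_eq_one] at h5
      exact h5.symm
    obtain ⟨b, hb⟩ := (Finite.injective_iff_surjective.mp hf) a
    refine ⟨Abelianization.of b, ?_⟩
    rw [hφ, ← map_inv, ← map_mul]
    exact congrArg _ hb.symm

/-- fixed points in the module and in the group. -/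
theorem card_fixed_module (R : Subgroup L) (τ : R →* Module.End (ZMod ℓ) (Additive Q))
    (hτ : ∀ r : R, τ r = actEnd ψ (r : L)) :
    Nat.card {v : Additive Q // ∀ r, τ r v = v} = Nat.card (fixedSub ψ R) := by
  apply Nat.card_congr
  refine
    { toFun := fun v => ⟨Additive.toMul v.1, ?_⟩
      invFun := fun m => ⟨Additive.ofMul (m : Q), ?_⟩
      left_inv := fun v => rfl
      right_inv := fun m => rfl }
  · intro h hh
    have h1 := v.2 ⟨h, hh⟩
    rw [hτ, actEnd_apply] at h1
    exact congrArg Additive.toMul h1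
  · intro r
    rw [hτ, actEnd_apply]
    exact congrArg Additive.ofMul (m.2 r r.2)

theorem card_eq_of_abelian_section (A R : Subgroup L) [A.Normal] (hAA : ⁅A, A⁆ ≤ ψ.ker)
    (hℓA : ¬ ℓ ∣ Nat.card A)
    (hCA : ∀ m : Q, (∀ a ∈ A, ψ a m = m) → m = 1)
    (hfpf : ∀ r ∈ R, r ≠ 1 → ∀ a ∈ A, r * a = a * r → a = 1) :
    Nat.card Q = Nat.card (fixedSub ψ R) ^ Nat.card R := by
  obtain ⟨σ, τ, φ, hσ, hτ, hcompat, hℓ, hC, hfree⟩ :=
    abelian_section_data (ℓ := ℓ) ψ A R hAA hℓA hCA hfpf
  haveI : Finite (Additive Q) := Finite.of_equiv Q Additive.ofMul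
  have key := FrobModule.card_eq_card_fixed_pow σ τ φ hcompat hℓ hC hfree
  rw [card_fixed_module ψ R τ hτ] at key
  rw [← key]
  exact Nat.card_congr Additive.ofMul

theorem commute_of_abelian_section (A R : Subgroup L) [A.Normal] (hAA : ⁅A, A⁆ ≤ ψ.ker)
    (hℓA : ¬ ℓ ∣ Nat.card A)
    (hCA : ∀ m : Q, (∀ a ∈ A, ψ a m = m) → m = 1)
    (hfpf : ∀ r ∈ R, r ≠ 1 → ∀ a ∈ A, r * a = a * r → a = 1)
    (hcard : Nat.card Q ≤ ℓ ^ Nat.card R) (x y : L)
    (hx : ∀ a ∈ A, ψ x * ψ a = ψ a * ψ x) (hy : ∀ a ∈ A, ψ y * ψ a = ψ a * ψ y) :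
    ψ x * ψ y = ψ y * ψ x := by
  obtain ⟨σ, τ, φ, hσ, hτ, hcompat, hℓ, hC, hfree⟩ :=
    abelian_section_data (ℓ := ℓ) ψ A R hAA hℓA hCA hfpf
  haveI : Finite (Additive Q) := Finite.of_equiv Q Additive.ofMul
  have hcard' : Nat.card (Additive Q) ≤ ℓ ^ Nat.card R := by
    rw [Nat.card_congr (Additive.ofMul (α := Q)).symm]
    exact hcard
  have hsurj : ∀ z : Abelianization A, ∃ a : A, Abelianization.of a = z :=
    fun z => QuotientGroup.mk_surjective z
  have hcomm : ∀ g : L, (∀ a ∈ A, ψ g * ψ a = ψ a * ψ g) →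
      ∀ a, Commute (actEnd (ℓ := ℓ) ψ g) (σ a) := by
    intro g hg a
    obtain ⟨a, rfl⟩ := hsurj a
    rw [hσ]
    show _ * _ = _ * _
    rw [← map_mul, ← map_mul]
    ext v
    rw [actEnd_apply, actEnd_apply, map_mul, map_mul, hg a a.2]
  have key := FrobModule.commute_of_card_le σ τ φ hcompat hℓ hC hfree hcard'
    (actEnd ψ x) (actEnd ψ y) (hcomm x hx) (hcomm y hy)
  ext m
  have h1 := LinearMap.congr_fun key (Additive.ofMul m)
  rw [Module.End.mul_apply, Module.End.mul_apply, actEnd_apply, actEnd_apply, actEnd_apply,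
    actEnd_apply] at h1
  exact congrArg Additive.toMul h1

end AbelianSection

/-! ### irreducible actions -/

section Irreducible

variable {L : Type v} [Group L] {M : Type u} [Group M] (ψ : L →* MulAut M)

/-- no proper nontrivial invariant abelian normal subgroups. -/
def Irred : Prop :=
  ∀ N : Subgroup M, N.Normal → Invariant ψ N → (∀ x ∈ N, ∀ y ∈ N, x * y = y * x) →
    N = ⊥ ∨ N = ⊤

theorem comm_of_irred (hnil : Group.IsNilpotent M) (hirr : Irred ψ) :
    ∀ x y : M, x * y = y * x := by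
  by_cases hM : Nontrivial M
  · have h1 := hirr (Subgroup.center M) inferInstance (invariant_center ψ)
      (fun x hx y _ => (Subgroup.mem_center_iff.mp hx y).symm)
    rcases h1 with h1 | h1
    · exact absurd h1 (Group.IsNilpotent.center_ne_bot M)
    · intro x y
      have h2 : x ∈ Subgroup.center M := h1 ▸ Subgroup.mem_top x
      exact (Subgroup.mem_center_iff.mp h2 y).symm
  · rw [not_nontrivial_iff_subsingleton] at hM
    intro x y
    exact Subsingleton.elim _ _

theorem exp_of_irred [Finite M] (hcomm : ∀ x y : M, x * y = y * x) (hirr : Irred ψ)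
    (hM : Nontrivial M) : ∃ ℓ : ℕ, ℓ.Prime ∧ ℓ ∣ Nat.card M ∧ ∀ x : M, x ^ ℓ = 1 := by
  have hcard : Nat.card M ≠ 1 := by
    intro h
    have := (Nat.card_eq_one_iff_unique.mp h).1
    exact not_subsingleton M this
  obtain ⟨ℓ, hℓ, hdvd⟩ := Nat.exists_prime_and_dvd hcard
  refine ⟨ℓ, hℓ, hdvd, ?_⟩
  let N : Subgroup M :=
    { carrier := {x | x ^ ℓ = 1}
      mul_mem' := by
        intro a b ha hb
        show (a * b) ^ ℓ = 1
        rw [(show Commute a b from hcomm a b).mul_pow, ha, hb, one_mul]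
      one_mem' := one_pow ℓ
      inv_mem' := by
        intro a ha
        show (a⁻¹) ^ ℓ = 1
        rw [inv_pow, ha, inv_one] }
  have hNn : N.Normal := by
    constructor
    intro n hn g
    rw [hcomm g n, mul_inv_cancel_right]
    exact hn
  have hNinv : Invariant ψ N := by
    intro g n hn
    show (ψ g n) ^ ℓ = 1
    rw [← map_pow, hn, map_one]
  have hN1 : N ≠ ⊥ := by
    haveI : Fact ℓ.Prime := ⟨hℓ⟩
    obtain ⟨x, hx⟩ := exists_prime_orderOf_dvd_card' ℓ hdvd
    intro h
    have h1 : x ∈ N := by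
      show x ^ ℓ = 1
      rw [← hx, pow_orderOf_eq_one]
    rw [h, Subgroup.mem_bot] at h1
    rw [h1, orderOf_one] at hx
    exact hℓ.one_lt.ne hx
  rcases hirr N hNn hNinv (fun x _ y _ => hcomm x y) with h | h
  · exact absurd h hN1
  · intro x
    have h1 : x ∈ N := h ▸ Subgroup.mem_top x
    exact h1

/-- the induction principle for nilpotent groups with operators. -/
theorem nilpotent_induction
    (P : ∀ (M : Type u) [Group M] [Finite M], (L →* MulAut M) → Prop)
    (hirr : ∀ (M : Type u) [Group M] [Finite M] (ψ : L →* MulAut M),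
      Group.IsNilpotent M → Irred ψ → P M ψ)
    (hstep : ∀ (M : Type u) [Group M] [Finite M] (ψ : L →* MulAut M) (N : Subgroup M)
      [N.Normal] (hN : Invariant ψ N), (∀ x ∈ N, ∀ y ∈ N, x * y = y * x) → N ≠ ⊥ → N ≠ ⊤ →
      Group.IsNilpotent M → P N (resHom ψ N hN) → P (M ⧸ N) (quoHom ψ N hN) → P M ψ) :
    ∀ (M : Type u) [Group M] [Finite M] (ψ : L →* MulAut M), Group.IsNilpotent M → P M ψ := by
  intro M _ _ ψ hnil
  suffices h : ∀ n : ℕ, ∀ (M : Type u) [Group M] [Finite M] (ψ : L →* MulAut M),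
      Nat.card M = n → Group.IsNilpotent M → P M ψ from h _ M ψ rfl hnil
  intro n
  induction n using Nat.strong_induction_on with
  | _ n ih =>
    intro M _ _ ψ hn hnil
    by_cases hI : Irred ψ
    · exact hirr M ψ hnil hI
    · unfold Irred at hI
      push Not at hI
      obtain ⟨N, hNn, hNinv, hNab, hN1, hN2⟩ := hI
      haveI := hNn
      have hlt1 : Nat.card N < n := by
        rw [← hn]
        apply lt_of_le_of_ne (Subgroup.card_le_card_group N)
        intro h
        exact hN2 ((Subgroup.card_eq_iff_eq_top N).mp h)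
      have hlt2 : Nat.card (M ⧸ N) < n := by
        rw [← hn, Subgroup.card_eq_card_quotient_mul_card_subgroup N]
        have h1 : 1 < Nat.card N := (Subgroup.one_lt_card_iff_ne_bot N).mpr hN1
        have h2 : 0 < Nat.card (M ⧸ N) := Nat.card_pos
        nlinarith
      exact hstep M ψ N hNinv hNab hN1 hN2 hnil
        (ih _ hlt1 N (resHom ψ N hNinv) rfl inferInstance)
        (ih _ hlt2 (M ⧸ N) (quoHom ψ N hNinv) rfl inferInstance)

end Irreducible

/-! versions of the abelian section theorems without instance arguments. -/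
section Wrappers

variable {L : Type v} [Group L] [Finite L] {M : Type u} [Group M] [Finite M]
  (ψ : L →* MulAut M)

theorem card_eq_of_abelian_section' {ℓ : ℕ} (hℓ : ℓ.Prime) (hcomm : ∀ x y : M, x * y = y * x)
    (hexp : ∀ x : M, x ^ ℓ = 1) (A R : Subgroup L) [A.Normal] (hAA : ⁅A, A⁆ ≤ ψ.ker)
    (hℓA : ¬ ℓ ∣ Nat.card A)
    (hCA : ∀ m : M, (∀ a ∈ A, ψ a m = m) → m = 1)
    (hfpf : ∀ r ∈ R, r ≠ 1 → ∀ a ∈ A, r * a = a * r → a = 1) :
    Nat.card M = Nat.card (fixedSub ψ R) ^ Nat.card R := by
  haveI : Fact ℓ.Prime := ⟨hℓ⟩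
  let iC : CommGroup M := { (inferInstance : Group M) with mul_comm := hcomm }
  let iM : @Module (ZMod ℓ) (Additive M) _
      (@AddCommGroup.toAddCommMonoid _ (@Additive.addCommGroup _ iC)) :=
    @AddCommGroup.zmodModule ℓ (Additive M) (@Additive.addCommGroup _ iC) (by
      intro x
      show Additive.ofMul ((Additive.toMul x) ^ ℓ) = 0
      rw [hexp]
      rfl)
  exact @card_eq_of_abelian_section ℓ _ L _ _ M iC _ iM ψ A R _ hAA hℓA hCA hfpf

theorem commute_of_abelian_section' {ℓ : ℕ} (hℓ : ℓ.Prime) (hcomm : ∀ x y : M, x * y = y * x)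
    (hexp : ∀ x : M, x ^ ℓ = 1) (A R : Subgroup L) [A.Normal] (hAA : ⁅A, A⁆ ≤ ψ.ker)
    (hℓA : ¬ ℓ ∣ Nat.card A)
    (hCA : ∀ m : M, (∀ a ∈ A, ψ a m = m) → m = 1)
    (hfpf : ∀ r ∈ R, r ≠ 1 → ∀ a ∈ A, r * a = a * r → a = 1)
    (hcard : Nat.card M ≤ ℓ ^ Nat.card R) (x y : L)
    (hx : ∀ a ∈ A, ψ x * ψ a = ψ a * ψ x) (hy : ∀ a ∈ A, ψ y * ψ a = ψ a * ψ y) :
    ψ x * ψ y = ψ y * ψ x := by
  haveI : Fact ℓ.Prime := ⟨hℓ⟩
  let iC : CommGroup M := { (inferInstance : Group M) with mul_comm := hcomm }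
  let iM : @Module (ZMod ℓ) (Additive M) _
      (@AddCommGroup.toAddCommMonoid _ (@Additive.addCommGroup _ iC)) :=
    @AddCommGroup.zmodModule ℓ (Additive M) (@Additive.addCommGroup _ iC) (by
      intro x
      show Additive.ofMul ((Additive.toMul x) ^ ℓ) = 0
      rw [hexp]
      rfl)
  exact @commute_of_abelian_section ℓ _ L _ _ M iC _ iM ψ A R _ hAA hℓA hCA hfpf hcard x y hx hy

end Wrappers

/-! ### the main theorems -/

section Main

open scoped commutatorElement

variable {L : Type v} [Group L] [Finite L]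

/-- a minimal normal subgroup acting nontrivially, in an irreducible action. -/
theorem exists_minimal_section (K : Subgroup L) [K.Normal] {M : Type u} [Group M] [Finite M]
    (ψ : L →* MulAut M) (hcomm : ∀ x y : M, x * y = y * x) (hirr : Irred ψ)
    (hK : ¬ K ≤ ψ.ker) :
    ∃ A : Subgroup L, A.Normal ∧ A ≤ K ∧ ¬ A ≤ ψ.ker ∧
      (∀ B : Subgroup L, B.Normal → B ≤ A → B ≠ A → B ≤ ψ.ker) ∧
      (∀ m : M, (∀ a ∈ A, ψ a m = m) → m = 1) := by
  let 𝒜 : Set (Subgroup L) := {A | A.Normal ∧ A ≤ K ∧ ¬ A ≤ ψ.ker}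
  obtain ⟨A, hA, hmin⟩ := Set.exists_min_image 𝒜 (fun A => Nat.card A) (Set.toFinite _)
    ⟨K, ‹K.Normal›, le_refl K, hK⟩
  refine ⟨A, hA.1, hA.2.1, hA.2.2, ?_, ?_⟩
  · intro B hBn hBA hne
    by_contra hB
    have h1 : Nat.card A ≤ Nat.card B := hmin B ⟨hBn, hBA.trans hA.2.1, hB⟩
    exact hne (Subgroup.eq_of_le_of_card_ge hBA h1)
  · haveI := hA.1
    have hinv := invariant_fixedSub ψ A
    have hn : (fixedSub ψ A).Normal := by
      constructor
      intro n hn g
      rw [hcomm g n, mul_inv_cancel_right]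
      exact hn
    rcases hirr (fixedSub ψ A) hn hinv (fun x _ y _ => hcomm x y) with h | h
    · intro m hm
      have h1 : m ∈ fixedSub ψ A := hm
      rw [h, Subgroup.mem_bot] at h1
      exact h1
    · exfalso
      apply hA.2.2
      intro a ha
      rw [MonoidHom.mem_ker]
      ext m
      have h1 : m ∈ fixedSub ψ A := h ▸ Subgroup.mem_top m
      exact h1 a ha

/-- **Theorem B**: if `K R` is a Frobenius-like group (`R` acting freely on the solvable normal
subgroup `K`) acting coprimely on a nilpotent group `M` with `C_M(K) = 1`, then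
`|M| = |C_M(R)| ^ |R|`. -/
theorem card_eq_card_fixedSub_pow (K R : Subgroup L) [K.Normal] (hKsolv : Group.IsSolvable K)
    (hfpf : ∀ r ∈ R, r ≠ 1 → ∀ k ∈ K, r * k = k * r → k = 1)
    (M : Type u) [Group M] [Finite M] (ψ : L →* MulAut M) (hnil : Group.IsNilpotent M)
    (hcop : (Nat.card L).Coprime (Nat.card M))
    (hCK : ∀ m : M, (∀ k ∈ K, ψ k m = m) → m = 1) :
    Nat.card M = Nat.card (fixedSub ψ R) ^ Nat.card R := by
  revert hcop hCK
  refine nilpotent_induction (L := L)
    (P := fun (M : Type u) [Group M] [Finite M] (ψ : L →* MulAut M) =>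
      (Nat.card L).Coprime (Nat.card M) → (∀ m : M, (∀ k ∈ K, ψ k m = m) → m = 1) →
        Nat.card M = Nat.card (fixedSub ψ R) ^ Nat.card R) ?_ ?_ M ψ hnil
  · -- irreducible case
    intro M _ _ ψ hnil hirr hcop hCK
    by_cases hM : Nontrivial M
    · have hcomm := comm_of_irred ψ hnil hirr
      obtain ⟨ℓ, hℓ, hdvd, hexp⟩ := exp_of_irred ψ hcomm hirr hM
      have hK : ¬ K ≤ ψ.ker := by
        intro h
        obtain ⟨x, hx⟩ := exists_ne (1 : M)
        apply hx
        apply hCK
        intro k hk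
        rw [MonoidHom.mem_ker.mp (h hk)]
        rfl
      obtain ⟨A, hAn, hAK, hAker, hAmin, hCA⟩ := exists_minimal_section K ψ hcomm hirr hK
      haveI := hAn
      have hA1 : A ≠ ⊥ := by
        rintro rfl
        exact hAker bot_le
      haveI := hKsolv
      haveI hAsolv : Group.IsSolvable A :=
        solvable_of_solvable_injective (Subgroup.inclusion_injective hAK)
      have hlt : ⁅A, A⁆ < A := by
        haveI : Nontrivial A := (Subgroup.nontrivial_iff_ne_bot A).mpr hA1
        have h1 : commutator A < ⊤ := Group.IsSolvable.commutator_lt_top_of_nontrivial A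
        have h2 := Subgroup.map_subtype_lt_map_subtype.mpr h1
        rwa [Subgroup.map_subtype_commutator, ← MonoidHom.range_eq_map, Subgroup.range_subtype]
          at h2
      have hAA : ⁅A, A⁆ ≤ ψ.ker :=
        hAmin _ (Subgroup.commutator_normal A A) hlt.le hlt.ne
      have hℓA : ¬ ℓ ∣ Nat.card A := by
        intro h
        have h1 : ℓ ∣ Nat.card L := dvd_trans h (Subgroup.card_subgroup_dvd_card A)
        exact hℓ.one_lt.ne' (Nat.eq_one_of_dvd_coprimes hcop h1 hdvd)
      exact card_eq_of_abelian_section' ψ hℓ hcomm hexp A R hAA hℓA hCA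
        (fun r hr hr1 a ha => hfpf r hr hr1 a (hAK ha))
    · rw [not_nontrivial_iff_subsingleton] at hM
      rw [Nat.card_of_subsingleton (1 : M), Nat.card_of_subsingleton (1 : fixedSub ψ R), one_pow]
  · -- induction step
    intro M _ _ ψ N _ hNinv hNab hN1 hN2 hnil ihN ihQ hcop hCK
    have hcopN : (Nat.card L).Coprime (Nat.card N) :=
      Nat.Coprime.coprime_dvd_right (Subgroup.card_subgroup_dvd_card N) hcop
    have hcopQ : (Nat.card L).Coprime (Nat.card (M ⧸ N)) :=
      Nat.Coprime.coprime_dvd_right (Subgroup.card_quotient_dvd_card N) hcop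
    have hcopKN : (Nat.card K).Coprime (Nat.card N) :=
      Nat.Coprime.coprime_dvd_left (Subgroup.card_subgroup_dvd_card K) hcopN
    have hcopRN : (Nat.card R).Coprime (Nat.card N) :=
      Nat.Coprime.coprime_dvd_left (Subgroup.card_subgroup_dvd_card R) hcopN
    have h1 := ihN hcopN (by
      intro n hn
      apply Subtype.ext
      apply hCK
      intro k hk
      exact congrArg Subtype.val (hn k hk))
    have h2 := ihQ hcopQ (fixedSub_quo_trivial ψ N hNab hNinv K hcopKN hCK)
    rw [Subgroup.card_eq_card_quotient_mul_card_subgroup N, h1, h2,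
      card_fixedSub_eq ψ N hNab hNinv R hcopRN, mul_pow, mul_comm]

/-- **Theorem C**: if moreover `K` is nilpotent, `R` has prime order and `C_M(R)` is cyclic, then
the elements of `K` act on `M` by commuting automorphisms. -/
theorem commute_of_isCyclic_fixedSub (K R : Subgroup L) [K.Normal]
    (hKnil : Group.IsNilpotent K)
    (hfpf : ∀ r ∈ R, r ≠ 1 → ∀ k ∈ K, r * k = k * r → k = 1)
    (M : Type u) [Group M] [Finite M] (ψ : L →* MulAut M) (hnil : Group.IsNilpotent M)
    (hcop : (Nat.card L).Coprime (Nat.card M)) (hcyc : IsCyclic (fixedSub ψ R)) :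
    ∀ x ∈ K, ∀ y ∈ K, ψ x * ψ y = ψ y * ψ x := by
  revert hcop hcyc
  refine nilpotent_induction (L := L)
    (P := fun (M : Type u) [Group M] [Finite M] (ψ : L →* MulAut M) =>
      (Nat.card L).Coprime (Nat.card M) → IsCyclic (fixedSub ψ R) →
        ∀ x ∈ K, ∀ y ∈ K, ψ x * ψ y = ψ y * ψ x) ?_ ?_ M ψ hnil
  · -- irreducible case
    intro M _ _ ψ hnil hirr hcop hcyc
    by_cases hM : Nontrivial M
    · have hcomm := comm_of_irred ψ hnil hirr
      obtain ⟨ℓ, hℓ, hdvd, hexp⟩ := exp_of_irred ψ hcomm hirr hM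
      by_cases hK : K ≤ ψ.ker
      · intro x hx y hy
        rw [MonoidHom.mem_ker.mp (hK hx), MonoidHom.mem_ker.mp (hK hy)]
      · have hKsolv : Group.IsSolvable K := inferInstance
        obtain ⟨A, hAn, hAK, hAker, hAmin, hCA⟩ := exists_minimal_section K ψ hcomm hirr hK
        haveI := hAn
        have hA1 : A ≠ ⊥ := by
          rintro rfl
          exact hAker bot_le
        have hCK : ∀ m : M, (∀ k ∈ K, ψ k m = m) → m = 1 :=
          fun m hm => hCA m (fun a ha => hm a (hAK ha))
        have hB := card_eq_card_fixedSub_pow K R hKsolv hfpf M ψ hnil hcop hCK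
        have hle : Nat.card (fixedSub ψ R) ≤ ℓ := by
          obtain ⟨g, hg⟩ := hcyc.exists_generator
          rw [← orderOf_eq_card_of_forall_mem_zpowers hg]
          apply Nat.le_of_dvd hℓ.pos
          apply orderOf_dvd_of_pow_eq_one
          apply Subtype.ext
          rw [Subgroup.coe_pow, hexp]
          rfl
        have hcard : Nat.card M ≤ ℓ ^ Nat.card R := by
          rw [hB]
          exact Nat.pow_le_pow_left hle _
        have hAKker : ⁅A, K⁆ ≤ ψ.ker := by
          apply hAmin _ (Subgroup.commutator_normal A K) (Subgroup.commutator_le_left A K)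
          intro h
          have h1 : ∀ n, A ≤ K.lowerCentralSeries n := by
            intro n
            induction n with
            | zero => exact hAK
            | succ n ih =>
              calc A = ⁅A, K⁆ := h.symm
                _ ≤ ⁅K.lowerCentralSeries n, K⁆ := Subgroup.commutator_mono ih le_rfl
          obtain ⟨n, hn⟩ := (Subgroup.isNilpotent_iff_lowerCentralSeries K).mp hKnil
          exact hA1 (le_bot_iff.mp (hn ▸ h1 n))
        have hAA : ⁅A, A⁆ ≤ ψ.ker := (Subgroup.commutator_mono le_rfl hAK).trans hAKker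
        have hℓA : ¬ ℓ ∣ Nat.card A := by
          intro h
          have h1 : ℓ ∣ Nat.card L := dvd_trans h (Subgroup.card_subgroup_dvd_card A)
          exact hℓ.one_lt.ne' (Nat.eq_one_of_dvd_coprimes hcop h1 hdvd)
        have hcommA : ∀ x ∈ K, ∀ a ∈ A, ψ x * ψ a = ψ a * ψ x := by
          intro x hx a ha
          have h1 : ⁅a, x⁆ ∈ ψ.ker := hAKker (Subgroup.commutator_mem_commutator ha hx)
          rw [MonoidHom.mem_ker, map_commutatorElement,
            commutatorElement_eq_one_iff_commute] at h1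
          exact h1.eq.symm
        intro x hx y hy
        exact commute_of_abelian_section' ψ hℓ hcomm hexp A R hAA hℓA hCA
          (fun r hr hr1 a ha => hfpf r hr hr1 a (hAK ha)) hcard x y (hcommA x hx) (hcommA y hy)
    · rw [not_nontrivial_iff_subsingleton] at hM
      intro x _ y _
      ext m
      exact Subsingleton.elim _ _
  · -- induction step
    intro M _ _ ψ N _ hNinv hNab hN1 hN2 hnil ihN ihQ hcop hcyc x hx y hy
    have hcopN : (Nat.card L).Coprime (Nat.card N) :=
      Nat.Coprime.coprime_dvd_right (Subgroup.card_subgroup_dvd_card N) hcop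
    have hcopQ : (Nat.card L).Coprime (Nat.card (M ⧸ N)) :=
      Nat.Coprime.coprime_dvd_right (Subgroup.card_quotient_dvd_card N) hcop
    have hcopRN : (Nat.card R).Coprime (Nat.card N) :=
      Nat.Coprime.coprime_dvd_left (Subgroup.card_subgroup_dvd_card R) hcopN
    have hN' := ihN hcopN (isCyclic_fixedSub_res ψ R N hNinv hcyc) x hx y hy
    have hQ' := ihQ hcopQ (isCyclic_fixedSub_quo ψ N hNab hNinv R hcopRN hcyc) x hx y hy
    have key : ψ ⁅x, y⁆ = 1 := by
      apply eq_one_of_stabilizes ψ N ⁅x, y⁆ hcopN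
      · intro n hn
        have h1 : resHom ψ N hNinv ⁅x, y⁆ = 1 := by
          rw [map_commutatorElement, commutatorElement_eq_one_iff_commute]
          exact hN'
        have h2 := DFunLike.congr_fun h1 ⟨n, hn⟩
        exact congrArg Subtype.val h2
      · intro m
        have h1 : quoHom ψ N hNinv ⁅x, y⁆ = 1 := by
          rw [map_commutatorElement, commutatorElement_eq_one_iff_commute]
          exact hQ'
        have h2 := DFunLike.congr_fun h1 (m : M ⧸ N)
        rw [quoHom_mk, MulAut.one_apply] at h2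
        rw [← QuotientGroup.eq]
        exact h2.symm
    rw [map_commutatorElement, commutatorElement_eq_one_iff_commute] at key
    exact key.eq

end Main

end FrobAction

end Cfsg.Agent.Lib.Helper10
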