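import Mathlib
import Cfsg.Agent.Lib.Helper10.FrobAction

set_option autoImplicit false

namespace Cfsg.Agent.Lib.Helper10

open scoped Classical

namespace FrobAction

open scoped commutatorElement

variable {X : Type*} [Group X]

/-- conjugation by a normalizing element. -/
def conjAut (M : Subgroup X) (g : X) (hg : g ∈ Subgroup.normalizer (M : Set X)) : M ≃* M where
  toFun m := ⟨g * m * g⁻¹, (Subgroup.mem_normalizer_iff.mp hg m).mp m.2⟩
  invFun m := ⟨g⁻¹ * m * g, (Subgroup.mem_normalizer_iff''.mp hg m).mp m.2⟩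
  left_inv m := by
    apply Subtype.ext
    show g⁻¹ * (g * m * g⁻¹) * g = m
    group
  right_inv m := by
    apply Subtype.ext
    show g * (g⁻¹ * m * g) * g⁻¹ = m
    group
  map_mul' a b := by
    apply Subtype.ext
    show g * ((a : X) * b) * g⁻¹ = (g * a * g⁻¹) * (g * b * g⁻¹)
    group

/-- the conjugation action of a normalizing subgroup. -/
def conjHom (M J : Subgroup X) (hJM : J ≤ Subgroup.normalizer (M : Set X)) : J →* MulAut M where
  toFun g := conjAut M (g : X) (hJM g.2)
  map_one' := by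
    ext m
    show (1 : X) * m * (1 : X)⁻¹ = m
    group
  map_mul' g h := by
    ext m
    show ((g : X) * h) * m * ((g : X) * h)⁻¹ = g * (h * m * (h : X)⁻¹) * (g : X)⁻¹
    group

theorem conjHom_apply (M J : Subgroup X) (hJM : J ≤ Subgroup.normalizer (M : Set X)) (g : J)
    (m : M) : ((conjHom M J hJM g m : M) : X) = g * m * (g : X)⁻¹ := rfl

/-- fixed points of the conjugation action are centralizers. -/
def fixedSubEquiv (M J : Subgroup X) (hJM : J ≤ Subgroup.normalizer (M : Set X))
    (S : Subgroup J) :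
    fixedSub (conjHom M J hJM) S
      ≃* ↥(M ⊓ Subgroup.centralizer ((S.map J.subtype : Subgroup X) : Set X)) where
  toFun m := ⟨((m : M) : X), by
    refine Subgroup.mem_inf.mpr ⟨(m : M).2, ?_⟩
    rw [Subgroup.mem_centralizer_iff]
    rintro h ⟨s, hs, rfl⟩
    have h1 := congrArg (fun z : M => (z : X)) (m.2 s hs)
    simp only [conjHom_apply] at h1
    show (s : X) * ((m : M) : X) = ((m : M) : X) * (s : X)
    calc (s : X) * ((m : M) : X) = ((s : X) * ((m : M) : X) * (s : X)⁻¹) * s := by group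
      _ = ((m : M) : X) * (s : X) := by rw [h1]⟩
  invFun z := ⟨⟨(z : X), (Subgroup.mem_inf.mp z.2).1⟩, by
    intro s hs
    apply Subtype.ext
    rw [conjHom_apply]
    have h1 := (Subgroup.mem_centralizer_iff.mp (Subgroup.mem_inf.mp z.2).2) (s : X)
      ⟨s, hs, rfl⟩
    show (s : X) * (z : X) * (s : X)⁻¹ = z
    rw [h1, mul_inv_cancel_right]⟩
  left_inv m := rfl
  right_inv z := rfl
  map_mul' a b := rfl

variable [Finite X]

/-- **Theorem B**, subgroup form. -/
theorem card_eq_card_centralizer_pow (M J : Subgroup X)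
    (hJM : J ≤ Subgroup.normalizer (M : Set X)) (K R : Subgroup J) [K.Normal]
    (hKsolv : Group.IsSolvable K)
    (hfpf : ∀ r ∈ R, r ≠ 1 → ∀ k ∈ K, r * k = k * r → k = 1)
    (hnil : Group.IsNilpotent M) (hcop : (Nat.card J).Coprime (Nat.card M))
    (hCK : M ⊓ Subgroup.centralizer ((K.map J.subtype : Subgroup X) : Set X) = ⊥) :
    Nat.card M
      = Nat.card ↥(M ⊓ Subgroup.centralizer ((R.map J.subtype : Subgroup X) : Set X))
        ^ Nat.card R := by
  have h1 := card_eq_card_fixedSub_pow K R hKsolv hfpf M (conjHom M J hJM) hnil hcop (by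
    intro m hm
    have h2 : ((m : M) : X) ∈ M ⊓ Subgroup.centralizer
        ((K.map J.subtype : Subgroup X) : Set X) := (fixedSubEquiv M J hJM K ⟨m, hm⟩).2
    rw [hCK, Subgroup.mem_bot] at h2
    apply Subtype.ext
    exact h2)
  rw [h1, Nat.card_congr (fixedSubEquiv M J hJM R).toEquiv]

/-- **Theorem C**, subgroup form. -/
theorem commutator_le_centralizer_of_isCyclic (M J : Subgroup X)
    (hJM : J ≤ Subgroup.normalizer (M : Set X)) (K R : Subgroup J) [K.Normal]
    (hKnil : Group.IsNilpotent K)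
    (hfpf : ∀ r ∈ R, r ≠ 1 → ∀ k ∈ K, r * k = k * r → k = 1)
    (hnil : Group.IsNilpotent M) (hcop : (Nat.card J).Coprime (Nat.card M))
    (hcyc : IsCyclic ↥(M ⊓ Subgroup.centralizer ((R.map J.subtype : Subgroup X) : Set X))) :
    ⁅(K.map J.subtype : Subgroup X), (K.map J.subtype : Subgroup X)⁆
      ≤ Subgroup.centralizer (M : Set X) := by
  have hcyc' : IsCyclic (fixedSub (conjHom M J hJM) R) :=
    isCyclic_of_injective (fixedSubEquiv M J hJM R).toMonoidHom
      (fixedSubEquiv M J hJM R).injective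
  have h1 := commute_of_isCyclic_fixedSub K R hKnil hfpf M (conjHom M J hJM) hnil hcop hcyc'
  rw [Subgroup.commutator_le]
  rintro _ ⟨x, hx, rfl⟩ _ ⟨y, hy, rfl⟩
  have h2 : conjHom M J hJM ⁅x, y⁆ = 1 := by
    rw [map_commutatorElement, commutatorElement_eq_one_iff_commute]
    exact h1 x hx y hy
  rw [Subgroup.mem_centralizer_iff]
  intro m hm
  have h3 := congrArg (fun z : M => (z : X)) (DFunLike.congr_fun h2 ⟨m, hm⟩)
  simp only [conjHom_apply, MulAut.one_apply] at h3
  have h4 : ((⁅x, y⁆ : J) : X) = ⁅J.subtype x, J.subtype y⁆ := by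
    rw [← map_commutatorElement]
    rfl
  rw [← h4]
  calc m * ((⁅x, y⁆ : J) : X) = (((⁅x, y⁆ : J) : X) * m * ((⁅x, y⁆ : J) : X)⁻¹)
        * ((⁅x, y⁆ : J) : X) := by rw [h3]
    _ = ((⁅x, y⁆ : J) : X) * m := by group

end FrobAction

end Cfsg.Agent.Lib.Helper10
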