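import Mathlib

/-!
# Kronecker products: pure tensors, scalar Kronecker products, kernels of `1 ⊗ M`
-/

set_option autoImplicit false

namespace Cfsg.Agent.Lib.Helper10.Kron

open Matrix Module Polynomial
open scoped Kronecker

section basic

variable {F : Type*} [Field F]
variable {α β : Type*} [Fintype α] [DecidableEq α] [Fintype β] [DecidableEq β]

/-- the pure tensor `v ⊗ w` as a function on pairs -/
def pureT (v : α → F) (w : β → F) : α × β → F := fun p => v p.1 * w p.2

theorem kron_mulVec_pureT (A : Matrix α α F) (B : Matrix β β F) (v : α → F) (w : β → F) :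
    (A ⊗ₖ B) *ᵥ (pureT v w) = pureT (A *ᵥ v) (B *ᵥ w) := by
  funext p
  simp only [pureT, Matrix.mulVec, dotProduct, Matrix.kroneckerMap_apply, Fintype.sum_prod_type]
  rw [Finset.sum_mul_sum]
  apply Finset.sum_congr rfl
  intro i _
  apply Finset.sum_congr rfl
  intro j _
  ring

/-- a Kronecker product which is a nonzero scalar has scalar factors -/
theorem kron_eq_smul_one [Nonempty α] [Nonempty β] (A : Matrix α α F) (B : Matrix β β F) (z : F)
    (hz : z ≠ 0) (h : A ⊗ₖ B = z • (1 : Matrix (α × β) (α × β) F)) :
    ∃ z₁ z₂ : F, A = z₁ • (1 : Matrix α α F) ∧ B = z₂ • (1 : Matrix β β F) ∧ z₁ * z₂ = z := by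
  obtain ⟨i₀⟩ := ‹Nonempty α›
  obtain ⟨k₀⟩ := ‹Nonempty β›
  have hent : ∀ i j k l, A i j * B k l = if (i, k) = (j, l) then z else 0 := by
    intro i j k l
    have h1 := congrFun (congrFun h (i, k)) (j, l)
    rw [Matrix.kroneckerMap_apply, Matrix.smul_apply, Matrix.one_apply, smul_eq_mul] at h1
    rw [h1]
    split_ifs <;> simp
  have h00 : A i₀ i₀ * B k₀ k₀ = z := by
    rw [hent]; simp
  have hA0 : A i₀ i₀ ≠ 0 := by
    intro h0
    rw [h0, zero_mul] at h00
    exact hz h00.symm
  have hB0 : B k₀ k₀ ≠ 0 := by
    intro h0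
    rw [h0, mul_zero] at h00
    exact hz h00.symm
  refine ⟨A i₀ i₀, B k₀ k₀, ?_, ?_, h00⟩
  · ext i j
    rw [Matrix.smul_apply, Matrix.one_apply, smul_eq_mul]
    by_cases hij : i = j
    · subst hij
      rw [if_pos rfl, mul_one]
      have h1 := hent i i k₀ k₀
      rw [if_pos rfl, ← h00] at h1
      exact mul_right_cancel₀ hB0 h1
    · rw [if_neg hij, mul_zero]
      have h1 := hent i j k₀ k₀
      rw [if_neg (by simpa using hij)] at h1
      exact (mul_eq_zero.mp h1).resolve_right hB0
  · ext k l
    rw [Matrix.smul_apply, Matrix.one_apply, smul_eq_mul]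
    by_cases hkl : k = l
    · subst hkl
      rw [if_pos rfl, mul_one]
      have h1 := hent i₀ i₀ k k
      rw [if_pos rfl, ← h00] at h1
      exact mul_left_cancel₀ hA0 h1
    · rw [if_neg hkl, mul_zero]
      have h1 := hent i₀ i₀ k l
      rw [if_neg (by simpa using hkl)] at h1
      exact (mul_eq_zero.mp h1).resolve_left hA0

theorem kron_pow (A : Matrix α α F) (B : Matrix β β F) (k : ℕ) :
    (A ⊗ₖ B) ^ k = (A ^ k) ⊗ₖ (B ^ k) := by
  induction k with
  | zero => simp
  | succ k ih => rw [pow_succ, ih, pow_succ, pow_succ, Matrix.mul_kronecker_mul]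

/-- the linear map `w ↦ v ⊗ w` -/
def pureL (v : α → F) : (β → F) →ₗ[F] (α × β → F) where
  toFun w := pureT v w
  map_add' w w' := by
    funext p
    simp only [pureT, Pi.add_apply]
    ring
  map_smul' c w := by
    funext p
    simp only [pureT, Pi.smul_apply, smul_eq_mul, RingHom.id_apply]
    ring

theorem pureL_apply (v : α → F) (w : β → F) : pureL v w = pureT v w := rfl

theorem pureL_injective (v : α → F) (hv : v ≠ 0) : Function.Injective (pureL (β := β) v) := by
  obtain ⟨i, hi⟩ : ∃ i, v i ≠ 0 := by
    by_contra hall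
    apply hv
    funext i
    by_contra hne
    exact hall ⟨i, hne⟩
  intro w w' h
  funext k
  have h1 := congrFun h (i, k)
  simp only [pureL_apply, pureT] at h1
  exact mul_left_cancel₀ hi h1

/-- **Main lemma**: if the `c`-eigenspace of `A ⊗ B` has codimension less than the size of the
second factor, then every nonzero vector is an eigenvector of `A`. -/
theorem eigen_of_small_codim (A : Matrix α α F) (B : Matrix β β F) (c : F) (hc : c ≠ 0)
    (hK : Fintype.card α * Fintype.card β <
      finrank F (Module.End.eigenspace (Matrix.toLin' (A ⊗ₖ B)) c) + Fintype.card β)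
    (v : α → F) (hv : v ≠ 0) : ∃ lam : F, A *ᵥ v = lam • v := by
  set K := Module.End.eigenspace (Matrix.toLin' (A ⊗ₖ B)) c with hKdef
  set S := LinearMap.range (pureL (β := β) v) with hSdef
  have hS : finrank F S = Fintype.card β := by
    rw [hSdef, LinearMap.finrank_range_of_inj (pureL_injective v hv), Module.finrank_fintype_fun_eq_card]
  have hle : finrank F ↥(S ⊔ K) ≤ Fintype.card α * Fintype.card β := by
    have := Submodule.finrank_le (S ⊔ K)
    rwa [Module.finrank_fintype_fun_eq_card, Fintype.card_prod] at this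
  have hsum := Submodule.finrank_sup_add_finrank_inf_eq S K
  have hpos : 0 < finrank F ↥(S ⊓ K) := by omega
  have hne : S ⊓ K ≠ ⊥ := by
    intro h0
    rw [h0, finrank_bot] at hpos
    exact lt_irrefl _ hpos
  obtain ⟨u, hu, hu0⟩ := Submodule.exists_mem_ne_zero_of_ne_bot hne
  obtain ⟨⟨w, rfl⟩, huK⟩ := hu
  rw [SetLike.mem_coe, Module.End.mem_eigenspace_iff, Matrix.toLin'_apply, pureL_apply,
    kron_mulVec_pureT] at huK
  have hw0 : w ≠ 0 := by
    rintro rfl
    apply hu0
    rw [map_zero]
  obtain ⟨k, hk⟩ : ∃ k, w k ≠ 0 := by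
    by_contra hall
    apply hw0
    funext k
    by_contra hne'
    exact hall ⟨k, hne'⟩
  have hent : ∀ i, (A *ᵥ v) i * (B *ᵥ w) k = c * (v i * w k) := by
    intro i
    have h1 := congrFun huK (i, k)
    simpa only [pureT, Pi.smul_apply, smul_eq_mul] using h1
  have hBw : (B *ᵥ w) k ≠ 0 := by
    intro h0
    obtain ⟨i, hi⟩ : ∃ i, v i ≠ 0 := by
      by_contra hall
      apply hv
      funext i
      by_contra hne'
      exact hall ⟨i, hne'⟩
    have h1 := hent i
    rw [h0, mul_zero] at h1
    exact mul_ne_zero hc (mul_ne_zero hi hk) h1.symm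
  refine ⟨c * w k / (B *ᵥ w) k, ?_⟩
  funext i
  rw [Pi.smul_apply, smul_eq_mul]
  have h1 := hent i
  field_simp
  linear_combination h1

/-- **Main lemma**, matrix form: under the same hypothesis `A` is scalar. -/
theorem scalar_of_small_codim (A : Matrix α α F) (B : Matrix β β F) (c : F) (hc : c ≠ 0)
    (hK : Fintype.card α * Fintype.card β <
      finrank F (Module.End.eigenspace (Matrix.toLin' (A ⊗ₖ B)) c) + Fintype.card β) :
    ∃ z : F, A = z • (1 : Matrix α α F) := by
  have h : ∀ v : α → F, ¬ LinearIndependent F ![v, Matrix.toLin' A v] := by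
    intro v hli
    by_cases hv : v = 0
    · have := hli.ne_zero 0
      apply this
      simp [hv]
    · obtain ⟨lam, hlam⟩ := eigen_of_small_codim A B c hc hK v hv
      rw [LinearIndependent.pair_iff] at hli
      have h1 := hli lam (-1) (by rw [Matrix.toLin'_apply, hlam]; simp)
      exact absurd h1.2 (by norm_num)
  obtain ⟨z, hz⟩ := LinearMap.exists_eq_smul_id_of_forall_notLinearIndependent h
  refine ⟨z, ?_⟩
  apply Matrix.toLin'.injective
  rw [hz, map_smul, Matrix.toLin'_one]
  rfl

end basic

section intertwine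

variable {F : Type*} [Field F]
variable {V W : Type*} [AddCommGroup V] [Module F V] [AddCommGroup W] [Module F W]

/-- intertwining maps intertwine polynomial expressions -/
theorem aeval_intertwine (f : V →ₗ[F] V) (f' : W →ₗ[F] W) (e : V →ₗ[F] W)
    (h : ∀ v, e (f v) = f' (e v)) (G : F[X]) (v : V) :
    e (aeval f G v) = aeval f' G (e v) := by
  have hpow : ∀ (k : ℕ) (v : V), e ((f ^ k) v) = (f' ^ k) (e v) := by
    intro k
    induction k with
    | zero => intro v; simp
    | succ k ih =>
      intro v
      rw [pow_succ, pow_succ, Module.End.mul_apply, Module.End.mul_apply, ih, h]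
  induction G using Polynomial.induction_on' with
  | add p q hp hq =>
    rw [map_add, map_add, LinearMap.add_apply, LinearMap.add_apply, map_add, hp, hq]
  | monomial k a =>
    rw [aeval_monomial, aeval_monomial, Module.algebraMap_end_eq_smul_id,
      Module.algebraMap_end_eq_smul_id]
    simp only [Module.End.mul_apply, LinearMap.smul_apply, LinearMap.id_coe, id_eq, map_smul, hpow]

/-- conjugate endomorphisms have kernels of polynomial expressions of the same dimension -/
theorem finrank_ker_aeval_conj (f : V →ₗ[F] V) (f' : W →ₗ[F] W) (e : V ≃ₗ[F] W)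
    (h : ∀ v, e (f v) = f' (e v)) (G : F[X]) :
    finrank F (LinearMap.ker (aeval f' G)) = finrank F (LinearMap.ker (aeval f G)) := by
  have hmap : LinearMap.ker (aeval f' G) = (LinearMap.ker (aeval f G)).map (e : V →ₗ[F] W) := by
    ext w
    rw [LinearMap.mem_ker, Submodule.mem_map]
    constructor
    · intro hw
      refine ⟨e.symm w, ?_, by simp⟩
      rw [LinearMap.mem_ker]
      apply e.injective
      have := aeval_intertwine f f' (e : V →ₗ[F] W) h G (e.symm w)
      simp only [LinearEquiv.coe_coe, LinearEquiv.apply_symm_apply] at this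
      rw [this, hw, map_zero]
    · rintro ⟨v, hv, rfl⟩
      rw [LinearMap.mem_ker] at hv
      have := aeval_intertwine f f' (e : V →ₗ[F] W) h G v
      rw [← this, hv, map_zero]
  rw [hmap, LinearEquiv.finrank_map_eq]

theorem eigenspace_eq_ker_aeval (f : V →ₗ[F] V) (μ : F) :
    Module.End.eigenspace f μ = LinearMap.ker (aeval f (X - C μ : F[X])) := by
  rw [Module.End.eigenspace_def, map_sub, aeval_X, aeval_C, Module.algebraMap_end_eq_smul_id]
  rfl

end intertwine

section onekron

variable {F : Type*} [Field F]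
variable {α β : Type*} [Fintype α] [DecidableEq α] [Fintype β] [DecidableEq β]

omit [Fintype α] [DecidableEq α] [Fintype β] [DecidableEq β] in
/-- the `i`-th slice of a function on pairs -/
def slice (i : α) : (α × β → F) →ₗ[F] (β → F) where
  toFun u := fun k => u (i, k)
  map_add' _ _ := rfl
  map_smul' _ _ := rfl

omit [Fintype α] [DecidableEq α] [Fintype β] [DecidableEq β] in
theorem slice_apply (i : α) (u : α × β → F) (k : β) : slice i u k = u (i, k) := rfl

theorem slice_one_kron (M : Matrix β β F) (i : α) (u : α × β → F) :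
    slice i (Matrix.toLin' ((1 : Matrix α α F) ⊗ₖ M) u) = Matrix.toLin' M (slice i u) := by
  funext k
  rw [slice_apply, Matrix.toLin'_apply, Matrix.toLin'_apply]
  simp only [Matrix.mulVec, dotProduct, Matrix.kroneckerMap_apply, Fintype.sum_prod_type,
    Matrix.one_apply, slice_apply]
  rw [Finset.sum_eq_single i]
  · simp
  · intro j _ hji
    simp [Ne.symm hji]
  · intro hi
    exact absurd (Finset.mem_univ i) hi

theorem slice_aeval_one_kron (M : Matrix β β F) (G : F[X]) (i : α) (u : α × β → F) :
    slice i (aeval (Matrix.toLin' ((1 : Matrix α α F) ⊗ₖ M)) G u) =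
      aeval (Matrix.toLin' M) G (slice i u) :=
  aeval_intertwine _ _ (slice i) (slice_one_kron M i) G u

/-- the kernel of a polynomial in `1 ⊗ M` is a power of the kernel of the polynomial in `M` -/
noncomputable def kerEquiv (M : Matrix β β F) (G : F[X]) :
    LinearMap.ker (aeval (Matrix.toLin' ((1 : Matrix α α F) ⊗ₖ M)) G) ≃ₗ[F]
      (α → LinearMap.ker (aeval (Matrix.toLin' M) G)) where
  toFun u := fun i => ⟨slice i (u : α × β → F), by
    rw [LinearMap.mem_ker, ← slice_aeval_one_kron, LinearMap.mem_ker.mp u.2, map_zero]⟩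
  map_add' u u' := by
    funext i
    apply Subtype.ext
    simp
  map_smul' c u := by
    funext i
    apply Subtype.ext
    simp
  invFun h := ⟨fun p => (h p.1 : β → F) p.2, by
    rw [LinearMap.mem_ker]
    funext p
    have h1 := slice_aeval_one_kron M G p.1 (fun p : α × β => (h p.1 : β → F) p.2)
    have h2 : slice p.1 (fun p : α × β => (h p.1 : β → F) p.2) = (h p.1 : β → F) := by
      funext k
      rfl
    rw [h2, LinearMap.mem_ker.mp (h p.1).2] at h1
    have h3 := congrFun h1 p.2
    rw [slice_apply] at h3
    exact h3⟩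
  left_inv u := by
    apply Subtype.ext
    funext p
    rfl
  right_inv h := by
    funext i
    apply Subtype.ext
    funext k
    rfl

theorem finrank_ker_aeval_one_kron (M : Matrix β β F) (G : F[X]) :
    finrank F (LinearMap.ker (aeval (Matrix.toLin' ((1 : Matrix α α F) ⊗ₖ M)) G)) =
      Fintype.card α * finrank F (LinearMap.ker (aeval (Matrix.toLin' M) G)) := by
  rw [LinearEquiv.finrank_eq (kerEquiv (α := α) M G), Module.finrank_pi_fintype]
  simp

end onekron

end Cfsg.Agent.Lib.Helper10.Kron
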