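import Mathlib
import Cfsg.Prelude.Def_GeometricClasses
import Cfsg.Agent.Lib.Helper16.TensDefs

/-!
# The fundamental lemma for tensor decompositions (helper10)

Vocabulary of `Cfsg.Agent.Lib.Helper16.TensDefs` (`pur`, `ctr`, `act`).  If `g : GL (Fin a × Fin b) F` maps every
"point" `U ⊗ w` (`w ≠ 0`) into some `U ⊗ w'`, then `g` is a Kronecker product `A ⊗ₖ B`, i.e. lies in the
Kronecker subgroup.
-/

set_option autoImplicit false

namespace Cfsg.Agent.Lib.Helper10.TensFund

open Matrix Module Cfsg.Agent.Lib.Helper16.Tens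
open scoped Kronecker

variable {F : Type*} [Field F] {a b : ℕ}

/-- the basis pure tensor -/
theorem pur_single (i : Fin a) (j : Fin b) :
    pur (Pi.single i (1 : F)) (Pi.single j (1 : F)) = Pi.single (i, j) (1 : F) := by
  funext p
  obtain ⟨i', j'⟩ := p
  simp only [pur_apply, Pi.single_apply, Prod.mk.injEq]
  by_cases hi : i' = i <;> by_cases hj : j' = j <;> simp [hi, hj]

theorem single_ne_zero' {n : ℕ} (j : Fin n) : (Pi.single j (1 : F) : Fin n → F) ≠ 0 := by
  intro h
  have := congrFun h j
  simp at this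

/-- a matrix is determined by its action on the basis pure tensors -/
theorem matrix_ext_pur (X Y : Matrix (Fin a × Fin b) (Fin a × Fin b) F)
    (h : ∀ i j, X *ᵥ pur (Pi.single i (1 : F)) (Pi.single j (1 : F)) =
      Y *ᵥ pur (Pi.single i (1 : F)) (Pi.single j (1 : F))) : X = Y := by
  ext p q
  obtain ⟨i, j⟩ := q
  have := congrFun (h i j) p
  rw [pur_single, Matrix.mulVec_single_one, Matrix.mulVec_single_one] at this
  exact this

/-- a vector `s ≠ 0` has a dual vector -/
theorem exists_dual {n : ℕ} (s : Fin n → F) (hs : s ≠ 0) : ∃ ψ : Fin n → F, s ⬝ᵥ ψ = 1 := by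
  obtain ⟨k, hk⟩ : ∃ k, s k ≠ 0 := by
    by_contra hcon
    push Not at hcon
    exact hs (funext hcon)
  refine ⟨Pi.single k (s k)⁻¹, ?_⟩
  rw [dotProduct_single, mul_inv_cancel₀ hk]

/-- two vectors that are not proportional have a non-zero `2 × 2` minor -/
theorem exists_minor {n : ℕ} (s t : Fin n → F) (hs : s ≠ 0) (h : ∀ κ : F, t ≠ κ • s) :
    ∃ k k', s k * t k' - s k' * t k ≠ 0 := by
  obtain ⟨k, hk⟩ : ∃ k, s k ≠ 0 := by
    by_contra hcon
    push Not at hcon
    exact hs (funext hcon)
  by_contra hcon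
  push Not at hcon
  apply h (t k / s k)
  funext k'
  have := hcon k k'
  rw [Pi.smul_apply, smul_eq_mul]
  field_simp
  linear_combination this

/-- **Fundamental lemma**: an invertible matrix mapping every `U ⊗ w` into some `U ⊗ w'` is a Kronecker product. -/
theorem mem_kron_of_forall_pt (g : GL (Fin a × Fin b) F)
    (h : ∀ w : Fin b → F, w ≠ 0 → ∃ w' : Fin b → F, ∀ u : Fin a → F, ∃ u' : Fin a → F,
      act g (pur u w) = pur u' w') :
    g ∈ Cfsg.Geo.kroneckerSubgroup a b F := by
  classical
  rcases Nat.eq_zero_or_pos a with rfl | ha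
  · have : g = 1 := Units.ext (Subsingleton.elim _ _)
    rw [this]; exact Subgroup.one_mem _
  rcases Nat.eq_zero_or_pos b with rfl | hb
  · have : g = 1 := Units.ext (Subsingleton.elim _ _)
    rw [this]; exact Subgroup.one_mem _
  let i0 : Fin a := ⟨0, ha⟩
  let j0 : Fin b := ⟨0, hb⟩
  -- data attached to a non-zero `w`
  have data : ∀ w : Fin b → F, w ≠ 0 → ∃ (s : Fin b → F) (α : (Fin a → F) →ₗ[F] (Fin a → F)),
      s ≠ 0 ∧ Function.Injective α ∧ ∀ u, act g (pur u w) = pur (α u) s := by
    intro w hw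
    obtain ⟨s, hs⟩ := h w hw
    have hs0 : s ≠ 0 := by
      rintro rfl
      obtain ⟨u', hu'⟩ := hs (Pi.single i0 1)
      have h0 : act g (pur (Pi.single i0 (1 : F)) w) = 0 := by
        rw [hu']; funext p; simp [pur]
      have h1 : pur (Pi.single i0 (1 : F)) w = 0 := by
        have := (act g).injective (h0.trans (map_zero (act g)).symm)
        exact this
      rcases pur_eq_zero h1 with h2 | h2
      · exact single_ne_zero' i0 h2
      · exact hw h2
    obtain ⟨ψ, hψ⟩ := exists_dual s hs0
    let α : (Fin a → F) →ₗ[F] (Fin a → F) :=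
      (ctr (a := a) ψ).comp ((act g).toLinearMap.comp (purL w))
    have hα : ∀ u, act g (pur u w) = pur (α u) s := by
      intro u
      obtain ⟨u', hu'⟩ := hs u
      have : α u = u' := by
        change ctr ψ (act g (pur u w)) = u'
        rw [hu', ctr_pur, hψ, one_smul]
      rw [this, hu']
    refine ⟨s, α, hs0, ?_, hα⟩
    rw [← LinearMap.ker_eq_bot, LinearMap.ker_eq_bot']
    intro u hu
    have h0 : act g (pur u w) = 0 := by
      rw [hα u, hu]; funext p; simp [pur]
    have h1 : pur u w = 0 := (act g).injective (h0.trans (map_zero (act g)).symm)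
    rcases pur_eq_zero h1 with h2 | h2
    · exact h2
    · exact absurd h2 hw
  choose σ α hσ hαinj hα using fun j : Fin b => data (Pi.single j 1) (single_ne_zero' j)
  -- proportionality of the `α j`
  have prop : ∀ j j' : Fin b, j ≠ j' → ∃ c : F, α j' = c • α j := by
    intro j j' hjj'
    have hsum : (Pi.single j (1 : F) + Pi.single j' (1 : F) : Fin b → F) ≠ 0 := by
      intro h0
      have := congrFun h0 j
      simp [Pi.single_apply, hjj'] at this
    obtain ⟨s, β, hs0, hβinj, hβ⟩ := data _ hsum
    -- the basic identity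
    have id1 : ∀ u, pur (α j u) (σ j) + pur (α j' u) (σ j') = pur (β u) s := by
      intro u
      rw [← hα j u, ← hα j' u, ← map_add, ← pur_add_right, hβ u]
    -- `σ j'` is not proportional to `σ j`
    have hnp : ∀ κ : F, σ j' ≠ κ • σ j := by
      intro κ hκ
      have hsurj : Function.Surjective (α j) := LinearMap.surjective_of_injective (hαinj j)
      obtain ⟨u'', hu''⟩ := hsurj (κ • α j' (Pi.single i0 1))
      have e1 : act g (pur u'' (Pi.single j 1)) = act g (pur (Pi.single i0 (1 : F)) (Pi.single j' 1)) := by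
        rw [hα j u'', hα j' (Pi.single i0 1), hu'', hκ, pur_smul_left, pur_smul_right]
      have e2 := (act g).injective e1
      have e3 := congrFun e2 (i0, j')
      simp [pur, Pi.single_apply, hjj'.symm, hjj'] at e3
    obtain ⟨k, k', hD⟩ := exists_minor (σ j) (σ j') (hσ j) hnp
    set D := σ j k * σ j' k' - σ j k' * σ j' k with hDdef
    -- solve the two equations at `k`, `k'`
    have eqk : ∀ (u : Fin a → F) (i : Fin a) (κ : Fin b),
        α j u i * σ j κ + α j' u i * σ j' κ = β u i * s κ := by
      intro u i κ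
      have := congrFun (id1 u) (i, κ)
      simpa [pur] using this
    have h1 : ∀ u, D • α j u = (σ j' k' * s k - σ j' k * s k') • β u := by
      intro u
      funext i
      have e1 := eqk u i k
      have e2 := eqk u i k'
      simp only [Pi.smul_apply, smul_eq_mul, hDdef]
      linear_combination (σ j' k') * e1 - (σ j' k) * e2
    have h2 : ∀ u, D • α j' u = (σ j k * s k' - σ j k' * s k) • β u := by
      intro u
      funext i
      have e1 := eqk u i k
      have e2 := eqk u i k'
      simp only [Pi.smul_apply, smul_eq_mul, hDdef]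
      linear_combination (σ j k) * e2 - (σ j k') * e1
    set p := σ j' k' * s k - σ j' k * s k' with hp
    set r := σ j k * s k' - σ j k' * s k with hr
    have hp0 : p ≠ 0 := by
      intro h0
      have := h1 (Pi.single i0 1)
      rw [h0, zero_smul] at this
      have h3 : α j (Pi.single i0 1) = 0 := by
        have h4 := congrArg (fun x => D⁻¹ • x) this
        simpa [smul_smul, inv_mul_cancel₀ hD] using h4
      exact single_ne_zero' i0 (hαinj j (h3.trans (map_zero (α j)).symm))
    refine ⟨r / p, ?_⟩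
    apply LinearMap.ext
    intro u
    -- `β u = (D / p) • α j u`, so `α j' u = (r / D) • β u = (r / p) • α j u`
    have hb1 : β u = (D / p) • α j u := by
      have := h1 u
      rw [div_eq_mul_inv, mul_comm, ← smul_smul, this, smul_smul, inv_mul_cancel₀ hp0, one_smul]
    have := h2 u
    rw [hb1, smul_smul] at this
    have h5 := congrArg (fun x => D⁻¹ • x) this
    simp only [smul_smul, inv_mul_cancel₀ hD, one_smul] at h5
    rw [h5, LinearMap.smul_apply]
    congr 1
    field_simp
  -- the constants relative to `j0`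
  have hc : ∀ j : Fin b, ∃ c : F, α j = c • α j0 := by
    intro j
    by_cases hj : j = j0
    · exact ⟨1, by rw [hj, one_smul]⟩
    · exact prop j0 j (Ne.symm hj)
  choose c hcα using hc
  let A : Matrix (Fin a) (Fin a) F := LinearMap.toMatrix' (α j0)
  let B : Matrix (Fin b) (Fin b) F := Matrix.of fun k j => c j * σ j k
  have hgAB : (g : Matrix (Fin a × Fin b) (Fin a × Fin b) F) = A ⊗ₖ B := by
    apply matrix_ext_pur
    intro i j
    rw [kron_mulVec_pur, ← act_apply, hα j (Pi.single i 1), hcα j, LinearMap.smul_apply]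
    have hA : A *ᵥ (Pi.single i (1 : F)) = α j0 (Pi.single i 1) := by
      rw [← Matrix.toLin'_apply, Matrix.toLin'_toMatrix']
    have hB : B *ᵥ (Pi.single j (1 : F)) = c j • σ j := by
      rw [Matrix.mulVec_single_one]
      funext k
      simp [B]
    rw [hA, hB, pur_smul_left, pur_smul_right]
  -- invertibility of the factors
  have hdet : (A ⊗ₖ B).det ≠ 0 := by
    rw [← hgAB]
    exact ((Matrix.isUnit_iff_isUnit_det _).1 (Units.isUnit g)).ne_zero
  rw [Matrix.det_kronecker] at hdet
  simp only [Fintype.card_fin] at hdet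
  have hA : A.det ≠ 0 := by
    intro h0
    apply hdet
    rw [h0, zero_pow (by omega), zero_mul]
  have hB : B.det ≠ 0 := by
    intro h0
    apply hdet
    rw [h0, zero_pow (by omega), mul_zero]
  exact ⟨Matrix.GeneralLinearGroup.mkOfDetNeZero A hA, Matrix.GeneralLinearGroup.mkOfDetNeZero B hB, hgAB⟩

/-- the point `U ⊗ w` as a subspace -/
def pt (w : Fin b → F) : Submodule F (Fin a × Fin b → F) := LinearMap.range (purL (a := a) w)

theorem mem_pt_iff (w : Fin b → F) (v : Fin a × Fin b → F) : v ∈ pt (a := a) w ↔ ∃ u, pur u w = v := by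
  unfold pt
  rw [LinearMap.mem_range]
  rfl

theorem pur_mem_pt (u : Fin a → F) (w : Fin b → F) : pur u w ∈ pt (a := a) w :=
  (mem_pt_iff w _).2 ⟨u, rfl⟩

/-- subspace form of the fundamental lemma -/
theorem mem_kron_of_forall_img (g : GL (Fin a × Fin b) F)
    (h : ∀ w : Fin b → F, w ≠ 0 → ∃ w' : Fin b → F, img g (pt w) ≤ pt w') :
    g ∈ Cfsg.Geo.kroneckerSubgroup a b F := by
  apply mem_kron_of_forall_pt
  intro w hw
  obtain ⟨w', hw'⟩ := h w hw
  refine ⟨w', fun u => ?_⟩
  have h1 : act g (pur u w) ∈ img g (pt w) := ⟨pur u w, pur_mem_pt u w, rfl⟩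
  obtain ⟨u', hu'⟩ := (mem_pt_iff w' _).1 (hw' h1)
  exact ⟨u', hu'.symm⟩

/-- converse: Kronecker products map points to points -/
theorem img_pt_of_mem_kron (g : GL (Fin a × Fin b) F) (hg : g ∈ Cfsg.Geo.kroneckerSubgroup a b F)
    (w : Fin b → F) : ∃ w' : Fin b → F, (w ≠ 0 → w' ≠ 0) ∧ img g (pt w) = pt w' := by
  obtain ⟨A, B, hAB⟩ := hg
  refine ⟨(B : Matrix (Fin b) (Fin b) F) *ᵥ w, ?_, ?_⟩
  · intro hw h0
    apply hw
    have := congrArg (fun x => ((B⁻¹ : GL (Fin b) F) : Matrix (Fin b) (Fin b) F) *ᵥ x) h0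
    simpa [Matrix.mulVec_mulVec, ← Units.val_mul] using this
  · apply le_antisymm
    · rintro _ ⟨x, hx, rfl⟩
      obtain ⟨u, rfl⟩ := (mem_pt_iff w x).1 hx
      change act g (pur u w) ∈ _
      rw [act_apply, hAB, kron_mulVec_pur]
      exact pur_mem_pt _ _
    · intro v hv
      obtain ⟨u, rfl⟩ := (mem_pt_iff _ v).1 hv
      refine ⟨pur (((A⁻¹ : GL (Fin a) F) : Matrix (Fin a) (Fin a) F) *ᵥ u) w, pur_mem_pt _ _, ?_⟩
      change act g (pur _ w) = _
      rw [act_apply, hAB, kron_mulVec_pur, Matrix.mulVec_mulVec, ← Units.val_mul, mul_inv_cancel,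
        Units.val_one, Matrix.one_mulVec]

end Cfsg.Agent.Lib.Helper10.TensFund
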