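import Mathlib
import Cfsg.Prelude.Def_GeometricClasses
import Cfsg.Agent.Lib.Helper16.TensDefs
import Cfsg.Agent.Lib.Helper10.Kron1

/-!
# S5637 FO-RANK (for helper16): an element of the Kronecker subgroup whose fixed space has
codimension `a < b` fixes exactly a standard hyperplane-type subspace
-/

set_option autoImplicit false

namespace Cfsg.Agent.Lib.Helper10.S5637FORANK

open Matrix Module Polynomial Cfsg.Agent.Lib.Helper16.Tens Cfsg.Agent.Lib.Helper10.Kron
open scoped Kronecker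

variable {F : Type*} [Field F] {a b : ℕ}

theorem act_toLinearMap (n : GL (Fin a × Fin b) F) :
    (act n).toLinearMap = Matrix.toLin' (n : Matrix (Fin a × Fin b) (Fin a × Fin b) F) := rfl

theorem ctr_eq_slice (ψ : Fin b → F) (v : Fin a × Fin b → F) (i : Fin a) :
    ctr ψ v i = slice i v ⬝ᵥ ψ := rfl

/-- a hyperplane of `F^b` is the kernel of a dot product -/
theorem exists_dot_of_hyperplane (hb : 1 ≤ b) (E : Submodule F (Fin b → F))
    (hE : finrank F E + 1 = b) :
    ∃ ψ : Fin b → F, ψ ≠ 0 ∧ ∀ w : Fin b → F, w ∈ E ↔ w ⬝ᵥ ψ = 0 := by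
  classical
  have hlt : E < ⊤ := by
    rw [lt_top_iff_ne_top]
    intro h
    rw [h, finrank_top, Module.finrank_fintype_fun_eq_card, Fintype.card_fin] at hE
    omega
  obtain ⟨φ, hφ0, hφ⟩ := Submodule.exists_le_ker_of_lt_top E hlt
  obtain ⟨ψ, hψ⟩ : ∃ ψ : Fin b → F, ∀ w, φ w = w ⬝ᵥ ψ := by
    refine ⟨fun j => φ (Pi.single j 1), fun w => ?_⟩
    have hw : w = ∑ j, w j • (Pi.single j (1 : F) : Fin b → F) := by
      funext k
      simp [Finset.sum_apply, Pi.single_apply]
    conv_lhs => rw [hw]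
    rw [map_sum]
    simp only [map_smul, smul_eq_mul, dotProduct]
  have hψ0 : ψ ≠ 0 := by
    intro h0
    apply hφ0
    apply LinearMap.ext
    intro w
    rw [hψ, h0, dotProduct_zero]
    rfl
  have hker : finrank F (LinearMap.ker φ) + 1 = b := by
    have h1 := LinearMap.finrank_range_add_finrank_ker φ
    have h2 : finrank F (LinearMap.range φ) = 1 := by
      have hsurj : LinearMap.range φ = ⊤ := by
        rw [LinearMap.range_eq_top]
        exact LinearMap.surjective_of_ne_zero hφ0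
      rw [hsurj, finrank_top, Module.finrank_self]
    rw [Module.finrank_fintype_fun_eq_card, Fintype.card_fin] at h1
    omega
  have heq : E = LinearMap.ker φ := by
    apply Submodule.eq_of_le_of_finrank_eq hφ
    omega
  refine ⟨ψ, hψ0, fun w => ?_⟩
  rw [heq, LinearMap.mem_ker, hψ]

theorem exists_hyp_of_kron (ha : 1 ≤ a) (hab : a < b) (n : GL (Fin a × Fin b) F)
    (hn : n ∈ Cfsg.Geo.kroneckerSubgroup a b F)
    (hker : finrank F (LinearMap.ker ((act n).toLinearMap - LinearMap.id)) + a = a * b) :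
    ∃ ψ : Fin b → F, ψ ≠ 0 ∧ LinearMap.ker ((act n).toLinearMap - LinearMap.id) = hyp ψ := by
  classical
  obtain ⟨A, B, hAB⟩ := (mem_kron_iff n).mp hn
  rw [act_toLinearMap, hAB] at hker ⊢
  -- `A` is scalar
  have heig : Module.End.eigenspace (Matrix.toLin' ((A : Matrix (Fin a) (Fin a) F) ⊗ₖ
      (B : Matrix (Fin b) (Fin b) F))) 1 =
      LinearMap.ker (Matrix.toLin' ((A : Matrix (Fin a) (Fin a) F) ⊗ₖ
        (B : Matrix (Fin b) (Fin b) F)) - LinearMap.id) := by
    ext v
    rw [Module.End.mem_eigenspace_iff, LinearMap.mem_ker, LinearMap.sub_apply, LinearMap.id_apply,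
      one_smul, sub_eq_zero]
  obtain ⟨z, hz⟩ := scalar_of_small_codim (A : Matrix (Fin a) (Fin a) F)
    (B : Matrix (Fin b) (Fin b) F) 1 one_ne_zero (by
      rw [heig, Fintype.card_fin, Fintype.card_fin]
      omega)
  obtain ⟨B', hB'⟩ : ∃ B' : Matrix (Fin b) (Fin b) F, B' = z • (B : Matrix (Fin b) (Fin b) F) :=
    ⟨_, rfl⟩
  have hkr : (A : Matrix (Fin a) (Fin a) F) ⊗ₖ (B : Matrix (Fin b) (Fin b) F) =
      (1 : Matrix (Fin a) (Fin a) F) ⊗ₖ B' := by
    rw [hz, hB', Matrix.smul_kronecker, Matrix.kronecker_smul]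
  rw [hkr] at hker ⊢
  -- the fixed space of `B'`
  obtain ⟨E, hE⟩ : ∃ E : Submodule F (Fin b → F),
      E = LinearMap.ker (Matrix.toLin' B' - LinearMap.id) := ⟨_, rfl⟩
  have hX1 : ∀ (V : Type _) [AddCommGroup V] [Module F V] (f : V →ₗ[F] V),
      aeval f (X - 1 : F[X]) = f - LinearMap.id := by
    intro V _ _ f
    rw [map_sub, aeval_X, map_one]
    rfl
  have hdim : finrank F (LinearMap.ker (Matrix.toLin' ((1 : Matrix (Fin a) (Fin a) F) ⊗ₖ B') -
      LinearMap.id)) = a * finrank F E := by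
    have h1 := finrank_ker_aeval_one_kron (α := Fin a) B' (X - 1 : F[X])
    rw [hX1, hX1, Fintype.card_fin] at h1
    rw [hE]
    exact h1
  have hEdim : finrank F E + 1 = b := by
    rw [hdim] at hker
    have h1 : a * (finrank F E + 1) = a * b := by rw [mul_add, mul_one]; exact hker
    exact Nat.eq_of_mul_eq_mul_left (by omega) h1
  obtain ⟨ψ, hψ0, hψ⟩ := exists_dot_of_hyperplane (by omega) E hEdim
  refine ⟨ψ, hψ0, ?_⟩
  ext v
  rw [LinearMap.mem_ker, LinearMap.sub_apply, LinearMap.id_apply, sub_eq_zero, mem_hyp_iff]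
  have hmemE : ∀ w : Fin b → F, w ∈ E ↔ Matrix.toLin' B' w = w := by
    intro w
    rw [hE, LinearMap.mem_ker, LinearMap.sub_apply, LinearMap.id_apply, sub_eq_zero]
  constructor
  · intro h
    funext i
    rw [ctr_eq_slice, Pi.zero_apply, ← hψ, hmemE, ← slice_one_kron, h]
  · intro h
    funext p
    obtain ⟨i, j⟩ := p
    have h1 : slice i v ∈ E := by
      rw [hψ, ← ctr_eq_slice, h, Pi.zero_apply]
    rw [hmemE, ← slice_one_kron] at h1
    have h2 := congrFun h1 j
    rw [slice_apply, slice_apply] at h2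
    exact h2

end Cfsg.Agent.Lib.Helper10.S5637FORANK
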