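import Mathlib

/-!
# S5630 CORE-SN (helper10): every `F`-algebra endomorphism of `M_d(F)` is inner.
-/

set_option autoImplicit false

namespace Cfsg.Agent.Lib.Helper10.S5630CoreSN

open Matrix

variable {F : Type*} [Field F]

variable {κ : Type} [Fintype κ] [DecidableEq κ]

/-- an algebra endomorphism of the full matrix algebra over a field is bijective -/
theorem algHom_bijective (φ : Matrix κ κ F →ₐ[F] Matrix κ κ F) : Function.Bijective φ := by
  rcases isEmpty_or_nonempty κ with hκ | hκ
  · constructor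
    · intro a b _
      exact Subsingleton.elim a b
    · intro b
      exact ⟨b, Subsingleton.elim _ _⟩
  · have hinj : Function.Injective φ := (φ : Matrix κ κ F →+* Matrix κ κ F).injective
    refine ⟨hinj, ?_⟩
    have : Function.Injective φ.toLinearMap := hinj
    exact LinearMap.injective_iff_surjective.mp this

/-- **CORE-SN** every `F`-algebra endomorphism of `M_d(F)` is inner -/
theorem inner_of_algHom (φ : Matrix κ κ F →ₐ[F] Matrix κ κ F) :
    ∃ P : GL κ F, ∀ X, φ X = (P : Matrix κ κ F) * X * ((P⁻¹ : GL κ F) : Matrix κ κ F) := by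
  let φe : Matrix κ κ F ≃ₐ[F] Matrix κ κ F := AlgEquiv.ofBijective φ (algHom_bijective φ)
  let τ : Matrix κ κ F ≃ₐ[F] Module.End F (κ → F) := Matrix.toLinAlgEquiv'
  let f : Module.End F (κ → F) ≃ₐ[F] Module.End F (κ → F) := (τ.symm.trans φe).trans τ
  obtain ⟨T, hT⟩ := f.eq_linearEquivConjAlgEquiv
  let T1 : Module.End F (κ → F) := (T : (κ → F) →ₗ[F] (κ → F))
  let T2 : Module.End F (κ → F) := (T.symm : (κ → F) →ₗ[F] (κ → F))
  have h12 : T1 * T2 = 1 := by
    refine LinearMap.ext fun v => ?_
    simp [T1, T2, Module.End.mul_apply]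
  have h21 : T2 * T1 = 1 := by
    refine LinearMap.ext fun v => ?_
    simp [T1, T2, Module.End.mul_apply]
  have h1 : τ.symm T1 * τ.symm T2 = 1 := by
    rw [← map_mul, h12, map_one]
  have h2 : τ.symm T2 * τ.symm T1 = 1 := by
    rw [← map_mul, h21, map_one]
  refine ⟨⟨τ.symm T1, τ.symm T2, h1, h2⟩, fun X => ?_⟩
  have hfX : f (τ X) = τ (φ X) := by
    simp [f, φe]
  have hc : f (τ X) = T1 * (τ X) * T2 := by
    rw [hT]
    rfl
  have hτ : τ (φ X) = τ (τ.symm T1 * X * τ.symm T2) := by
    rw [← hfX, hc]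
    simp only [map_mul, AlgEquiv.apply_symm_apply]
  exact τ.injective hτ

end Cfsg.Agent.Lib.Helper10.S5630CoreSN
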