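import Mathlib
import Cfsg.Agent.Lib.Helper10.Kron1

/-!
# The refined rank lemma for Kronecker products (helper10)

If `A` (size `a`) and `B` (size `b`) are both non-scalar, then the fixed space of `A ⊗ₖ B` has
codimension at least `a + b - 2`:  `finrank (ker (A ⊗ₖ B - 1)) + a + b ≤ a * b + 2`
(`finrank_fix_kron_le_of_nonscalar`).  Consequently a Kronecker product `A ⊗ₖ B` with
`rank (A ⊗ₖ B - 1) + 2 < a + b` has a scalar factor (`scalar_or_scalar_of_fix`).

Proof: pick `u₀` with `u₀, A u₀` independent and `w₀` with `w₀, B w₀` independent, functionals `φ`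
(`φ u₀ = 1`, `φ (A u₀) = 0`) and `ψ` (`ψ w₀ = 0`, `ψ (B w₀) = 1`).  The subspace
`u₀ ⊗ ker ψ + ker φ ⊗ w₀` has dimension `(b - 1) + (a - 1)` and meets the fixed space trivially.
-/

set_option autoImplicit false

namespace Cfsg.Agent.Lib.Helper10.KronRank2

open Matrix Module Cfsg.Agent.Lib.Helper10.Kron
open scoped Kronecker

variable {F : Type*} [Field F]
variable {α β : Type*} [Fintype α] [DecidableEq α] [Fintype β] [DecidableEq β]

omit [Fintype α] [DecidableEq α] [Fintype β] [DecidableEq β] in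
theorem pureT_add_left (u u' : α → F) (w : β → F) : pureT (u + u') w = pureT u w + pureT u' w := by
  funext p; simp only [pureT, Pi.add_apply]; ring

omit [Fintype α] [DecidableEq α] [Fintype β] [DecidableEq β] in
theorem pureT_smul_left (c : F) (u : α → F) (w : β → F) : pureT (c • u) w = c • pureT u w := by
  funext p; simp only [pureT, Pi.smul_apply, smul_eq_mul]; ring

omit [Fintype α] [DecidableEq α] [Fintype β] [DecidableEq β] in
@[simp] theorem pureT_zero_left (w : β → F) : pureT (0 : α → F) w = 0 := by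
  funext p; simp [pureT]

omit [Fintype α] [DecidableEq α] [Fintype β] [DecidableEq β] in
@[simp] theorem pureT_zero_right (u : α → F) : pureT u (0 : β → F) = 0 := by
  funext p; simp [pureT]

/-- the linear map `u ↦ u ⊗ w` -/
def pureR (w : β → F) : (α → F) →ₗ[F] (α × β → F) where
  toFun u := pureT u w
  map_add' u u' := pureT_add_left u u' w
  map_smul' c u := pureT_smul_left c u w

omit [Fintype α] [DecidableEq α] [Fintype β] [DecidableEq β] in
theorem pureR_apply (w : β → F) (u : α → F) : pureR w u = pureT u w := rfl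

omit [Fintype α] [DecidableEq α] [Fintype β] [DecidableEq β] in
theorem pureR_injective (w : β → F) (hw : w ≠ 0) : Function.Injective (pureR (α := α) w) := by
  obtain ⟨k, hk⟩ : ∃ k, w k ≠ 0 := by
    by_contra hall
    apply hw
    funext k
    by_contra hne
    exact hall ⟨k, hne⟩
  intro u u' h
  funext i
  have h1 := congrFun h (i, k)
  simp only [pureR_apply, pureT] at h1
  exact mul_right_cancel₀ hk h1

/-- left contraction `(φ ⊗ 1) v` -/
def cL (φ : α → F) : (α × β → F) →ₗ[F] (β → F) where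
  toFun v j := ∑ i, φ i * v (i, j)
  map_add' v v' := by
    funext j; simp only [Pi.add_apply, mul_add, Finset.sum_add_distrib]
  map_smul' c v := by
    funext j
    simp only [Pi.smul_apply, smul_eq_mul, RingHom.id_apply, Finset.mul_sum]
    apply Finset.sum_congr rfl
    intro i _
    ring

/-- right contraction `(1 ⊗ ψ) v` -/
def cR (ψ : β → F) : (α × β → F) →ₗ[F] (α → F) where
  toFun v i := ∑ j, v (i, j) * ψ j
  map_add' v v' := by
    funext i; simp only [Pi.add_apply, add_mul, Finset.sum_add_distrib]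
  map_smul' c v := by
    funext i
    simp only [Pi.smul_apply, smul_eq_mul, RingHom.id_apply, Finset.mul_sum]
    apply Finset.sum_congr rfl
    intro j _
    ring

omit [DecidableEq α] [Fintype β] [DecidableEq β] in
theorem cL_pureT (φ u : α → F) (w : β → F) : cL φ (pureT u w) = (φ ⬝ᵥ u) • w := by
  funext j
  show ∑ i, φ i * (u i * w j) = (φ ⬝ᵥ u) • w j
  rw [dotProduct, smul_eq_mul, Finset.sum_mul]
  apply Finset.sum_congr rfl
  intro i _
  ring

omit [Fintype α] [DecidableEq α] [DecidableEq β] in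
theorem cR_pureT (ψ w : β → F) (u : α → F) : cR ψ (pureT u w) = (w ⬝ᵥ ψ) • u := by
  funext i
  show ∑ j, (u i * w j) * ψ j = (w ⬝ᵥ ψ) • u i
  rw [dotProduct, smul_eq_mul, Finset.sum_mul]
  apply Finset.sum_congr rfl
  intro j _
  ring

/-- the functional `u ↦ φ ⬝ᵥ u` -/
def dotL (φ : α → F) : (α → F) →ₗ[F] F where
  toFun u := φ ⬝ᵥ u
  map_add' u u' := dotProduct_add φ u u'
  map_smul' c u := by simp [dotProduct_smul]

omit [DecidableEq α] in
theorem dotL_apply (φ u : α → F) : dotL φ u = φ ⬝ᵥ u := rfl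

omit [DecidableEq α] in
theorem finrank_ker_dotL (φ u : α → F) (h : φ ⬝ᵥ u ≠ 0) :
    finrank F (LinearMap.ker (dotL φ)) + 1 = Fintype.card α := by
  have hne : dotL φ ≠ 0 := by
    intro h0
    apply h
    rw [← dotL_apply, h0]
    rfl
  have := Module.Dual.finrank_ker_add_one_of_ne_zero (f := dotL φ) hne
  rw [this, Module.finrank_fintype_fun_eq_card]

omit [Fintype α] [DecidableEq α] in
/-- two vectors that are not proportional have a non-zero `2 × 2` minor -/
theorem exists_minor (s t : α → F) (hs : s ≠ 0) (h : ∀ z : F, t ≠ z • s) :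
    ∃ k k', s k * t k' - s k' * t k ≠ 0 := by
  obtain ⟨k, hk⟩ : ∃ k, s k ≠ 0 := by
    by_contra hall
    apply hs
    funext k
    by_contra hne
    exact hall ⟨k, hne⟩
  by_contra hcon
  push Not at hcon
  apply h (t k / s k)
  funext k'
  have := hcon k k'
  rw [Pi.smul_apply, smul_eq_mul]
  field_simp
  linear_combination this

omit [DecidableEq α] in
/-- a functional separating two non-proportional vectors -/
theorem exists_sep (s t : α → F) (hs : s ≠ 0) (h : ∀ z : F, t ≠ z • s) :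
    ∃ φ : α → F, φ ⬝ᵥ s = 1 ∧ φ ⬝ᵥ t = 0 := by
  classical
  obtain ⟨k, k', hD⟩ := exists_minor s t hs h
  have hkk' : k ≠ k' := by
    rintro rfl
    apply hD
    ring
  refine ⟨fun i => (s k * t k' - s k' * t k)⁻¹ *
    ((if i = k then t k' else 0) - (if i = k' then t k else 0)), ?_, ?_⟩
  · rw [dotProduct]
    have : ∀ i, (s k * t k' - s k' * t k)⁻¹ *
        ((if i = k then t k' else 0) - (if i = k' then t k else 0)) * s i =
        (s k * t k' - s k' * t k)⁻¹ * ((if i = k then t k' * s i else 0) -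
          (if i = k' then t k * s i else 0)) := by
      intro i
      split_ifs <;> ring
    simp only [this]
    rw [← Finset.mul_sum, Finset.sum_sub_distrib, Finset.sum_ite_eq' Finset.univ k,
      Finset.sum_ite_eq' Finset.univ k']
    simp only [Finset.mem_univ, if_true]
    field_simp
  · rw [dotProduct]
    have : ∀ i, (s k * t k' - s k' * t k)⁻¹ *
        ((if i = k then t k' else 0) - (if i = k' then t k else 0)) * t i =
        (s k * t k' - s k' * t k)⁻¹ * ((if i = k then t k' * t i else 0) -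
          (if i = k' then t k * t i else 0)) := by
      intro i
      split_ifs <;> ring
    simp only [this]
    rw [← Finset.mul_sum, Finset.sum_sub_distrib, Finset.sum_ite_eq' Finset.univ k,
      Finset.sum_ite_eq' Finset.univ k']
    simp only [Finset.mem_univ, if_true]
    ring

/-- **Core computation**: the subspace `u₀ ⊗ ker ψ + ker φ ⊗ w₀` meets the fixed space of `A ⊗ₖ B`
trivially. -/
theorem fix_inf_eq_zero (A : Matrix α α F) (B : Matrix β β F) (u₀ φ : α → F) (w₀ ψ : β → F)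
    (h1 : φ ⬝ᵥ u₀ = 1) (h2 : φ ⬝ᵥ (A *ᵥ u₀) = 0) (h3 : w₀ ⬝ᵥ ψ = 0) (h4 : (B *ᵥ w₀) ⬝ᵥ ψ = 1)
    (w : β → F) (u : α → F) (hw : w ⬝ᵥ ψ = 0) (hu : φ ⬝ᵥ u = 0)
    (hfix : (A ⊗ₖ B) *ᵥ (pureT u₀ w + pureT u w₀) = pureT u₀ w + pureT u w₀) :
    pureT u₀ w + pureT u w₀ = 0 := by
  rw [Matrix.mulVec_add, kron_mulVec_pureT, kron_mulVec_pureT] at hfix
  -- contract with `ψ`
  have hR := congrArg (cR ψ) hfix
  rw [map_add, map_add, cR_pureT, cR_pureT, cR_pureT, cR_pureT, h4, hw, h3, one_smul, zero_smul,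
    zero_smul, add_zero] at hR
  -- contract with `φ`
  have hL := congrArg (cL φ) hfix
  rw [map_add, map_add, cL_pureT, cL_pureT, cL_pureT, cL_pureT, h2, h1, hu, one_smul, zero_smul,
    zero_smul, add_zero, zero_add] at hL
  have hAu : A *ᵥ u = -(((B *ᵥ w) ⬝ᵥ ψ) • (A *ᵥ u₀)) := eq_neg_of_add_eq_zero_right hR
  have hφAu : φ ⬝ᵥ (A *ᵥ u) = 0 := by
    rw [hAu, dotProduct_neg, dotProduct_smul, h2, smul_zero, neg_zero]
  have hw0 : w = 0 := by
    rw [← hL, hφAu, zero_smul]
  subst hw0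
  have hAu0 : A *ᵥ u = 0 := by
    rw [hAu, Matrix.mulVec_zero, zero_dotProduct, zero_smul, neg_zero]
  rw [hAu0, Matrix.mulVec_zero, pureT_zero_right, pureT_zero_left, add_zero, pureT_zero_right,
    zero_add] at hfix
  rw [pureT_zero_right, zero_add, ← hfix]

/-- **Refined rank lemma**, vector form. -/
theorem finrank_fix_kron_le (A : Matrix α α F) (B : Matrix β β F) (u₀ : α → F) (w₀ : β → F)
    (hu₀ : ∀ z : F, A *ᵥ u₀ ≠ z • u₀) (hw₀ : ∀ z : F, B *ᵥ w₀ ≠ z • w₀) :
    finrank F (LinearMap.ker (Matrix.toLin' (A ⊗ₖ B) - LinearMap.id)) + Fintype.card α +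
      Fintype.card β ≤ Fintype.card α * Fintype.card β + 2 := by
  have hu₀0 : u₀ ≠ 0 := by
    rintro rfl
    exact hu₀ 0 (by rw [Matrix.mulVec_zero, smul_zero])
  have hw₀0 : w₀ ≠ 0 := by
    rintro rfl
    exact hw₀ 0 (by rw [Matrix.mulVec_zero, smul_zero])
  obtain ⟨φ, h1, h2⟩ := exists_sep u₀ (A *ᵥ u₀) hu₀0 hu₀
  -- for `ψ` exchange the roles: `ψ (B w₀) = 1`, `ψ w₀ = 0`
  have hBw₀0 : B *ᵥ w₀ ≠ 0 := by
    intro h0
    exact hw₀ 0 (by rw [h0, zero_smul])
  have hw₀' : ∀ z : F, w₀ ≠ z • (B *ᵥ w₀) := by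
    intro z hz
    by_cases hz0 : z = 0
    · rw [hz0, zero_smul] at hz
      exact hw₀0 hz
    · apply hw₀ z⁻¹
      conv_rhs => rw [hz]
      rw [smul_smul, inv_mul_cancel₀ hz0, one_smul]
  obtain ⟨ψ, h4', h3'⟩ := exists_sep (B *ᵥ w₀) w₀ hBw₀0 hw₀'
  have h4 : (B *ᵥ w₀) ⬝ᵥ ψ = 1 := by rw [dotProduct_comm]; exact h4'
  have h3 : w₀ ⬝ᵥ ψ = 0 := by rw [dotProduct_comm]; exact h3'
  set Fix := LinearMap.ker (Matrix.toLin' (A ⊗ₖ B) - LinearMap.id) with hFix
  set X : Submodule F (α × β → F) := (LinearMap.ker (dotL ψ)).map (pureL u₀) with hX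
  set Y : Submodule F (α × β → F) := (LinearMap.ker (dotL φ)).map (pureR w₀) with hY
  have hXdim : finrank F X + 1 = Fintype.card β := by
    rw [hX, ← (Submodule.equivMapOfInjective (pureL u₀) (pureL_injective u₀ hu₀0)
      (LinearMap.ker (dotL ψ))).finrank_eq]
    exact finrank_ker_dotL ψ (B *ᵥ w₀) (by rw [h4']; exact one_ne_zero)
  have hYdim : finrank F Y + 1 = Fintype.card α := by
    rw [hY, ← (Submodule.equivMapOfInjective (pureR w₀) (pureR_injective w₀ hw₀0)
      (LinearMap.ker (dotL φ))).finrank_eq]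
    exact finrank_ker_dotL φ u₀ (by rw [h1]; exact one_ne_zero)
  have hmemX : ∀ v, v ∈ X ↔ ∃ w : β → F, w ⬝ᵥ ψ = 0 ∧ pureT u₀ w = v := by
    intro v
    rw [hX, Submodule.mem_map]
    constructor
    · rintro ⟨w, hw, rfl⟩
      rw [LinearMap.mem_ker, dotL_apply, dotProduct_comm] at hw
      exact ⟨w, hw, rfl⟩
    · rintro ⟨w, hw, rfl⟩
      refine ⟨w, ?_, rfl⟩
      rw [LinearMap.mem_ker, dotL_apply, dotProduct_comm]
      exact hw
  have hmemY : ∀ v, v ∈ Y ↔ ∃ u : α → F, φ ⬝ᵥ u = 0 ∧ pureT u w₀ = v := by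
    intro v
    rw [hY, Submodule.mem_map]
    constructor
    · rintro ⟨u, hu, rfl⟩
      exact ⟨u, hu, rfl⟩
    · rintro ⟨u, hu, rfl⟩
      exact ⟨u, hu, rfl⟩
  have hXY : X ⊓ Y = ⊥ := by
    rw [eq_bot_iff]
    rintro v ⟨hvX, hvY⟩
    obtain ⟨w, hw, rfl⟩ := (hmemX v).mp hvX
    obtain ⟨u, hu, huw⟩ := (hmemY _).mp hvY
    have := congrArg (cL φ) huw
    rw [cL_pureT, cL_pureT, hu, h1, zero_smul, one_smul] at this
    rw [Submodule.mem_bot, ← this, pureT_zero_right]
  have hT : (X ⊔ Y) ⊓ Fix = ⊥ := by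
    rw [eq_bot_iff]
    rintro v ⟨hvT, hvF⟩
    obtain ⟨x, hx, y, hy, rfl⟩ := Submodule.mem_sup.mp hvT
    obtain ⟨w, hw, rfl⟩ := (hmemX x).mp hx
    obtain ⟨u, hu, rfl⟩ := (hmemY y).mp hy
    rw [SetLike.mem_coe, hFix, LinearMap.mem_ker, LinearMap.sub_apply, LinearMap.id_apply,
      sub_eq_zero, Matrix.toLin'_apply] at hvF
    rw [Submodule.mem_bot]
    exact fix_inf_eq_zero A B u₀ φ w₀ ψ h1 h2 h3 h4 w u hw hu hvF
  have hsum1 := Submodule.finrank_sup_add_finrank_inf_eq X Y
  rw [hXY, finrank_bot, add_zero] at hsum1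
  have hsum2 := Submodule.finrank_sup_add_finrank_inf_eq (X ⊔ Y) Fix
  rw [hT, finrank_bot, add_zero] at hsum2
  have hle : finrank F ↥((X ⊔ Y) ⊔ Fix) ≤ Fintype.card α * Fintype.card β := by
    have := Submodule.finrank_le ((X ⊔ Y) ⊔ Fix)
    rwa [Module.finrank_fintype_fun_eq_card, Fintype.card_prod] at this
  omega

/-- a non-scalar matrix moves some vector off its line -/
theorem exists_not_eigen (A : Matrix α α F) (hA : ∀ z : F, A ≠ z • (1 : Matrix α α F)) :
    ∃ u₀ : α → F, ∀ z : F, A *ᵥ u₀ ≠ z • u₀ := by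
  by_contra hcon
  push Not at hcon
  have h : ∀ v : α → F, ¬ LinearIndependent F ![v, Matrix.toLin' A v] := by
    intro v hli
    obtain ⟨lam, hlam⟩ := hcon v
    rw [LinearIndependent.pair_iff] at hli
    have h1 := hli lam (-1) (by rw [Matrix.toLin'_apply, hlam]; simp)
    exact absurd h1.2 (by norm_num)
  obtain ⟨z, hz⟩ := LinearMap.exists_eq_smul_id_of_forall_notLinearIndependent h
  apply hA z
  apply Matrix.toLin'.injective
  rw [hz, map_smul, Matrix.toLin'_one]
  rfl

/-- **Refined rank lemma**: both factors non-scalar ⇒ `codim Fix(A ⊗ B) ≥ a + b - 2`. -/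
theorem finrank_fix_kron_le_of_nonscalar (A : Matrix α α F) (B : Matrix β β F)
    (hA : ∀ z : F, A ≠ z • (1 : Matrix α α F)) (hB : ∀ z : F, B ≠ z • (1 : Matrix β β F)) :
    finrank F (LinearMap.ker (Matrix.toLin' (A ⊗ₖ B) - LinearMap.id)) + Fintype.card α +
      Fintype.card β ≤ Fintype.card α * Fintype.card β + 2 := by
  obtain ⟨u₀, hu₀⟩ := exists_not_eigen A hA
  obtain ⟨w₀, hw₀⟩ := exists_not_eigen B hB
  exact finrank_fix_kron_le A B u₀ w₀ hu₀ hw₀

/-- a Kronecker product whose fixed space has codimension `< a + b - 2` has a scalar factor -/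
theorem scalar_or_scalar_of_fix (A : Matrix α α F) (B : Matrix β β F)
    (h : Fintype.card α * Fintype.card β + 2 <
      finrank F (LinearMap.ker (Matrix.toLin' (A ⊗ₖ B) - LinearMap.id)) + Fintype.card α +
        Fintype.card β) :
    (∃ z : F, A = z • (1 : Matrix α α F)) ∨ (∃ z : F, B = z • (1 : Matrix β β F)) := by
  by_contra hcon
  push Not at hcon
  have := finrank_fix_kron_le_of_nonscalar A B hcon.1 hcon.2
  omega

end Cfsg.Agent.Lib.Helper10.KronRank2
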