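import Mathlib

set_option autoImplicit false

namespace Cfsg.Agent.Lib.Helper10

open scoped BigOperators

/-- **Frobenius action lemma** (norm argument).  Let `L` act on the commutative group `V` through
`ρ`, and let `M`, `X` be finite subgroups of `L` with `X` normalizing `M` such that no non-identity
element of `X` commutes with a non-identity element of `M`.  If neither `M` nor `X` has a non-trivial
fixed point on `V`, then `V` has exponent dividing `|M|`. -/
theorem pow_card_eq_one_of_frobenius_fpf {L V : Type*} [Group L] [CommGroup V] (ρ : L →* MulAut V)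
    (M X : Subgroup L) [Finite M] [Finite X]
    (hXM : X ≤ Subgroup.normalizer (M : Set L))
    (hfrob : ∀ g ∈ X, g ≠ 1 → ∀ m ∈ M, m * g = g * m → m = 1)
    (hM : ∀ v : V, (∀ m ∈ M, ρ m v = v) → v = 1)
    (hX : ∀ v : V, (∀ g ∈ X, ρ g v = v) → v = 1) (v : V) : v ^ Nat.card M = 1 := by
  classical
  have : Fintype M := Fintype.ofFinite M
  have : Fintype X := Fintype.ofFinite X
  have hNM : ∀ w : V, ∏ m : M, ρ (m : L) w = 1 := by
    intro w
    apply hM
    intro m₀ hm₀
    rw [map_prod]
    refine Fintype.prod_equiv (Equiv.mulLeft (⟨m₀, hm₀⟩ : M)) _ _ ?_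
    intro m
    simp [map_mul]
  have hNX : ∀ w : V, ∏ g : X, ρ (g : L) w = 1 := by
    intro w
    apply hX
    intro g₀ hg₀
    rw [map_prod]
    refine Fintype.prod_equiv (Equiv.mulLeft (⟨g₀, hg₀⟩ : X)) _ _ ?_
    intro g
    simp [map_mul]
  have h1 : ∏ m : M, ρ (m : L) (∏ g : X, ρ (g : L) (ρ ((m : L)⁻¹) v)) = 1 := by
    apply Finset.prod_eq_one
    intro m _
    rw [hNX, map_one]
  have h2 : ∀ m : M, ρ (m : L) (∏ g : X, ρ (g : L) (ρ ((m : L)⁻¹) v)) =
      ∏ g : X, ρ ((m : L) * g * (m : L)⁻¹) v := by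
    intro m
    rw [map_prod]
    apply Finset.prod_congr rfl
    intro g _
    simp [map_mul]
  rw [Finset.prod_congr rfl (fun m _ => h2 m), Finset.prod_comm] at h1
  have h3 : ∀ g : X, g ≠ 1 → ∏ m : M, ρ ((m : L) * g * (m : L)⁻¹) v = 1 := by
    intro g hg
    have hgN : (g : L) ∈ Subgroup.normalizer (M : Set L) := hXM g.2
    have hmem : ∀ m : M, (g : L)⁻¹ * m * g * (m : L)⁻¹ ∈ M := by
      intro m
      apply M.mul_mem _ (M.inv_mem m.2)
      have := (Subgroup.mem_normalizer_iff.mp (Subgroup.inv_mem _ hgN) (m : L)).mp m.2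
      simpa using this
    let e : M → M := fun m => ⟨(g : L)⁻¹ * m * g * (m : L)⁻¹, hmem m⟩
    have he : Function.Injective e := by
      intro m m' hmm'
      have h4 : (g : L)⁻¹ * m * g * (m : L)⁻¹ = (g : L)⁻¹ * m' * g * (m' : L)⁻¹ :=
        congrArg Subtype.val hmm'
      have h5 : ((m' : L)⁻¹ * m) * g = g * ((m' : L)⁻¹ * m) := by
        have h6 : (m : L) * g * (m : L)⁻¹ = m' * g * (m' : L)⁻¹ := by
          have := congrArg (fun z => (g : L) * z) h4
          simpa [mul_assoc] using this
        calc ((m' : L)⁻¹ * m) * g = (m' : L)⁻¹ * (m * g * (m : L)⁻¹) * m := by group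
          _ = (m' : L)⁻¹ * (m' * g * (m' : L)⁻¹) * m := by rw [h6]
          _ = g * ((m' : L)⁻¹ * m) := by group
      have h7 := hfrob g g.2 (fun h => hg (Subtype.ext h)) _
        (M.mul_mem (M.inv_mem m'.2) m.2) h5
      apply Subtype.ext
      have : (m : L) = m' := by
        have := congrArg (fun z => (m' : L) * z) h7
        simpa using this
      exact this
    have hb := Finite.injective_iff_bijective.mp he
    have h8 : ∏ m : M, ρ ((m : L) * g * (m : L)⁻¹) v = ∏ m : M, ρ ((g : L) * (e m : L)) v := by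
      apply Finset.prod_congr rfl
      intro m _
      congr 2
      show (m : L) * g * (m : L)⁻¹ = (g : L) * ((g : L)⁻¹ * m * g * (m : L)⁻¹)
      group
    rw [h8, Fintype.prod_bijective e hb (fun m => ρ ((g : L) * (e m : L)) v)
      (fun m' => ρ ((g : L) * (m' : L)) v) (fun _ => rfl)]
    have h9 : ∏ m' : M, ρ ((g : L) * (m' : L)) v = ρ (g : L) (∏ m' : M, ρ (m' : L) v) := by
      rw [map_prod]
      apply Finset.prod_congr rfl
      intro m' _
      simp [map_mul]
    rw [h9, hNM, map_one]
  rw [Finset.prod_eq_single_of_mem (1 : X) (Finset.mem_univ _) (fun g _ hg => h3 g hg)] at h1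
  simpa [Finset.prod_const, Finset.card_univ, Nat.card_eq_fintype_card] using h1

end Cfsg.Agent.Lib.Helper10
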