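import Cfsg.Agent.Lib.Helper10.FrobSub

/-!
# From an action on an elementary abelian group to a representation over an algebraically
closed field

Given `ψ : L →* MulAut M` with `M` elementary abelian of exponent `ℓ`, we produce a matrix
representation of `L` over the algebraic closure of `ZMod ℓ` with the same kernel and such that
fixed vectors descend.
-/

set_option autoImplicit false

namespace Cfsg.Agent.Lib.Helper10.XRep

open Module

universe u v

section Bridge

variable {ℓ : ℕ} [Fact ℓ.Prime] {L : Type v} [Group L] [Finite L] {M : Type u} [CommGroup M]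
  [Finite M] [Module (ZMod ℓ) (Additive M)] (ψ : L →* MulAut M)

theorem exists_rep_aux :
    ∃ (n : ℕ) (ρ : L →* Module.End (AlgebraicClosure (ZMod ℓ)) (Fin n → AlgebraicClosure (ZMod ℓ))),
      (∀ g, ρ g = 1 → ψ g = 1) ∧
      (∀ g, (∃ u, u ≠ 0 ∧ ρ g u = u) → ∃ m : M, m ≠ 1 ∧ ψ g m = m) ∧
      (Nontrivial M → 0 < n) := by
  classical
  let F := ZMod ℓ
  let E := AlgebraicClosure (ZMod ℓ)
  let V := Additive M
  have : Finite V := Finite.of_equiv M Additive.ofMul
  have : Module.Finite F V := Module.Finite.of_finite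
  let n := finrank F V
  let b : Basis (Fin n) F V := finBasis F V
  let ρ₀ : L →* Module.End F V := FrobAction.actEnd ψ
  let m₀ : Module.End F V ≃ₐ[F] Matrix (Fin n) (Fin n) F := LinearMap.toMatrixAlgEquiv b
  let ι : Matrix (Fin n) (Fin n) F →+* Matrix (Fin n) (Fin n) E := (algebraMap F E).mapMatrix
  let t : Matrix (Fin n) (Fin n) E ≃ₐ[E] Module.End E (Fin n → E) := Matrix.toLinAlgEquiv'
  let ρ : L →* Module.End E (Fin n → E) :=
    ((t : Matrix (Fin n) (Fin n) E →* Module.End E (Fin n → E)).comp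
      (ι : Matrix (Fin n) (Fin n) F →* Matrix (Fin n) (Fin n) E)).comp
      ((m₀ : Module.End F V →* Matrix (Fin n) (Fin n) F).comp ρ₀)
  have hρ : ∀ g, ρ g = t (ι (m₀ (ρ₀ g))) := fun g => rfl
  have hιinj : Function.Injective ι := by
    intro A B hAB
    exact Matrix.map_injective (algebraMap F E).injective hAB
  refine ⟨n, ρ, ?_, ?_, ?_⟩
  · intro g hg
    rw [hρ] at hg
    have h1 : ι (m₀ (ρ₀ g)) = 1 := t.injective (by rw [hg, map_one])
    have h2 : m₀ (ρ₀ g) = 1 := hιinj (by rw [h1, map_one])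
    have h3 : ρ₀ g = 1 := m₀.injective (by rw [h2, map_one])
    ext m
    have h4 := LinearMap.congr_fun h3 (Additive.ofMul m)
    rw [FrobAction.actEnd_apply] at h4
    exact congrArg Additive.toMul h4
  · rintro g ⟨u, hu0, hu⟩
    set A : Matrix (Fin n) (Fin n) F := m₀ (ρ₀ g) with hA
    have h1 : (ι A - 1).mulVec u = 0 := by
      rw [Matrix.sub_mulVec, Matrix.one_mulVec, sub_eq_zero]
      have h2 : ρ g u = (ι A).mulVec u := by
        rw [hρ]
        rfl
      rw [← h2, hu]
    have h3 : (ι A - 1).det = 0 := Matrix.exists_mulVec_eq_zero_iff.mp ⟨u, hu0, h1⟩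
    have h4 : ι A - 1 = ι (A - 1) := by rw [map_sub, map_one]
    have h5 : (A - 1).det = 0 := by
      rw [h4] at h3
      have h6 : (algebraMap F E) (A - 1).det = 0 := by
        rw [RingHom.map_det]
        exact h3
      exact (map_eq_zero_iff _ (algebraMap F E).injective).mp h6
    obtain ⟨v, hv0, hv⟩ := Matrix.exists_mulVec_eq_zero_iff.mpr h5
    rw [Matrix.sub_mulVec, Matrix.one_mulVec, sub_eq_zero] at hv
    let x : V := b.equivFun.symm v
    have hx : b.repr x = Finsupp.equivFunOnFinite.symm v := by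
      apply Finsupp.ext
      intro i
      have : b.equivFun x = v := b.equivFun.apply_symm_apply v
      rw [← this]
      rfl
    have hx' : ⇑(b.repr x) = v := by
      rw [hx]
      rfl
    have h7 : b.repr (ρ₀ g x) = b.repr x := by
      apply Finsupp.ext
      intro i
      have h8 := LinearMap.toMatrix_mulVec_repr b b (ρ₀ g) x
      have h9 : LinearMap.toMatrix b b (ρ₀ g) = A := rfl
      rw [h9, hx', hv] at h8
      rw [← congrFun h8 i, hx']
    have h10 : ρ₀ g x = x := b.repr.injective h7
    have hx0 : x ≠ 0 := by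
      intro h
      apply hv0
      rw [← hx', h, map_zero]
      rfl
    refine ⟨Additive.toMul x, ?_, ?_⟩
    · intro h
      exact hx0 (congrArg Additive.ofMul h)
    · rw [FrobAction.actEnd_apply] at h10
      exact congrArg Additive.toMul h10
  · intro hM
    have : Nontrivial V := (Additive.ofMul (α := M)).symm.nontrivial
    exact finrank_pos

end Bridge

/-- the bridge, without instance arguments. -/
theorem exists_rep {ℓ : ℕ} (hℓ : ℓ.Prime) {L : Type v} [Group L] [Finite L] {M : Type u} [Group M] [Finite M]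
    (hcomm : ∀ x y : M, x * y = y * x) (hexp : ∀ x : M, x ^ ℓ = 1) (ψ : L →* MulAut M) :
    ∃ (E : Type) (_ : Field E) (_ : IsAlgClosed E) (_ : CharP E ℓ) (n : ℕ)
      (ρ : L →* Module.End E (Fin n → E)),
      (∀ g, ρ g = 1 → ψ g = 1) ∧
      (∀ g, (∃ u, u ≠ 0 ∧ ρ g u = u) → ∃ m : M, m ≠ 1 ∧ ψ g m = m) ∧
      (Nontrivial M → 0 < n) := by
  have : Fact ℓ.Prime := ⟨hℓ⟩
  let iC : CommGroup M := { (inferInstance : Group M) with mul_comm := hcomm }
  let iM : @Module (ZMod ℓ) (Additive M) _
      (@AddCommGroup.toAddCommMonoid _ (@Additive.addCommGroup _ iC)) :=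
    @AddCommGroup.zmodModule ℓ (Additive M) (@Additive.addCommGroup _ iC) (by
      intro x
      show Additive.ofMul ((Additive.toMul x) ^ ℓ) = 0
      rw [hexp]
      rfl)
  obtain ⟨n, ρ, h1, h2, h3⟩ := @exists_rep_aux ℓ _ L _ _ M iC _ iM ψ
  exact ⟨AlgebraicClosure (ZMod ℓ), inferInstance, inferInstance, inferInstance, n, ρ, h1, h2, h3⟩

end Cfsg.Agent.Lib.Helper10.XRep
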