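import Mathlib

/-!
# Fixed vectors for a Frobenius-like action with abelian kernel

If `φ` is a fixed-point-free automorphism of prime order `r` of a finite abelian group `A`,
implemented by an operator `T` with `T ^ r = 1` in a faithful representation of `A` over a field
in which `|A|` is invertible, then `T` has a nonzero fixed vector (unless `A` is trivial).
-/

set_option autoImplicit false

namespace Cfsg.Agent.Lib.Helper10.XRep

universe u v w

section Abel

variable {E : Type v} [Field E] {A : Type u} [CommGroup A] [Fintype A]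
  {U₀ : Type w} [AddCommGroup U₀] [Module E U₀]

/-- the partial norm. -/
def pnorm (φ : A ≃* A) (i : ℕ) (g : A) : A := ∏ j ∈ Finset.range i, φ^[j] g

omit [Fintype A] in
theorem pnorm_succ (φ : A ≃* A) (i : ℕ) (g : A) : pnorm φ (i + 1) g = pnorm φ i g * φ^[i] g :=
  Finset.prod_range_succ _ _

omit [Fintype A] in
theorem pnorm_mul (φ : A ≃* A) (i : ℕ) (g h : A) : pnorm φ i (g * h) = pnorm φ i g * pnorm φ i h := by
  unfold pnorm
  rw [← Finset.prod_mul_distrib]
  apply Finset.prod_congr rfl
  intro j _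
  exact iterate_map_mul φ j g h

omit [Fintype A] in
theorem pnorm_shift (φ : A ≃* A) (i : ℕ) (g : A) : φ (pnorm φ i g) * g = pnorm φ i g * φ^[i] g := by
  rw [← pnorm_succ]
  unfold pnorm
  rw [map_prod, Finset.prod_range_succ']
  congr 1
  apply Finset.prod_congr rfl
  intro j _
  rw [Function.iterate_succ_apply']

theorem abel_trivial (ρ : A →* Module.End E U₀) (hρ : ∀ g, ρ g = 1 → g = 1) (φ : A ≃* A) {r : ℕ}
    (hr : r.Prime) (hφr : ∀ g, φ^[r] g = g) (hC : ∀ g, φ g = g → g = 1)
    (T : Module.End E U₀) (hTr : T ^ r = 1) (hT : ∀ g, T * ρ g = ρ (φ g) * T)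
    (hfix : ∀ u, T u = u → u = 0) (hcard : (Fintype.card A : E) ≠ 0) : ∀ g : A, g = 1 := by
  classical
  -- injectivity of the partial norms
  have hNinj : ∀ i, 0 < i → i < r → ∀ g, pnorm φ i g = 1 → g = 1 := by
    intro i hi0 hir g hg
    have h1 := pnorm_shift φ i g
    rw [hg, map_one, one_mul, one_mul] at h1
    have h2 : Function.IsPeriodicPt φ i g := h1.symm
    have h3 : Function.IsPeriodicPt φ r g := hφr g
    have h4 : Function.IsPeriodicPt φ (i.gcd r) g := h2.gcd h3
    have h5 : i.gcd r = 1 := by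
      have : Nat.Coprime r i :=
        (Nat.Prime.coprime_iff_not_dvd hr).mpr (Nat.not_dvd_of_pos_of_lt hi0 hir)
      exact Nat.Coprime.symm this
    rw [h5] at h4
    exact hC g h4
  have hNbij : ∀ i, 0 < i → i < r → Function.Bijective (pnorm φ i) := by
    intro i hi0 hir
    rw [← Finite.injective_iff_bijective]
    intro g h hgh
    have h1 : pnorm φ i (g * h⁻¹) = 1 := by
      rw [pnorm_mul, hgh, ← pnorm_mul, mul_inv_cancel]
      unfold pnorm
      apply Finset.prod_eq_one
      intro j _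
      exact iterate_map_one φ j
    have h2 := hNinj i hi0 hir _ h1
    exact mul_inv_eq_one.mp h2
  -- powers
  have hTi : ∀ (i : ℕ) (g : A), T ^ i * ρ g = ρ (φ^[i] g) * T ^ i := by
    intro i
    induction i with
    | zero => intro g; simp
    | succ i ih =>
      intro g
      rw [pow_succ, mul_assoc, hT, ← mul_assoc, ih, Function.iterate_succ_apply, mul_assoc]
  have hpow : ∀ (i : ℕ) (g : A), (ρ g * T) ^ i = ρ (pnorm φ i g) * T ^ i := by
    intro i
    induction i with
    | zero =>
      intro g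
      simp [pnorm]
    | succ i ih =>
      intro g
      rw [pow_succ, ih, pnorm_succ, map_mul, pow_succ]
      calc ρ (pnorm φ i g) * T ^ i * (ρ g * T)
          = ρ (pnorm φ i g) * (T ^ i * ρ g) * T := by simp only [mul_assoc]
        _ = ρ (pnorm φ i g) * (ρ (φ^[i] g) * T ^ i) * T := by rw [hTi]
        _ = ρ (pnorm φ i g) * ρ (φ^[i] g) * (T ^ i * T) := by simp only [mul_assoc]
  have hNr : ∀ g, pnorm φ r g = 1 := by
    intro g
    apply hC
    have h1 := pnorm_shift φ r g
    rw [hφr] at h1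
    exact mul_right_cancel h1
  have hSr : ∀ g, (ρ g * T) ^ r = 1 := by
    intro g
    rw [hpow, hNr, map_one, one_mul, hTr]
  -- every `ρ g * T` is conjugate to `T`
  have hdbij : Function.Bijective (fun h : A => h⁻¹ * φ h) := by
    rw [← Finite.injective_iff_bijective]
    intro g h hgh
    have h1 : g⁻¹ * φ g = h⁻¹ * φ h := hgh
    have h2 : φ (g * h⁻¹) = g * h⁻¹ := by
      rw [map_mul, map_inv]
      calc φ g * (φ h)⁻¹ = g * (g⁻¹ * φ g) * (φ h)⁻¹ := by rw [mul_inv_cancel_left]
        _ = g * (h⁻¹ * φ h) * (φ h)⁻¹ := by rw [h1]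
        _ = g * h⁻¹ := by rw [← mul_assoc, mul_inv_cancel_right]
    exact mul_inv_eq_one.mp (hC _ h2)
  have hSfix : ∀ (g : A) (u : U₀), (ρ g * T) u = u → u = 0 := by
    intro g u hu
    obtain ⟨h, hh⟩ := hdbij.2 g
    have hh' : h⁻¹ * φ h = g := hh
    have h1 : ρ g * T = ρ h⁻¹ * T * ρ h := by
      rw [mul_assoc, hT, ← mul_assoc, ← map_mul, hh']
    rw [h1, Module.End.mul_apply, Module.End.mul_apply] at hu
    have h2 : T (ρ h u) = ρ h u := by
      have h3 := congrArg (ρ h) hu
      rw [← Module.End.mul_apply, ← map_mul, mul_inv_cancel, map_one, Module.End.one_apply] at h3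
      exact h3
    have h4 := hfix _ h2
    have h5 : u = ρ h⁻¹ (ρ h u) := by
      rw [← Module.End.mul_apply, ← map_mul, inv_mul_cancel, map_one, Module.End.one_apply]
    rw [h5, h4, map_zero]
  have hsum0 : ∀ g, ∑ i ∈ Finset.range r, (ρ g * T) ^ i = 0 := by
    intro g
    have h1 : (ρ g * T - 1) * ∑ i ∈ Finset.range r, (ρ g * T) ^ i = 0 := by
      rw [mul_geom_sum, hSr, sub_self]
    apply LinearMap.ext
    intro u
    rw [LinearMap.zero_apply]
    apply hSfix g
    have h2 := LinearMap.congr_fun h1 u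
    rw [Module.End.mul_apply, LinearMap.sub_apply, Module.End.one_apply, LinearMap.zero_apply,
      sub_eq_zero] at h2
    exact h2
  -- summing over the group
  obtain ⟨m, hm⟩ : ∃ m, r = m + 1 := ⟨r - 1, (Nat.succ_pred_eq_of_pos hr.pos).symm⟩
  let Sg : Module.End E U₀ := ∑ g : A, ρ g
  let W : Module.End E U₀ := ∑ i ∈ Finset.range m, T ^ (i + 1)
  have hmain : (Fintype.card A : E) • (1 : Module.End E U₀) + Sg * W = 0 := by
    have h1 : ∑ g : A, ∑ i ∈ Finset.range r, (ρ g * T) ^ i = 0 :=
      Finset.sum_eq_zero (fun g _ => hsum0 g)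
    rw [Finset.sum_comm] at h1
    rw [hm, Finset.sum_range_succ'] at h1
    have h2 : ∑ g : A, (ρ g * T) ^ 0 = (Fintype.card A : E) • (1 : Module.End E U₀) := by
      simp only [pow_zero]
      rw [Finset.sum_const, Finset.card_univ, Nat.cast_smul_eq_nsmul]
    have h3 : ∑ i ∈ Finset.range m, ∑ g : A, (ρ g * T) ^ (i + 1) = Sg * W := by
      show _ = (∑ g : A, ρ g) * ∑ i ∈ Finset.range m, T ^ (i + 1)
      rw [Finset.mul_sum]
      apply Finset.sum_congr rfl
      intro i hi
      have hi' : i + 1 < r := by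
        rw [Finset.mem_range] at hi
        omega
      rw [Finset.sum_mul]
      rw [← (hNbij (i + 1) (Nat.succ_pos i) hi').sum_comp (fun g => ρ g * T ^ (i + 1))]
      apply Finset.sum_congr rfl
      intro g _
      exact hpow (i + 1) g
    rw [h2, h3, add_comm] at h1
    exact h1
  intro g₀
  apply hρ
  have h1 : ρ g₀ * Sg = Sg := by
    show ρ g₀ * ∑ g : A, ρ g = ∑ g : A, ρ g
    rw [Finset.mul_sum, ← Equiv.sum_comp (Equiv.mulLeft g₀) (fun g => ρ g)]
    apply Finset.sum_congr rfl
    intro g _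
    rw [Equiv.coe_mulLeft, map_mul]
  have h2 : ρ g₀ * ((Fintype.card A : E) • (1 : Module.End E U₀) + Sg * W) = 0 := by
    rw [hmain, mul_zero]
  rw [mul_add, ← mul_assoc, h1, mul_smul_comm, mul_one] at h2
  have h3 : (Fintype.card A : E) • (ρ g₀ - 1) = 0 := by
    rw [smul_sub]
    have h4 : (Fintype.card A : E) • ρ g₀ = -(Sg * W) := eq_neg_of_add_eq_zero_left h2
    have h5 : (Fintype.card A : E) • (1 : Module.End E U₀) = -(Sg * W) :=
      eq_neg_of_add_eq_zero_left hmain
    rw [h4, h5, sub_self]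
  rcases smul_eq_zero.mp h3 with h | h
  · exact absurd h hcard
  · exact sub_eq_zero.mp h

end Abel

end Cfsg.Agent.Lib.Helper10.XRep
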