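import Cfsg.Agent.Lib.Helper10.FrobSub

/-!
# Conjugation automorphisms: iterates and coprime lifting modulo the centre
-/

set_option autoImplicit false

namespace Cfsg.Agent.Lib.Helper10.XRep

universe u

variable {H : Type u} [Group H]

theorem conjAut_coe (Q : Subgroup H) (x : H) (hx : x ∈ Subgroup.normalizer (Q : Set H)) (g : Q) :
    ((FrobAction.conjAut Q x hx g : Q) : H) = x * g * x⁻¹ := rfl

theorem conjAut_iterate (Q : Subgroup H) (x : H) (hx : x ∈ Subgroup.normalizer (Q : Set H))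
    (k : ℕ) (g : Q) :
    (((FrobAction.conjAut Q x hx)^[k] g : Q) : H) = x ^ k * g * (x ^ k)⁻¹ := by
  induction k with
  | zero => simp
  | succ k ih =>
    rw [Function.iterate_succ_apply', conjAut_coe, ih, pow_succ']
    group

theorem conjAut_iterate_eq (Q : Subgroup H) (x : H) (hx : x ∈ Subgroup.normalizer (Q : Set H))
    {r : ℕ} (hxr : x ^ r = 1) (g : Q) : (FrobAction.conjAut Q x hx)^[r] g = g := by
  apply Subtype.ext
  rw [conjAut_iterate, hxr, inv_one, mul_one, one_mul]

/-- coprime lifting: if `C_Q(x) ≤ Z(Q)` then `x` acts without fixed points on `Q / Z(Q)`. -/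
theorem fpf_mod_center [Finite H] (Q : Subgroup H) (x : H)
    (hx : x ∈ Subgroup.normalizer (Q : Set H))
    (hcop : (orderOf x).Coprime (Nat.card (Subgroup.center Q)))
    (hC : ∀ g : Q, x * g * x⁻¹ = g → g ∈ Subgroup.center Q) :
    ∀ g : Q, g⁻¹ * (FrobAction.conjAut Q x hx g) ∈ Subgroup.center Q → g ∈ Subgroup.center Q := by
  intro g hg
  let J : Subgroup H := Subgroup.zpowers x
  have hJQ : J ≤ Subgroup.normalizer (Q : Set H) := by
    rw [Subgroup.zpowers_le]
    exact hx
  let ψ : J →* MulAut Q := FrobAction.conjHom Q J hJQ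
  have hinv : FrobAction.Invariant ψ (Subgroup.center Q) := FrobAction.invariant_center ψ
  let S : Subgroup J :=
    { carrier := {h | g⁻¹ * ψ h g ∈ Subgroup.center Q}
      one_mem' := by
        show g⁻¹ * ψ 1 g ∈ Subgroup.center Q
        rw [map_one, MulAut.one_apply, inv_mul_cancel]
        exact Subgroup.one_mem _
      mul_mem' := by
        intro h k hh hk
        have hh' : g⁻¹ * ψ h g ∈ Subgroup.center Q := hh
        have hk' : g⁻¹ * ψ k g ∈ Subgroup.center Q := hk
        show g⁻¹ * ψ (h * k) g ∈ Subgroup.center Q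
        have h1 : g⁻¹ * ψ (h * k) g = (g⁻¹ * ψ h g) * ψ h (g⁻¹ * ψ k g) := by
          rw [map_mul, MulAut.mul_apply, map_mul, map_inv]
          group
        rw [h1]
        exact Subgroup.mul_mem _ hh' (hinv h _ hk')
      inv_mem' := by
        intro h hh
        have hh' : g⁻¹ * ψ h g ∈ Subgroup.center Q := hh
        show g⁻¹ * ψ h⁻¹ g ∈ Subgroup.center Q
        have h1 : g⁻¹ * ψ h⁻¹ g = ψ h⁻¹ ((g⁻¹ * ψ h g)⁻¹) := by
          have e1 : ψ h⁻¹ (ψ h g) = g := FrobAction.psi_inv_apply ψ h g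
          rw [mul_inv_rev, inv_inv, map_mul (ψ h⁻¹), map_inv (ψ h⁻¹), e1]
        rw [h1]
        exact hinv h⁻¹ _ (Subgroup.inv_mem _ hh') }
  have hxS : (⟨x, Subgroup.mem_zpowers x⟩ : J) ∈ S := hg
  have hStop : ∀ h : J, h ∈ S := by
    intro h
    obtain ⟨k, hk⟩ := Subgroup.mem_zpowers_iff.mp h.2
    have h1 : h = (⟨x, Subgroup.mem_zpowers x⟩ : J) ^ k := by
      apply Subtype.ext
      rw [Subgroup.coe_zpow]
      exact hk.symm
    rw [h1]
    exact Subgroup.zpow_mem _ hxS k
  have hab : ∀ a ∈ Subgroup.center Q, ∀ b ∈ Subgroup.center Q, a * b = b * a :=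
    fun a _ b hb => (Subgroup.mem_center_iff.mp hb a)
  have hcop' : (Nat.card (⊤ : Subgroup J)).Coprime (Nat.card (Subgroup.center Q)) := by
    rw [Subgroup.card_top, Nat.card_zpowers]
    exact hcop
  obtain ⟨u, hu, hfixed⟩ := FrobAction.exists_fixed_in_coset ψ ⊤ (Subgroup.center Q) hab hinv
    hcop' g (fun h _ => hStop h)
  have h2 := hfixed ⟨x, Subgroup.mem_zpowers x⟩ (Subgroup.mem_top _)
  have h3 : x * ((g * u : Q) : H) * x⁻¹ = ((g * u : Q) : H) := congrArg Subtype.val h2
  have h4 := hC (g * u) h3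
  have h5 : g = (g * u) * u⁻¹ := by rw [mul_inv_cancel_right]
  rw [h5]
  exact Subgroup.mul_mem _ h4 (Subgroup.inv_mem _ hu)

end Cfsg.Agent.Lib.Helper10.XRep
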