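import Cfsg.Agent.Lib.Helper10.XRepSub
import Cfsg.Agent.Lib.Helper10.XRepConj
import Cfsg.Agent.Lib.Helper10.XRepAbel

/-!
# The minimal configuration and the linear theorem

If `x` of prime order `r` normalises a `q`-subgroup `Q` of a finite group faithfully represented
over an algebraically closed field of characteristic prime to `q r`, and `x` has no nonzero fixed
vector, then `x` centralises `Q`, unless `q = 2`, `r` is a Fermat prime and `Q` is nonabelian.
-/

set_option autoImplicit false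

namespace Cfsg.Agent.Lib.Helper10.XRep

open scoped commutatorElement

universe u v w

section Abstract

variable {M : Type u} [Group M] [Finite M]

omit [Finite M] in
theorem mulAut_pow_apply (φ : MulAut M) (n : ℕ) (g : M) : (φ ^ n) g = φ^[n] g := by
  induction n with
  | zero => rfl
  | succ n ih => rw [pow_succ', MulAut.mul_apply, ih, Function.iterate_succ_apply']

/-- coprime lifting modulo the centre, abstract version. -/
theorem fpf_mod_center' (φ : M ≃* M) {r : ℕ} (hφr : ∀ g, φ^[r] g = g)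
    (hcop : r.Coprime (Nat.card (Subgroup.center M)))
    (hC : ∀ g, φ g = g → g ∈ Subgroup.center M) :
    ∀ g, g⁻¹ * φ g ∈ Subgroup.center M → g ∈ Subgroup.center M := by
  intro g hg
  let φ' : MulAut M := φ
  let J : Subgroup (MulAut M) := Subgroup.zpowers φ'
  let ψ : J →* MulAut M := J.subtype
  have hinv : FrobAction.Invariant ψ (Subgroup.center M) := FrobAction.invariant_center ψ
  let S : Subgroup J :=
    { carrier := {h | g⁻¹ * ψ h g ∈ Subgroup.center M}
      one_mem' := by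
        show g⁻¹ * ψ 1 g ∈ Subgroup.center M
        rw [map_one, MulAut.one_apply, inv_mul_cancel]
        exact Subgroup.one_mem _
      mul_mem' := by
        intro h k hh hk
        have hh' : g⁻¹ * ψ h g ∈ Subgroup.center M := hh
        have hk' : g⁻¹ * ψ k g ∈ Subgroup.center M := hk
        show g⁻¹ * ψ (h * k) g ∈ Subgroup.center M
        have h1 : g⁻¹ * ψ (h * k) g = (g⁻¹ * ψ h g) * ψ h (g⁻¹ * ψ k g) := by
          rw [map_mul, MulAut.mul_apply, map_mul, map_inv]
          group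
        rw [h1]
        exact Subgroup.mul_mem _ hh' (hinv h _ hk')
      inv_mem' := by
        intro h hh
        have hh' : g⁻¹ * ψ h g ∈ Subgroup.center M := hh
        show g⁻¹ * ψ h⁻¹ g ∈ Subgroup.center M
        have h1 : g⁻¹ * ψ h⁻¹ g = ψ h⁻¹ ((g⁻¹ * ψ h g)⁻¹) := by
          have e1 : ψ h⁻¹ (ψ h g) = g := FrobAction.psi_inv_apply ψ h g
          rw [mul_inv_rev, inv_inv, map_mul (ψ h⁻¹), map_inv (ψ h⁻¹), e1]
        rw [h1]
        exact hinv h⁻¹ _ (Subgroup.inv_mem _ hh') }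
  have hxS : (⟨φ', Subgroup.mem_zpowers φ'⟩ : J) ∈ S := hg
  have hStop : ∀ h : J, h ∈ S := by
    intro h
    obtain ⟨k, hk⟩ := Subgroup.mem_zpowers_iff.mp h.2
    have h1 : h = (⟨φ', Subgroup.mem_zpowers φ'⟩ : J) ^ k := by
      apply Subtype.ext
      rw [Subgroup.coe_zpow]
      exact hk.symm
    rw [h1]
    exact Subgroup.zpow_mem _ hxS k
  have hab : ∀ a ∈ Subgroup.center M, ∀ b ∈ Subgroup.center M, a * b = b * a :=
    fun a _ b hb => (Subgroup.mem_center_iff.mp hb a)
  have hφ'r : φ' ^ r = 1 := by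
    ext g
    rw [mulAut_pow_apply]
    exact hφr g
  have hcop' : (Nat.card (⊤ : Subgroup J)).Coprime (Nat.card (Subgroup.center M)) := by
    rw [Subgroup.card_top, Nat.card_zpowers]
    exact Nat.Coprime.coprime_dvd_left (orderOf_dvd_of_pow_eq_one hφ'r) hcop
  obtain ⟨u, hu, hfixed⟩ := FrobAction.exists_fixed_in_coset ψ ⊤ (Subgroup.center M) hab hinv
    hcop' g (fun h _ => hStop h)
  have h2 := hfixed ⟨φ', Subgroup.mem_zpowers φ'⟩ (Subgroup.mem_top _)
  have h3 : φ (g * u) = g * u := h2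
  have h4 := hC (g * u) h3
  have h5 : g = (g * u) * u⁻¹ := by rw [mul_inv_cancel_right]
  rw [h5]
  exact Subgroup.mul_mem _ h4 (Subgroup.inv_mem _ hu)

omit [Finite M] in
/-- in a minimal configuration the group is generated by the commutators with `φ`. -/
theorem closure_eq_top_of_min {q r : ℕ} (hq : q.Prime) (hr : r.Prime) (hqr : q ≠ r)
    (hM : IsPGroup q M) (φ : M ≃* M) (hφr : ∀ g, φ^[r] g = g)
    (hmin : ∀ P : Subgroup M, P ≠ ⊤ → (∀ g ∈ P, φ g ∈ P) → ∀ g ∈ P, φ g = g)
    (hφ : ∃ g, φ g ≠ g) :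
    Subgroup.closure {y : M | ∃ g, y = g⁻¹ * φ g} = ⊤ := by
  by_contra hP
  have hinv : ∀ g ∈ Subgroup.closure {y : M | ∃ g, y = g⁻¹ * φ g},
      φ g ∈ Subgroup.closure {y : M | ∃ g, y = g⁻¹ * φ g} := by
    intro g hg
    induction hg using Subgroup.closure_induction with
    | mem y hy =>
      obtain ⟨g, rfl⟩ := hy
      apply Subgroup.subset_closure
      exact ⟨φ g, by rw [map_mul, map_inv]⟩
    | one =>
      rw [map_one]
      exact Subgroup.one_mem _
    | mul x y _ _ hx hy =>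
      rw [map_mul]
      exact Subgroup.mul_mem _ hx hy
    | inv x _ hx =>
      rw [map_inv]
      exact Subgroup.inv_mem _ hx
  have hfixP := hmin _ hP hinv
  obtain ⟨g, hg⟩ := hφ
  apply hg
  have hcP : g⁻¹ * φ g ∈ Subgroup.closure {y : M | ∃ g, y = g⁻¹ * φ g} :=
    Subgroup.subset_closure ⟨g, rfl⟩
  obtain ⟨c, hc⟩ : ∃ c, c = g⁻¹ * φ g := ⟨_, rfl⟩
  rw [← hc] at hcP
  have hφc : φ c = c := hfixP c hcP
  have hφg : φ g = g * c := by rw [hc, mul_inv_cancel_left]
  have hk : ∀ k : ℕ, φ^[k] g = g * c ^ k := by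
    intro k
    induction k with
    | zero => simp
    | succ k ih =>
      rw [Function.iterate_succ_apply', ih, map_mul, map_pow, hφc, hφg, pow_succ', mul_assoc]
  have hcr : c ^ r = 1 := by
    have h1 := hk r
    rw [hφr] at h1
    exact mul_eq_left.mp h1.symm
  obtain ⟨j, hj⟩ := hM c
  have h1 : orderOf c ∣ r := orderOf_dvd_of_pow_eq_one hcr
  have h2 : orderOf c ∣ q ^ j := orderOf_dvd_of_pow_eq_one hj
  have hcop : Nat.Coprime r (q ^ j) :=
    Nat.Coprime.pow_right j ((Nat.coprime_primes hr hq).mpr (Ne.symm hqr))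
  have h3 : orderOf c = 1 := Nat.eq_one_of_dvd_coprimes hcop h1 h2
  rw [orderOf_eq_one_iff] at h3
  rw [hφg, h3, mul_one]

theorem arith_fermat {q r j : ℕ} (hq : q.Prime) (hr : r.Prime) (h : (r - 1) ^ 2 = q ^ j)
    (hne : (r - 1) ^ 2 ≠ 1) : q = 2 ∧ ∃ n : ℕ, r = 2 ^ n + 1 := by
  have h2 : (r - 1) ∣ q ^ j := ⟨r - 1, by rw [← h, sq]⟩
  obtain ⟨m, -, hm⟩ := (Nat.dvd_prime_pow hq).mp h2
  have hm0 : m ≠ 0 := by
    rintro rfl
    apply hne
    rw [hm, pow_zero, one_pow]
  have hr1 : r = q ^ m + 1 := by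
    have := hr.one_lt
    omega
  have hq2 : q = 2 := by
    rcases hr.eq_two_or_odd' with h' | h'
    · exfalso
      rw [h'] at hr1
      have h4 : q ^ m = 1 := by omega
      have h5 : q ≤ q ^ m := Nat.le_self_pow hm0 q
      have := hq.two_le
      omega
    · rw [hr1] at h'
      have h4 : Even (q ^ m) := by
        rcases Nat.even_or_odd (q ^ m) with h5 | h5
        · exact h5
        · exfalso
          have : Even (q ^ m + 1) := h5.add_one
          exact (Nat.not_even_iff_odd.mpr h') this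
      have h5 : Even q := (Nat.even_pow.mp h4).1
      exact hq.even_iff.mp h5
  subst hq2
  exact ⟨rfl, m, hr1⟩

end Abstract

section AbsThm

variable {E : Type v} [Field E] [IsAlgClosed E] {M : Type u} [Group M] [Finite M]
  {U₀ : Type w} [AddCommGroup U₀] [Module E U₀] [FiniteDimensional E U₀]

/-- the theorem in a minimal configuration. -/
theorem absThm (ρ : M →* Module.End E U₀) (hρ : ∀ g, ρ g = 1 → g = 1)
    {q r : ℕ} (hq : q.Prime) (hr : r.Prime) (hqr : q ≠ r) (hM : IsPGroup q M)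
    (hqE : (q : E) ≠ 0) (hrE : (r : E) ≠ 0)
    (φ : M ≃* M) (hφr : ∀ g, φ^[r] g = g)
    (hmin : ∀ P : Subgroup M, P ≠ ⊤ → (∀ g ∈ P, φ g ∈ P) → ∀ g ∈ P, φ g = g)
    (T : Module.End E U₀) (hTr : T ^ r = 1) (hT : ∀ g, T * ρ g = ρ (φ g) * T)
    (hfix : ∀ u, T u = u → u = 0)
    (hexc : q = 2 → (∃ n : ℕ, r = 2 ^ n + 1) → ∀ a b : M, a * b = b * a) :
    ∀ g, φ g = g := by
  classical
  by_contra hcon
  push Not at hcon
  have hFq : Fact q.Prime := ⟨hq⟩
  have hcl := closure_eq_top_of_min hq hr hqr hM φ hφr hmin hcon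
  have hcardE : ∀ P : Subgroup M, (Nat.card P : E) ≠ 0 := by
    intro P
    obtain ⟨m, hm⟩ := IsPGroup.iff_card.mp (hM.to_subgroup P)
    rw [hm, Nat.cast_pow]
    exact pow_ne_zero _ hqE
  by_cases hab : ∀ a b : M, a * b = b * a
  · -- the abelian case
    let iC : CommGroup M := { (inferInstance : Group M) with mul_comm := hab }
    let d : M →* M :=
      { toFun := fun g => g⁻¹ * φ g
        map_one' := by rw [map_one, inv_one, one_mul]
        map_mul' := by
          intro g h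
          rw [map_mul, mul_inv_rev]
          calc h⁻¹ * g⁻¹ * (φ g * φ h) = h⁻¹ * (g⁻¹ * φ g) * φ h := by group
            _ = (g⁻¹ * φ g) * h⁻¹ * φ h := by rw [hab h⁻¹ (g⁻¹ * φ g)]
            _ = g⁻¹ * φ g * (h⁻¹ * φ h) := by group }
    have hdsurj : Function.Surjective d := by
      rw [← MonoidHom.range_eq_top, eq_top_iff, ← hcl, Subgroup.closure_le]
      rintro y ⟨g, rfl⟩
      exact ⟨g, rfl⟩
    have hdinj : Function.Injective d := Finite.injective_iff_surjective.mpr hdsurj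
    have hC : ∀ g, φ g = g → g = 1 := by
      intro g hg
      apply hdinj
      show g⁻¹ * φ g = d 1
      rw [hg, inv_mul_cancel, map_one]
    have hcard : ((@Fintype.card M (Fintype.ofFinite M) : ℕ) : E) ≠ 0 := by
      have h1 := hcardE ⊤
      rw [Subgroup.card_top, @Nat.card_eq_fintype_card M (Fintype.ofFinite M)] at h1
      exact h1
    have htriv := @abel_trivial E _ M iC (Fintype.ofFinite M) U₀ _ _ ρ hρ φ r hr hφr hC T hTr hT
      hfix hcard
    obtain ⟨g, hg⟩ := hcon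
    apply hg
    rw [htriv g, map_one]
  · -- the nonabelian case
    push Not at hab
    obtain ⟨a, b, hab⟩ := hab
    have hbZ : b ∉ Subgroup.center M := fun h => hab (Subgroup.mem_center_iff.mp h a)
    have hZtop : Subgroup.center M ≠ ⊤ := fun h => hbZ (h ▸ Subgroup.mem_top b)
    have hZinv : ∀ g ∈ Subgroup.center M, φ g ∈ Subgroup.center M := by
      intro g hg
      have h1 := Subgroup.characteristic_iff_map_eq.mp
        (Subgroup.centerCharacteristic (G := M)) φ
      rw [← h1]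
      exact Subgroup.mem_map_of_mem _ hg
    have hφZ : ∀ z ∈ Subgroup.center M, φ z = z := hmin _ hZtop hZinv
    have hnt : Nontrivial M := ⟨⟨a * b, b * a, hab⟩⟩
    have hnil : Group.IsNilpotent M := hM.isNilpotent
    have hDtop : commutator M ≠ ⊤ := (Group.IsSolvable.commutator_lt_top_of_nontrivial M).ne
    have hDinv : ∀ g ∈ commutator M, φ g ∈ commutator M := by
      intro g hg
      have h1 := Subgroup.characteristic_iff_map_eq.mp
        (inferInstance : (commutator M).Characteristic) φ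
      rw [← h1]
      exact Subgroup.mem_map_of_mem _ hg
    have hφD : ∀ d ∈ commutator M, φ d = d := hmin _ hDtop hDinv
    have hcommD : ∀ g h : M, ⁅g, h⁆ ∈ commutator M := by
      intro g h
      rw [commutator_def]
      exact Subgroup.commutator_mem_commutator (Subgroup.mem_top g) (Subgroup.mem_top h)
    have hCZ : ∀ c, φ c = c → c ∈ Subgroup.center M := by
      intro c hc
      have h1 : ∀ g : M, c * (g⁻¹ * φ g) = (g⁻¹ * φ g) * c := by
        intro g
        have h2 := hφD _ (hcommD c g)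
        rw [map_commutatorElement, hc, commutatorElement_def, commutatorElement_def] at h2
        -- h2 : c * φ g * c⁻¹ * (φ g)⁻¹ = c * g * c⁻¹ * g⁻¹
        have h3 : φ g * c⁻¹ * (φ g)⁻¹ = g * c⁻¹ * g⁻¹ := by
          calc φ g * c⁻¹ * (φ g)⁻¹ = c⁻¹ * (c * φ g * c⁻¹ * (φ g)⁻¹) := by group
            _ = c⁻¹ * (c * g * c⁻¹ * g⁻¹) := congrArg (fun t => c⁻¹ * t) h2
            _ = g * c⁻¹ * g⁻¹ := by group
        have h4 : (g⁻¹ * φ g) * c⁻¹ = c⁻¹ * (g⁻¹ * φ g) := by
          calc (g⁻¹ * φ g) * c⁻¹ = g⁻¹ * (φ g * c⁻¹ * (φ g)⁻¹) * φ g := by group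
            _ = g⁻¹ * (g * c⁻¹ * g⁻¹) * φ g := by rw [h3]
            _ = c⁻¹ * (g⁻¹ * φ g) := by group
        calc c * (g⁻¹ * φ g) = c * ((g⁻¹ * φ g) * c⁻¹) * c := by group
          _ = c * (c⁻¹ * (g⁻¹ * φ g)) * c := by rw [h4]
          _ = (g⁻¹ * φ g) * c := by group
      have h5 : Subgroup.closure {y : M | ∃ g, y = g⁻¹ * φ g}
          ≤ Subgroup.centralizer ({c} : Set M) := by
        rw [Subgroup.closure_le]
        rintro y ⟨g, rfl⟩
        show g⁻¹ * φ g ∈ Subgroup.centralizer ({c} : Set M)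
        rw [Subgroup.mem_centralizer_iff]
        intro x hx
        rw [Set.mem_singleton_iff] at hx
        rw [hx]
        exact h1 g
      rw [hcl] at h5
      rw [Subgroup.mem_center_iff]
      intro y
      have h6 : y ∈ Subgroup.centralizer ({c} : Set M) := h5 (Subgroup.mem_top y)
      rw [Subgroup.mem_centralizer_iff] at h6
      exact (h6 c rfl).symm
    have hcomm : ∀ g h : M, ⁅g, h⁆ ∈ Subgroup.center M :=
      fun g h => hCZ _ (hφD _ (hcommD g h))
    have hcop : r.Coprime (Nat.card (Subgroup.center M)) := by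
      obtain ⟨m, hm⟩ := IsPGroup.iff_card.mp (hM.to_subgroup (Subgroup.center M))
      rw [hm]
      exact Nat.Coprime.pow_right m ((Nat.coprime_primes hr hq).mpr (Ne.symm hqr))
    have hfpf := fpf_mod_center' φ hφr hcop hCZ
    have hz₀1 : ⁅a, b⁆ ≠ 1 := fun h => hab (commutatorElement_eq_one_iff_mul_comm.mp h)
    have hnd : ∀ g : M, g ∉ Subgroup.center M → ∀ Z₁ : Subgroup M, Z₁ ≤ Subgroup.center M →
        ⁅a, b⁆ ∉ Z₁ → ∃ h : M, ⁅h, g⁆ ∉ Z₁ := by
      intro g hg Z₁ hZ₁ hz₀
      by_contra hcon'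
      push Not at hcon'
      have hcen : ∀ z ∈ Z₁, ∀ y : M, y * z = z * y :=
        fun z hz y => Subgroup.mem_center_iff.mp (hZ₁ hz) y
      let R : Subgroup M :=
        { carrier := {g' | ∀ h : M, ⁅h, g'⁆ ∈ Z₁}
          one_mem' := by
            intro h
            rw [commutatorElement_one_right]
            exact Subgroup.one_mem _
          mul_mem' := by
            intro x y hx hy h
            have hx' : ⁅h, x⁆ ∈ Z₁ := hx h
            have hy' : ⁅h, y⁆ ∈ Z₁ := hy h
            have h1 : ⁅h, x * y⁆ = ⁅h, x⁆ * ⁅h, y⁆ := by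
              have h2 : ⁅h, x * y⁆ = ⁅h, x⁆ * (x * ⁅h, y⁆ * x⁻¹) := by
                simp only [commutatorElement_def]
                group
              rw [h2, hcen _ hy' x, mul_inv_cancel_right]
            rw [h1]
            exact Subgroup.mul_mem _ hx' hy'
          inv_mem' := by
            intro x hx h
            have hx' : ⁅h, x⁆ ∈ Z₁ := hx h
            have h1 : ⁅h, x⁻¹⁆ = ⁅h, x⁆⁻¹ := by
              have h2 : ⁅h, x⁻¹⁆ = x⁻¹ * ⁅h, x⁆⁻¹ * x := by
                simp only [commutatorElement_def]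
                group
              rw [h2, mul_assoc, ← hcen _ (Subgroup.inv_mem _ hx') x, inv_mul_cancel_left]
            rw [h1]
            exact Subgroup.inv_mem _ hx' }
      have hgR : g ∈ R := hcon'
      have hRinv : ∀ g' ∈ R, φ g' ∈ R := by
        intro g' hg' h
        have h1 : ⁅φ.symm h, g'⁆ ∈ Z₁ := hg' (φ.symm h)
        have h2 : φ ⁅φ.symm h, g'⁆ = ⁅φ.symm h, g'⁆ := hφZ _ (hZ₁ h1)
        rw [map_commutatorElement, MulEquiv.apply_symm_apply] at h2
        rw [h2]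
        exact h1
      by_cases hR : R = ⊤
      · apply hz₀
        have hbR : b ∈ R := hR ▸ Subgroup.mem_top b
        exact hbR a
      · exact hg (hCZ g (hmin R hR hRinv g hgR))
    have hQZ : ∃ g, g ∉ Subgroup.center M := ⟨b, hbZ⟩
    have hidx := coreGroup ρ hρ hq hr hM hqE hrE hcomm φ hφZ hφr hfpf T hTr hT hfix ⁅a, b⁆
      (hcomm a b) hz₀1 hnd hQZ
    obtain ⟨j, hj⟩ := hM.index (Subgroup.center M)
    have hne : (r - 1) ^ 2 ≠ 1 := by
      intro h
      rw [h] at hidx
      exact hZtop (Subgroup.index_eq_one.mp hidx)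
    rw [hidx] at hj
    obtain ⟨hq2, hfer⟩ := arith_fermat hq hr hj hne
    exact hab (hexc hq2 hfer a b)

end AbsThm

section LinThm

variable {E : Type v} [Field E] [IsAlgClosed E] {H : Type u} [Group H] [Finite H]
  {U₀ : Type w} [AddCommGroup U₀] [Module E U₀] [FiniteDimensional E U₀]

omit [Finite H] in
theorem mem_normalizer_of_conj_mem (x : H) (P : Subgroup H) [Finite P]
    (h : ∀ g ∈ P, x * g * x⁻¹ ∈ P) : x ∈ Subgroup.normalizer (P : Set H) := by
  rw [Subgroup.mem_normalizer_iff]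
  intro g
  constructor
  · exact h g
  · intro hg
    let f : P → P := fun p => ⟨x * p * x⁻¹, h p p.2⟩
    have hf : Function.Injective f := by
      intro a b hab
      have h1 : x * (a : H) * x⁻¹ = x * (b : H) * x⁻¹ := congrArg Subtype.val hab
      apply Subtype.ext
      exact mul_left_cancel (mul_right_cancel h1)
    obtain ⟨p, hp⟩ := Finite.injective_iff_surjective.mp hf ⟨x * g * x⁻¹, hg⟩
    have h1 : x * (p : H) * x⁻¹ = x * g * x⁻¹ := congrArg Subtype.val hp
    have h2 : (p : H) = g := mul_left_cancel (mul_right_cancel h1)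
    rw [← h2]
    exact p.2

/-- **the linear theorem**, faithful version. -/
theorem linThm (ρ : H →* Module.End E U₀) (hρ : ∀ g, ρ g = 1 → g = 1)
    {q r : ℕ} (hq : q.Prime) (hr : r.Prime) (hqr : q ≠ r) (hqE : (q : E) ≠ 0) (hrE : (r : E) ≠ 0)
    (x : H) (hxr : x ^ r = 1) (hfix : ∀ u, ρ x u = u → u = 0)
    (Q : Subgroup H) (hQ : IsPGroup q Q) (hxQ : ∀ g ∈ Q, x * g * x⁻¹ ∈ Q)
    (hexc : q = 2 → (∃ n : ℕ, r = 2 ^ n + 1) → ∀ a ∈ Q, ∀ b ∈ Q, a * b = b * a) :
    ∀ g ∈ Q, x * g = g * x := by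
  suffices h : ∀ n : ℕ, ∀ Q : Subgroup H, Nat.card Q = n → IsPGroup q Q →
      (∀ g ∈ Q, x * g * x⁻¹ ∈ Q) →
      (q = 2 → (∃ n : ℕ, r = 2 ^ n + 1) → ∀ a ∈ Q, ∀ b ∈ Q, a * b = b * a) →
      ∀ g ∈ Q, x * g = g * x from h _ Q rfl hQ hxQ hexc
  intro n
  induction n using Nat.strong_induction_on with
  | _ n ih =>
    intro Q hn hQ hxQ hexc
    have hxN := mem_normalizer_of_conj_mem x Q hxQ
    let φ : Q ≃* Q := FrobAction.conjAut Q x hxN
    let ρQ : Q →* Module.End E U₀ := ρ.comp Q.subtype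
    have key : ∀ g : Q, φ g = g := by
      apply absThm ρQ ?_ hq hr hqr hQ hqE hrE φ (fun g => conjAut_iterate_eq Q x hxN hxr g) ?_
        (ρ x) ?_ ?_ hfix ?_
      · intro g hg
        exact Subtype.ext (hρ _ hg)
      · intro P hP hPinv g hg
        have hcard : Nat.card (P.map Q.subtype) < n := by
          rw [Subgroup.card_map_of_injective Q.subtype_injective, ← hn]
          exact lt_of_le_of_ne (Subgroup.card_le_card_group P)
            (fun h => hP ((Subgroup.card_eq_iff_eq_top P).mp h))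
        have hP'Q : P.map Q.subtype ≤ Q := Subgroup.map_subtype_le P
        have hP'x : ∀ g ∈ P.map Q.subtype, x * g * x⁻¹ ∈ P.map Q.subtype := by
          rintro _ ⟨p, hp, rfl⟩
          exact ⟨φ p, hPinv p hp, rfl⟩
        have h1 := ih _ hcard (P.map Q.subtype) rfl (hQ.to_le hP'Q) hP'x
          (fun h2 hf a ha b hb => hexc h2 hf a (hP'Q ha) b (hP'Q hb)) (g : H) ⟨g, hg, rfl⟩
        apply Subtype.ext
        show x * (g : H) * x⁻¹ = g
        rw [h1, mul_inv_cancel_right]
      · rw [← map_pow, hxr, map_one]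
      · intro g
        show ρ x * ρ (g : H) = ρ ((φ g : Q) : H) * ρ x
        rw [← map_mul, ← map_mul]
        congr 1
        show x * (g : H) = x * (g : H) * x⁻¹ * x
        group
      · intro h2 hf a b
        exact Subtype.ext (hexc h2 hf a a.2 b b.2)
    intro g hg
    have h1 : x * g * x⁻¹ = g := congrArg Subtype.val (key ⟨g, hg⟩)
    calc x * g = (x * g * x⁻¹) * x := by group
      _ = g * x := by rw [h1]

/-- **the linear theorem**, for a representation that need not be faithful. -/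
theorem linThm' (ρ : H →* Module.End E U₀)
    {q r : ℕ} (hq : q.Prime) (hr : r.Prime) (hqr : q ≠ r) (hqE : (q : E) ≠ 0) (hrE : (r : E) ≠ 0)
    (x : H) (hxr : x ^ r = 1) (hfix : ∀ u, ρ x u = u → u = 0)
    (Q : Subgroup H) (hQ : IsPGroup q Q) (hxQ : ∀ g ∈ Q, x * g * x⁻¹ ∈ Q)
    (hexc : q = 2 → (∃ n : ℕ, r = 2 ^ n + 1) → ∀ a ∈ Q, ∀ b ∈ Q, a * b = b * a) :
    ∀ g ∈ Q, ρ x * ρ g = ρ g * ρ x := by
  let ρ' : H ⧸ ρ.ker →* Module.End E U₀ := QuotientGroup.lift ρ.ker ρ (fun g hg => hg)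
  have hρ' : ∀ g : H, ρ' (QuotientGroup.mk' ρ.ker g) = ρ g := fun g => rfl
  have hinj : ∀ y : H ⧸ ρ.ker, ρ' y = 1 → y = 1 := by
    intro y hy
    obtain ⟨g, rfl⟩ := QuotientGroup.mk'_surjective ρ.ker y
    rw [hρ'] at hy
    exact (QuotientGroup.eq_one_iff g).mpr (MonoidHom.mem_ker.mpr hy)
  have hx1 : (QuotientGroup.mk' ρ.ker x) ^ r = 1 := by rw [← map_pow, hxr, map_one]
  have hx2 : ∀ u, ρ' (QuotientGroup.mk' ρ.ker x) u = u → u = 0 := by
    intro u hu
    rw [hρ'] at hu
    exact hfix u hu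
  have hx3 : ∀ g ∈ Q.map (QuotientGroup.mk' ρ.ker),
      (QuotientGroup.mk' ρ.ker x) * g * (QuotientGroup.mk' ρ.ker x)⁻¹
        ∈ Q.map (QuotientGroup.mk' ρ.ker) := by
    rintro _ ⟨g, hg, rfl⟩
    exact ⟨x * g * x⁻¹, hxQ g hg, by rw [map_mul, map_mul, map_inv]⟩
  have hx4 : q = 2 → (∃ n : ℕ, r = 2 ^ n + 1) → ∀ a ∈ Q.map (QuotientGroup.mk' ρ.ker),
      ∀ b ∈ Q.map (QuotientGroup.mk' ρ.ker), a * b = b * a := by
    intro h2 hf
    rintro _ ⟨a, ha, rfl⟩ _ ⟨b, hb, rfl⟩
    rw [← map_mul, ← map_mul, hexc h2 hf a ha b hb]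
  have h1 := linThm ρ' hinj hq hr hqr hqE hrE (QuotientGroup.mk' ρ.ker x)
    hx1 hx2 (Q.map (QuotientGroup.mk' ρ.ker)) (hQ.map (QuotientGroup.mk' ρ.ker)) hx3 hx4
  intro g hg
  have h2 := h1 (QuotientGroup.mk' ρ.ker g) ⟨g, hg, rfl⟩
  have h3 := congrArg ρ' h2
  rw [map_mul, map_mul, hρ', hρ'] at h3
  exact h3

end LinThm

end Cfsg.Agent.Lib.Helper10.XRep
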