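import Mathlib
import Cfsg.Agent.Lib.Helper10.XRepMin
import Cfsg.Agent.Lib.Helper1.Fitting
import Cfsg.Agent.Lib.Helper1.Cores

/-!
The linear theorem for a normal subgroup with trivial `ℓ`-core: an element of prime order
without fixed vectors centralizes it.
-/

set_option autoImplicit false

universe u v w

namespace Cfsg.Agent.Lib.Helper10.XRep

open Cfsg

section LinThm2

variable {E : Type v} [Field E] [IsAlgClosed E] {H : Type u} [Group H] [Finite H]
  {U₀ : Type w} [AddCommGroup U₀] [Module E U₀] [FiniteDimensional E U₀]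

omit [Finite H] in
/-- an element commuting with its commutator with `k`, of order prime to the group of `k`. -/
theorem commute_of_commute_commutator {K : Subgroup H} [K.Normal] {r : ℕ}
    (hrK : (Nat.card K).Coprime r) (x : H) (hxr : x ^ r = 1) (k : H) (hk : k ∈ K)
    (hc : x * (k * x * k⁻¹ * x⁻¹) = (k * x * k⁻¹ * x⁻¹) * x) : x * k = k * x := by
  obtain ⟨c, hcdef⟩ : ∃ c, c = k * x * k⁻¹ * x⁻¹ := ⟨_, rfl⟩
  rw [← hcdef] at hc
  have hcK : c ∈ K := by
    rw [hcdef]
    have h1 : x * k⁻¹ * x⁻¹ ∈ K := Subgroup.Normal.conj_mem inferInstance _ (inv_mem hk) x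
    have e : k * x * k⁻¹ * x⁻¹ = k * (x * k⁻¹ * x⁻¹) := by group
    rw [e]
    exact mul_mem hk h1
  have h2 : k * x * k⁻¹ = c * x := by rw [hcdef]; group
  have h3 : (k * x * k⁻¹) ^ r = 1 := by
    rw [conj_pow, hxr, mul_one, mul_inv_cancel]
  have h4 : c ^ r = 1 := by
    have h5 : (c * x) ^ r = c ^ r * x ^ r := (show Commute c x from hc.symm).mul_pow r
    rw [h2, h5, hxr, mul_one] at h3
    exact h3
  have h6 : c = 1 := by
    have h7 : orderOf c ∣ r := orderOf_dvd_of_pow_eq_one h4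
    have h8 : orderOf c ∣ Nat.card K := by
      have := orderOf_dvd_natCard (⟨c, hcK⟩ : K)
      rwa [Subgroup.orderOf_mk] at this
    have h9 : orderOf c = 1 := Nat.eq_one_of_dvd_coprimes hrK h8 h7
    exact orderOf_eq_one_iff.mp h9
  rw [h6, one_mul] at h2
  calc x * k = k * (k⁻¹ * x * k) := by group
    _ = k * x := by
        congr 1
        have : k⁻¹ * (k * x * k⁻¹) * k = x := by group
        rw [h2] at this
        exact this

/-- **the linear theorem** for a normal subgroup with trivial `ℓ`-core. -/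
theorem linThm2 (ρ : H →* Module.End E U₀) (hρ : ∀ g, ρ g = 1 → g = 1)
    {ℓ r : ℕ} [CharP E ℓ] (hℓ : ℓ.Prime) (hr : r.Prime) (hrℓ : r ≠ ℓ)
    (K : Subgroup H) [K.Normal] (hKsolv : Group.IsSolvable K) (hKodd : Odd (Nat.card K))
    (hcore : pCore ℓ ↥K = ⊥) (hrK : ¬ r ∣ Nat.card K)
    (x : H) (hxr : x ^ r = 1) (hfix : ∀ u, ρ x u = u → u = 0) :
    ∀ k ∈ K, x * k = k * x := by
  classical
  have hrE : (r : E) ≠ 0 := by
    intro h
    rw [CharP.cast_eq_zero_iff E ℓ r] at h
    exact hrℓ ((Nat.prime_dvd_prime_iff_eq hℓ hr).mp h).symm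
  have hcop : (Nat.card K).Coprime r := ((Nat.Prime.coprime_iff_not_dvd hr).mpr hrK).symm
  -- step 1: `x` centralizes each core
  have h1 : ∀ q : Nat.Primes, ∀ g ∈ (pCore (q : ℕ) ↥K).map K.subtype, x * g = g * x := by
    intro q
    by_cases hbot : pCore (q : ℕ) ↥K = ⊥
    · rw [hbot, Subgroup.map_bot]
      intro g hg
      rw [Subgroup.mem_bot] at hg
      rw [hg, mul_one, one_mul]
    have hqℓ : (q : ℕ) ≠ ℓ := by
      intro h
      rw [h] at hbot
      exact hbot hcore
    have hFq : Fact (q : ℕ).Prime := ⟨q.2⟩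
    have hQp : IsPGroup (q : ℕ) (pCore (q : ℕ) ↥K) := Cfsg.Agent.Lib.Helper1.pCore_isPGroup _
    have hqK : (q : ℕ) ∣ Nat.card K := by
      obtain ⟨n, hn⟩ := hQp.exists_card_eq
      have hn0 : n ≠ 0 := by
        rintro rfl
        rw [pow_zero] at hn
        exact hbot (Subgroup.card_eq_one.mp hn)
      have h2 : (q : ℕ) ∣ Nat.card (pCore (q : ℕ) ↥K) := by
        rw [hn]
        exact dvd_pow_self _ hn0
      exact h2.trans (Subgroup.card_subgroup_dvd_card _)
    have hqr : (q : ℕ) ≠ r := by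
      intro h
      exact hrK (h ▸ hqK)
    have hq2 : (q : ℕ) ≠ 2 := by
      intro h
      rw [h] at hqK
      exact (Nat.not_even_iff_odd.mpr hKodd) (even_iff_two_dvd.mpr hqK)
    have hqE : ((q : ℕ) : E) ≠ 0 := by
      intro h
      rw [CharP.cast_eq_zero_iff E ℓ (q : ℕ)] at h
      exact hqℓ ((Nat.prime_dvd_prime_iff_eq hℓ q.2).mp h).symm
    have hchar : (pCore (q : ℕ) ↥K).Characteristic :=
      Cfsg.Agent.Lib.Helper1.pCore_characteristic _
    have hnorm : ((pCore (q : ℕ) ↥K).map K.subtype).Normal := inferInstance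
    refine linThm ρ hρ q.2 hr hqr hqE hrE x hxr hfix _ (hQp.map _) ?_ ?_
    · intro g hg
      exact hnorm.conj_mem g hg x
    · intro h2
      exact absurd h2 hq2
  -- step 2: `x` centralizes the Fitting subgroup
  have h2 : ∀ g ∈ (fittingSubgroup ↥K).map K.subtype, x * g = g * x := by
    have h3 : (fittingSubgroup ↥K).map K.subtype ≤ Subgroup.centralizer ({x} : Set H) := by
      rw [Cfsg.Agent.Lib.Helper1.fittingSubgroup_eq_iSup_primes, Subgroup.map_iSup]
      refine iSup_le fun q => ?_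
      intro g hg
      rw [Subgroup.mem_centralizer_iff]
      intro y hy
      rw [Set.mem_singleton_iff] at hy
      rw [hy]
      exact h1 q g hg
    intro g hg
    have h4 := Subgroup.mem_centralizer_iff.mp (h3 hg) x (Set.mem_singleton x)
    exact h4
  -- step 3: commutators centralize the Fitting subgroup
  have hFn : (fittingSubgroup ↥K).Normal := Cfsg.Agent.Lib.Helper1.fittingSubgroup_normal
  have h3 : ∀ k ∈ K, k * x * k⁻¹ * x⁻¹ ∈ (fittingSubgroup ↥K).map K.subtype := by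
    intro k hk
    have hcK : k * x * k⁻¹ * x⁻¹ ∈ K := by
      have h4 : x * k⁻¹ * x⁻¹ ∈ K := Subgroup.Normal.conj_mem inferInstance _ (inv_mem hk) x
      have e : k * x * k⁻¹ * x⁻¹ = k * (x * k⁻¹ * x⁻¹) := by group
      rw [e]
      exact mul_mem hk h4
    have h5 : (⟨k * x * k⁻¹ * x⁻¹, hcK⟩ : K) ∈
        Subgroup.centralizer ((fittingSubgroup ↥K : Subgroup K) : Set K) := by
      rw [Subgroup.mem_centralizer_iff]
      intro f hf
      have hf1 : (f : H) ∈ (fittingSubgroup ↥K).map K.subtype := ⟨f, hf, rfl⟩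
      have hf2 : (⟨k, hk⟩ : K)⁻¹ * f * (⟨k, hk⟩ : K) ∈ fittingSubgroup ↥K := by
        have := hFn.conj_mem f hf (⟨k, hk⟩ : K)⁻¹
        rwa [inv_inv] at this
      have hf3 : k⁻¹ * (f : H) * k ∈ (fittingSubgroup ↥K).map K.subtype := ⟨_, hf2, rfl⟩
      have e1 := h2 _ hf1
      have e2 := h2 _ hf3
      apply Subtype.ext
      show (f : H) * (k * x * k⁻¹ * x⁻¹) = (k * x * k⁻¹ * x⁻¹) * (f : H)
      have e3 : x⁻¹ * (f : H) = (f : H) * x⁻¹ := by
        calc x⁻¹ * (f : H) = x⁻¹ * ((f : H) * x) * x⁻¹ := by group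
          _ = x⁻¹ * (x * (f : H)) * x⁻¹ := by rw [e1]
          _ = (f : H) * x⁻¹ := by group
      calc (f : H) * (k * x * k⁻¹ * x⁻¹)
          = k * ((k⁻¹ * (f : H) * k) * x) * k⁻¹ * x⁻¹ := by group
        _ = k * (x * (k⁻¹ * (f : H) * k)) * k⁻¹ * x⁻¹ := by rw [e2]
        _ = k * x * k⁻¹ * ((f : H) * x⁻¹) := by group
        _ = k * x * k⁻¹ * (x⁻¹ * (f : H)) := by rw [e3]
        _ = (k * x * k⁻¹ * x⁻¹) * (f : H) := by group
    have h6 := Cfsg.Agent.Lib.Helper1.centralizer_fittingSubgroup_le h5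
    exact ⟨_, h6, rfl⟩
  -- step 4
  intro k hk
  exact commute_of_commute_commutator hcop x hxr k hk (h2 _ (h3 k hk))

end LinThm2

end Cfsg.Agent.Lib.Helper10.XRep
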