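import Mathlib
import Cfsg.Agent.Lib.Helper10.XRepLin2
import Cfsg.Agent.Lib.Helper10.XRepBridge
import Cfsg.Agent.Lib.Helper10.FrobAction

/-!
An element of prime order acting without fixed points on a chief factor inside a normal
subgroup `K` of coprime order: commutators with `K` centralize the chief factor.
-/

set_option autoImplicit false

universe u

namespace Cfsg.Agent.Lib.Helper10.XRep

open Cfsg

section Chief

variable {G : Type u} [Group G] [Finite G]

theorem chief_centralize (hsolv : Group.IsSolvable G) (hodd : Odd (Nat.card G))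
    (K : Subgroup G) [K.Normal] {r : ℕ} (hr : r.Prime) (hrK : ¬ r ∣ Nat.card K)
    (x : G) (hxr : x ^ r = 1)
    (U V : Subgroup G) [U.Normal] [V.Normal] (hVU : V < U) (hUK : U ≤ K)
    (hUnil : Group.IsNilpotent U)
    (hchief : ∀ W : Subgroup G, W.Normal → V ≤ W → W ≤ U → W = V ∨ W = U)
    (hfpf : ∀ u ∈ U, u⁻¹ * (x * u * x⁻¹) ∈ V → u ∈ V) :
    ∀ k ∈ K, ∀ u ∈ U,
      u * (k * x * k⁻¹ * x⁻¹) * u⁻¹ * (k * x * k⁻¹ * x⁻¹)⁻¹ ∈ V := by
  classical
  obtain ⟨N, hNdef⟩ : ∃ N : Subgroup U, N = V.subgroupOf U := ⟨_, rfl⟩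
  have hNn : N.Normal := by rw [hNdef]; infer_instance
  have hNmem : ∀ u : U, u ∈ N ↔ (u : G) ∈ V := by
    intro u
    rw [hNdef, Subgroup.mem_subgroupOf]
  let ψ₁ : G →* MulAut U := MulAut.conjNormal
  have hψ₁ : ∀ (g : G) (u : U), ((ψ₁ g u : U) : G) = g * u * g⁻¹ := fun g u => rfl
  have hinv : FrobAction.Invariant ψ₁ N := by
    intro g n hn
    rw [hNmem] at hn ⊢
    rw [hψ₁]
    exact Subgroup.Normal.conj_mem inferInstance _ hn g
  let ψ₀ : G →* MulAut (U ⧸ N) := FrobAction.quoHom ψ₁ N hinv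
  have hψ₀ : ∀ (g : G) (u : U), ψ₀ g (QuotientGroup.mk u) = QuotientGroup.mk (ψ₁ g u) :=
    fun g u => rfl
  -- irreducibility
  have hirr : FrobAction.Irred ψ₀ := by
    intro M₁ _ hM₁ _
    let W : Subgroup G := (M₁.comap (QuotientGroup.mk' N)).map U.subtype
    have hWmem : ∀ g : G, g ∈ W ↔ ∃ h : g ∈ U, (QuotientGroup.mk (⟨g, h⟩ : U) : U ⧸ N) ∈ M₁ := by
      intro g
      constructor
      · rintro ⟨u, hu, rfl⟩
        exact ⟨u.2, hu⟩
      · rintro ⟨h, hm⟩
        exact ⟨⟨g, h⟩, hm, rfl⟩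
    have hWn : W.Normal := by
      constructor
      intro w hw g
      rw [hWmem] at hw ⊢
      obtain ⟨h, hm⟩ := hw
      refine ⟨Subgroup.Normal.conj_mem inferInstance _ h g, ?_⟩
      have h1 := hM₁ g _ hm
      rw [hψ₀] at h1
      exact h1
    have hVW : V ≤ W := by
      intro v hv
      rw [hWmem]
      refine ⟨hVU.le hv, ?_⟩
      have h1 : (⟨v, hVU.le hv⟩ : U) ∈ N := (hNmem _).mpr hv
      rw [(QuotientGroup.eq_one_iff _).mpr h1]
      exact one_mem _
    have hWU : W ≤ U := Subgroup.map_subtype_le _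
    rcases hchief W hWn hVW hWU with h | h
    · left
      rw [eq_bot_iff]
      intro m hm
      obtain ⟨u, rfl⟩ := QuotientGroup.mk_surjective m
      have h1 : (u : G) ∈ W := (hWmem _).mpr ⟨u.2, hm⟩
      rw [h] at h1
      rw [Subgroup.mem_bot, QuotientGroup.eq_one_iff]
      exact (hNmem u).mpr h1
    · right
      rw [eq_top_iff]
      intro m _
      obtain ⟨u, rfl⟩ := QuotientGroup.mk_surjective m
      have h1 : (u : G) ∈ W := by rw [h]; exact u.2
      obtain ⟨_, hm⟩ := (hWmem _).mp h1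
      exact hm
  have hMnil : Group.IsNilpotent (U ⧸ N) := inferInstance
  have hMnt : Nontrivial (U ⧸ N) := by
    obtain ⟨u, huU, huV⟩ := SetLike.exists_of_lt hVU
    refine ⟨⟨QuotientGroup.mk (⟨u, huU⟩ : U), 1, ?_⟩⟩
    intro h
    rw [QuotientGroup.eq_one_iff, hNmem] at h
    exact huV h
  have hcomm := FrobAction.comm_of_irred ψ₀ hMnil hirr
  obtain ⟨ℓ, hℓ, hℓM, hexp⟩ := FrobAction.exp_of_irred ψ₀ hcomm hirr hMnt
  -- the faithful quotient
  let ψ : G ⧸ ψ₀.ker →* MulAut (U ⧸ N) := QuotientGroup.kerLift ψ₀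
  have hψ : ∀ g : G, ψ (QuotientGroup.mk' ψ₀.ker g) = ψ₀ g := fun g => rfl
  have hψinj : Function.Injective ψ := QuotientGroup.kerLift_injective ψ₀
  obtain ⟨E, iF, iA, iC, n, ρ, hρ1, hρ2, -⟩ := exists_rep hℓ hcomm hexp ψ
  have hρ : ∀ g, ρ g = 1 → g = 1 := by
    intro g hg
    apply hψinj
    rw [hρ1 g hg, map_one]
  let π : G →* G ⧸ ψ₀.ker := QuotientGroup.mk' ψ₀.ker
  have hπsurj : Function.Surjective π := QuotientGroup.mk'_surjective _
  let Kb : Subgroup (G ⧸ ψ₀.ker) := K.map π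
  have hKbn : Kb.Normal := Subgroup.Normal.map inferInstance π hπsurj
  have hKbcard : Nat.card Kb ∣ Nat.card K :=
    Subgroup.card_dvd_of_surjective (π.subgroupMap K) (π.subgroupMap_surjective K)
  have hKbsolv : Group.IsSolvable Kb := by
    have : Group.IsSolvable K := inferInstance
    exact Group.isSolvable_of_surjective (π.subgroupMap_surjective K)
  have hKodd : Odd (Nat.card K) := by
    obtain ⟨c, hc⟩ := Subgroup.card_subgroup_dvd_card K
    rw [hc] at hodd
    exact (Nat.odd_mul.mp hodd).1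
  have hKbodd : Odd (Nat.card Kb) := by
    obtain ⟨c, hc⟩ := hKbcard
    rw [hc] at hKodd
    exact (Nat.odd_mul.mp hKodd).1
  have hrKb : ¬ r ∣ Nat.card Kb := fun h => hrK (h.trans hKbcard)
  have hℓK : ℓ ∣ Nat.card K := by
    have h1 : Nat.card (U ⧸ N) ∣ Nat.card U := Subgroup.card_quotient_dvd_card N
    exact (hℓM.trans h1).trans (Subgroup.card_dvd_of_le hUK)
  have hrℓ : r ≠ ℓ := by
    rintro rfl
    exact hrK hℓK
  -- trivial core
  have hcore : pCore ℓ ↥Kb = ⊥ := by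
    have hFℓ : Fact ℓ.Prime := ⟨hℓ⟩
    have hchar : (pCore ℓ ↥Kb).Characteristic := Cfsg.Agent.Lib.Helper1.pCore_characteristic _
    let L : Subgroup (G ⧸ ψ₀.ker) := (pCore ℓ ↥Kb).map Kb.subtype
    have hLn : L.Normal := inferInstance
    have hLp : IsPGroup ℓ L := (Cfsg.Agent.Lib.Helper1.pCore_isPGroup ℓ).map _
    have hinvL : FrobAction.Invariant ψ (FrobAction.fixedSub ψ L) :=
      FrobAction.invariant_fixedSub ψ L
    have hinvL₀ : FrobAction.Invariant ψ₀ (FrobAction.fixedSub ψ L) := by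
      intro g m hm
      rw [← hψ]
      exact hinvL _ m hm
    have hFn : (FrobAction.fixedSub ψ L).Normal := by
      constructor
      intro m hm g
      rw [hcomm g m, mul_inv_cancel_right]
      exact hm
    have hne : FrobAction.fixedSub ψ L ≠ ⊥ := by
      let _ : MulAction L (U ⧸ N) := MulAction.compHom (U ⧸ N) (ψ.comp L.subtype)
      have hsmul : ∀ (l : L) (m : U ⧸ N), l • m = ψ (l : G ⧸ ψ₀.ker) m := fun l m => rfl
      have h1 : (1 : U ⧸ N) ∈ MulAction.fixedPoints L (U ⧸ N) := by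
        intro l
        rw [hsmul, map_one]
      obtain ⟨b, hb, hb1⟩ := hLp.exists_fixed_point_of_prime_dvd_card_of_fixed_point
        (U ⧸ N) hℓM h1
      intro h
      have h2 : b ∈ FrobAction.fixedSub ψ L := by
        intro l hl
        have := hb ⟨l, hl⟩
        rw [hsmul] at this
        exact this
      rw [h, Subgroup.mem_bot] at h2
      exact hb1 h2.symm
    rcases hirr _ hFn hinvL₀ (fun a _ b _ => hcomm a b) with h | h
    · exact absurd h hne
    · have hL : L = ⊥ := by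
        rw [eq_bot_iff]
        intro l hl
        rw [Subgroup.mem_bot]
        apply hψinj
        rw [map_one]
        ext m
        have h1 : m ∈ FrobAction.fixedSub ψ L := h ▸ Subgroup.mem_top m
        exact h1 l hl
      exact (Subgroup.map_eq_bot_iff_of_injective _ Kb.subtype_injective).mp hL
  -- the element
  have hxb : (π x) ^ r = 1 := by rw [← map_pow, hxr, map_one]
  have hfix : ∀ w, ρ (π x) w = w → w = 0 := by
    intro w hw
    by_contra hw0
    obtain ⟨m, hm1, hm⟩ := hρ2 (π x) ⟨w, hw0, hw⟩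
    obtain ⟨u, rfl⟩ := QuotientGroup.mk_surjective m
    rw [hψ, hψ₀] at hm
    have h1 := QuotientGroup.eq.mp hm.symm
    rw [hNmem] at h1
    have h2 : (u : G)⁻¹ * (x * u * x⁻¹) ∈ V := h1
    have h3 := hfpf u u.2 h2
    apply hm1
    rw [QuotientGroup.eq_one_iff, hNmem]
    exact h3
  have hmain := linThm2 ρ hρ hℓ hr hrℓ Kb hKbsolv hKbodd hcore hrKb (π x) hxb hfix
  -- conclusion
  intro k hk u hu
  have h1 : π x * π k = π k * π x := hmain (π k) ⟨k, hk, rfl⟩
  have h2 : π (k * x * k⁻¹ * x⁻¹) = 1 := by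
    rw [map_mul, map_mul, map_mul, map_inv, map_inv, ← h1]
    group
  have h3 : ψ₀ (k * x * k⁻¹ * x⁻¹) = 1 := by
    rw [← hψ]
    show ψ (π (k * x * k⁻¹ * x⁻¹)) = 1
    rw [h2, map_one]
  have h4 := DFunLike.congr_fun h3 (QuotientGroup.mk (⟨u⁻¹, inv_mem hu⟩ : U))
  rw [hψ₀, MulAut.one_apply] at h4
  have h5 := QuotientGroup.eq.mp h4.symm
  rw [hNmem] at h5
  have h6 : (u⁻¹)⁻¹ * ((k * x * k⁻¹ * x⁻¹) * u⁻¹ * (k * x * k⁻¹ * x⁻¹)⁻¹) ∈ V := h5
  have e : u * (k * x * k⁻¹ * x⁻¹) * u⁻¹ * (k * x * k⁻¹ * x⁻¹)⁻¹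
      = (u⁻¹)⁻¹ * ((k * x * k⁻¹ * x⁻¹) * u⁻¹ * (k * x * k⁻¹ * x⁻¹)⁻¹) := by group
  rw [e]
  exact h6

end Chief

end Cfsg.Agent.Lib.Helper10.XRep
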