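import Mathlib
import Cfsg.Prelude.Def_OddOrderLocal
import Cfsg.Agent.Lib.Helper1.Basic
import Cfsg.Agent.Lib.Helper10.PGroup
import Cfsg.Agent.S1467

/-!
The Puig series of a subgroup `H ≤ G`, computed inside `G` (`relPuigStep`, `relPuigSeq`), its
comparison with `Cfsg.puigSeq ↥H`, transport along homomorphisms injective on `H`, and the
formal comparison lemmas (sandwich, Puig pairs, intermediate subgroups).
-/

set_option autoImplicit false

namespace Cfsg.Agent.Lib.Helper10

open Cfsg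

section RelPuig

variable {G : Type*} [Group G]

/-- relative Puig step: generated by the abelian subgroups of `H` normalized by `X`. -/
def relPuigStep (H X : Subgroup G) : Subgroup G :=
  sSup {A : Subgroup G | A ≤ H ∧ IsMulCommutative A ∧ X ≤ Subgroup.normalizer (A : Set G)}

/-- relative Puig series of `H ≤ G`. -/
def relPuigSeq (H : Subgroup G) : ℕ → Subgroup G
  | 0 => ⊥
  | n + 1 => relPuigStep H (relPuigSeq H n)

theorem relPuigSeq_zero (H : Subgroup G) : relPuigSeq H 0 = ⊥ := rfl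

theorem relPuigSeq_succ (H : Subgroup G) (n : ℕ) :
    relPuigSeq H (n + 1) = relPuigStep H (relPuigSeq H n) := rfl

theorem le_relPuigStep {H X A : Subgroup G} (hA : A ≤ H) (hc : IsMulCommutative A)
    (hX : X ≤ Subgroup.normalizer (A : Set G)) : A ≤ relPuigStep H X :=
  le_sSup ⟨hA, hc, hX⟩

theorem relPuigStep_le_of {H X K : Subgroup G}
    (h : ∀ A : Subgroup G, A ≤ H → IsMulCommutative A →
      X ≤ Subgroup.normalizer (A : Set G) → A ≤ K) :
    relPuigStep H X ≤ K :=
  sSup_le fun A hA => h A hA.1 hA.2.1 hA.2.2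

theorem relPuigStep_le (H X : Subgroup G) : relPuigStep H X ≤ H :=
  relPuigStep_le_of fun _ hA _ _ => hA

theorem relPuigSeq_le (H : Subgroup G) (n : ℕ) : relPuigSeq H n ≤ H := by
  cases n with
  | zero => exact bot_le
  | succ n => exact relPuigStep_le H _

theorem relPuigStep_antitone (H : Subgroup G) {X Y : Subgroup G} (h : X ≤ Y) :
    relPuigStep H Y ≤ relPuigStep H X :=
  relPuigStep_le_of fun _ hA hc hY => le_relPuigStep hA hc (h.trans hY)

theorem relPuigStep_mono {H K : Subgroup G} (h : H ≤ K) (X : Subgroup G) :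
    relPuigStep H X ≤ relPuigStep K X :=
  relPuigStep_le_of fun _ hA hc hX => le_relPuigStep (hA.trans h) hc hX

theorem isMulCommutative_map' {G' : Type*} [Group G'] (f : G →* G') {A : Subgroup G}
    (hA : IsMulCommutative A) : IsMulCommutative (A.map f) :=
  Subgroup.map_isMulCommutative A f

theorem isMulCommutative_subgroupOf' {A : Subgroup G} (hA : IsMulCommutative A)
    (H : Subgroup G) : IsMulCommutative (A.subgroupOf H) := by
  refine ⟨⟨?_⟩⟩
  rintro ⟨a, ha⟩ ⟨b, hb⟩
  apply Subtype.ext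
  apply Subtype.ext
  have h1 := congrArg Subtype.val (hA.is_comm.comm ⟨(a : G), ha⟩ ⟨(b : G), hb⟩)
  exact h1

/-- comparison with the Prelude's Puig step on the type `↥H`. -/
theorem map_puigStep (H : Subgroup G) (X : Subgroup H) :
    (Cfsg.puigStep X).map H.subtype = relPuigStep H (X.map H.subtype) := by
  apply le_antisymm
  · rw [Subgroup.map_le_iff_le_comap]
    unfold Cfsg.puigStep
    apply sSup_le
    rintro A ⟨hAc, hXA⟩
    rw [← Subgroup.map_le_iff_le_comap]
    exact le_relPuigStep (Subgroup.map_subtype_le A) (isMulCommutative_map' _ hAc)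
      ((Subgroup.map_mono hXA).trans (Subgroup.le_normalizer_map _))
  · apply relPuigStep_le_of
    intro A hAH hAc hXA
    have h1 : (A.subgroupOf H).map H.subtype = A := by
      rw [Subgroup.subgroupOf_map_subtype, inf_of_le_left hAH]
    rw [← h1]
    apply Subgroup.map_mono
    unfold Cfsg.puigStep
    apply le_sSup
    refine ⟨isMulCommutative_subgroupOf' hAc H, ?_⟩
    apply Cfsg.Agent.Lib.Helper1.le_normalizer_of_forall_conj_mem'
    intro x hx n hn
    rw [Subgroup.mem_subgroupOf] at hn ⊢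
    have hxN : (x : G) ∈ Subgroup.normalizer (A : Set G) := hXA ⟨x, hx, rfl⟩
    have := (Subgroup.mem_normalizer_iff.mp hxN (n : G)).mp hn
    simpa using this

theorem map_puigSeq (H : Subgroup G) (n : ℕ) :
    (Cfsg.puigSeq ↥H n).map H.subtype = relPuigSeq H n := by
  induction n with
  | zero => exact Subgroup.map_bot _
  | succ n ih =>
    show (Cfsg.puigStep (Cfsg.puigSeq ↥H n)).map H.subtype = relPuigStep H (relPuigSeq H n)
    rw [map_puigStep, ih]

/-- transport along a homomorphism injective on `H`. -/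
theorem map_relPuigStep_of_injOn {G' : Type*} [Group G'] (f : G →* G') (H X : Subgroup G)
    (hXH : X ≤ H) (hinj : ∀ x ∈ H, f x = 1 → x = 1) :
    (relPuigStep H X).map f = relPuigStep (H.map f) (X.map f) := by
  apply le_antisymm
  · rw [Subgroup.map_le_iff_le_comap]
    apply relPuigStep_le_of
    intro A hAH hAc hXA
    rw [← Subgroup.map_le_iff_le_comap]
    exact le_relPuigStep (Subgroup.map_mono hAH) (isMulCommutative_map' f hAc)
      ((Subgroup.map_mono hXA).trans (Subgroup.le_normalizer_map f))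
  · apply relPuigStep_le_of
    intro A' hA'H hA'c hXA'
    have hinj2 : ∀ x ∈ H, ∀ y ∈ H, f x = f y → x = y := by
      intro x hx y hy hxy
      have : x * y⁻¹ = 1 := hinj _ (H.mul_mem hx (H.inv_mem hy))
        (by rw [map_mul, map_inv, hxy, mul_inv_cancel])
      exact mul_inv_eq_one.mp this
    have hmap : (A'.comap f ⊓ H).map f = A' := by
      apply le_antisymm
      · rintro _ ⟨a, ⟨ha, _⟩, rfl⟩
        exact ha
      · intro a' ha'
        obtain ⟨h, hh, rfl⟩ := hA'H ha'
        exact ⟨h, ⟨ha', hh⟩, rfl⟩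
    rw [← hmap]
    apply Subgroup.map_mono
    apply le_relPuigStep inf_le_right
    · refine ⟨⟨?_⟩⟩
      rintro ⟨a, ha, haH⟩ ⟨b, hb, hbH⟩
      apply Subtype.ext
      show a * b = b * a
      apply hinj2 _ (H.mul_mem haH hbH) _ (H.mul_mem hbH haH)
      rw [map_mul, map_mul]
      exact congrArg Subtype.val (hA'c.is_comm.comm ⟨f a, ha⟩ ⟨f b, hb⟩)
    · apply Cfsg.Agent.Lib.Helper1.le_normalizer_of_forall_conj_mem'
      intro x hx n hn
      refine ⟨?_, H.mul_mem (H.mul_mem (hXH hx) hn.2) (H.inv_mem (hXH hx))⟩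
      show f (x * n * x⁻¹) ∈ A'
      rw [map_mul, map_mul, map_inv]
      have hfx : f x ∈ Subgroup.normalizer (A' : Set G') := hXA' ⟨x, hx, rfl⟩
      exact (Subgroup.mem_normalizer_iff.mp hfx (f n)).mp hn.1

theorem map_relPuigSeq_of_injOn {G' : Type*} [Group G'] (f : G →* G') (H : Subgroup G)
    (hinj : ∀ x ∈ H, f x = 1 → x = 1) (n : ℕ) :
    (relPuigSeq H n).map f = relPuigSeq (H.map f) n := by
  induction n with
  | zero => exact Subgroup.map_bot _
  | succ n ih =>
    rw [relPuigSeq_succ, relPuigSeq_succ,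
      map_relPuigStep_of_injOn f H _ (relPuigSeq_le H n) hinj, ih]

/-- the relative Puig series is invariant under conjugation by elements normalizing `H`. -/
theorem map_conj_relPuigSeq (H : Subgroup G) (g : G)
    (hg : H.map (MulAut.conj g).toMonoidHom = H) (n : ℕ) :
    (relPuigSeq H n).map (MulAut.conj g).toMonoidHom = relPuigSeq H n := by
  have := map_relPuigSeq_of_injOn (MulAut.conj g).toMonoidHom H
    (fun x _ hx => (MulAut.conj g).injective (by simpa using hx)) n
  rw [this, hg]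

theorem map_conj_eq_of_mem_normalizer (H : Subgroup G) (g : G)
    (hg : g ∈ Subgroup.normalizer (H : Set G)) : H.map (MulAut.conj g).toMonoidHom = H := by
  apply le_antisymm
  · rintro _ ⟨x, hx, rfl⟩
    exact (Subgroup.mem_normalizer_iff.mp hg x).mp hx
  · intro x hx
    refine ⟨g⁻¹ * x * g, ?_, ?_⟩
    · have := (Subgroup.mem_normalizer_iff.mp (inv_mem hg) x).mp hx
      simpa using this
    · simp [mul_assoc]

theorem relPuigSeq_normal (H : Subgroup G) [hH : H.Normal] (n : ℕ) : (relPuigSeq H n).Normal := by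
  refine ⟨fun x hx g => ?_⟩
  have hg : H.map (MulAut.conj g).toMonoidHom = H :=
    map_conj_eq_of_mem_normalizer H g (by rw [Subgroup.normalizer_eq_top]; exact Subgroup.mem_top g)
  rw [← map_conj_relPuigSeq H g hg n]
  exact ⟨x, hx, rfl⟩

theorem normalizer_le_normalizer_relPuigSeq (H : Subgroup G) (n : ℕ) :
    Subgroup.normalizer (H : Set G) ≤ Subgroup.normalizer (relPuigSeq H n : Set G) := by
  intro g hg
  have h1 := map_conj_relPuigSeq H g (map_conj_eq_of_mem_normalizer H g hg) n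
  have h2 := map_conj_relPuigSeq H g⁻¹ (map_conj_eq_of_mem_normalizer H g⁻¹ (inv_mem hg)) n
  rw [Subgroup.mem_normalizer_iff]
  intro x
  constructor
  · intro hx
    rw [← h1]
    exact ⟨x, hx, rfl⟩
  · intro hx
    have : g⁻¹ * (g * x * g⁻¹) * g⁻¹⁻¹ ∈ relPuigSeq H n := by
      rw [← h2]
      exact ⟨_, hx, rfl⟩
    simpa [mul_assoc] using this

/-- a `p`-subgroup's relative Puig terms contain their centralizers in `H`. -/
theorem inf_centralizer_relPuigSeq_le [Finite G] {p : ℕ} [Fact p.Prime] (H : Subgroup G)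
    (hH : IsPGroup p H) (i : ℕ) (hi : 0 < i) :
    H ⊓ Subgroup.centralizer (relPuigSeq H i : Set G) ≤ relPuigSeq H i := by
  obtain ⟨A, hAn, hAc, hmax⟩ := exists_maximal_normal_abelian ↥H
  have hCA : Subgroup.centralizer (A : Set ↥H) ≤ A :=
    centralizer_le_of_maximal_normal_abelian hH A hAc hmax
  have hA' : A.map H.subtype ≤ relPuigSeq H i := by
    obtain ⟨j, rfl⟩ := Nat.exists_eq_succ_of_ne_zero hi.ne'
    rw [relPuigSeq_succ]
    apply le_relPuigStep (Subgroup.map_subtype_le A) (isMulCommutative_map' _ hAc)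
    refine (relPuigSeq_le H j).trans ?_
    apply Cfsg.Agent.Lib.Helper1.le_normalizer_of_forall_conj_mem'
    rintro x hx _ ⟨a, ha, rfl⟩
    exact ⟨⟨x, hx⟩ * a * ⟨x, hx⟩⁻¹, hAn.conj_mem a ha ⟨x, hx⟩, rfl⟩
  rintro x ⟨hxH, hxC⟩
  apply hA'
  refine ⟨⟨x, hxH⟩, hCA ?_, rfl⟩
  rw [Subgroup.mem_centralizer_iff]
  intro a ha
  apply Subtype.ext
  exact (Subgroup.mem_centralizer_iff.mp hxC) (a : G) (hA' ⟨a, ha, rfl⟩)

/-- **sandwich lemma** (formal part of BG B.3). -/
theorem relPuigSeq_sandwich (S T : Subgroup G) (hTS : T ≤ S)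
    (hyp : ∀ (n : ℕ) (A : Subgroup G), A ≤ S → IsMulCommutative A →
      relPuigSeq S (2 * n + 1) ≤ Subgroup.normalizer (A : Set G) →
      relPuigSeq T (2 * n + 1) ≤ Subgroup.normalizer (A : Set G) → A ≤ T) :
    ∀ n : ℕ, relPuigSeq S (2 * n) ≤ relPuigSeq T (2 * n) ∧
      relPuigSeq T (2 * n + 1) ≤ relPuigSeq S (2 * n + 1) := by
  intro n
  induction n with
  | zero =>
    refine ⟨le_of_eq rfl, ?_⟩
    show relPuigStep T ⊥ ≤ relPuigStep S ⊥
    exact relPuigStep_mono hTS _
  | succ n ih =>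
    have e1 : relPuigSeq S (2 * (n + 1)) ≤ relPuigSeq T (2 * (n + 1)) := by
      have h2 : 2 * (n + 1) = (2 * n + 1) + 1 := by ring
      rw [h2, relPuigSeq_succ, relPuigSeq_succ]
      apply relPuigStep_le_of
      intro A hAS hAc hN
      have hAT : A ≤ T := hyp n A hAS hAc hN (ih.2.trans hN)
      exact le_relPuigStep hAT hAc (ih.2.trans hN)
    refine ⟨e1, ?_⟩
    have h3 : 2 * (n + 1) + 1 = (2 * (n + 1)) + 1 := rfl
    rw [h3, relPuigSeq_succ, relPuigSeq_succ]
    apply relPuigStep_le_of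
    intro A hAT hAc hN
    exact le_relPuigStep (hAT.trans hTS) hAc (e1.trans hN)

/-- **Puig pairs**: if `L_R(X) = Y` and `L_R(Y) = X` then the even terms lie in `X` and the odd
terms contain `Y`. -/
theorem relPuigSeq_pair (R X Y : Subgroup G) (hXY : relPuigStep R X = Y)
    (hYX : relPuigStep R Y = X) :
    ∀ n : ℕ, relPuigSeq R (2 * n) ≤ X ∧ Y ≤ relPuigSeq R (2 * n + 1) := by
  intro n
  induction n with
  | zero =>
    refine ⟨bot_le, ?_⟩
    show Y ≤ relPuigStep R ⊥
    rw [← hXY]
    exact relPuigStep_antitone R bot_le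
  | succ n ih =>
    have e1 : relPuigSeq R (2 * (n + 1)) ≤ X := by
      have h2 : 2 * (n + 1) = (2 * n + 1) + 1 := by ring
      rw [h2, relPuigSeq_succ, ← hYX]
      exact relPuigStep_antitone R ih.2
    refine ⟨e1, ?_⟩
    have h3 : 2 * (n + 1) + 1 = (2 * (n + 1)) + 1 := rfl
    rw [h3, relPuigSeq_succ, ← hXY]
    exact relPuigStep_antitone R e1

end RelPuig

section Stable

variable {G : Type*} [Group G] [Finite G]

/-- stabilization of the relative Puig series. -/
theorem exists_relPuig_stable (H : Subgroup G) :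
    ∃ k : ℕ, ∀ n : ℕ, k ≤ n →
      relPuigSeq H (2 * n) = (Cfsg.puigLower ↥H).map H.subtype ∧
      relPuigSeq H (2 * n + 1) = (Cfsg.puigSubgroup ↥H).map H.subtype := by
  obtain ⟨k, hk⟩ := (Cfsg.Agent.S1467.result (G := ↥H)).2.2.2.1
  refine ⟨k, fun n hn => ?_⟩
  rw [← map_puigSeq, ← map_puigSeq, (hk n hn).1, (hk n hn).2]
  exact ⟨rfl, rfl⟩

theorem relPuigSeq_even_le_odd (H : Subgroup G) (n m : ℕ) :
    relPuigSeq H (2 * n) ≤ relPuigSeq H (2 * m + 1) := by
  rw [← map_puigSeq, ← map_puigSeq]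
  exact Subgroup.map_mono ((Cfsg.Agent.S1467.result (G := ↥H)).2.2.1 n m).2.1

theorem relPuigSeq_even_mono (H : Subgroup G) (n : ℕ) :
    relPuigSeq H (2 * n) ≤ relPuigSeq H (2 * n + 2) := by
  rw [← map_puigSeq, ← map_puigSeq]
  exact Subgroup.map_mono ((Cfsg.Agent.S1467.result (G := ↥H)).2.2.1 n 0).1

theorem relPuigSeq_odd_anti (H : Subgroup G) (m : ℕ) :
    relPuigSeq H (2 * m + 3) ≤ relPuigSeq H (2 * m + 1) := by
  rw [← map_puigSeq, ← map_puigSeq]
  exact Subgroup.map_mono ((Cfsg.Agent.S1467.result (G := ↥H)).2.2.1 0 m).2.2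

end Stable

end Cfsg.Agent.Lib.Helper10
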