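import Mathlib
import Cfsg.Prelude
import Cfsg.Agent.Lib.Helper1.Cores
import Cfsg.Agent.Lib.Helper1.Fitting
import Cfsg.Agent.Lib.Helper1.Coprime
import Cfsg.Agent.Lib.Helper10.Transport
import Cfsg.Agent.Lib.Helper10.Puig
import Cfsg.Agent.Lib.Lead.BGTrans

/-!
# Basic relative notions for the local analysis of a minimal simple group of odd order

Relative cores `O_p(X)`, `O_{p'}(X)`, `F(X)` of a subgroup `X` of `G` viewed as subgroups of `G`,
with their universal properties, and the basic facts on maximal subgroups of a minimal simple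
group (every nontrivial normal subgroup of a maximal subgroup has it as its normalizer).
-/

set_option autoImplicit false
open Cfsg

namespace Cfsg.Agent.Lib.Helper10.BG

variable {G : Type*} [Group G]

section Conj

theorem mem_normalizer_of_map_conj_eq {K : Subgroup G} {g : G}
    (h : K.map (MulAut.conj g).toMonoidHom = K) : g ∈ Subgroup.normalizer (K : Set G) := by
  rw [Subgroup.mem_normalizer_iff]
  intro x
  constructor
  · intro hx
    rw [← h]
    exact ⟨x, hx, rfl⟩
  · intro hx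
    rw [← h] at hx
    obtain ⟨y, hy, hyx⟩ := hx
    have : y = x := (MulAut.conj g).injective hyx
    rwa [← this]

theorem normalizer_le_normalizer_of_natural (Φ : Subgroup G → Subgroup G)
    (hΦ : ∀ (g : G) (X : Subgroup G), (Φ X).map (MulAut.conj g).toMonoidHom =
      Φ (X.map (MulAut.conj g).toMonoidHom))
    (X : Subgroup G) :
    Subgroup.normalizer (X : Set G) ≤ Subgroup.normalizer (Φ X : Set G) := by
  intro g hg
  apply mem_normalizer_of_map_conj_eq
  rw [hΦ, Cfsg.Agent.Lib.Helper10.map_conj_eq_of_mem_normalizer X g hg]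

theorem conj_mem_of_mem_normalizer {K : Subgroup G} {g x : G}
    (hg : g ∈ Subgroup.normalizer (K : Set G)) (hx : x ∈ K) : g * x * g⁻¹ ∈ K :=
  (Subgroup.mem_normalizer_iff.mp hg x).mp hx

theorem conj_mem_of_mem_normalizer' {K : Subgroup G} {g x : G}
    (hg : g ∈ Subgroup.normalizer (K : Set G)) (hx : x ∈ K) : g⁻¹ * x * g ∈ K := by
  have := (Subgroup.mem_normalizer_iff.mp (inv_mem hg) x).mp hx
  simpa using this

theorem le_normalizer_of_conj_mem {K N : Subgroup G}
    (h : ∀ n ∈ N, ∀ x ∈ K, n * x * n⁻¹ ∈ K) : N ≤ Subgroup.normalizer (K : Set G) :=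
  Cfsg.Agent.Lib.Helper1.le_normalizer_of_forall_conj_mem h

/-- the centralizer of a subgroup normalized by `N` is normalized by `N`. -/
theorem le_normalizer_centralizer {K N : Subgroup G} (h : N ≤ Subgroup.normalizer (K : Set G)) :
    N ≤ Subgroup.normalizer ((Subgroup.centralizer (K : Set G) : Subgroup G) : Set G) := by
  apply le_normalizer_of_conj_mem
  intro n hn c hc
  rw [Subgroup.mem_centralizer_iff]
  intro a ha
  have h1 : n⁻¹ * a * n ∈ K := conj_mem_of_mem_normalizer' (h hn) ha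
  have h2 : (n⁻¹ * a * n) * c = c * (n⁻¹ * a * n) := Subgroup.mem_centralizer_iff.mp hc _ h1
  calc a * (n * c * n⁻¹) = n * ((n⁻¹ * a * n) * c) * n⁻¹ := by group
    _ = n * (c * (n⁻¹ * a * n)) * n⁻¹ := by rw [h2]
    _ = n * c * n⁻¹ * a := by group

theorem le_normalizer_inf {A B N : Subgroup G} (hA : N ≤ Subgroup.normalizer (A : Set G))
    (hB : N ≤ Subgroup.normalizer (B : Set G)) :
    N ≤ Subgroup.normalizer ((A ⊓ B : Subgroup G) : Set G) := by
  apply le_normalizer_of_conj_mem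
  intro n hn x hx
  exact ⟨conj_mem_of_mem_normalizer (hA hn) hx.1, conj_mem_of_mem_normalizer (hB hn) hx.2⟩

theorem le_normalizer_sup {A B N : Subgroup G} (hA : N ≤ Subgroup.normalizer (A : Set G))
    (hB : N ≤ Subgroup.normalizer (B : Set G)) :
    N ≤ Subgroup.normalizer ((A ⊔ B : Subgroup G) : Set G) := by
  intro n hn
  apply mem_normalizer_of_map_conj_eq
  rw [Subgroup.map_sup, Cfsg.Agent.Lib.Helper10.map_conj_eq_of_mem_normalizer A n (hA hn),
    Cfsg.Agent.Lib.Helper10.map_conj_eq_of_mem_normalizer B n (hB hn)]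

theorem le_normalizer_iSup {ι : Sort*} {S : ι → Subgroup G} {N : Subgroup G}
    (h : ∀ i, N ≤ Subgroup.normalizer (S i : Set G)) :
    N ≤ Subgroup.normalizer ((⨆ i, S i : Subgroup G) : Set G) := by
  intro n hn
  apply mem_normalizer_of_map_conj_eq
  rw [Subgroup.map_iSup]
  congr 1
  funext i
  exact Cfsg.Agent.Lib.Helper10.map_conj_eq_of_mem_normalizer (S i) n (h i hn)

theorem mem_centralizer_iSup_iff {ι : Sort*} (S : ι → Subgroup G) (x : G) :
    x ∈ Subgroup.centralizer ((⨆ i, S i : Subgroup G) : Set G) ↔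
      ∀ i, x ∈ Subgroup.centralizer (S i : Set G) := by
  constructor
  · intro hx i
    exact Subgroup.centralizer_le (SetLike.coe_subset_coe.mpr (le_iSup S i)) hx
  · intro hx
    have h1 : (⨆ i, S i) ≤ Subgroup.centralizer ({x} : Set G) := by
      apply iSup_le
      intro i y hy
      rw [Subgroup.mem_centralizer_iff]
      intro z hz
      rw [Set.mem_singleton_iff] at hz
      subst hz
      exact (Subgroup.mem_centralizer_iff.mp (hx i) y hy).symm
    rw [Subgroup.mem_centralizer_iff]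
    intro y hy
    exact (Subgroup.mem_centralizer_iff.mp (h1 hy) x rfl).symm

theorem le_centralizer_of_commute {A B : Subgroup G} (h : ∀ a ∈ A, ∀ b ∈ B, a * b = b * a) :
    A ≤ Subgroup.centralizer (B : Set G) := by
  intro a ha
  rw [Subgroup.mem_centralizer_iff]
  intro b hb
  exact (h a ha b hb).symm

theorem commute_of_le_centralizer {A B : Subgroup G} (h : A ≤ Subgroup.centralizer (B : Set G))
    {a b : G} (ha : a ∈ A) (hb : b ∈ B) : a * b = b * a :=
  (Subgroup.mem_centralizer_iff.mp (h ha) b hb).symm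

/-- two subgroups normalizing each other with trivial intersection commute. -/
theorem commute_of_normalize_of_inf_eq_bot {A B : Subgroup G}
    (hAB : A ≤ Subgroup.normalizer (B : Set G)) (hBA : B ≤ Subgroup.normalizer (A : Set G))
    (hinf : A ⊓ B = ⊥) {a b : G} (ha : a ∈ A) (hb : b ∈ B) : a * b = b * a := by
  have h1 : a * b * a⁻¹ * b⁻¹ ∈ B :=
    B.mul_mem (conj_mem_of_mem_normalizer (hAB ha) hb) (B.inv_mem hb)
  have h2 : a * b * a⁻¹ * b⁻¹ ∈ A := by
    have h3 : b * a⁻¹ * b⁻¹ ∈ A := conj_mem_of_mem_normalizer (hBA hb) (A.inv_mem ha)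
    have h4 : a * b * a⁻¹ * b⁻¹ = a * (b * a⁻¹ * b⁻¹) := by group
    rw [h4]
    exact A.mul_mem ha h3
  have h5 : a * b * a⁻¹ * b⁻¹ ∈ A ⊓ B := ⟨h2, h1⟩
  rw [hinf, Subgroup.mem_bot] at h5
  calc a * b = (a * b * a⁻¹ * b⁻¹) * (b * a) := by group
    _ = b * a := by rw [h5, one_mul]

theorem inf_eq_bot_of_coprime [Finite G] {A B : Subgroup G}
    (h : (Nat.card A).Coprime (Nat.card B)) : A ⊓ B = ⊥ :=
  disjoint_iff.mp (Subgroup.disjoint_of_coprime_natCard h)

end Conj

section Cores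

/-- `O_{p'}(X)` of the subgroup `X`, as a subgroup of the ambient group. -/
def ppCoreOf (p : ℕ) (X : Subgroup G) : Subgroup G :=
  (pPrimeCore p X).map X.subtype

theorem pCoreOf_le (p : ℕ) (X : Subgroup G) : pCoreOf p X ≤ X := by
  unfold pCoreOf
  exact Subgroup.map_subtype_le _

theorem ppCoreOf_le (p : ℕ) (X : Subgroup G) : ppCoreOf p X ≤ X := by
  unfold ppCoreOf
  exact Subgroup.map_subtype_le _

theorem fittingOf_le (X : Subgroup G) : fittingOf X ≤ X := by
  unfold fittingOf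
  exact Subgroup.map_subtype_le _

theorem map_conj_pCoreOf (g : G) (p : ℕ) (X : Subgroup G) :
    (pCoreOf p X).map (MulAut.conj g).toMonoidHom =
      pCoreOf p (X.map (MulAut.conj g).toMonoidHom) :=
  Cfsg.Agent.Lib.Helper10.map_pCore_subgroup (MulAut.conj g) p X

theorem map_conj_ppCoreOf (g : G) (p : ℕ) (X : Subgroup G) :
    (ppCoreOf p X).map (MulAut.conj g).toMonoidHom =
      ppCoreOf p (X.map (MulAut.conj g).toMonoidHom) :=
  Cfsg.Agent.Lib.Helper10.map_pPrimeCore_subgroup (MulAut.conj g) p X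

theorem map_conj_fittingOf (g : G) (X : Subgroup G) :
    (fittingOf X).map (MulAut.conj g).toMonoidHom =
      fittingOf (X.map (MulAut.conj g).toMonoidHom) :=
  Cfsg.Agent.Lib.Helper10.map_fittingSubgroup_subgroup (MulAut.conj g) X

theorem normalizer_le_normalizer_pCoreOf (p : ℕ) (X : Subgroup G) :
    Subgroup.normalizer (X : Set G) ≤ Subgroup.normalizer (pCoreOf p X : Set G) :=
  normalizer_le_normalizer_of_natural (fun X => pCoreOf p X) (fun g X => map_conj_pCoreOf g p X) X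

theorem normalizer_le_normalizer_ppCoreOf (p : ℕ) (X : Subgroup G) :
    Subgroup.normalizer (X : Set G) ≤ Subgroup.normalizer (ppCoreOf p X : Set G) :=
  normalizer_le_normalizer_of_natural (fun X => ppCoreOf p X)
    (fun g X => map_conj_ppCoreOf g p X) X

theorem normalizer_le_normalizer_fittingOf (X : Subgroup G) :
    Subgroup.normalizer (X : Set G) ≤ Subgroup.normalizer (fittingOf X : Set G) :=
  normalizer_le_normalizer_of_natural (fun X => fittingOf X) (fun g X => map_conj_fittingOf g X) X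

theorem le_normalizer_pCoreOf (p : ℕ) (X : Subgroup G) :
    X ≤ Subgroup.normalizer (pCoreOf p X : Set G) :=
  Subgroup.le_normalizer.trans (normalizer_le_normalizer_pCoreOf p X)

theorem le_normalizer_ppCoreOf (p : ℕ) (X : Subgroup G) :
    X ≤ Subgroup.normalizer (ppCoreOf p X : Set G) :=
  Subgroup.le_normalizer.trans (normalizer_le_normalizer_ppCoreOf p X)

theorem le_normalizer_fittingOf (X : Subgroup G) :
    X ≤ Subgroup.normalizer (fittingOf X : Set G) :=
  Subgroup.le_normalizer.trans (normalizer_le_normalizer_fittingOf X)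

/-- a subgroup normalizing `X` normalizes `O_p(X)`. -/
theorem le_normalizer_pCoreOf_of_le {p : ℕ} {X N : Subgroup G}
    (h : N ≤ Subgroup.normalizer (X : Set G)) : N ≤ Subgroup.normalizer (pCoreOf p X : Set G) :=
  h.trans (normalizer_le_normalizer_pCoreOf p X)

theorem le_normalizer_ppCoreOf_of_le {p : ℕ} {X N : Subgroup G}
    (h : N ≤ Subgroup.normalizer (X : Set G)) : N ≤ Subgroup.normalizer (ppCoreOf p X : Set G) :=
  h.trans (normalizer_le_normalizer_ppCoreOf p X)

theorem le_normalizer_fittingOf_of_le {X N : Subgroup G}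
    (h : N ≤ Subgroup.normalizer (X : Set G)) : N ≤ Subgroup.normalizer (fittingOf X : Set G) :=
  h.trans (normalizer_le_normalizer_fittingOf X)

theorem isPGroup_pCoreOf (p : ℕ) (X : Subgroup G) : IsPGroup p (pCoreOf p X) := by
  unfold pCoreOf
  exact (Cfsg.Agent.Lib.Helper1.pCore_isPGroup p).map _

theorem coprime_card_ppCoreOf [Finite G] (p : ℕ) (X : Subgroup G) :
    (Nat.card (ppCoreOf p X)).Coprime p := by
  unfold ppCoreOf
  rw [Subgroup.card_map_of_injective X.subtype_injective]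
  exact Cfsg.Agent.Lib.Helper1.pPrimeCore_coprime p

theorem le_pCoreOf {p : ℕ} {K X : Subgroup G} (hKX : K ≤ X)
    (hn : X ≤ Subgroup.normalizer (K : Set G)) (hK : IsPGroup p K) : K ≤ pCoreOf p X := by
  have hN : (K.subgroupOf X).Normal := Subgroup.normal_subgroupOf_of_le_normalizer hn
  have hp : IsPGroup p (K.subgroupOf X) := hK.comap_subtype
  have h1 := Cfsg.Agent.Lib.Helper1.le_pCore hN hp
  have h2 := Subgroup.map_mono (f := X.subtype) h1
  rw [Subgroup.map_subgroupOf_eq_of_le hKX] at h2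
  exact h2

theorem le_ppCoreOf {p : ℕ} {K X : Subgroup G} (hKX : K ≤ X)
    (hn : X ≤ Subgroup.normalizer (K : Set G)) (hK : (Nat.card K).Coprime p) :
    K ≤ ppCoreOf p X := by
  have hN : (K.subgroupOf X).Normal := Subgroup.normal_subgroupOf_of_le_normalizer hn
  have hc : Nat.card (K.subgroupOf X) = Nat.card K :=
    Nat.card_congr (Subgroup.subgroupOfEquivOfLe hKX).toEquiv
  have h1 := Cfsg.Agent.Lib.Helper1.le_pPrimeCore hN (by rw [hc]; exact hK)
  have h2 := Subgroup.map_mono (f := X.subtype) h1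
  rw [Subgroup.map_subgroupOf_eq_of_le hKX] at h2
  exact h2

theorem isNilpotent_of_le {A B : Subgroup G} (h : A ≤ B) (hB : Group.IsNilpotent B) :
    Group.IsNilpotent A := by
  haveI := hB
  have h1 : Group.IsNilpotent (A.subgroupOf B) := inferInstance
  exact Group.nilpotent_of_surjective (Subgroup.subgroupOfEquivOfLe h).toMonoidHom
    (Subgroup.subgroupOfEquivOfLe h).surjective

theorem isNilpotent_fittingOf [Finite G] (X : Subgroup G) : Group.IsNilpotent (fittingOf X) := by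
  unfold fittingOf
  haveI : Group.IsNilpotent (fittingSubgroup X) := Cfsg.Agent.Lib.Helper1.fittingSubgroup_isNilpotent
  exact Group.nilpotent_of_surjective
    ((fittingSubgroup X).equivMapOfInjective X.subtype X.subtype_injective).toMonoidHom
    ((fittingSubgroup X).equivMapOfInjective X.subtype X.subtype_injective).surjective

theorem le_fittingOf {K X : Subgroup G} (hKX : K ≤ X)
    (hn : X ≤ Subgroup.normalizer (K : Set G)) (hK : Group.IsNilpotent K) : K ≤ fittingOf X := by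
  have hN : (K.subgroupOf X).Normal := Subgroup.normal_subgroupOf_of_le_normalizer hn
  have hnil : Group.IsNilpotent (K.subgroupOf X) := by
    haveI := hK
    exact Group.nilpotent_of_surjective (Subgroup.subgroupOfEquivOfLe hKX).symm.toMonoidHom
      (Subgroup.subgroupOfEquivOfLe hKX).symm.surjective
  have h1 := Cfsg.Agent.Lib.Helper1.le_fittingSubgroup hN hnil
  have h2 := Subgroup.map_mono (f := X.subtype) h1
  rw [Subgroup.map_subgroupOf_eq_of_le hKX] at h2
  exact h2

theorem fittingOf_eq_iSup [Finite G] (X : Subgroup G) :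
    fittingOf X = ⨆ q : Nat.Primes, pCoreOf (q : ℕ) X := by
  unfold fittingOf pCoreOf
  rw [Cfsg.Agent.Lib.Helper1.fittingSubgroup_eq_iSup_primes, Subgroup.map_iSup]

theorem pCoreOf_le_fittingOf [Finite G] {q : ℕ} (hq : q.Prime) (X : Subgroup G) :
    pCoreOf q X ≤ fittingOf X := by
  rw [fittingOf_eq_iSup]
  exact le_iSup (fun r : Nat.Primes => pCoreOf (r : ℕ) X) ⟨q, hq⟩

theorem inf_centralizer_fittingOf_le [Finite G] (X : Subgroup G) (hX : Group.IsSolvable X) :
    X ⊓ Subgroup.centralizer (fittingOf X : Set G) ≤ fittingOf X := by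
  rintro x ⟨hxX, hxC⟩
  haveI := hX
  have h1 : (⟨x, hxX⟩ : X) ∈ Subgroup.centralizer (fittingSubgroup X : Set X) := by
    rw [Subgroup.mem_centralizer_iff]
    intro y hy
    apply Subtype.ext
    have hy' : (y : G) ∈ fittingOf X := ⟨y, hy, rfl⟩
    exact Subgroup.mem_centralizer_iff.mp hxC _ hy'
  have h2 := Cfsg.Agent.Lib.Helper1.centralizer_fittingSubgroup_le h1
  exact ⟨⟨x, hxX⟩, h2, rfl⟩

theorem inf_pCoreOf_ppCoreOf [Finite G] (p : ℕ) [Fact p.Prime] (X : Subgroup G) :
    pCoreOf p X ⊓ ppCoreOf p X = ⊥ := by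
  apply inf_eq_bot_of_coprime
  obtain ⟨k, hk⟩ := (isPGroup_pCoreOf p X).exists_card_eq
  rw [hk]
  exact Nat.Coprime.pow_left k (coprime_card_ppCoreOf p X).symm

theorem commute_pCoreOf_ppCoreOf [Finite G] (p : ℕ) [Fact p.Prime] (X : Subgroup G) {x y : G}
    (hx : x ∈ pCoreOf p X) (hy : y ∈ ppCoreOf p X) : x * y = y * x :=
  commute_of_normalize_of_inf_eq_bot ((pCoreOf_le p X).trans (le_normalizer_ppCoreOf p X))
    ((ppCoreOf_le p X).trans (le_normalizer_pCoreOf p X)) (inf_pCoreOf_ppCoreOf p X) hx hy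

theorem pCoreOf_le_ppCoreOf [Finite G] {q r : ℕ} (hq : q.Prime) (hr : r.Prime) (hqr : q ≠ r)
    (X : Subgroup G) : pCoreOf r X ≤ ppCoreOf q X := by
  apply le_ppCoreOf (pCoreOf_le r X) (le_normalizer_pCoreOf r X)
  have : Fact r.Prime := ⟨hr⟩
  obtain ⟨k, hk⟩ := (isPGroup_pCoreOf r X).exists_card_eq
  rw [hk]
  exact Nat.Coprime.pow_left k ((Nat.coprime_primes hr hq).mpr (Ne.symm hqr))

theorem commute_pCoreOf [Finite G] {q r : ℕ} (hq : q.Prime) (hr : r.Prime) (hqr : q ≠ r)
    (X : Subgroup G) {x y : G} (hx : x ∈ pCoreOf q X) (hy : y ∈ pCoreOf r X) : x * y = y * x := by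
  have : Fact q.Prime := ⟨hq⟩
  exact commute_pCoreOf_ppCoreOf q X hx (pCoreOf_le_ppCoreOf hq hr hqr X hy)

/-- The `p'`-part of the Fitting subgroup: the join of the `O_q(X)` for the primes `q ≠ p`. -/
def fitCompl (p : ℕ) (X : Subgroup G) : Subgroup G :=
  ⨆ (q : Nat.Primes) (_ : (q : ℕ) ≠ p), pCoreOf (q : ℕ) X

theorem pCoreOf_le_fitCompl {p q : ℕ} (hq : q.Prime) (hqp : q ≠ p) (X : Subgroup G) :
    pCoreOf q X ≤ fitCompl p X := by
  unfold fitCompl
  exact le_iSup₂ (f := fun (r : Nat.Primes) (_ : (r : ℕ) ≠ p) => pCoreOf (r : ℕ) X) ⟨q, hq⟩ hqp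

theorem fitCompl_le_of {p : ℕ} {X Y : Subgroup G}
    (h : ∀ q : ℕ, q.Prime → q ≠ p → pCoreOf q X ≤ Y) : fitCompl p X ≤ Y := by
  unfold fitCompl
  exact iSup₂_le (fun q hq => h q q.2 hq)

theorem fitCompl_le (p : ℕ) (X : Subgroup G) : fitCompl p X ≤ X :=
  fitCompl_le_of (fun q _ _ => pCoreOf_le q X)

theorem fitCompl_le_fittingOf [Finite G] (p : ℕ) (X : Subgroup G) : fitCompl p X ≤ fittingOf X :=
  fitCompl_le_of (fun _ hq _ => pCoreOf_le_fittingOf hq X)

theorem fitCompl_le_ppCoreOf [Finite G] {p : ℕ} (hp : p.Prime) (X : Subgroup G) :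
    fitCompl p X ≤ ppCoreOf p X :=
  fitCompl_le_of (fun _ hq hqp => pCoreOf_le_ppCoreOf hp hq (Ne.symm hqp) X)

theorem fittingOf_eq_sup [Finite G] {p : ℕ} (hp : p.Prime) (X : Subgroup G) :
    fittingOf X = pCoreOf p X ⊔ fitCompl p X := by
  apply le_antisymm
  · rw [fittingOf_eq_iSup]
    apply iSup_le
    intro q
    by_cases hqp : (q : ℕ) = p
    · rw [hqp]; exact le_sup_left
    · exact (pCoreOf_le_fitCompl q.2 hqp X).trans le_sup_right
  · exact sup_le (pCoreOf_le_fittingOf hp X) (fitCompl_le_fittingOf p X)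

theorem le_normalizer_fitCompl_of_le {p : ℕ} {X N : Subgroup G}
    (h : N ≤ Subgroup.normalizer (X : Set G)) : N ≤ Subgroup.normalizer (fitCompl p X : Set G) := by
  unfold fitCompl
  apply le_normalizer_iSup
  intro q
  apply le_normalizer_iSup
  intro _
  exact le_normalizer_pCoreOf_of_le h

theorem le_normalizer_fitCompl (p : ℕ) (X : Subgroup G) :
    X ≤ Subgroup.normalizer (fitCompl p X : Set G) :=
  le_normalizer_fitCompl_of_le Subgroup.le_normalizer

theorem mem_centralizer_fitCompl_iff {p : ℕ} {X : Subgroup G} {x : G} :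
    x ∈ Subgroup.centralizer (fitCompl p X : Set G) ↔
      ∀ q : ℕ, q.Prime → q ≠ p → x ∈ Subgroup.centralizer (pCoreOf q X : Set G) := by
  unfold fitCompl
  rw [mem_centralizer_iSup_iff]
  constructor
  · intro h q hq hqp
    have := h ⟨q, hq⟩
    rw [mem_centralizer_iSup_iff] at this
    exact this hqp
  · intro h q
    rw [mem_centralizer_iSup_iff]
    intro hqp
    exact h q q.2 hqp

theorem commute_pCoreOf_fitCompl [Finite G] {p : ℕ} (hp : p.Prime) (X : Subgroup G) {x y : G}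
    (hx : x ∈ pCoreOf p X) (hy : y ∈ fitCompl p X) : x * y = y * x := by
  have : Fact p.Prime := ⟨hp⟩
  exact commute_pCoreOf_ppCoreOf p X hx (fitCompl_le_ppCoreOf hp X hy)

theorem pCoreOf_le_centralizer_fitCompl [Finite G] {p : ℕ} (hp : p.Prime) (X : Subgroup G) :
    pCoreOf p X ≤ Subgroup.centralizer (fitCompl p X : Set G) :=
  le_centralizer_of_commute (fun _ ha _ hb => commute_pCoreOf_fitCompl hp X ha hb)

theorem eq_one_of_pow_eq_one_of_coprime {x : G} {m n : ℕ} (hm : x ^ m = 1) (hn : x ^ n = 1)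
    (h : m.Coprime n) : x = 1 := by
  have h1 : orderOf x ∣ m := orderOf_dvd_of_pow_eq_one hm
  have h2 : orderOf x ∣ n := orderOf_dvd_of_pow_eq_one hn
  have h3 : orderOf x ∣ 1 := by
    have := Nat.dvd_gcd h1 h2
    rwa [h.gcd_eq_one] at this
  exact orderOf_eq_one_iff.mp (Nat.dvd_one.mp h3)

theorem mem_sup_of_commute' {A B : Subgroup G} (h : ∀ a ∈ A, ∀ b ∈ B, a * b = b * a) {x : G}
    (hx : x ∈ A ⊔ B) : ∃ a ∈ A, ∃ b ∈ B, x = a * b :=
  (Cfsg.Agent.Lib.Helper10.mem_sup_of_commute A B h).mp hx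

/-- a `p`-subgroup of `F(X)` lies in `O_p(X)`. -/
theorem pgroup_le_pCoreOf_of_le_fittingOf [Finite G] {p : ℕ} (hp : p.Prime) {X Q : Subgroup G}
    (hQ : Q ≤ fittingOf X) (hQp : IsPGroup p Q) : Q ≤ pCoreOf p X := by
  have : Fact p.Prime := ⟨hp⟩
  intro x hx
  have hxF : x ∈ pCoreOf p X ⊔ fitCompl p X := by
    rw [← fittingOf_eq_sup hp]; exact hQ hx
  obtain ⟨y, hy, z, hz, hxyz⟩ := mem_sup_of_commute'
    (fun a ha b hb => commute_pCoreOf_fitCompl hp X ha hb) hxF
  have hyz : y * z = z * y := commute_pCoreOf_fitCompl hp X hy hz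
  obtain ⟨a, ha⟩ := hQp ⟨x, hx⟩
  have ha' : x ^ p ^ a = 1 := by
    have := congrArg Subtype.val ha
    simpa using this
  obtain ⟨b, hb⟩ := (isPGroup_pCoreOf p X) ⟨y, hy⟩
  have hb' : y ^ p ^ b = 1 := by
    have := congrArg Subtype.val hb
    simpa using this
  have hz1 : z ^ (p ^ (a + b)) = 1 := by
    have hzx : z = y⁻¹ * x := by rw [hxyz]; group
    have hcomm : Commute y⁻¹ x := by
      have : Commute y x := by
        rw [hxyz]
        exact (Commute.refl y).mul_right hyz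
      exact this.inv_left
    have hxn : x ^ (p ^ (a + b)) = 1 := by rw [pow_add, pow_mul, ha', one_pow]
    have hyn : y ^ (p ^ (a + b)) = 1 := by rw [pow_add, mul_comm, pow_mul, hb', one_pow]
    rw [hzx, hcomm.mul_pow, inv_pow, hyn, hxn, inv_one, one_mul]
  have hz2 : z ^ Nat.card (ppCoreOf p X) = 1 :=
    Cfsg.Agent.Lib.Helper10.pow_card_subgroup_eq_one _ (fitCompl_le_ppCoreOf hp X hz)
  have hz3 : z = 1 := eq_one_of_pow_eq_one_of_coprime hz1 hz2
    (Nat.Coprime.pow_left _ (coprime_card_ppCoreOf p X).symm)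
  rw [hxyz, hz3, mul_one]
  exact hy

/-- a `p'`-subgroup of `F(X)` lies in the `p'`-part of `F(X)`. -/
theorem coprime_le_fitCompl_of_le_fittingOf [Finite G] {p : ℕ} (hp : p.Prime) {X Q : Subgroup G}
    (hQ : Q ≤ fittingOf X) (hQp : (Nat.card Q).Coprime p) : Q ≤ fitCompl p X := by
  have : Fact p.Prime := ⟨hp⟩
  intro x hx
  have hxF : x ∈ pCoreOf p X ⊔ fitCompl p X := by
    rw [← fittingOf_eq_sup hp]; exact hQ hx
  obtain ⟨y, hy, z, hz, hxyz⟩ := mem_sup_of_commute'
    (fun a ha b hb => commute_pCoreOf_fitCompl hp X ha hb) hxF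
  have hyz : y * z = z * y := commute_pCoreOf_fitCompl hp X hy hz
  obtain ⟨b, hb⟩ := (isPGroup_pCoreOf p X) ⟨y, hy⟩
  have hb' : y ^ p ^ b = 1 := by
    have := congrArg Subtype.val hb
    simpa using this
  have hx1 : x ^ Nat.card Q = 1 := Cfsg.Agent.Lib.Helper10.pow_card_subgroup_eq_one _ hx
  have hz2 : z ^ Nat.card (ppCoreOf p X) = 1 :=
    Cfsg.Agent.Lib.Helper10.pow_card_subgroup_eq_one _ (fitCompl_le_ppCoreOf hp X hz)
  have hy1 : y ^ (Nat.card Q * Nat.card (ppCoreOf p X)) = 1 := by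
    have hyx : y = x * z⁻¹ := by rw [hxyz]; group
    have hcomm : Commute x z⁻¹ := by
      have : Commute x z := by
        rw [hxyz]
        exact (Commute.mul_left hyz (Commute.refl z))
      exact this.inv_right
    rw [hyx, hcomm.mul_pow, pow_mul, hx1, one_pow, one_mul, mul_comm, pow_mul, inv_pow, hz2,
      inv_one, one_pow]
  have hy3 : y = 1 := eq_one_of_pow_eq_one_of_coprime hb' hy1
    (Nat.Coprime.pow_left _ (Nat.Coprime.mul_right hQp.symm (coprime_card_ppCoreOf p X).symm))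
  rw [hxyz, hy3, one_mul]
  exact hz

theorem centralizer_fitCompl_inf_le [Finite G] {p q : ℕ} (hp : p.Prime) (hq : q.Prime)
    (hpq : p ≠ q) (X : Subgroup G) :
    Subgroup.centralizer (fitCompl p X : Set G) ⊓ Subgroup.centralizer (fitCompl q X : Set G) ≤
      Subgroup.centralizer (fittingOf X : Set G) := by
  rintro x ⟨hx1, hx2⟩
  rw [fittingOf_eq_iSup, mem_centralizer_iSup_iff]
  intro r
  by_cases hrp : (r : ℕ) = p
  · have hrq : (r : ℕ) ≠ q := by rw [hrp]; exact hpq
    exact mem_centralizer_fitCompl_iff.mp hx2 r r.2 hrq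
  · exact mem_centralizer_fitCompl_iff.mp hx1 r r.2 hrp

end Cores

section MinSimple

variable [Finite G]

theorem isSolvable_of_ne_top (hG : IsMinSimpleOddOrder G) {X : Subgroup G} (hX : X ≠ ⊤) :
    Group.IsSolvable X := hG.2.2.2 X hX

theorem odd_card_subgroup (hG : IsMinSimpleOddOrder G) (X : Subgroup G) : Odd (Nat.card X) :=
  Odd.of_dvd_nat hG.1 (Subgroup.card_subgroup_dvd_card X)

theorem prime_ne_two (hG : IsMinSimpleOddOrder G) {p : ℕ} (hp : p ∣ Nat.card G) : p ≠ 2 := by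
  rintro rfl
  exact (Nat.not_even_iff_odd.mpr hG.1) (even_iff_two_dvd.mpr hp)

theorem prime_ne_two_of_pgroup (hG : IsMinSimpleOddOrder G) {p : ℕ} [Fact p.Prime]
    {Q : Subgroup G} (hQ : IsPGroup p Q) (hQ1 : Q ≠ ⊥) : p ≠ 2 := by
  apply prime_ne_two hG
  obtain ⟨k, hk⟩ := hQ.exists_card_eq
  have hk0 : k ≠ 0 := by
    rintro rfl
    rw [pow_zero] at hk
    exact hQ1 (Subgroup.card_eq_one.mp hk)
  have h1 : p ∣ Nat.card Q := by rw [hk]; exact dvd_pow_self p hk0
  exact h1.trans (Subgroup.card_subgroup_dvd_card Q)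

theorem exists_isCoatom_ge {X : Subgroup G} (hX : X ≠ ⊤) : ∃ M : Subgroup G, IsCoatom M ∧ X ≤ M := by
  rcases eq_top_or_exists_le_coatom X with h | h
  · exact absurd h hX
  · exact h

theorem normalizer_eq_of_isCoatom (hG : IsMinSimpleOddOrder G) {M K : Subgroup G}
    (hM : IsCoatom M) (hK1 : K ≠ ⊥) (hK2 : K ≠ ⊤)
    (hMK : M ≤ Subgroup.normalizer (K : Set G)) : Subgroup.normalizer (K : Set G) = M := by
  have h1 : Subgroup.normalizer (K : Set G) ≠ ⊤ :=
    Cfsg.Agent.Lib.Lead.BGTrans.normalizer_ne_top hG.2 hK1 hK2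
  by_contra hne
  have h2 : M < Subgroup.normalizer (K : Set G) := lt_of_le_of_ne hMK (Ne.symm hne)
  exact h1 (hM.2 _ h2)

theorem ne_top_of_le_isCoatom {M K : Subgroup G} (hM : IsCoatom M) (hK : K ≤ M) : K ≠ ⊤ := by
  rintro rfl
  exact hM.1 (top_le_iff.mp hK)

theorem normalizer_eq_of_isCoatom' (hG : IsMinSimpleOddOrder G) {M K : Subgroup G}
    (hM : IsCoatom M) (hK1 : K ≠ ⊥) (hKM : K ≤ M)
    (hMK : M ≤ Subgroup.normalizer (K : Set G)) : Subgroup.normalizer (K : Set G) = M :=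
  normalizer_eq_of_isCoatom hG hM hK1 (ne_top_of_le_isCoatom hM hKM) hMK

theorem centralizer_le_of_isCoatom (hG : IsMinSimpleOddOrder G) {M K : Subgroup G}
    (hM : IsCoatom M) (hK1 : K ≠ ⊥) (hKM : K ≤ M)
    (hMK : M ≤ Subgroup.normalizer (K : Set G)) : Subgroup.centralizer (K : Set G) ≤ M := by
  rw [← normalizer_eq_of_isCoatom' hG hM hK1 hKM hMK]
  exact Subgroup.centralizer_le_normalizer _

theorem eq_of_isCoatom_of_le {M L : Subgroup G} (hM : IsCoatom M) (hL : IsCoatom L) (h : M ≤ L) :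
    L = M := by
  by_contra hne
  exact hL.1 (hM.2 _ (lt_of_le_of_ne h (Ne.symm hne)))

theorem inUniqueMaximal_of {M X : Subgroup G} (hM : IsCoatom M) (hXM : X ≤ M)
    (h : ∀ L : Subgroup G, IsCoatom L → X ≤ L → L = M) : InUniqueMaximal X :=
  ⟨M, ⟨hM, hXM⟩, fun L hL => h L hL.1 hL.2⟩

theorem inUniqueMaximal_exists {X : Subgroup G} (h : InUniqueMaximal X) :
    ∃ M : Subgroup G, IsCoatom M ∧ X ≤ M ∧ ∀ L : Subgroup G, IsCoatom L → X ≤ L → L = M := by
  obtain ⟨M, ⟨hM, hXM⟩, huniq⟩ := h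
  exact ⟨M, hM, hXM, fun L hL hXL => huniq L ⟨hL, hXL⟩⟩

theorem inUniqueMaximal_mono {X Y : Subgroup G} (h : InUniqueMaximal X) (hXY : X ≤ Y)
    (hY : Y ≠ ⊤) : InUniqueMaximal Y := by
  obtain ⟨M, hM, hXM, huniq⟩ := inUniqueMaximal_exists h
  obtain ⟨L, hL, hYL⟩ := exists_isCoatom_ge hY
  have hLM : L = M := huniq L hL (hXY.trans hYL)
  subst hLM
  exact inUniqueMaximal_of hL hYL (fun L' hL' hYL' => huniq L' hL' (hXY.trans hYL'))

theorem le_of_unique_isCoatom {X Y M : Subgroup G}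
    (h : ∀ L : Subgroup G, IsCoatom L → X ≤ L → L = M) (hXY : X ≤ Y) (hY : Y ≠ ⊤) : Y ≤ M := by
  obtain ⟨L, hL, hYL⟩ := exists_isCoatom_ge hY
  have hLM : L = M := h L hL (hXY.trans hYL)
  rw [← hLM]; exact hYL

end MinSimple

end Cfsg.Agent.Lib.Helper10.BG
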