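import Mathlib
import Cfsg.Prelude
import Cfsg.Agent.Lib.Helper10.BGBase
import Cfsg.Agent.Lib.Helper17.SylowLemmas

/-!
# Sylow subgroups of a subgroup, as subgroups of the ambient group

`IsSylowIn p T X`: `T` is a maximal `p`-subgroup of the subgroup `X`. Existence, conjugacy,
intersections with normal subgroups, the Frattini argument and growth of normalizers.
-/

set_option autoImplicit false
open Cfsg
open scoped Pointwise

namespace Cfsg.Agent.Lib.Helper10.BG

variable {G : Type*} [Group G] {p : ℕ}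

theorem conj_inv_comp_conj (g : G) :
    (MulAut.conj g⁻¹).toMonoidHom.comp (MulAut.conj g).toMonoidHom = MonoidHom.id G := by
  ext y
  simp only [MonoidHom.coe_comp, MulEquiv.coe_toMonoidHom, Function.comp_apply,
    MulAut.conj_apply, MonoidHom.id_apply]
  group

theorem conj_comp_conj_inv (g : G) :
    (MulAut.conj g).toMonoidHom.comp (MulAut.conj g⁻¹).toMonoidHom = MonoidHom.id G := by
  ext y
  simp only [MonoidHom.coe_comp, MulEquiv.coe_toMonoidHom, Function.comp_apply,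
    MulAut.conj_apply, MonoidHom.id_apply]
  group

theorem map_conj_inv_map_conj (g : G) (K : Subgroup G) :
    (K.map (MulAut.conj g).toMonoidHom).map (MulAut.conj g⁻¹).toMonoidHom = K := by
  rw [Subgroup.map_map, conj_inv_comp_conj, Subgroup.map_id]

theorem map_conj_map_conj_inv (g : G) (K : Subgroup G) :
    (K.map (MulAut.conj g⁻¹).toMonoidHom).map (MulAut.conj g).toMonoidHom = K := by
  rw [Subgroup.map_map, conj_comp_conj_inv, Subgroup.map_id]

/-- `T` is a maximal `p`-subgroup of `X`. -/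
def IsSylowIn (p : ℕ) (T X : Subgroup G) : Prop :=
  T ≤ X ∧ IsPGroup p T ∧ ∀ Q : Subgroup G, Q ≤ X → IsPGroup p Q → T ≤ Q → Q = T

namespace IsSylowIn

variable {T X : Subgroup G}

theorem le (h : IsSylowIn p T X) : T ≤ X := h.1
theorem isPGroup (h : IsSylowIn p T X) : IsPGroup p T := h.2.1
theorem eq_of_le (h : IsSylowIn p T X) {Q : Subgroup G} (hQX : Q ≤ X) (hQ : IsPGroup p Q)
    (hTQ : T ≤ Q) : Q = T := h.2.2 Q hQX hQ hTQ

theorem of_le (h : IsSylowIn p T X) {Y : Subgroup G} (hTY : T ≤ Y) (hYX : Y ≤ X) :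
    IsSylowIn p T Y :=
  ⟨hTY, h.isPGroup, fun Q hQY hQ hTQ => h.eq_of_le (hQY.trans hYX) hQ hTQ⟩

/-- The Sylow subgroup of the group `X` attached to a maximal `p`-subgroup of `X`. -/
def toSylow (h : IsSylowIn p T X) : Sylow p ↥X where
  toSubgroup := T.subgroupOf X
  isPGroup' := h.isPGroup.comap_subtype
  is_maximal' := by
    intro Q hQ hle
    have h1 : Q.map X.subtype = T := by
      apply h.eq_of_le (Subgroup.map_subtype_le Q) (hQ.map _)
      have h2 := Subgroup.map_mono (f := X.subtype) hle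
      rwa [Subgroup.map_subgroupOf_eq_of_le h.le] at h2
    rw [← h1]
    exact (Subgroup.comap_map_eq_self_of_injective X.subtype_injective Q).symm

theorem coe_toSylow (h : IsSylowIn p T X) : ((h.toSylow : Sylow p ↥X) : Subgroup X) = T.subgroupOf X :=
  rfl

theorem mem_toSylow (h : IsSylowIn p T X) (x : X) : x ∈ (h.toSylow : Sylow p ↥X) ↔ (x : G) ∈ T :=
  Iff.rfl

end IsSylowIn

theorem isSylowIn_of_sylow {X : Subgroup G} (S : Sylow p ↥X) :
    IsSylowIn p ((S : Subgroup X).map X.subtype) X := by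
  refine ⟨Subgroup.map_subtype_le _, S.2.map _, ?_⟩
  intro Q hQX hQ hle
  have h1 : (S : Subgroup X) ≤ Q.subgroupOf X := by
    intro x hx
    rw [Subgroup.mem_subgroupOf]
    exact hle ⟨x, hx, rfl⟩
  have h2 : Q.subgroupOf X = (S : Subgroup X) := S.is_maximal' hQ.comap_subtype h1
  rw [← h2, Subgroup.map_subgroupOf_eq_of_le hQX]

theorem isSylowIn_top_of_sylow (S : Sylow p G) : IsSylowIn p (S : Subgroup G) ⊤ :=
  ⟨le_top, S.2, fun _ _ hQ hle => S.is_maximal' hQ hle⟩

/-- A maximal `p`-subgroup of `G` as a Sylow subgroup. -/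
def IsSylowIn.toSylowTop {T : Subgroup G} (h : IsSylowIn p T ⊤) : Sylow p G where
  toSubgroup := T
  isPGroup' := h.isPGroup
  is_maximal' := fun hQ hle => h.eq_of_le le_top hQ hle

theorem IsSylowIn.coe_toSylowTop {T : Subgroup G} (h : IsSylowIn p T ⊤) :
    ((h.toSylowTop : Sylow p G) : Subgroup G) = T := rfl

section Finite

variable [Finite G]

theorem exists_isSylowIn_ge {Q X : Subgroup G} (hQX : Q ≤ X) (hQ : IsPGroup p Q) :
    ∃ T : Subgroup G, IsSylowIn p T X ∧ Q ≤ T := by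
  obtain ⟨T, hQT, hT⟩ := Finite.exists_le_maximal (p := fun R : Subgroup G => R ≤ X ∧ IsPGroup p R)
    (a := Q) ⟨hQX, hQ⟩
  refine ⟨T, ⟨hT.prop.1, hT.prop.2, ?_⟩, hQT⟩
  intro R hRX hR hTR
  exact le_antisymm (hT.le_of_ge ⟨hRX, hR⟩ hTR) hTR

theorem exists_isSylowIn (p : ℕ) (X : Subgroup G) : ∃ T : Subgroup G, IsSylowIn p T X := by
  obtain ⟨T, hT, -⟩ := exists_isSylowIn_ge (p := p) (Q := ⊥) (X := X) bot_le IsPGroup.of_bot
  exact ⟨T, hT⟩

variable [Fact p.Prime]

theorem IsSylowIn.exists_conj {T₁ T₂ X : Subgroup G} (h₁ : IsSylowIn p T₁ X)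
    (h₂ : IsSylowIn p T₂ X) :
    ∃ x ∈ X, T₂ = T₁.map (MulAut.conj x).toMonoidHom := by
  obtain ⟨g, hg⟩ := MulAction.exists_smul_eq X h₁.toSylow h₂.toSylow
  refine ⟨g, g.2, ?_⟩
  have key : ∀ t : X, t ∈ (h₂.toSylow : Sylow p ↥X) ↔ g⁻¹ * t * g ∈ (h₁.toSylow : Sylow p ↥X) := by
    intro t
    rw [← hg]
    have h3 : t ∈ (g • h₁.toSylow : Sylow p ↥X) ↔
        t ∈ (MulAut.conj g • ((h₁.toSylow : Sylow p ↥X) : Subgroup X)) := by
      rw [← Sylow.coe_subgroup_smul]; rfl
    rw [h3, Subgroup.mem_pointwise_smul_iff_inv_smul_mem]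
    simp only [MulAut.smul_def, MulAut.inv_apply, MulAut.conj_symm_apply]
    rfl
  ext t
  constructor
  · intro ht
    have htX : t ∈ X := h₂.le ht
    have h4 := (key ⟨t, htX⟩).mp ((h₂.mem_toSylow _).mpr ht)
    rw [h₁.mem_toSylow] at h4
    refine ⟨(g : G)⁻¹ * t * g, h4, ?_⟩
    simp only [MulEquiv.coe_toMonoidHom, MulAut.conj_apply]
    group
  · rintro ⟨s, hs, rfl⟩
    have hsX : s ∈ X := h₁.le hs
    have htX : (MulAut.conj (g : G)).toMonoidHom s ∈ X := by
      simp only [MulEquiv.coe_toMonoidHom, MulAut.conj_apply]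
      exact X.mul_mem (X.mul_mem g.2 hsX) (X.inv_mem g.2)
    have h4 := (key ⟨_, htX⟩).mpr ?_
    · exact (h₂.mem_toSylow _).mp h4
    · rw [h₁.mem_toSylow]
      have : ((g⁻¹ * ⟨(MulAut.conj (g : G)).toMonoidHom s, htX⟩ * g : X) : G) = s := by
        simp only [Subgroup.coe_mul, Subgroup.coe_inv, MulEquiv.coe_toMonoidHom, MulAut.conj_apply]
        group
      rw [this]
      exact hs

theorem IsSylowIn.card_le {T X Q : Subgroup G} (h : IsSylowIn p T X) (hQX : Q ≤ X)
    (hQ : IsPGroup p Q) : Nat.card Q ≤ Nat.card T := by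
  obtain ⟨T', hT', hQT'⟩ := exists_isSylowIn_ge hQX hQ
  obtain ⟨x, -, hx⟩ := h.exists_conj hT'
  have h1 : Nat.card T' = Nat.card T := by
    rw [hx]
    exact Subgroup.card_map_of_injective (MulAut.conj x).injective
  rw [← h1]
  exact Subgroup.card_le_of_le hQT'

omit [Fact p.Prime] in
theorem isSylowIn_of_card_ge {T X : Subgroup G} (hTX : T ≤ X) (hT : IsPGroup p T)
    (h : ∀ Q : Subgroup G, Q ≤ X → IsPGroup p Q → T ≤ Q → Nat.card Q ≤ Nat.card T) :
    IsSylowIn p T X :=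
  ⟨hTX, hT, fun Q hQX hQ hTQ => (Subgroup.eq_of_le_of_card_ge hTQ (h Q hQX hQ hTQ)).symm⟩

/-- conjugation by an element normalizing `X` preserves maximal `p`-subgroups of `X`. -/
theorem IsSylowIn.map_conj {T X : Subgroup G} (h : IsSylowIn p T X) {g : G}
    (hg : g ∈ Subgroup.normalizer (X : Set G)) :
    IsSylowIn p (T.map (MulAut.conj g).toMonoidHom) X := by
  have hX : X.map (MulAut.conj g).toMonoidHom = X :=
    Cfsg.Agent.Lib.Helper10.map_conj_eq_of_mem_normalizer X g hg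
  refine ⟨?_, h.isPGroup.map _, ?_⟩
  · rw [← hX]; exact Subgroup.map_mono h.le
  · intro Q hQX hQ hle
    have hg' : g⁻¹ ∈ Subgroup.normalizer (X : Set G) := inv_mem hg
    have hX' : X.map (MulAut.conj g⁻¹).toMonoidHom = X :=
      Cfsg.Agent.Lib.Helper10.map_conj_eq_of_mem_normalizer X g⁻¹ hg'
    have hback : ∀ K : Subgroup G, (K.map (MulAut.conj g).toMonoidHom).map
        (MulAut.conj g⁻¹).toMonoidHom = K := map_conj_inv_map_conj g
    have hback' : ∀ K : Subgroup G, (K.map (MulAut.conj g⁻¹).toMonoidHom).map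
        (MulAut.conj g).toMonoidHom = K := map_conj_map_conj_inv g
    have h1 : Q.map (MulAut.conj g⁻¹).toMonoidHom = T := by
      apply h.eq_of_le
      · rw [← hX']; exact Subgroup.map_mono hQX
      · exact hQ.map _
      · have := Subgroup.map_mono (f := (MulAut.conj g⁻¹).toMonoidHom) hle
        rwa [hback] at this
    rw [← h1, hback']

/-- a normal `p`-subgroup of `X` lies in every maximal `p`-subgroup of `X`. -/
theorem IsSylowIn.normal_le {T X K : Subgroup G} (h : IsSylowIn p T X) (hKX : K ≤ X)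
    (hK : IsPGroup p K) (hn : X ≤ Subgroup.normalizer (K : Set G)) : K ≤ T := by
  have h1 : IsPGroup p (T ⊔ K : Subgroup G) :=
    IsPGroup.to_sup_of_normal_right' h.isPGroup hK (h.le.trans hn)
  have h2 : T ⊔ K = T := h.eq_of_le (sup_le h.le hKX) h1 le_sup_left
  rw [← h2]; exact le_sup_right

theorem IsSylowIn.pCoreOf_le {T X : Subgroup G} (h : IsSylowIn p T X) : pCoreOf p X ≤ T :=
  h.normal_le (Cfsg.Agent.Lib.Helper10.BG.pCoreOf_le p X) (isPGroup_pCoreOf p X)
    (le_normalizer_pCoreOf p X)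

/-- the intersection of a maximal `p`-subgroup with a normal subgroup is a maximal `p`-subgroup
of the normal subgroup. -/
theorem IsSylowIn.inf_normal {T X N : Subgroup G} (h : IsSylowIn p T X) (hNX : N ≤ X)
    (hn : X ≤ Subgroup.normalizer (N : Set G)) : IsSylowIn p (T ⊓ N) N := by
  apply isSylowIn_of_card_ge inf_le_right (h.isPGroup.to_le inf_le_left)
  intro Q hQN hQ _
  obtain ⟨T', hT', hQT'⟩ := exists_isSylowIn_ge (hQN.trans hNX) hQ
  obtain ⟨x, hxX, hx⟩ := h.exists_conj hT'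
  have hN : N.map (MulAut.conj x).toMonoidHom = N :=
    Cfsg.Agent.Lib.Helper10.map_conj_eq_of_mem_normalizer N x (hn hxX)
  have h1 : Q ≤ (T ⊓ N).map (MulAut.conj x).toMonoidHom := by
    intro q hq
    have hq1 : q ∈ T.map (MulAut.conj x).toMonoidHom := by rw [← hx]; exact hQT' hq
    have hq2 : q ∈ N.map (MulAut.conj x).toMonoidHom := by rw [hN]; exact hQN hq
    obtain ⟨t, ht, rfl⟩ := hq1
    obtain ⟨n, hn', hnt⟩ := hq2
    have : n = t := (MulAut.conj x).injective hnt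
    subst this
    exact ⟨n, ⟨ht, hn'⟩, rfl⟩
  calc Nat.card Q ≤ Nat.card ((T ⊓ N).map (MulAut.conj x).toMonoidHom) :=
        Subgroup.card_le_of_le h1
    _ = Nat.card (T ⊓ N : Subgroup G) :=
        Subgroup.card_map_of_injective (MulAut.conj x).injective

/-- the **Frattini argument**. -/
theorem frattini {T C X : Subgroup G} (hCX : C ≤ X) (hn : X ≤ Subgroup.normalizer (C : Set G))
    (hT : IsSylowIn p T C) {x : G} (hx : x ∈ X) :
    ∃ c ∈ C, ∃ n ∈ X ⊓ Subgroup.normalizer (T : Set G), x = c * n := by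
  have h1 : IsSylowIn p (T.map (MulAut.conj x).toMonoidHom) C := hT.map_conj (hn hx)
  obtain ⟨c, hcC, hc⟩ := hT.exists_conj h1
  refine ⟨c, hcC, c⁻¹ * x, ⟨X.mul_mem (X.inv_mem (hCX hcC)) hx, ?_⟩, by group⟩
  apply mem_normalizer_of_map_conj_eq
  have h2 : (MulAut.conj (c⁻¹ * x)).toMonoidHom =
      (MulAut.conj c⁻¹).toMonoidHom.comp (MulAut.conj x).toMonoidHom := by
    ext y
    simp [mul_assoc]
  rw [h2, ← Subgroup.map_map, hc, map_conj_inv_map_conj]

theorem frattini_le {T C X Y : Subgroup G} (hCX : C ≤ X) (hn : X ≤ Subgroup.normalizer (C : Set G))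
    (hT : IsSylowIn p T C) (hCY : C ≤ Y) (hNY : X ⊓ Subgroup.normalizer (T : Set G) ≤ Y) :
    X ≤ Y := by
  intro x hx
  obtain ⟨c, hc, n, hn', rfl⟩ := frattini hCX hn hT hx
  exact Y.mul_mem (hCY hc) (hNY hn')

/-- normalizers grow: a `p`-subgroup of `X` that is not maximal is properly contained in a
`p`-subgroup of its normalizer in `X`. -/
theorem exists_normalizer_gt {T X : Subgroup G} (hTX : T ≤ X) (hT : IsPGroup p T)
    (hns : ¬ IsSylowIn p T X) :
    ∃ x ∈ X, x ∈ Subgroup.normalizer (T : Set G) ∧ x ∉ T ∧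
      IsPGroup p (T ⊔ Subgroup.zpowers x : Subgroup G) := by
  have h1 : ∃ Q : Subgroup G, Q ≤ X ∧ IsPGroup p Q ∧ T ≤ Q ∧ Q ≠ T := by
    by_contra hcon
    apply hns
    refine ⟨hTX, hT, fun Q hQX hQ hTQ => ?_⟩
    by_contra hne
    exact hcon ⟨Q, hQX, hQ, hTQ, hne⟩
  obtain ⟨Q, hQX, hQ, hTQ, hne⟩ := h1
  have hlt : T < Q := lt_of_le_of_ne hTQ (Ne.symm hne)
  obtain ⟨n, hnQ, hnN, hnT⟩ := Cfsg.Agent.Lib.Helper17.pgroup_normalizer_gt hQ hlt
  refine ⟨n, hQX hnQ, hnN, hnT, hQ.to_le (sup_le hTQ (Subgroup.zpowers_le.mpr hnQ))⟩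

theorem IsSylowIn.of_normalizer_le {T X : Subgroup G} (hTX : T ≤ X) (hT : IsPGroup p T)
    (h : ∀ x ∈ X, x ∈ Subgroup.normalizer (T : Set G) →
      IsPGroup p (T ⊔ Subgroup.zpowers x : Subgroup G) → x ∈ T) : IsSylowIn p T X := by
  by_contra hns
  obtain ⟨x, hxX, hxN, hxT, hp⟩ := exists_normalizer_gt hTX hT hns
  exact hxT (h x hxX hxN hp)

/-- a maximal `p`-subgroup of `G`, as a `Sylow`, has index prime to `p`. -/
theorem IsSylowIn.not_dvd_index {T : Subgroup G} (h : IsSylowIn p T ⊤) : ¬ p ∣ T.index := by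
  have := h.toSylowTop.not_dvd_index
  rwa [h.coe_toSylowTop] at this

theorem IsSylowIn.ne_bot_of_dvd {T X : Subgroup G} (h : IsSylowIn p T X)
    (hp : p ∣ Nat.card X) : T ≠ ⊥ := by
  intro hT
  obtain ⟨x, hx⟩ := exists_prime_orderOf_dvd_card' (G := X) p hp
  have h1 : IsPGroup p (Subgroup.zpowers (x : G)) := by
    apply IsPGroup.of_card (n := 1)
    rw [Nat.card_zpowers, pow_one, Subgroup.orderOf_coe, hx]
  have h2 : Subgroup.zpowers (x : G) = T :=
    h.eq_of_le (Subgroup.zpowers_le.mpr x.2) h1 (by rw [hT]; exact bot_le)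
  have h3 : (x : G) ∈ T := by rw [← h2]; exact Subgroup.mem_zpowers _
  rw [hT, Subgroup.mem_bot] at h3
  have h4 : x = 1 := Subtype.ext h3
  rw [h4, orderOf_one] at hx
  exact (Fact.out : p.Prime).one_lt.ne hx

end Finite

end Cfsg.Agent.Lib.Helper10.BG
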