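import Mathlib
import Cfsg.Agent.Lib.Helper10.PStableOdd
import Cfsg.Agent.Lib.Helper1.Fitting

set_option autoImplicit false

namespace Cfsg.Agent.Lib.Helper10

open scoped Classical
open scoped commutatorElement

section NormalForm

universe u

variable {p : ℕ} [Fact p.Prime] {G : Type u} [Group G]

/-- In a group of odd order, an element acting quadratically on the normal `p`-subgroup `P`
(`p` odd) maps into `O_p(G/C_G(P))`. -/
theorem quadratic_image_mem_pCore_of_normal [Finite G] (hodd : Odd (Nat.card G)) (hp2 : p ≠ 2)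
    (P : Subgroup G) [P.Normal] (hP : IsPGroup p P) (x : G)
    (hx : ∀ z ∈ P, ⁅⁅z, x⁆, x⁆ = 1) :
    QuotientGroup.mk' (Subgroup.centralizer (P : Set G)) x
      ∈ Cfsg.pCore p (G ⧸ Subgroup.centralizer (P : Set G)) := by
  have hN : ∀ g : G, g ∈ Subgroup.normalizer (P : Set G) := fun g => by
    rw [Subgroup.normalizer_eq_top]
    exact Subgroup.mem_top g
  let K : Set (G ⧸ Subgroup.centralizer (P : Set G)) :=
    {q | ∃ y : G, (∀ z ∈ P, ⁅⁅z, y⁆, y⁆ = 1) ∧
      q = QuotientGroup.mk' (Subgroup.centralizer (P : Set G)) y}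
  refine Cfsg.Agent.Lib.Helper1.baer_suzuki K ?_ ?_ _ ⟨x, hx, rfl⟩
  · rintro g _ ⟨y, hy, rfl⟩
    obtain ⟨n, rfl⟩ := QuotientGroup.mk'_surjective _ g
    exact ⟨n * y * n⁻¹, quadratic_conj P n y (hN n) hy, by simp⟩
  · rintro _ ⟨y1, hy1, rfl⟩ _ ⟨y2, hy2, rfl⟩
    rintro ⟨q, hq⟩
    have hmap : (Subgroup.closure ({y1, y2} : Set G)).map
        (QuotientGroup.mk' (Subgroup.centralizer (P : Set G)))
        = Subgroup.closure {QuotientGroup.mk' (Subgroup.centralizer (P : Set G)) y1,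
            QuotientGroup.mk' (Subgroup.centralizer (P : Set G)) y2} := by
      rw [MonoidHom.map_closure, Set.image_pair]
    rw [← hmap] at hq
    obtain ⟨g, hg, rfl⟩ := hq
    have hodd' : Odd (Nat.card (Subgroup.closure ({y1, y2} : Set G))) :=
      Odd.of_dvd_nat hodd (Subgroup.card_subgroup_dvd_card _)
    obtain ⟨k, hk⟩ := quadratic_pair_subgroup hp2 P hP y1 y2 (hN y1) (hN y2) hodd' hy1 hy2 g hg
    refine ⟨k, ?_⟩
    apply Subtype.ext
    rw [Subgroup.coe_pow, Subgroup.coe_one, ← map_pow, QuotientGroup.mk'_apply,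
      QuotientGroup.eq_one_iff]
    exact hk

/-- An abelian subgroup `B` acts quadratically on every subgroup normalizing it. -/
theorem quadratic_of_abelian_of_le_normalizer (P B : Subgroup G) (hB : IsMulCommutative B)
    (hPB : P ≤ Subgroup.normalizer (B : Set G)) (b : G) (hb : b ∈ B) :
    ∀ z ∈ P, ⁅⁅z, b⁆, b⁆ = 1 := by
  intro z hz
  have h1 : z * b * z⁻¹ ∈ B := (Subgroup.mem_normalizer_iff.mp (hPB hz) b).mp hb
  have h2 : ⁅z, b⁆ ∈ B := by
    rw [commutatorElement_def]
    exact B.mul_mem h1 (B.inv_mem hb)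
  rw [commutatorElement_eq_one_iff_commute]
  exact congrArg Subtype.val (hB.is_comm.comm ⟨⁅z, b⁆, h2⟩ ⟨b, hb⟩)

/-- If `O_{p'}(G) = 1`, `G` is solvable and `C_{O_p(G)}(P) ≤ P` for the normal `p`-subgroup `P`,
then `C_G(P)` is a `p`-group. -/
theorem centralizer_isPGroup_of_pCore_inf_le [Finite G] [Group.IsSolvable G]
    (h : Cfsg.pPrimeCore p G = ⊥) (P : Subgroup G) [P.Normal] (hP : IsPGroup p P)
    (hPC : Cfsg.pCore p G ⊓ Subgroup.centralizer (P : Set G) ≤ P) :
    IsPGroup p (Subgroup.centralizer (P : Set G)) := by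
  have hRn : (Cfsg.pCore p G).Normal := Cfsg.Agent.Lib.Helper1.pCore_normal p
  have hRp : IsPGroup p (Cfsg.pCore p G) := Cfsg.Agent.Lib.Helper1.pCore_isPGroup p
  have hCR := Cfsg.Agent.Lib.Helper1.centralizer_pCore_le (G := G) p h
  obtain ⟨n, hn⟩ := hP.exists_card_eq
  rintro ⟨c, hc⟩
  -- `c ^ (p ^ n)` centralizes `O_p(G)`
  have hcent : c ^ p ^ n ∈ Subgroup.centralizer (Cfsg.pCore p G : Set G) := by
    rw [Subgroup.mem_centralizer_iff]
    intro r hr
    have hz : r⁻¹ * (c * r * c⁻¹) ∈ P := by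
      apply hPC
      refine ⟨?_, ?_⟩
      · exact (Cfsg.pCore p G).mul_mem ((Cfsg.pCore p G).inv_mem hr) (hRn.conj_mem r hr c)
      · have h1 : r⁻¹ * (c * r * c⁻¹) = (r⁻¹ * c * r⁻¹⁻¹) * c⁻¹ := by group
        rw [h1]
        exact (Subgroup.centralizer (P : Set G)).mul_mem
          ((inferInstance : (Subgroup.centralizer (P : Set G)).Normal).conj_mem c hc r⁻¹)
          ((Subgroup.centralizer (P : Set G)).inv_mem hc)
    obtain ⟨z, hzdef⟩ : ∃ z, z = r⁻¹ * (c * r * c⁻¹) := ⟨_, rfl⟩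
    rw [← hzdef] at hz
    have hcz : c * z = z * c := ((Subgroup.mem_centralizer_iff.mp hc) z hz).symm
    have hcr : c * r = r * z * c := by rw [hzdef]; group
    have hpow : ∀ m : ℕ, c ^ m * r = r * z ^ m * c ^ m := by
      intro m
      induction m with
      | zero => simp
      | succ m ih =>
        have hczm : c * z ^ m = z ^ m * c := by
          have : Commute c (z ^ m) := (show Commute c z from hcz).pow_right m
          exact this.eq
        calc c ^ (m + 1) * r = c * (c ^ m * r) := by rw [pow_succ']; group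
          _ = c * (r * z ^ m * c ^ m) := by rw [ih]
          _ = (c * r) * z ^ m * c ^ m := by group
          _ = r * z * (c * z ^ m) * c ^ m := by rw [hcr]; group
          _ = r * z * (z ^ m * c) * c ^ m := by rw [hczm]
          _ = r * z ^ (m + 1) * c ^ (m + 1) := by rw [pow_succ' z m, pow_succ' c m]; group
    have hz1 : z ^ p ^ n = 1 := by
      have := Cfsg.Agent.Lib.Helper10.pow_card_subgroup_eq_one P hz
      rwa [hn] at this
    have := hpow (p ^ n)
    rw [hz1, mul_one] at this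
    exact this.symm
  have hcR : c ^ p ^ n ∈ Cfsg.pCore p G := hCR hcent
  obtain ⟨m, hm⟩ := hRp ⟨c ^ p ^ n, hcR⟩
  refine ⟨n + m, ?_⟩
  apply Subtype.ext
  have h2 := congrArg Subtype.val hm
  simp only [Subgroup.coe_pow, Subgroup.coe_one] at h2 ⊢
  rw [pow_add, pow_mul]
  exact h2

/-- **BG, Theorem B.? / S1465** (general form). -/
theorem abelian_family_le_pCore [Finite G] (hodd : Odd (Nat.card G)) (hp2 : p ≠ 2)
    (P : Subgroup G) [P.Normal] (hP : IsPGroup p P) (S : Set (Subgroup G))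
    (hS : ∀ B ∈ S, IsMulCommutative B ∧ P ≤ Subgroup.normalizer (B : Set G)) :
    (sSup S).map (QuotientGroup.mk' (Subgroup.centralizer (P : Set G)))
      ≤ Cfsg.pCore p (G ⧸ Subgroup.centralizer (P : Set G)) := by
  rw [Subgroup.map_le_iff_le_comap]
  apply sSup_le
  intro B hB b hb
  rw [Subgroup.mem_comap]
  exact quadratic_image_mem_pCore_of_normal hodd hp2 P hP b
    (quadratic_of_abelian_of_le_normalizer P B (hS B hB).1 (hS B hB).2 b hb)

theorem abelian_family_le_pCore' [Finite G] [Group.IsSolvable G] (hodd : Odd (Nat.card G))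
    (hp2 : p ≠ 2)
    (P : Subgroup G) [P.Normal] (hP : IsPGroup p P) (S : Set (Subgroup G))
    (hS : ∀ B ∈ S, IsMulCommutative B ∧ P ≤ Subgroup.normalizer (B : Set G))
    (h : Cfsg.pPrimeCore p G = ⊥)
    (hPC : Cfsg.pCore p G ⊓ Subgroup.centralizer (P : Set G) ≤ P) :
    sSup S ≤ Cfsg.pCore p G := by
  have h1 := abelian_family_le_pCore hodd hp2 P hP S hS
  rw [Subgroup.map_le_iff_le_comap] at h1
  refine h1.trans ?_
  have hCp := centralizer_isPGroup_of_pCore_inf_le h P hP hPC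
  have hQn : (Cfsg.pCore p (G ⧸ Subgroup.centralizer (P : Set G))).Normal :=
    Cfsg.Agent.Lib.Helper1.pCore_normal p
  have hQp : IsPGroup p (Cfsg.pCore p (G ⧸ Subgroup.centralizer (P : Set G))) :=
    Cfsg.Agent.Lib.Helper1.pCore_isPGroup p
  apply Cfsg.Agent.Lib.Helper1.le_pCore
  · exact hQn.comap _
  · rintro ⟨y, hy⟩
    rw [Subgroup.mem_comap] at hy
    obtain ⟨k, hk⟩ := hQp ⟨_, hy⟩
    have hk' := congrArg Subtype.val hk
    simp only [Subgroup.coe_pow, Subgroup.coe_one] at hk'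
    rw [← map_pow, QuotientGroup.mk'_apply, QuotientGroup.eq_one_iff] at hk'
    obtain ⟨m, hm⟩ := hCp ⟨_, hk'⟩
    have hm' := congrArg Subtype.val hm
    simp only [Subgroup.coe_pow, Subgroup.coe_one] at hm'
    refine ⟨k + m, ?_⟩
    apply Subtype.ext
    simp only [Subgroup.coe_pow, Subgroup.coe_one]
    rw [pow_add, pow_mul]
    exact hm'

end NormalForm

end Cfsg.Agent.Lib.Helper10
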