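import Mathlib
import Cfsg.Agent.Lib.Helper10.Puig
import Cfsg.Agent.Lib.Helper10.PStableNormal
import Cfsg.Agent.Lib.Helper10.PComponent
import Cfsg.Agent.Lib.Helper16.SylowInf

/-!
Puig's theorem for groups of odd order (BG, Appendix B): `L_*(S) ≤ L_*(T) ≤ L(T) ≤ L(S)` for
`T = O_p(G)` and `Z(L(S)) ⊴ G` when `O_{p'}(G) = 1`; `G = O_{p'}(G) N_G(Z(L(S)))` in general.
Everything is phrased with the relative Puig series `relPuigSeq`.
-/

set_option autoImplicit false

namespace Cfsg.Agent.Lib.Helper10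

open Cfsg

section PuigOdd

universe u

variable {G : Type u} [Group G]

/-- `N_G(K)` normalizes `Z(K) = K ∩ C_G(K)`. -/
theorem normalizer_le_normalizer_inf_centralizer (K : Subgroup G) :
    Subgroup.normalizer (K : Set G) ≤
      Subgroup.normalizer ((K ⊓ Subgroup.centralizer (K : Set G) : Subgroup G) : Set G) := by
  apply Cfsg.Agent.Lib.Helper1.le_normalizer_of_forall_conj_mem'
  rintro g hg z ⟨hzK, hzC⟩
  refine ⟨(Subgroup.mem_normalizer_iff.mp hg z).mp hzK, ?_⟩
  show g * z * g⁻¹ ∈ Subgroup.centralizer (K : Set G)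
  have hzC : z ∈ Subgroup.centralizer (K : Set G) := hzC
  rw [Subgroup.mem_centralizer_iff]
  intro y hy
  have hy' : g⁻¹ * y * g ∈ K := by
    have := (Subgroup.mem_normalizer_iff.mp (inv_mem hg) y).mp hy
    simpa using this
  have h1 := (Subgroup.mem_centralizer_iff.mp hzC) _ hy'
  calc y * (g * z * g⁻¹) = g * ((g⁻¹ * y * g) * z) * g⁻¹ := by group
    _ = g * (z * (g⁻¹ * y * g)) * g⁻¹ := by rw [h1]
    _ = g * z * g⁻¹ * y := by group

theorem isMulCommutative_inf_centralizer (K : Subgroup G) :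
    IsMulCommutative (K ⊓ Subgroup.centralizer (K : Set G) : Subgroup G) := by
  refine ⟨⟨?_⟩⟩
  rintro ⟨a, haK, haC⟩ ⟨b, hbK, hbC⟩
  apply Subtype.ext
  exact ((Subgroup.mem_centralizer_iff.mp hbC) a haK)

variable [Finite G]

/-- **BG, Theorem B.3** in relative form. -/
theorem relPuigSeq_sylow_pCore [Group.IsSolvable G] (hodd : Odd (Nat.card G)) {p : ℕ}
    [Fact p.Prime] (hp2 : p ≠ 2) (hO : pPrimeCore p G = ⊥) (S : Sylow p G) :
    ∀ n : ℕ, relPuigSeq (S : Subgroup G) (2 * n) ≤ relPuigSeq (pCore p G) (2 * n) ∧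
      relPuigSeq (pCore p G) (2 * n + 1) ≤ relPuigSeq (S : Subgroup G) (2 * n + 1) := by
  apply relPuigSeq_sandwich _ _ (Cfsg.Agent.Lib.Helper1.pCore_le_sylow S)
  intro n A _ hAc _ hN
  have hTn : (pCore p G).Normal := Cfsg.Agent.Lib.Helper1.pCore_normal p
  have hTp : IsPGroup p (pCore p G) := Cfsg.Agent.Lib.Helper1.pCore_isPGroup p
  have hPn : (relPuigSeq (pCore p G) (2 * n + 1)).Normal := relPuigSeq_normal _ _
  have hPp : IsPGroup p (relPuigSeq (pCore p G) (2 * n + 1)) :=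
    hTp.to_le (relPuigSeq_le _ _)
  have hPC := inf_centralizer_relPuigSeq_le (pCore p G) hTp (2 * n + 1) (by omega)
  have key := abelian_family_le_pCore' hodd hp2 (relPuigSeq (pCore p G) (2 * n + 1)) hPp {A}
    (by
      intro B hB
      rw [Set.mem_singleton_iff] at hB
      subst hB
      exact ⟨hAc, hN⟩) hO hPC
  rwa [sSup_singleton] at key

/-- **intermediate subgroups**: if `L(S) ≤ R ≤ S` then `L(R) = L(S)` (at a stable index). -/
theorem relPuigSeq_between (S R : Subgroup G) (hRS : R ≤ S) (k : ℕ)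
    (hstab : relPuigSeq S (2 * k + 2) = relPuigSeq S (2 * k))
    (hYR : relPuigSeq S (2 * k + 1) ≤ R) :
    relPuigSeq R (2 * k + 1) = relPuigSeq S (2 * k + 1) := by
  apply le_antisymm
  · refine (relPuigSeq_sandwich S R hRS ?_ k).2
    intro n A hAS hAc hN _
    refine le_trans ?_ hYR
    refine le_trans ?_ (relPuigSeq_even_le_odd S (n + 1) k)
    have h2 : 2 * (n + 1) = (2 * n + 1) + 1 := by ring
    rw [h2, relPuigSeq_succ]
    exact le_relPuigStep hAS hAc hN
  · have hXY : relPuigSeq S (2 * k) ≤ relPuigSeq S (2 * k + 1) := relPuigSeq_even_le_odd S k k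
    have h1 : relPuigStep R (relPuigSeq S (2 * k)) = relPuigSeq S (2 * k + 1) := by
      apply le_antisymm
      · exact relPuigStep_mono hRS _
      · rw [relPuigSeq_succ]
        apply relPuigStep_le_of
        intro A hAS hAc hN
        refine le_relPuigStep ?_ hAc hN
        refine le_trans ?_ hYR
        rw [relPuigSeq_succ]
        exact le_relPuigStep hAS hAc hN
    have h2 : relPuigStep R (relPuigSeq S (2 * k + 1)) = relPuigSeq S (2 * k) := by
      have h3 : relPuigStep S (relPuigSeq S (2 * k + 1)) = relPuigSeq S (2 * k) := by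
        rw [← hstab]
        rfl
      apply le_antisymm
      · rw [← h3]
        exact relPuigStep_mono hRS _
      · conv_lhs => rw [← h3]
        apply relPuigStep_le_of
        intro A hAS hAc hN
        refine le_relPuigStep ?_ hAc hN
        refine le_trans ?_ (hXY.trans hYR)
        rw [← h3]
        exact le_relPuigStep hAS hAc hN
    exact (relPuigSeq_pair R _ _ h1 h2 k).2

/-- **Puig's theorem**, `O_{p'}(G) = 1`, relative form at a stable index `k ≥ 1`. -/
theorem puig_center_normal [Group.IsSolvable G] (hodd : Odd (Nat.card G)) {p : ℕ}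
    [Fact p.Prime] (hp2 : p ≠ 2) (hO : pPrimeCore p G = ⊥) (S : Sylow p G) (k : ℕ) (hk : 1 ≤ k)
    (hstab : relPuigSeq (S : Subgroup G) (2 * k + 2) = relPuigSeq (S : Subgroup G) (2 * k)) :
    (relPuigSeq (S : Subgroup G) (2 * k + 1) ⊓
      Subgroup.centralizer (relPuigSeq (S : Subgroup G) (2 * k + 1) : Set G)).Normal := by
  have hTn : (pCore p G).Normal := Cfsg.Agent.Lib.Helper1.pCore_normal p
  have hTp : IsPGroup p (pCore p G) := Cfsg.Agent.Lib.Helper1.pCore_isPGroup p
  have hTS : pCore p G ≤ (S : Subgroup G) := Cfsg.Agent.Lib.Helper1.pCore_le_sylow S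
  obtain ⟨hB3a, hB3b⟩ := relPuigSeq_sylow_pCore hodd hp2 hO S k
  obtain ⟨LS, hLS⟩ : ∃ LS : Subgroup G, LS = relPuigSeq (S : Subgroup G) (2 * k + 1) := ⟨_, rfl⟩
  obtain ⟨LsS, hLsS⟩ : ∃ LsS : Subgroup G, LsS = relPuigSeq (S : Subgroup G) (2 * k) := ⟨_, rfl⟩
  obtain ⟨LT, hLT⟩ : ∃ LT : Subgroup G, LT = relPuigSeq (pCore p G) (2 * k + 1) := ⟨_, rfl⟩
  rw [← hLS]
  rw [← hLsS] at hB3a hstab
  rw [← hLT, ← hLS] at hB3b
  have hLSS : LS ≤ (S : Subgroup G) := by rw [hLS]; exact relPuigSeq_le _ _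
  have hLsLS : LsS ≤ LS := by rw [hLS, hLsS]; exact relPuigSeq_even_le_odd _ k k
  have hLTn : LT.Normal := by rw [hLT]; exact relPuigSeq_normal _ _
  have hLTT : LT ≤ pCore p G := by rw [hLT]; exact relPuigSeq_le _ _
  have hLsLT : LsS ≤ LT := by
    refine hB3a.trans ?_
    rw [hLT]
    exact relPuigSeq_even_le_odd _ k k
  -- the normal abelian subgroup `Y = Z(L(T))`
  obtain ⟨Y, hY⟩ : ∃ Y : Subgroup G, Y = LT ⊓ Subgroup.centralizer (LT : Set G) := ⟨_, rfl⟩
  have hYn : Y.Normal := by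
    rw [hY]
    infer_instance
  have hYc : IsMulCommutative Y := by
    rw [hY]
    exact isMulCommutative_inf_centralizer LT
  have hYT : Y ≤ pCore p G := by
    rw [hY]
    exact inf_le_left.trans hLTT
  have hYp : IsPGroup p Y := hTp.to_le hYT
  -- `Z ≤ Y`
  have hZY : LS ⊓ Subgroup.centralizer (LS : Set G) ≤ Y := by
    rintro z ⟨hzL, hzC⟩
    have h1 : z ∈ LsS := by
      have := inf_centralizer_relPuigSeq_le (S : Subgroup G) S.2 (2 * k) (by omega)
      rw [← hLsS] at this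
      exact this ⟨hLSS hzL, Subgroup.centralizer_le hLsLS hzC⟩
    rw [hY]
    exact ⟨hLsLT h1, Subgroup.centralizer_le hB3b hzC⟩
  -- `Y ≤ L_*(S)`
  have hYLs : Y ≤ LsS := by
    rw [← hstab]
    have h2 : 2 * k + 2 = (2 * k + 1) + 1 := rfl
    rw [h2, relPuigSeq_succ]
    apply le_relPuigStep (hYT.trans hTS) hYc
    rw [Subgroup.normalizer_eq_top]
    exact le_top
  -- `L(S)` acts as a `p`-group on `Y`
  have hLSM : LS ≤ (pCore p (G ⧸ Subgroup.centralizer (Y : Set G))).comap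
      (QuotientGroup.mk' (Subgroup.centralizer (Y : Set G))) := by
    rw [← Subgroup.map_le_iff_le_comap]
    have h1 : LS = sSup {A : Subgroup G | A ≤ (S : Subgroup G) ∧ IsMulCommutative A ∧
        LsS ≤ Subgroup.normalizer (A : Set G)} := by
      rw [hLS, hLsS]
      rfl
    rw [h1]
    exact abelian_family_le_pCore hodd hp2 Y hYp _ (fun A hA => ⟨hA.2.1, hYLs.trans hA.2.2⟩)
  obtain ⟨M, hM⟩ : ∃ M : Subgroup G, M = (pCore p (G ⧸ Subgroup.centralizer (Y : Set G))).comap
      (QuotientGroup.mk' (Subgroup.centralizer (Y : Set G))) := ⟨_, rfl⟩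
  rw [← hM] at hLSM
  have hMn : M.Normal := by
    rw [hM]
    exact (Cfsg.Agent.Lib.Helper1.pCore_normal p).comap _
  -- `L(S ∩ M) = L(S)`
  have hbetween : relPuigSeq ((S : Subgroup G) ⊓ M) (2 * k + 1) = LS := by
    rw [hLS]
    apply relPuigSeq_between (S : Subgroup G) _ inf_le_left k
    · rw [← hLsS]; exact hstab
    · rw [← hLS]; exact le_inf hLSS hLSM
  -- normalizers
  have hNLS : Subgroup.normalizer (LS : Set G) ≤
      Subgroup.normalizer ((LS ⊓ Subgroup.centralizer (LS : Set G) : Subgroup G) : Set G) :=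
    normalizer_le_normalizer_inf_centralizer LS
  have hN1 : Subgroup.normalizer (((S : Subgroup G) ⊓ M : Subgroup G) : Set G) ≤
      Subgroup.normalizer ((LS ⊓ Subgroup.centralizer (LS : Set G) : Subgroup G) : Set G) := by
    refine le_trans ?_ hNLS
    rw [← hbetween]
    exact normalizer_le_normalizer_relPuigSeq _ _
  have hN2 : (S : Subgroup G) ≤
      Subgroup.normalizer ((LS ⊓ Subgroup.centralizer (LS : Set G) : Subgroup G) : Set G) := by
    refine le_trans ?_ hNLS
    rw [hLS]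
    exact Subgroup.le_normalizer.trans (normalizer_le_normalizer_relPuigSeq _ _)
  have hN3 : Subgroup.centralizer (Y : Set G) ≤
      Subgroup.normalizer ((LS ⊓ Subgroup.centralizer (LS : Set G) : Subgroup G) : Set G) :=
    (Subgroup.centralizer_le hZY).trans (Subgroup.centralizer_le_normalizer _)
  have hN4 : M ≤
      Subgroup.normalizer ((LS ⊓ Subgroup.centralizer (LS : Set G) : Subgroup G) : Set G) := by
    intro m hm
    have hπs : Function.Surjective (QuotientGroup.mk' (Subgroup.centralizer (Y : Set G))) :=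
      QuotientGroup.mk'_surjective _
    have h1 : QuotientGroup.mk' (Subgroup.centralizer (Y : Set G)) m ∈
        pCore p (G ⧸ Subgroup.centralizer (Y : Set G)) := by
      rw [hM] at hm
      exact hm
    have h2 := Cfsg.Agent.Lib.Helper1.pCore_le_sylow (S.mapSurjective hπs) h1
    rw [Sylow.coe_mapSurjective] at h2
    obtain ⟨s, hsS, hsm⟩ := h2
    have h3 : s⁻¹ * m ∈ Subgroup.centralizer (Y : Set G) := by
      have := QuotientGroup.eq.mp hsm
      exact this
    have h4 : m = s * (s⁻¹ * m) := by group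
    rw [h4]
    exact Subgroup.mul_mem _ (hN2 hsS) (hN3 h3)
  -- Frattini
  rw [← Subgroup.normalizer_eq_top_iff, eq_top_iff]
  intro g _
  obtain ⟨a, ha, c, hc, rfl⟩ := Cfsg.Agent.Lib.Helper16.frattini_inf_normal S M g
  exact Subgroup.mul_mem _ (hN1 ha) (hN4 hc)

omit [Finite G] in
/-- centre of a subgroup of a subgroup, viewed in `G`. -/
theorem map_map_center_eq (S : Subgroup G) (K : Subgroup S) :
    ((Subgroup.center ↥K).map K.subtype).map S.subtype =
      K.map S.subtype ⊓ Subgroup.centralizer ((K.map S.subtype : Subgroup G) : Set G) := by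
  ext x
  rw [Subgroup.mem_inf]
  constructor
  · rintro ⟨_, ⟨z, hz, rfl⟩, rfl⟩
    have hz' : z ∈ Subgroup.center ↥K := hz
    refine ⟨⟨(z : ↥S), z.2, rfl⟩, ?_⟩
    rw [Subgroup.mem_centralizer_iff]
    rintro _ ⟨y, hy, rfl⟩
    have h1 := (Subgroup.mem_center_iff.mp hz') ⟨y, hy⟩
    have h2 := congrArg (fun t : ↥K => ((t : ↥S) : G)) h1
    exact h2
  · rintro ⟨⟨s, hsK, rfl⟩, hC⟩
    have hcen : (⟨s, hsK⟩ : ↥K) ∈ Subgroup.center ↥K := by
      rw [Subgroup.mem_center_iff]
      intro g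
      apply Subtype.ext
      apply Subtype.ext
      exact (Subgroup.mem_centralizer_iff.mp hC) _ ⟨(g : ↥S), g.2, rfl⟩
    exact ⟨s, ⟨⟨s, hsK⟩, hcen, rfl⟩, rfl⟩

/-- **Puig's theorem**, general form: `G = O_{p'}(G) N_G(Z(L(S)))`. -/
theorem puig_frattini [Group.IsSolvable G] (hodd : Odd (Nat.card G)) {p : ℕ}
    [Fact p.Prime] (hp2 : p ≠ 2) (S : Sylow p G) (k : ℕ) (hk : 1 ≤ k)
    (hstab : relPuigSeq (S : Subgroup G) (2 * k + 2) = relPuigSeq (S : Subgroup G) (2 * k)) :
    pPrimeCore p G ⊔ Subgroup.normalizer ((relPuigSeq (S : Subgroup G) (2 * k + 1) ⊓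
      Subgroup.centralizer (relPuigSeq (S : Subgroup G) (2 * k + 1) : Set G) : Subgroup G) : Set G)
      = ⊤ := by
  have hOn : (pPrimeCore p G).Normal := Cfsg.Agent.Lib.Helper1.pPrimeCore_normal p
  have hπs : Function.Surjective (QuotientGroup.mk' (pPrimeCore p G)) :=
    QuotientGroup.mk'_surjective _
  have hOcop : (Nat.card (pPrimeCore p G)).Coprime p :=
    Cfsg.Agent.Lib.Helper1.pPrimeCore_coprime p
  have hdisj : (S : Subgroup G) ⊓ pPrimeCore p G = ⊥ := by
    apply disjoint_iff.mp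
    apply Subgroup.disjoint_of_coprime_natCard
    obtain ⟨n, hn⟩ := S.2.exists_card_eq
    rw [hn]
    exact Nat.Coprime.pow_left n hOcop.symm
  have hinj : ∀ x ∈ (S : Subgroup G), QuotientGroup.mk' (pPrimeCore p G) x = 1 → x = 1 := by
    intro x hx h1
    have h2 : x ∈ pPrimeCore p G := (QuotientGroup.eq_one_iff x).mp h1
    have h3 : x ∈ (S : Subgroup G) ⊓ pPrimeCore p G := ⟨hx, h2⟩
    rw [hdisj] at h3
    exact h3
  have hinj2 : ∀ x ∈ (S : Subgroup G), ∀ y ∈ (S : Subgroup G),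
      QuotientGroup.mk' (pPrimeCore p G) x = QuotientGroup.mk' (pPrimeCore p G) y → x = y := by
    intro x hx y hy hxy
    have : x * y⁻¹ = 1 := hinj _ (Subgroup.mul_mem _ hx (Subgroup.inv_mem _ hy))
      (by rw [map_mul, map_inv, hxy, mul_inv_cancel])
    exact mul_inv_eq_one.mp this
  have hseq : ∀ n : ℕ, relPuigSeq ((S.mapSurjective hπs : Sylow p (G ⧸ pPrimeCore p G)) :
      Subgroup (G ⧸ pPrimeCore p G)) n =
      (relPuigSeq (S : Subgroup G) n).map (QuotientGroup.mk' (pPrimeCore p G)) := by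
    intro n
    rw [Sylow.coe_mapSurjective]
    exact (map_relPuigSeq_of_injOn _ (S : Subgroup G) hinj n).symm
  have hodd' : Odd (Nat.card (G ⧸ pPrimeCore p G)) :=
    Odd.of_dvd_nat hodd (Subgroup.card_quotient_dvd_card _)
  have hbot := pPrimeCore_quotient_eq_bot (G := G) p
  have hstab' : relPuigSeq ((S.mapSurjective hπs : Sylow p (G ⧸ pPrimeCore p G)) :
      Subgroup (G ⧸ pPrimeCore p G)) (2 * k + 2) =
      relPuigSeq ((S.mapSurjective hπs : Sylow p (G ⧸ pPrimeCore p G)) :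
      Subgroup (G ⧸ pPrimeCore p G)) (2 * k) := by
    rw [hseq, hseq, hstab]
  have key := puig_center_normal hodd' hp2 hbot (S.mapSurjective hπs) k hk hstab'
  rw [hseq] at key
  obtain ⟨LS, hLS⟩ : ∃ LS : Subgroup G, LS = relPuigSeq (S : Subgroup G) (2 * k + 1) := ⟨_, rfl⟩
  rw [← hLS] at key ⊢
  have hLSS : LS ≤ (S : Subgroup G) := by rw [hLS]; exact relPuigSeq_le _ _
  have hZmap : (LS ⊓ Subgroup.centralizer (LS : Set G)).map
      (QuotientGroup.mk' (pPrimeCore p G)) =
      LS.map (QuotientGroup.mk' (pPrimeCore p G)) ⊓ Subgroup.centralizer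
        ((LS.map (QuotientGroup.mk' (pPrimeCore p G)) : Subgroup (G ⧸ pPrimeCore p G)) :
          Set (G ⧸ pPrimeCore p G)) := by
    ext x
    rw [Subgroup.mem_inf]
    constructor
    · rintro ⟨z, hz, rfl⟩
      obtain ⟨hzL, hzC⟩ := Subgroup.mem_inf.mp (SetLike.mem_coe.mp hz)
      refine ⟨⟨z, hzL, rfl⟩, ?_⟩
      rw [Subgroup.mem_centralizer_iff]
      rintro _ ⟨l, hl, rfl⟩
      rw [← map_mul, ← map_mul, (Subgroup.mem_centralizer_iff.mp hzC) l hl]
    · rintro ⟨⟨z, hzL, rfl⟩, hC⟩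
      refine ⟨z, Subgroup.mem_inf.mpr ⟨hzL, ?_⟩, rfl⟩
      rw [Subgroup.mem_centralizer_iff]
      intro l hl
      have h1 := (Subgroup.mem_centralizer_iff.mp hC) _ ⟨l, hl, rfl⟩
      rw [← map_mul, ← map_mul] at h1
      exact hinj2 _ (Subgroup.mul_mem _ (hLSS hl) (hLSS hzL)) _
        (Subgroup.mul_mem _ (hLSS hzL) (hLSS hl)) h1
  rw [← hZmap] at key
  obtain ⟨Z, hZ⟩ : ∃ Z : Subgroup G, Z = LS ⊓ Subgroup.centralizer (LS : Set G) := ⟨_, rfl⟩
  rw [← hZ] at key ⊢
  have hZS : Z ≤ (S : Subgroup G) := by rw [hZ]; exact inf_le_left.trans hLSS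
  have hZp : IsPGroup p Z := S.2.to_le hZS
  have hNn : (Z ⊔ pPrimeCore p G).Normal := by
    have := key.comap (QuotientGroup.mk' (pPrimeCore p G))
    rwa [Subgroup.comap_map_eq, QuotientGroup.ker_mk'] at this
  -- a Sylow subgroup of `Z O_{p'}(G)`
  have hindex : ¬ p ∣ (Z.subgroupOf (Z ⊔ pPrimeCore p G)).index := by
    intro hdvd
    have h1 : Z.relIndex (Z ⊔ pPrimeCore p G) * Nat.card Z
        = Nat.card (Z ⊔ pPrimeCore p G : Subgroup G) :=
      Cfsg.Agent.Lib.Helper16.relIndex_mul_card_of_le le_sup_left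
    have h2 : Nat.card (Z ⊔ pPrimeCore p G : Subgroup G) ∣ Nat.card Z * Nat.card (pPrimeCore p G) :=
      Cfsg.Agent.Lib.Helper1.card_sup_dvd_of_normal Z (pPrimeCore p G)
    rw [← h1, mul_comm] at h2
    have h3 : Z.relIndex (Z ⊔ pPrimeCore p G) ∣ Nat.card (pPrimeCore p G) :=
      Nat.dvd_of_mul_dvd_mul_left Nat.card_pos h2
    have h4 : p ∣ Nat.card (pPrimeCore p G) := dvd_trans hdvd h3
    have hp : p.Prime := Fact.out
    exact (Nat.Prime.coprime_iff_not_dvd hp).mp hOcop.symm h4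
  have hfr := Sylow.normalizer_sup_eq_top
    ((hZp.comap_subtype (K := Z ⊔ pPrimeCore p G)).toSylow hindex)
  have hmap : (((hZp.comap_subtype (K := Z ⊔ pPrimeCore p G)).toSylow hindex :
      Sylow p ↥(Z ⊔ pPrimeCore p G)) : Subgroup ↥(Z ⊔ pPrimeCore p G)).map
      (Z ⊔ pPrimeCore p G).subtype = Z := by
    show (Z.subgroupOf (Z ⊔ pPrimeCore p G)).map (Z ⊔ pPrimeCore p G).subtype = Z
    rw [Subgroup.subgroupOf_map_subtype, inf_of_le_left le_sup_left]
  rw [hmap] at hfr
  rw [eq_top_iff, ← hfr]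
  apply sup_le le_sup_right
  apply sup_le
  · exact Subgroup.le_normalizer.trans le_sup_right
  · exact le_sup_left

end PuigOdd

end Cfsg.Agent.Lib.Helper10
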