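import Mathlib
import Cfsg.Prelude
import Cfsg.Agent.Lib.Helper10.BGBase
import Cfsg.Agent.Lib.Helper10.BGSylow
import Cfsg.Agent.Lib.Helper10.PuigOdd
import Cfsg.Agent.Lib.Helper10.PStableNormal
import Cfsg.Agent.Lib.Helper9.Balance
import Cfsg.Agent.Lib.Helper1.ThompsonPQ
import Cfsg.Agent.Lib.Helper1.CoprimeSylow

/-!
# Solvable subgroups of odd order: balance, `p`-stability and Puig's theorem at subgroup level

All statements are about subgroups `X` of an ambient group `G`, with `O_p(X)`, `O_{p'}(X)` etc.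
regarded as subgroups of `G`.
-/

set_option autoImplicit false
open Cfsg
open scoped commutatorElement

namespace Cfsg.Agent.Lib.Helper10.BG

section Lifting

/-- lifting elements centralizing a `p`-subgroup modulo a normal `p'`-subgroup. -/
theorem exists_lift_centralizer {X : Type*} [Group X] [Finite X] (p : ℕ) [Fact p.Prime]
    (N : Subgroup X) [hNn : N.Normal] (hN : (Nat.card N).Coprime p) (T : Subgroup X)
    (hT : IsPGroup p T) (ybar : X ⧸ N)
    (hy : ybar ∈ Subgroup.centralizer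
      ((T.map (QuotientGroup.mk' N) : Subgroup (X ⧸ N)) : Set (X ⧸ N))) :
    ∃ y : X, QuotientGroup.mk' N y = ybar ∧ y ∈ Subgroup.centralizer (T : Set X) := by
  obtain ⟨x, rfl⟩ := QuotientGroup.mk'_surjective N ybar
  have hTsolv : Group.IsSolvable T := by
    have := hT.isNilpotent
    infer_instance
  have hact : Cfsg.Agent.Lib.Helper1.CoprimeAct T N :=
    { norm := by rw [Subgroup.normalizer_eq_top_iff.mpr hNn]; exact le_top
      cop := by
        obtain ⟨k, hk⟩ := hT.exists_card_eq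
        rw [hk]
        exact Nat.Coprime.pow_left k hN.symm
      solv := Or.inl hTsolv }
  have hcomm : ∀ c ∈ T, QuotientGroup.mk' N c * QuotientGroup.mk' N x =
      QuotientGroup.mk' N x * QuotientGroup.mk' N c := by
    intro c hc
    exact Subgroup.mem_centralizer_iff.mp hy _ ⟨c, hc, rfl⟩
  have hfix : ∀ c ∈ T, x⁻¹ * (c * x * c⁻¹) ∈ N := by
    intro c hc
    rw [← QuotientGroup.eq_one_iff]
    have e : ((x⁻¹ * (c * x * c⁻¹) : X) : X ⧸ N) =
        (QuotientGroup.mk' N x)⁻¹ * ((QuotientGroup.mk' N c) * (QuotientGroup.mk' N x) *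
          (QuotientGroup.mk' N c)⁻¹) := by
      simp
    rw [e, hcomm c hc]
    group
  obtain ⟨u, hu, hxu⟩ := hact.exists_mul_mem_normalizer x hfix
  have hxu' : QuotientGroup.mk' N (x * u) = QuotientGroup.mk' N x := by
    rw [map_mul]
    have : QuotientGroup.mk' N u = 1 := (QuotientGroup.eq_one_iff u).mpr hu
    rw [this, mul_one]
  refine ⟨x * u, hxu', ?_⟩
  rw [Subgroup.mem_centralizer_iff]
  intro t ht
  set y := x * u with hy'
  have h1 : y * t * y⁻¹ ∈ T := (Subgroup.mem_normalizer_iff.mp hxu t).mp ht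
  have h2 : y * t * y⁻¹ * t⁻¹ ∈ T := T.mul_mem h1 (T.inv_mem ht)
  have h3 : y * t * y⁻¹ * t⁻¹ ∈ N := by
    rw [← QuotientGroup.eq_one_iff]
    have e : ((y * t * y⁻¹ * t⁻¹ : X) : X ⧸ N) = (QuotientGroup.mk' N y) *
        (QuotientGroup.mk' N t) * (QuotientGroup.mk' N y)⁻¹ * (QuotientGroup.mk' N t)⁻¹ := by
      simp
    rw [e, hxu', ← hcomm t ht]
    group
  have h4 : y * t * y⁻¹ * t⁻¹ ∈ N ⊓ T := Subgroup.mem_inf.mpr ⟨h3, h2⟩
  rw [hact.inf_eq_bot, Subgroup.mem_bot] at h4
  have : y * t = (y * t * y⁻¹ * t⁻¹) * (t * y) := by group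
  rw [this, h4, one_mul]

/-- **Balance** in a solvable group, for a `p`-subgroup `T`: a `p'`-subgroup of `C(T)` normalized
by `C(T)` lies in `O_{p'}`. -/
theorem le_pPrimeCore_of_balance_subgroup {X : Type*} [Group X] [Finite X] [Group.IsSolvable X]
    (p : ℕ) [Fact p.Prime] (T D : Subgroup X) (hT : IsPGroup p T)
    (hD : (Nat.card D).Coprime p) (hTD : T ≤ Subgroup.centralizer (D : Set X))
    (hDn : Subgroup.centralizer (T : Set X) ≤ Subgroup.normalizer (D : Set X)) :
    D ≤ pPrimeCore p X := by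
  have hNn : (pPrimeCore p X).Normal := Cfsg.Agent.Lib.Helper1.pPrimeCore_normal p
  have hbot : pPrimeCore p (X ⧸ pPrimeCore p X) = ⊥ :=
    Cfsg.Agent.Lib.Helper10.pPrimeCore_quotient_eq_bot p
  have key : D.map (QuotientGroup.mk' (pPrimeCore p X)) = ⊥ := by
    apply Cfsg.Agent.Lib.Helper9.Balance.eq_bot_of_balance p hbot
      (T.map (QuotientGroup.mk' (pPrimeCore p X))) (D.map (QuotientGroup.mk' (pPrimeCore p X)))
    · exact hT.map _
    · exact Nat.Coprime.coprime_dvd_left (Subgroup.card_map_dvd D _) hD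
    · rintro _ ⟨t, ht, rfl⟩
      rw [Subgroup.mem_centralizer_iff]
      rintro _ ⟨d, hd, rfl⟩
      have := Subgroup.mem_centralizer_iff.mp (hTD ht) d hd
      rw [← map_mul, ← map_mul, this]
    · intro ybar _ hyT
      obtain ⟨y, rfl, hyC⟩ := exists_lift_centralizer p (pPrimeCore p X)
        (Cfsg.Agent.Lib.Helper1.pPrimeCore_coprime p) T hT ybar hyT
      rintro _ ⟨d, hd, rfl⟩
      refine ⟨y * d * y⁻¹, conj_mem_of_mem_normalizer (hDn hyC) hd, ?_⟩
      rw [map_mul, map_mul, map_inv]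
  intro d hd
  have h1 : QuotientGroup.mk' (pPrimeCore p X) d ∈ D.map (QuotientGroup.mk' (pPrimeCore p X)) :=
    ⟨d, hd, rfl⟩
  rw [key, Subgroup.mem_bot] at h1
  exact (QuotientGroup.eq_one_iff d).mp h1

end Lifting

variable {G : Type*} [Group G]

section Transport

theorem card_subgroupOf_of_le {W X : Subgroup G} (h : W ≤ X) :
    Nat.card (W.subgroupOf X) = Nat.card W :=
  Nat.card_congr (Subgroup.subgroupOfEquivOfLe h).toEquiv

theorem mem_normalizer_subgroupOf {W X : Subgroup G} {y : X}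
    (h : (y : G) ∈ Subgroup.normalizer (W : Set G)) :
    y ∈ Subgroup.normalizer ((W.subgroupOf X : Subgroup X) : Set X) := by
  rw [Subgroup.mem_normalizer_iff]
  intro d
  rw [Subgroup.mem_subgroupOf, Subgroup.mem_subgroupOf]
  exact Subgroup.mem_normalizer_iff.mp h (d : G)

theorem coe_mem_centralizer_of_mem_centralizer_subgroupOf {Q X : Subgroup G} (hQX : Q ≤ X) {y : X}
    (h : y ∈ Subgroup.centralizer ((Q.subgroupOf X : Subgroup X) : Set X)) :
    (y : G) ∈ Subgroup.centralizer (Q : Set G) := by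
  rw [Subgroup.mem_centralizer_iff]
  intro q hq
  have h1 := Subgroup.mem_centralizer_iff.mp h ⟨q, hQX hq⟩
    (by rw [SetLike.mem_coe, Subgroup.mem_subgroupOf]; exact hq)
  exact congrArg Subtype.val h1

theorem ppCoreOf_eq_bot_iff {p : ℕ} {X : Subgroup G} : ppCoreOf p X = ⊥ ↔ pPrimeCore p X = ⊥ := by
  unfold ppCoreOf
  exact Subgroup.map_eq_bot_iff_of_injective _ X.subtype_injective

theorem mem_pCoreOf_iff {p : ℕ} {X : Subgroup G} {x : G} :
    x ∈ pCoreOf p X ↔ ∃ h : x ∈ X, (⟨x, h⟩ : X) ∈ pCore p X := by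
  unfold pCoreOf
  constructor
  · rintro ⟨y, hy, rfl⟩
    exact ⟨y.2, hy⟩
  · rintro ⟨h, hx⟩
    exact ⟨⟨x, h⟩, hx, rfl⟩

theorem mem_ppCoreOf_iff {p : ℕ} {X : Subgroup G} {x : G} :
    x ∈ ppCoreOf p X ↔ ∃ h : x ∈ X, (⟨x, h⟩ : X) ∈ pPrimeCore p X := by
  unfold ppCoreOf
  constructor
  · rintro ⟨y, hy, rfl⟩
    exact ⟨y.2, hy⟩
  · rintro ⟨h, hx⟩
    exact ⟨⟨x, h⟩, hx, rfl⟩

end Transport

section Balance

variable [Finite G]

/-- **Balance**, subgroup form: for a solvable subgroup `X`, a `p`-subgroup `Q ≤ X` and a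
`p'`-subgroup `W ≤ C_X(Q)` normalized by `C_X(Q)`, we have `W ≤ O_{p'}(X)`. -/
theorem le_ppCoreOf_of_balance {p : ℕ} [Fact p.Prime] {X Q W : Subgroup G}
    (hX : Group.IsSolvable X) (hQX : Q ≤ X) (hQ : IsPGroup p Q) (hWX : W ≤ X)
    (hWQ : W ≤ Subgroup.centralizer (Q : Set G)) (hW : (Nat.card W).Coprime p)
    (hn : X ⊓ Subgroup.centralizer (Q : Set G) ≤ Subgroup.normalizer (W : Set G)) :
    W ≤ ppCoreOf p X := by
  haveI := hX
  have h1 : W.subgroupOf X ≤ pPrimeCore p X := by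
    apply le_pPrimeCore_of_balance_subgroup p (Q.subgroupOf X) (W.subgroupOf X) hQ.comap_subtype
    · rw [card_subgroupOf_of_le hWX]; exact hW
    · intro t ht
      rw [Subgroup.mem_centralizer_iff]
      intro d hd
      apply Subtype.ext
      have hd' : (d : G) ∈ W := hd
      have ht' : (t : G) ∈ Q := ht
      exact (Subgroup.mem_centralizer_iff.mp (hWQ hd') (t : G) ht').symm
    · intro y hy
      apply mem_normalizer_subgroupOf
      exact hn ⟨y.2, coe_mem_centralizer_of_mem_centralizer_subgroupOf hQX hy⟩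
  intro w hw
  exact mem_ppCoreOf_iff.mpr ⟨hWX hw, h1 (by rw [Subgroup.mem_subgroupOf]; exact hw)⟩

end Balance

section Stability

/-- `p`-stability, `O_{p'} = 1`: an abelian subgroup normalized by `O_p` lies in `O_p`. -/
theorem le_pCore_of_abelian {X : Type*} [Group X] [Finite X] [Group.IsSolvable X]
    (hodd : Odd (Nat.card X)) {p : ℕ} [Fact p.Prime] (hp2 : p ≠ 2) (h : pPrimeCore p X = ⊥)
    (B : Subgroup X) (hB : IsMulCommutative B)
    (hn : pCore p X ≤ Subgroup.normalizer (B : Set X)) : B ≤ pCore p X := by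
  haveI : (pCore p X).Normal := Cfsg.Agent.Lib.Helper1.pCore_normal p
  have h1 := Cfsg.Agent.Lib.Helper10.abelian_family_le_pCore' hodd hp2 (pCore p X)
    (Cfsg.Agent.Lib.Helper1.pCore_isPGroup p) {B}
    (by
      intro B' hB'
      rw [Set.mem_singleton_iff] at hB'
      subst hB'
      exact ⟨hB, hn⟩) h inf_le_left
  rwa [sSup_singleton] at h1

variable [Finite G]

/-- `p`-stability, subgroup form: if `O_{p'}(X) = 1`, an abelian subgroup of `X` normalized by
`O_p(X)` lies in `O_p(X)`. -/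
theorem le_pCoreOf_of_abelian {p : ℕ} [Fact p.Prime] (hp2 : p ≠ 2) {X B : Subgroup G}
    (hX : Group.IsSolvable X) (hodd : Odd (Nat.card X)) (hpp : ppCoreOf p X = ⊥) (hBX : B ≤ X)
    (hB : ∀ a ∈ B, ∀ b ∈ B, a * b = b * a)
    (hn : pCoreOf p X ≤ Subgroup.normalizer (B : Set G)) : B ≤ pCoreOf p X := by
  haveI := hX
  have h1 : B.subgroupOf X ≤ pCore p X := by
    apply le_pCore_of_abelian hodd hp2 (ppCoreOf_eq_bot_iff.mp hpp)
    · refine ⟨⟨?_⟩⟩
      rintro ⟨a, ha⟩ ⟨b, hb⟩
      apply Subtype.ext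
      apply Subtype.ext
      exact hB _ ha _ hb
    · intro y hy
      apply mem_normalizer_subgroupOf
      exact hn (mem_pCoreOf_iff.mpr ⟨y.2, hy⟩)
  intro b hb
  exact mem_pCoreOf_iff.mpr ⟨hBX hb, h1 (by rw [Subgroup.mem_subgroupOf]; exact hb)⟩

end Stability

section SylowInvariant

/-- a `p'`-subgroup normalized by a Sylow `p`-subgroup lies in `O_{p'}` (solvable groups). -/
theorem le_pPrimeCore_of_sylow_invariant {X : Type*} [Group X] [Finite X] [Group.IsSolvable X]
    {p : ℕ} [Fact p.Prime] (S : Sylow p X) (Y : Subgroup X) (hY : (Nat.card Y).Coprime p)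
    (hSY : (S : Subgroup X) ≤ Subgroup.normalizer (Y : Set X)) : Y ≤ pPrimeCore p X := by
  have hNn : (pPrimeCore p X).Normal := Cfsg.Agent.Lib.Helper1.pPrimeCore_normal p
  have hbot : pPrimeCore p (X ⧸ pPrimeCore p X) = ⊥ :=
    Cfsg.Agent.Lib.Helper10.pPrimeCore_quotient_eq_bot p
  have hsurj : Function.Surjective (QuotientGroup.mk' (pPrimeCore p X)) :=
    QuotientGroup.mk'_surjective _
  have hRn : (pCore p (X ⧸ pPrimeCore p X)).Normal := Cfsg.Agent.Lib.Helper1.pCore_normal p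
  have hRS : pCore p (X ⧸ pPrimeCore p X) ≤
      (S : Subgroup X).map (QuotientGroup.mk' (pPrimeCore p X)) := by
    have := Cfsg.Agent.Lib.Helper1.pCore_le_sylow (S.mapSurjective hsurj)
    rwa [Sylow.coe_mapSurjective] at this
  have hYn : (S : Subgroup X).map (QuotientGroup.mk' (pPrimeCore p X)) ≤
      Subgroup.normalizer ((Y.map (QuotientGroup.mk' (pPrimeCore p X)) :
        Subgroup (X ⧸ pPrimeCore p X)) : Set (X ⧸ pPrimeCore p X)) := by
    apply le_normalizer_of_conj_mem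
    rintro _ ⟨s, hs, rfl⟩ _ ⟨y, hy, rfl⟩
    refine ⟨s * y * s⁻¹, conj_mem_of_mem_normalizer (hSY hs) hy, ?_⟩
    rw [map_mul, map_mul, map_inv]
  have hcop : (Nat.card (Y.map (QuotientGroup.mk' (pPrimeCore p X)))).Coprime
      (Nat.card (pCore p (X ⧸ pPrimeCore p X))) := by
    obtain ⟨k, hk⟩ := (Cfsg.Agent.Lib.Helper1.pCore_isPGroup (G := X ⧸ pPrimeCore p X) p).exists_card_eq
    rw [hk]
    exact Nat.Coprime.pow_right k
      (Nat.Coprime.coprime_dvd_left (Subgroup.card_map_dvd Y _) hY)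
  have hinf : Y.map (QuotientGroup.mk' (pPrimeCore p X)) ⊓ pCore p (X ⧸ pPrimeCore p X) = ⊥ :=
    inf_eq_bot_of_coprime hcop
  have hcent : Y.map (QuotientGroup.mk' (pPrimeCore p X)) ≤
      Subgroup.centralizer ((pCore p (X ⧸ pPrimeCore p X) : Subgroup (X ⧸ pPrimeCore p X)) :
        Set (X ⧸ pPrimeCore p X)) := by
    apply le_centralizer_of_commute
    intro a ha b hb
    apply commute_of_normalize_of_inf_eq_bot _ (hRS.trans hYn) hinf ha hb
    rw [Subgroup.normalizer_eq_top_iff.mpr hRn]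
    exact le_top
  have h2 : Y.map (QuotientGroup.mk' (pPrimeCore p X)) ≤ pCore p (X ⧸ pPrimeCore p X) :=
    hcent.trans (Cfsg.Agent.Lib.Helper1.centralizer_pCore_le p hbot)
  have h3 : Y.map (QuotientGroup.mk' (pPrimeCore p X)) = ⊥ := by
    rw [eq_bot_iff, ← hinf]
    exact le_inf le_rfl h2
  intro y hy
  have h1 : QuotientGroup.mk' (pPrimeCore p X) y ∈ Y.map (QuotientGroup.mk' (pPrimeCore p X)) :=
    ⟨y, hy, rfl⟩
  rw [h3, Subgroup.mem_bot] at h1
  exact (QuotientGroup.eq_one_iff y).mp h1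

variable [Finite G]

/-- subgroup form: a `p'`-subgroup of `X` normalized by a maximal `p`-subgroup of the solvable
subgroup `X` lies in `O_{p'}(X)`. -/
theorem le_ppCoreOf_of_sylow_invariant {p : ℕ} [Fact p.Prime] {X T Y : Subgroup G}
    (hX : Group.IsSolvable X) (hT : IsSylowIn p T X) (hYX : Y ≤ X) (hY : (Nat.card Y).Coprime p)
    (hTY : T ≤ Subgroup.normalizer (Y : Set G)) : Y ≤ ppCoreOf p X := by
  haveI := hX
  have h1 : Y.subgroupOf X ≤ pPrimeCore p X := by
    apply le_pPrimeCore_of_sylow_invariant hT.toSylow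
    · rw [card_subgroupOf_of_le hYX]; exact hY
    · intro t ht
      apply mem_normalizer_subgroupOf
      exact hTY ((hT.mem_toSylow t).mp ht)
  intro y hy
  exact mem_ppCoreOf_iff.mpr ⟨hYX hy, h1 (by rw [Subgroup.mem_subgroupOf]; exact hy)⟩

end SylowInvariant

section Coprime

variable [Finite G]

/-- coprime action: if `[K, A]` is centralized by `A` then `A` centralizes `K`. -/
theorem le_centralizer_of_commutator_le_centralizer {A K : Subgroup G}
    (h : Cfsg.Agent.Lib.Helper1.CoprimeAct A K)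
    (hc : ⁅K, A⁆ ≤ Subgroup.centralizer (A : Set G)) : A ≤ Subgroup.centralizer (K : Set G) := by
  have h1 : ⁅⁅K, A⁆, A⁆ = ⊥ := by
    rw [Subgroup.commutator_eq_bot_iff_le_centralizer]
    exact hc
  have h2 : ⁅K, A⁆ = ⊥ := by rw [← h.commutator_commutator_eq, h1]
  rw [Subgroup.commutator_eq_bot_iff_le_centralizer] at h2
  exact Subgroup.le_centralizer_iff.mp h2

/-- coprime action of a `p`-group on a `q`-group. -/
theorem coprimeAct_of_pgroups {p q : ℕ} [Fact p.Prime] [Fact q.Prime] (hpq : p ≠ q)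
    {A K : Subgroup G} (hA : IsPGroup p A) (hK : IsPGroup q K)
    (hn : A ≤ Subgroup.normalizer (K : Set G)) : Cfsg.Agent.Lib.Helper1.CoprimeAct A K where
  norm := hn
  cop := by
    obtain ⟨a, ha⟩ := hA.exists_card_eq
    obtain ⟨b, hb⟩ := hK.exists_card_eq
    rw [ha, hb]
    exact Nat.Coprime.pow _ _ ((Nat.coprime_primes Fact.out Fact.out).mpr hpq)
  solv := Or.inl (by
    have := hA.isNilpotent
    infer_instance)

end Coprime

section Misc

theorem le_centralizer_symm {A B : Subgroup G} (h : A ≤ Subgroup.centralizer (B : Set G)) :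
    B ≤ Subgroup.centralizer (A : Set G) := Subgroup.le_centralizer_iff.mp h

theorem le_centralizer_sup {A B₁ B₂ : Subgroup G} (h₁ : A ≤ Subgroup.centralizer (B₁ : Set G))
    (h₂ : A ≤ Subgroup.centralizer (B₂ : Set G)) :
    A ≤ Subgroup.centralizer ((B₁ ⊔ B₂ : Subgroup G) : Set G) :=
  Subgroup.le_centralizer_iff.mp
    (sup_le (Subgroup.le_centralizer_iff.mp h₁) (Subgroup.le_centralizer_iff.mp h₂))

variable [Finite G]

theorem coprime_card_of_isPGroup {q r : ℕ} (hq : q.Prime) (hr : r.Prime) (hqr : q ≠ r)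
    {A B : Subgroup G} (hA : IsPGroup q A) (hB : IsPGroup r B) :
    (Nat.card A).Coprime (Nat.card B) := by
  have : Fact q.Prime := ⟨hq⟩
  have : Fact r.Prime := ⟨hr⟩
  obtain ⟨a, ha⟩ := hA.exists_card_eq
  obtain ⟨b, hb⟩ := hB.exists_card_eq
  rw [ha, hb]
  exact Nat.Coprime.pow _ _ ((Nat.coprime_primes hq hr).mpr hqr)

theorem coprime_card_prime_of_isPGroup {q r : ℕ} (hq : q.Prime) (hr : r.Prime) (hqr : q ≠ r)
    {A : Subgroup G} (hA : IsPGroup r A) : (Nat.card A).Coprime q := by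
  have : Fact r.Prime := ⟨hr⟩
  obtain ⟨a, ha⟩ := hA.exists_card_eq
  rw [ha]
  exact Nat.Coprime.pow_left _ ((Nat.coprime_primes hr hq).mpr (Ne.symm hqr))

theorem eq_bot_of_le_of_coprime {A B : Subgroup G} (h : A ≤ B)
    (hc : (Nat.card A).Coprime (Nat.card B)) : A = ⊥ := by
  have := inf_eq_bot_of_coprime hc
  rwa [inf_of_le_left h] at this

/-- a nontrivial `p`-subgroup has nontrivial centre. -/
theorem inf_centralizer_ne_bot {p : ℕ} [Fact p.Prime] {T : Subgroup G} (hT : IsPGroup p T)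
    (hT1 : T ≠ ⊥) : T ⊓ Subgroup.centralizer (T : Set G) ≠ ⊥ := by
  have : Nontrivial ↥T := (Subgroup.nontrivial_iff_ne_bot T).mpr hT1
  have hnt : Nontrivial (Subgroup.center ↥T) := hT.center_nontrivial
  obtain ⟨z, hz⟩ := exists_ne (1 : Subgroup.center ↥T)
  intro hbot
  have h1 : ((z : ↥T) : G) ∈ T ⊓ Subgroup.centralizer (T : Set G) := by
    refine ⟨(z : ↥T).2, ?_⟩
    show ((z : ↥T) : G) ∈ Subgroup.centralizer (T : Set G)
    rw [Subgroup.mem_centralizer_iff]
    intro t ht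
    have := (Subgroup.mem_center_iff.mp z.2) ⟨t, ht⟩
    exact congrArg Subtype.val this
  rw [hbot, Subgroup.mem_bot] at h1
  apply hz
  apply Subtype.ext
  apply Subtype.ext
  exact h1

theorem fittingOf_ne_bot {X : Subgroup G} (hX : Group.IsSolvable X) (hX1 : X ≠ ⊥) :
    fittingOf X ≠ ⊥ := by
  intro h
  have h1 := inf_centralizer_fittingOf_le X hX
  rw [h] at h1
  apply hX1
  rw [eq_bot_iff]
  intro x hx
  apply h1
  refine ⟨hx, ?_⟩
  show x ∈ Subgroup.centralizer ((⊥ : Subgroup G) : Set G)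
  rw [Subgroup.mem_centralizer_iff]
  intro y hy
  rw [SetLike.mem_coe, Subgroup.mem_bot] at hy
  rw [hy, one_mul, mul_one]

end Misc

section Puig

/-- The Puig subgroup `L(T)` of a subgroup `T`, as a subgroup of the ambient group. -/
def puigL (T : Subgroup G) : Subgroup G := (Cfsg.puigSubgroup ↥T).map T.subtype

/-- `Z(L(T))`, as a subgroup of the ambient group. -/
def puigZ (T : Subgroup G) : Subgroup G :=
  puigL T ⊓ Subgroup.centralizer (puigL T : Set G)

theorem puigL_le (T : Subgroup G) : puigL T ≤ T := Subgroup.map_subtype_le _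

theorem puigZ_le (T : Subgroup G) : puigZ T ≤ T := inf_le_left.trans (puigL_le T)

variable [Finite G]

theorem exists_stable_index (T : Subgroup G) :
    ∃ k : ℕ, 1 ≤ k ∧ relPuigSeq T (2 * k + 2) = relPuigSeq T (2 * k) ∧
      relPuigSeq T (2 * k + 1) = puigL T := by
  obtain ⟨k, hk⟩ := exists_relPuig_stable T
  refine ⟨max k 1, le_max_right _ _, ?_, (hk _ (le_max_left _ _)).2⟩
  have h1 := (hk (max k 1) (le_max_left _ _)).1
  have h2 := (hk (max k 1 + 1) ((le_max_left _ _).trans (Nat.le_succ _))).1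
  have h3 : 2 * (max k 1 + 1) = 2 * max k 1 + 2 := by ring
  rw [h3] at h2
  rw [h1, h2]

theorem normalizer_le_normalizer_puigZ (T : Subgroup G) :
    Subgroup.normalizer (T : Set G) ≤ Subgroup.normalizer (puigZ T : Set G) := by
  obtain ⟨k, -, -, hk⟩ := exists_stable_index T
  unfold puigZ
  rw [← hk]
  exact (normalizer_le_normalizer_relPuigSeq T _).trans
    (normalizer_le_normalizer_inf_centralizer _)

theorem le_normalizer_puigZ (T : Subgroup G) : T ≤ Subgroup.normalizer (puigZ T : Set G) :=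
  Subgroup.le_normalizer.trans (normalizer_le_normalizer_puigZ T)

theorem centralizer_le_normalizer_puigZ (T : Subgroup G) :
    Subgroup.centralizer (T : Set G) ≤ Subgroup.normalizer (puigZ T : Set G) :=
  (Subgroup.centralizer_le_normalizer _).trans (normalizer_le_normalizer_puigZ T)

theorem inf_centralizer_le_puigZ {p : ℕ} [Fact p.Prime] {T : Subgroup G} (hT : IsPGroup p T) :
    T ⊓ Subgroup.centralizer (T : Set G) ≤ puigZ T := by
  obtain ⟨k, -, -, hk⟩ := exists_stable_index T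
  rintro x ⟨hxT, hxC⟩
  have hxC' : x ∈ Subgroup.centralizer (puigL T : Set G) :=
    Subgroup.centralizer_le (SetLike.coe_subset_coe.mpr (puigL_le T)) hxC
  refine ⟨?_, hxC'⟩
  have h1 := inf_centralizer_relPuigSeq_le T hT (2 * k + 1) (by omega)
  rw [hk] at h1
  exact h1 ⟨hxT, hxC'⟩

theorem puigZ_ne_bot {p : ℕ} [Fact p.Prime] {T : Subgroup G} (hT : IsPGroup p T) (hT1 : T ≠ ⊥) :
    puigZ T ≠ ⊥ := by
  have : Nontrivial ↥T := (Subgroup.nontrivial_iff_ne_bot T).mpr hT1
  have hnt : Nontrivial (Subgroup.center ↥T) := hT.center_nontrivial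
  obtain ⟨z, hz⟩ := exists_ne (1 : Subgroup.center ↥T)
  intro hbot
  have h1 : ((z : ↥T) : G) ∈ puigZ T := by
    apply inf_centralizer_le_puigZ hT
    refine ⟨(z : ↥T).2, ?_⟩
    show ((z : ↥T) : G) ∈ Subgroup.centralizer (T : Set G)
    rw [Subgroup.mem_centralizer_iff]
    intro t ht
    have := (Subgroup.mem_center_iff.mp z.2) ⟨t, ht⟩
    exact congrArg Subtype.val this
  rw [hbot, Subgroup.mem_bot] at h1
  apply hz
  apply Subtype.ext
  apply Subtype.ext
  exact h1

theorem map_inf_centralizer_subtype (X : Subgroup G) (L : Subgroup X) :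
    (L ⊓ Subgroup.centralizer (L : Set X)).map X.subtype =
      L.map X.subtype ⊓ Subgroup.centralizer ((L.map X.subtype : Subgroup G) : Set G) := by
  ext g
  rw [Subgroup.mem_inf]
  constructor
  · rintro ⟨z, ⟨hzL, hzC⟩, rfl⟩
    refine ⟨⟨z, hzL, rfl⟩, ?_⟩
    rw [Subgroup.mem_centralizer_iff]
    rintro _ ⟨l, hl, rfl⟩
    have := Subgroup.mem_centralizer_iff.mp hzC l hl
    exact congrArg Subtype.val this
  · rintro ⟨⟨z, hzL, rfl⟩, hC⟩
    refine ⟨z, ⟨hzL, ?_⟩, rfl⟩
    show z ∈ Subgroup.centralizer (L : Set X)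
    rw [Subgroup.mem_centralizer_iff]
    intro l hl
    apply Subtype.ext
    exact Subgroup.mem_centralizer_iff.mp hC _ ⟨l, hl, rfl⟩

/-- **Puig's theorem**, subgroup form: `X = O_{p'}(X) N_X(Z(L(T)))` for a maximal `p`-subgroup `T`
of the solvable subgroup `X` of odd order. -/
theorem puig_sup {p : ℕ} [Fact p.Prime] (hp2 : p ≠ 2) {X T : Subgroup G}
    (hX : Group.IsSolvable X) (hodd : Odd (Nat.card X)) (hT : IsSylowIn p T X) :
    X ≤ ppCoreOf p X ⊔ (X ⊓ Subgroup.normalizer (puigZ T : Set G)) := by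
  haveI := hX
  obtain ⟨k, hk1, hk2, hk3⟩ := exists_stable_index T
  have hinj : ∀ x ∈ T.subgroupOf X, X.subtype x = 1 → x = 1 := by
    intro x _ hx
    exact Subtype.ext hx
  have hseq : ∀ n : ℕ, (relPuigSeq (T.subgroupOf X) n).map X.subtype = relPuigSeq T n := by
    intro n
    rw [map_relPuigSeq_of_injOn X.subtype (T.subgroupOf X) hinj n,
      Subgroup.map_subgroupOf_eq_of_le hT.le]
  have hstab : relPuigSeq ((hT.toSylow : Sylow p ↥X) : Subgroup X) (2 * k + 2) =
      relPuigSeq ((hT.toSylow : Sylow p ↥X) : Subgroup X) (2 * k) := by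
    rw [hT.coe_toSylow]
    apply Subgroup.map_injective X.subtype_injective
    rw [hseq, hseq, hk2]
  have key := puig_frattini hodd hp2 hT.toSylow k hk1 hstab
  rw [hT.coe_toSylow] at key
  have hZ : (relPuigSeq (T.subgroupOf X) (2 * k + 1) ⊓ Subgroup.centralizer
      (relPuigSeq (T.subgroupOf X) (2 * k + 1) : Set X)).map X.subtype = puigZ T := by
    rw [map_inf_centralizer_subtype, hseq, hk3]
    rfl
  intro x hx
  have h1 : (⟨x, hx⟩ : X) ∈ (⊤ : Subgroup X) := Subgroup.mem_top _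
  rw [← key] at h1
  have h2 : x ∈ (pPrimeCore p X ⊔ Subgroup.normalizer
      ((relPuigSeq (T.subgroupOf X) (2 * k + 1) ⊓ Subgroup.centralizer
      (relPuigSeq (T.subgroupOf X) (2 * k + 1) : Set X) : Subgroup X) : Set X)).map X.subtype :=
    ⟨⟨x, hx⟩, h1, rfl⟩
  rw [Subgroup.map_sup] at h2
  have h3 : (Subgroup.normalizer
      ((relPuigSeq (T.subgroupOf X) (2 * k + 1) ⊓ Subgroup.centralizer
      (relPuigSeq (T.subgroupOf X) (2 * k + 1) : Set X) : Subgroup X) : Set X)).map X.subtype ≤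
      X ⊓ Subgroup.normalizer (puigZ T : Set G) := by
    apply le_inf (Subgroup.map_subtype_le _)
    rw [← hZ]
    apply le_normalizer_of_conj_mem
    rintro _ ⟨n, hn, rfl⟩ _ ⟨z, hz, rfl⟩
    exact ⟨n * z * n⁻¹, conj_mem_of_mem_normalizer hn hz, rfl⟩
  have h4 := sup_le_sup (le_refl (ppCoreOf p X)) h3
  exact h4 h2

theorem puig_le_normalizer {p : ℕ} [Fact p.Prime] (hp2 : p ≠ 2) {X T : Subgroup G}
    (hX : Group.IsSolvable X) (hodd : Odd (Nat.card X)) (hT : IsSylowIn p T X)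
    (h : ppCoreOf p X ≤ Subgroup.normalizer (puigZ T : Set G)) :
    X ≤ Subgroup.normalizer (puigZ T : Set G) :=
  (puig_sup hp2 hX hodd hT).trans (sup_le h inf_le_right)

/-- In a minimal simple group of odd order: if `T ≠ 1` is a maximal `p`-subgroup of the maximal
subgroup `M` and `O_{p'}(M)` normalizes `Z(L(T))`, then `M = N(Z(L(T)))`. -/
theorem normalizer_puigZ_eq (hG : IsMinSimpleOddOrder G) {p : ℕ} [Fact p.Prime]
    {M T : Subgroup G} (hM : IsCoatom M) (hT : IsSylowIn p T M) (hT1 : T ≠ ⊥)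
    (h : ppCoreOf p M ≤ Subgroup.normalizer (puigZ T : Set G)) :
    Subgroup.normalizer (puigZ T : Set G) = M := by
  have hp2 : p ≠ 2 := prime_ne_two_of_pgroup hG hT.isPGroup hT1
  apply normalizer_eq_of_isCoatom' hG hM (puigZ_ne_bot hT.isPGroup hT1)
    ((puigZ_le T).trans hT.le)
  exact puig_le_normalizer hp2 (isSolvable_of_ne_top hG hM.1) (odd_card_subgroup hG M) hT h

end Puig

end Cfsg.Agent.Lib.Helper10.BG
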