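import Mathlib
import Cfsg.Prelude
import Cfsg.Agent.Lib.Helper10.BGBase
import Cfsg.Agent.Lib.Helper10.BGSylow
import Cfsg.Agent.Lib.Helper10.BGSolv

/-!
# Bender's uniqueness argument

`M` is a maximal subgroup of a minimal simple group of odd order whose Fitting subgroup is not of
prime power order, and `a q ≤ O_q(M)` is a family of subgroups with `C_{O_q(M)}(a q) ≤ a q`.  If no
nontrivial `q`-subgroup with `O_q(M) = 1` is normalized by all the `a r`, then `M` is the only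
maximal subgroup containing all the `a q`.
-/

set_option autoImplicit false
open Cfsg
open scoped commutatorElement

namespace Cfsg.Agent.Lib.Helper10.BG

variable {G : Type*} [Group G] [Finite G]

/-- Two subgroups whose Fitting subgroups lie in each other, the parts for distinct primes
commuting. -/
structure Linked (M H : Subgroup G) : Prop where
  le₁ : ∀ q : ℕ, q.Prime → pCoreOf q H ≤ M
  le₂ : ∀ q : ℕ, q.Prime → pCoreOf q M ≤ H
  comm : ∀ q r : ℕ, q.Prime → r.Prime → q ≠ r →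
    pCoreOf q H ≤ Subgroup.centralizer (pCoreOf r M : Set G)

omit [Finite G] in
theorem Linked.symm {M H : Subgroup G} (h : Linked M H) : Linked H M where
  le₁ := h.le₂
  le₂ := h.le₁
  comm := fun q r hq hr hqr => le_centralizer_symm (h.comm r q hr hq (Ne.symm hqr))

/-- for linked subgroups, a `p`-subgroup of the intersection centralizing `F(M)_{p'}` centralizes
`F(H)_{p'}`. -/
theorem Linked.inf_centralizer_fitCompl_le (hG : IsMinSimpleOddOrder G) {M H : Subgroup G}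
    (h : Linked M H) (hM : M ≠ ⊤) {p : ℕ} (hp : p.Prime) {R : Subgroup G} (hRH : R ≤ H)
    (hR : IsPGroup p R) :
    R ⊓ Subgroup.centralizer (fitCompl p M : Set G) ≤
      Subgroup.centralizer (fitCompl p H : Set G) := by
  intro t ht
  rw [mem_centralizer_fitCompl_iff]
  intro q hq hqp
  obtain ⟨T, hT⟩ : ∃ T : Subgroup G, T = R ⊓ Subgroup.centralizer (fitCompl p M : Set G) :=
    ⟨_, rfl⟩
  rw [← hT] at ht
  suffices hh : T ≤ Subgroup.centralizer (pCoreOf q H : Set G) from hh ht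
  have hTR : T ≤ R := by rw [hT]; exact inf_le_left
  have hTp : IsPGroup p T := hR.to_le hTR
  have hTn : T ≤ Subgroup.normalizer (pCoreOf q H : Set G) :=
    (hTR.trans hRH).trans (le_normalizer_pCoreOf q H)
  have : Fact p.Prime := ⟨hp⟩
  have : Fact q.Prime := ⟨hq⟩
  have hact := coprimeAct_of_pgroups (Ne.symm hqp) hTp (isPGroup_pCoreOf q H) hTn
  apply le_centralizer_of_commutator_le_centralizer hact
  have hTF : T ≤ Subgroup.centralizer (pCoreOf q M : Set G) := by
    intro x hx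
    rw [hT] at hx
    exact mem_centralizer_fitCompl_iff.mp hx.2 q hq hqp
  have hcomm_le : ⁅pCoreOf q H, T⁆ ≤ pCoreOf q H :=
    Cfsg.Agent.Lib.Helper1.commutator_le_of_le_normalizer hTn
  have hcent : ∀ r : Nat.Primes, ⁅pCoreOf q H, T⁆ ≤
      Subgroup.centralizer (pCoreOf (r : ℕ) M : Set G) := by
    intro r
    by_cases hrq : (r : ℕ) = q
    · rw [hrq, Subgroup.commutator_le]
      intro e he t ht
      rw [Subgroup.mem_centralizer_iff]
      intro f hf
      have heM : e ∈ M := h.le₁ q hq he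
      have hf' : e⁻¹ * f * e ∈ pCoreOf q M :=
        conj_mem_of_mem_normalizer' (le_normalizer_pCoreOf q M heM) hf
      have hf1 : f * t⁻¹ = t⁻¹ * f :=
        Subgroup.mem_centralizer_iff.mp (hTF (T.inv_mem ht)) f hf
      have hf2 : (e⁻¹ * f * e) * t = t * (e⁻¹ * f * e) :=
        Subgroup.mem_centralizer_iff.mp (hTF ht) _ hf'
      calc f * ⁅e, t⁆ = e * ((e⁻¹ * f * e) * t) * e⁻¹ * t⁻¹ := by
            rw [commutatorElement_def]; group
        _ = e * (t * (e⁻¹ * f * e)) * e⁻¹ * t⁻¹ := by rw [hf2]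
        _ = e * t * e⁻¹ * (f * t⁻¹) := by group
        _ = e * t * e⁻¹ * (t⁻¹ * f) := by rw [hf1]
        _ = ⁅e, t⁆ * f := by rw [commutatorElement_def]; group
    · exact hcomm_le.trans (h.comm q r hq r.2 (Ne.symm hrq))
  have h1 : ⁅pCoreOf q H, T⁆ ≤ pCoreOf q M := by
    apply pgroup_le_pCoreOf_of_le_fittingOf hq
    · refine le_trans ?_ (inf_centralizer_fittingOf_le M (isSolvable_of_ne_top hG hM))
      apply le_inf
      · exact hcomm_le.trans (h.le₁ q hq)
      · intro x hx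
        rw [fittingOf_eq_iSup, mem_centralizer_iSup_iff]
        intro r
        exact hcent r hx
    · exact (isPGroup_pCoreOf q H).to_le hcomm_le
  exact h1.trans (le_centralizer_symm hTF)

/-- Puig's theorem applied to `C_G(F(H)_{p'})`. -/
theorem normalizer_puigZ_eq_of_sylow (hG : IsMinSimpleOddOrder G) {H T : Subgroup G}
    (hH : IsCoatom H) {p : ℕ} [Fact p.Prime] (hne : fitCompl p H ≠ ⊥)
    (hT : IsSylowIn p T (Subgroup.centralizer (fitCompl p H : Set G))) (hT1 : T ≠ ⊥) :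
    Subgroup.normalizer (puigZ T : Set G) = H := by
  have hp : p.Prime := Fact.out
  have hp2 : p ≠ 2 := prime_ne_two_of_pgroup hG hT.isPGroup hT1
  have hHsolv := isSolvable_of_ne_top hG hH.1
  obtain ⟨K, hK⟩ : ∃ K : Subgroup G, K = Subgroup.centralizer (fitCompl p H : Set G) := ⟨_, rfl⟩
  rw [← hK] at hT
  have hKH : K ≤ H := by
    rw [hK]
    exact centralizer_le_of_isCoatom hG hH hne (fitCompl_le p H) (le_normalizer_fitCompl p H)
  have hHK : H ≤ Subgroup.normalizer (K : Set G) := by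
    rw [hK]
    exact le_normalizer_centralizer (le_normalizer_fitCompl p H)
  have hKtop : K ≠ ⊤ := ne_top_of_le_isCoatom hH hKH
  -- `O_{p'}(K) ≤ F(H)_{p'}`
  have hL : ppCoreOf p K ≤ fitCompl p H := by
    apply coprime_le_fitCompl_of_le_fittingOf hp _ (coprime_card_ppCoreOf p K)
    refine le_trans ?_ (inf_centralizer_fittingOf_le H hHsolv)
    apply le_inf ((ppCoreOf_le p K).trans hKH)
    rw [fittingOf_eq_sup hp H]
    apply le_centralizer_sup
    · apply le_centralizer_of_commute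
      intro x hx y hy
      have hinf : ppCoreOf p K ⊓ pCoreOf p H = ⊥ := by
        apply inf_eq_bot_of_coprime
        obtain ⟨k, hk⟩ := (isPGroup_pCoreOf p H).exists_card_eq
        rw [hk]
        exact Nat.Coprime.pow_right k (coprime_card_ppCoreOf p K)
      exact commute_of_normalize_of_inf_eq_bot
        (((ppCoreOf_le p K).trans hKH).trans (le_normalizer_pCoreOf p H))
        ((pCoreOf_le p H).trans (le_normalizer_ppCoreOf_of_le hHK)) hinf hx hy
    · rw [← hK]
      exact ppCoreOf_le p K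
  have hTK : T ≤ K := hT.le
  have hLT : ppCoreOf p K ≤ Subgroup.normalizer (puigZ T : Set G) := by
    refine le_trans ?_ (centralizer_le_normalizer_puigZ T)
    refine hL.trans ?_
    apply le_centralizer_symm
    rw [← hK]
    exact hTK
  have hKN : K ≤ Subgroup.normalizer (puigZ T : Set G) :=
    puig_le_normalizer hp2 (isSolvable_of_ne_top hG hKtop) (odd_card_subgroup hG K) hT hLT
  have hHN : H ≤ Subgroup.normalizer (puigZ T : Set G) :=
    frattini_le hKH hHK hT hKN (inf_le_right.trans (normalizer_le_normalizer_puigZ T))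
  exact normalizer_eq_of_isCoatom' hG hH (puigZ_ne_bot hT.isPGroup hT1)
    ((puigZ_le T).trans (hTK.trans hKH)) hHN

/-- The extremal argument: no family of maximal subgroups linked to `M` and closed under passing
to maximal overgroups of normalizers of suitable `p`-subgroups. -/
theorem no_linked_family (hG : IsMinSimpleOddOrder G) {M : Subgroup G} (hM : IsCoatom M) {p : ℕ}
    [Fact p.Prime] (hFp : pCoreOf p M ≠ ⊥) (hFc : fitCompl p M ≠ ⊥) (𝓗 : Set (Subgroup G))
    (h1 : ∀ H ∈ 𝓗, IsCoatom H ∧ H ≠ M ∧ Linked M H ∧ fitCompl p H ≠ ⊥)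
    (hcl : ∀ T : Subgroup G, IsPGroup p T → pCoreOf p M ≤ T →
      T ≤ Subgroup.centralizer (fitCompl p M : Set G) →
      ∀ L : Subgroup G, IsCoatom L → Subgroup.normalizer (T : Set G) ≤ L → L = M ∨ L ∈ 𝓗) :
    𝓗 = ∅ := by
  by_contra hne
  obtain ⟨H₀, hH₀⟩ := Set.nonempty_iff_ne_empty.mpr hne
  have hp : p.Prime := Fact.out
  obtain ⟨S, hS⟩ : ∃ S : Set (Subgroup G × Subgroup G),
      S = {x | x.1 ∈ 𝓗 ∧ x.2 ≤ x.1 ∧ x.2 ≤ M ∧ IsPGroup p x.2} := ⟨_, rfl⟩
  have hSne : Nonempty S := by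
    refine ⟨⟨(H₀, ⊥), ?_⟩⟩
    rw [hS]
    exact ⟨hH₀, bot_le, bot_le, IsPGroup.of_bot⟩
  obtain ⟨⟨⟨H, R⟩, hHR⟩, hmax⟩ := Finite.exists_max (fun x : S => Nat.card x.1.2)
  have hHR' : H ∈ 𝓗 ∧ R ≤ H ∧ R ≤ M ∧ IsPGroup p R := by
    rw [hS] at hHR
    exact hHR
  obtain ⟨hH𝓗, hRH, hRM, hRp⟩ := hHR'
  have hmax' : ∀ H' R' : Subgroup G, H' ∈ 𝓗 → R' ≤ H' → R' ≤ M → IsPGroup p R' →
      Nat.card R' ≤ Nat.card R := by
    intro H' R' a b c d
    have hmem : (H', R') ∈ S := by
      rw [hS]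
      exact ⟨a, b, c, d⟩
    exact hmax ⟨(H', R'), hmem⟩
  obtain ⟨hHc, hHM, hlink, hHfc⟩ := h1 H hH𝓗
  -- `R` is a maximal `p`-subgroup of `H ⊓ M`
  have hRsyl : IsSylowIn p R (H ⊓ M) :=
    isSylowIn_of_card_ge (le_inf hRH hRM) hRp (fun Q hQ hQp _ =>
      hmax' H Q hH𝓗 (hQ.trans inf_le_left) (hQ.trans inf_le_right) hQp)
  obtain ⟨S₀, hS₀, hRS₀⟩ := exists_isSylowIn_ge hRM hRp
  obtain ⟨C, hC⟩ : ∃ C : Subgroup G, C = Subgroup.centralizer (fitCompl p M : Set G) := ⟨_, rfl⟩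
  obtain ⟨K, hK⟩ : ∃ K : Subgroup G, K = Subgroup.centralizer (fitCompl p H : Set G) := ⟨_, rfl⟩
  have hCM : C ≤ M := by
    rw [hC]
    exact centralizer_le_of_isCoatom hG hM hFc (fitCompl_le p M) (le_normalizer_fitCompl p M)
  have hKH : K ≤ H := by
    rw [hK]
    exact centralizer_le_of_isCoatom hG hHc hHfc (fitCompl_le p H) (le_normalizer_fitCompl p H)
  have hMC : M ≤ Subgroup.normalizer (C : Set G) := by
    rw [hC]
    exact le_normalizer_centralizer (le_normalizer_fitCompl p M)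
  have hHK : H ≤ Subgroup.normalizer (K : Set G) := by
    rw [hK]
    exact le_normalizer_centralizer (le_normalizer_fitCompl p H)
  have hRCK : R ⊓ C = R ⊓ K := by
    apply le_antisymm
    · apply le_inf inf_le_left
      rw [hC, hK]
      exact hlink.inf_centralizer_fitCompl_le hG hM.1 hp hRH hRp
    · apply le_inf inf_le_left
      rw [hC, hK]
      exact hlink.symm.inf_centralizer_fitCompl_le hG hHc.1 hp hRM hRp
  obtain ⟨T, hT⟩ : ∃ T : Subgroup G, T = R ⊓ C := ⟨_, rfl⟩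
  have hTR : T ≤ R := by rw [hT]; exact inf_le_left
  have hTC : T ≤ C := by rw [hT]; exact inf_le_right
  have hTK : T ≤ K := by rw [hT, hRCK]; exact inf_le_right
  have hTp : IsPGroup p T := hRp.to_le hTR
  have hT1 : IsSylowIn p T (H ⊓ C) := by
    have h2 := hRsyl.inf_normal (N := H ⊓ C) (inf_le_inf le_rfl hCM)
      (le_normalizer_inf (inf_le_left.trans Subgroup.le_normalizer) (inf_le_right.trans hMC))
    have e : R ⊓ (H ⊓ C) = T := by rw [← inf_assoc, inf_of_le_left hRH, hT]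
    rwa [e] at h2
  have hT2 : IsSylowIn p T (M ⊓ K) := by
    have h2 := hRsyl.inf_normal (N := M ⊓ K) (le_inf (inf_le_right.trans hKH) inf_le_left)
      (le_normalizer_inf (inf_le_right.trans Subgroup.le_normalizer) (inf_le_left.trans hHK))
    have e : R ⊓ (M ⊓ K) = T := by rw [← inf_assoc, inf_of_le_left hRM, ← hRCK, hT]
    rwa [e] at h2
  have hFpT : pCoreOf p M ≤ T := by
    rw [hT]
    apply le_inf
    · exact hRsyl.normal_le (le_inf (hlink.le₂ p hp) (pCoreOf_le p M)) (isPGroup_pCoreOf p M)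
        (inf_le_right.trans (le_normalizer_pCoreOf p M))
    · rw [hC]
      exact pCoreOf_le_centralizer_fitCompl hp M
  have hTne : T ≠ ⊥ := by
    intro h
    apply hFp
    rw [eq_bot_iff, ← h]
    exact hFpT
  -- a `p`-element of `K` normalizing `T` and lying in `M` lies in `T`
  have hkeyK : (∀ x ∈ K, x ∈ Subgroup.normalizer (T : Set G) → x ∈ M) → IsSylowIn p T K := by
    intro hx
    apply IsSylowIn.of_normalizer_le hTK hTp
    intro x hxK hxN hxp
    have hxM : x ∈ M := hx x hxK hxN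
    have h3 := hT2.eq_of_le (sup_le hT2.le (Subgroup.zpowers_le.mpr ⟨hxM, hxK⟩)) hxp le_sup_left
    rw [← h3]
    exact Subgroup.mem_sup_right (Subgroup.mem_zpowers x)
  have hkeyC : (∀ x ∈ C, x ∈ Subgroup.normalizer (T : Set G) → x ∈ H) → IsSylowIn p T C := by
    intro hx
    apply IsSylowIn.of_normalizer_le hTC hTp
    intro x hxC hxN hxp
    have hxH : x ∈ H := hx x hxC hxN
    have h3 := hT1.eq_of_le (sup_le hT1.le (Subgroup.zpowers_le.mpr ⟨hxH, hxC⟩)) hxp le_sup_left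
    rw [← h3]
    exact Subgroup.mem_sup_right (Subgroup.mem_zpowers x)
  by_cases hcase1 : IsSylowIn p T K
  · have hN1 : Subgroup.normalizer (puigZ T : Set G) = H := by
      rw [hK] at hcase1
      exact normalizer_puigZ_eq_of_sylow hG hHc hHfc hcase1 hTne
    have hcase2 : IsSylowIn p T C := by
      apply hkeyC
      intro x _ hxN
      rw [← hN1]
      exact normalizer_le_normalizer_puigZ T hxN
    have hN2 : Subgroup.normalizer (puigZ T : Set G) = M := by
      rw [hC] at hcase2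
      exact normalizer_puigZ_eq_of_sylow hG hM hFc hcase2 hTne
    exact hHM (hN1.symm.trans hN2)
  · by_cases hcase2 : IsSylowIn p T C
    · have hN2 : Subgroup.normalizer (puigZ T : Set G) = M := by
        rw [hC] at hcase2
        exact normalizer_puigZ_eq_of_sylow hG hM hFc hcase2 hTne
      apply hcase1
      apply hkeyK
      intro x _ hxN
      rw [← hN2]
      exact normalizer_le_normalizer_puigZ T hxN
    · have hS₀C : IsSylowIn p (S₀ ⊓ C) C := hS₀.inf_normal hCM hMC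
      have hTS : T ≤ S₀ ⊓ C := le_inf (hTR.trans hRS₀) hTC
      have hns : ¬ IsSylowIn p T (S₀ ⊓ C) := by
        intro h
        have h3 : S₀ ⊓ C = T := h.eq_of_le le_rfl hS₀C.isPGroup hTS
        apply hcase2
        rw [← h3]
        exact hS₀C
      obtain ⟨x, hxSC, hxN, hxT, -⟩ := exists_normalizer_gt hTS hTp hns
      obtain ⟨R₁, hR₁⟩ : ∃ R₁ : Subgroup G, R₁ = R ⊔ Subgroup.zpowers x := ⟨_, rfl⟩
      have hR₁S : R₁ ≤ S₀ := by
        rw [hR₁]
        exact sup_le hRS₀ (Subgroup.zpowers_le.mpr hxSC.1)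
      have hR₁p : IsPGroup p R₁ := hS₀.isPGroup.to_le hR₁S
      have hR₁M : R₁ ≤ M := hR₁S.trans hS₀.le
      have hRN : R ≤ Subgroup.normalizer (T : Set G) := by
        rw [hT]
        exact le_normalizer_inf Subgroup.le_normalizer (hRM.trans hMC)
      have hR₁N : R₁ ≤ Subgroup.normalizer (T : Set G) := by
        rw [hR₁]
        exact sup_le hRN (Subgroup.zpowers_le.mpr hxN)
      have hxR : x ∉ R := by
        intro h
        apply hxT
        rw [hT]
        exact ⟨h, hxSC.2⟩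
      have hlt : Nat.card R < Nat.card R₁ := by
        by_contra hle
        push Not at hle
        have h3 : R = R₁ := Subgroup.eq_of_le_of_card_ge (by rw [hR₁]; exact le_sup_left) hle
        apply hxR
        rw [h3, hR₁]
        exact Subgroup.mem_sup_right (Subgroup.mem_zpowers x)
      have hTtop : T ≠ ⊤ := ne_top_of_le_isCoatom hM (hTC.trans hCM)
      have hNT : Subgroup.normalizer (T : Set G) ≠ ⊤ :=
        Cfsg.Agent.Lib.Lead.BGTrans.normalizer_ne_top hG.2 hTne hTtop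
      obtain ⟨L, hL, hNL⟩ := exists_isCoatom_ge hNT
      have hTC' : T ≤ Subgroup.centralizer (fitCompl p M : Set G) := by rw [← hC]; exact hTC
      rcases hcl T hTp hFpT hTC' L hL hNL with hLM | hL𝓗
      · apply hcase1
        apply hkeyK
        intro y _ hyN
        rw [← hLM]
        exact hNL hyN
      · have h3 := hmax' L R₁ hL𝓗 (hR₁N.trans hNL) hR₁M hR₁p
        omega

/-- `C_G(a) ≤ M` for a subgroup `a` of `O_q(M) ≠ 1` containing its centralizer in `O_q(M)`. -/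
theorem centralizer_le_of_family (hG : IsMinSimpleOddOrder G) {M : Subgroup G} (hM : IsCoatom M)
    {q : ℕ} (hq : q.Prime) {aq : Subgroup G} (hF : pCoreOf q M ≠ ⊥) (h1 : aq ≤ pCoreOf q M)
    (h2 : pCoreOf q M ⊓ Subgroup.centralizer (aq : Set G) ≤ aq) :
    Subgroup.centralizer (aq : Set G) ≤ M := by
  have : Fact q.Prime := ⟨hq⟩
  obtain ⟨Z, hZ⟩ : ∃ Z : Subgroup G,
      Z = pCoreOf q M ⊓ Subgroup.centralizer (pCoreOf q M : Set G) := ⟨_, rfl⟩
  have hZ1 : Z ≠ ⊥ := by
    rw [hZ]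
    exact inf_centralizer_ne_bot (isPGroup_pCoreOf q M) hF
  have hZa : Z ≤ aq := by
    rw [hZ]
    exact (inf_le_inf le_rfl (Subgroup.centralizer_le (SetLike.coe_subset_coe.mpr h1))).trans h2
  have hZM : Z ≤ M := by
    rw [hZ]
    exact inf_le_left.trans (pCoreOf_le q M)
  have hMZ : M ≤ Subgroup.normalizer (Z : Set G) := by
    rw [hZ]
    exact (le_normalizer_pCoreOf q M).trans (normalizer_le_normalizer_inf_centralizer _)
  exact (Subgroup.centralizer_le (SetLike.coe_subset_coe.mpr hZa)).trans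
    (centralizer_le_of_isCoatom hG hM hZ1 hZM hMZ)

/-- every maximal subgroup containing the family is linked to `M`. -/
theorem linked_of_family (hG : IsMinSimpleOddOrder G) {M : Subgroup G} (hM : IsCoatom M)
    (a : ℕ → Subgroup G)
    (ha1 : ∀ q : ℕ, q.Prime → a q ≤ pCoreOf q M)
    (ha2 : ∀ q : ℕ, q.Prime → pCoreOf q M ⊓ Subgroup.centralizer (a q : Set G) ≤ a q)
    (hπ : ∃ q₁ q₂ : ℕ, q₁.Prime ∧ q₂.Prime ∧ q₁ ≠ q₂ ∧ pCoreOf q₁ M ≠ ⊥ ∧ pCoreOf q₂ M ≠ ⊥)
    (htriv : ∀ q : ℕ, q.Prime → pCoreOf q M = ⊥ → ∀ Y : Subgroup G, IsPGroup q Y →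
      (∀ r : ℕ, r.Prime → a r ≤ Subgroup.normalizer (Y : Set G)) → Y = ⊥)
    {H : Subgroup G} (hH : IsCoatom H) (hAH : ∀ q : ℕ, q.Prime → a q ≤ H) :
    Linked M H ∧ ∀ r : ℕ, r.Prime → pCoreOf r M ≠ ⊥ → fitCompl r H ≠ ⊥ := by
  obtain ⟨q₁, q₂, hq₁, hq₂, hq₁₂, hF₁, hF₂⟩ := hπ
  have hHsolv := isSolvable_of_ne_top hG hH.1
  have hother : ∀ q : ℕ, ∃ r : ℕ, r.Prime ∧ r ≠ q ∧ pCoreOf r M ≠ ⊥ := by
    intro q
    by_cases h : q = q₁
    · exact ⟨q₂, hq₂, by rw [h]; exact Ne.symm hq₁₂, hF₂⟩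
    · exact ⟨q₁, hq₁, Ne.symm h, hF₁⟩
  have hA0 : ∀ q : ℕ, q.Prime → pCoreOf q M ≠ ⊥ → Subgroup.centralizer (a q : Set G) ≤ M :=
    fun q hq hF => centralizer_le_of_family hG hM hq hF (ha1 q hq) (ha2 q hq)
  have hap : ∀ q : ℕ, q.Prime → IsPGroup q (a q) :=
    fun q hq => (isPGroup_pCoreOf q M).to_le (ha1 q hq)
  have hA1 : ∀ q r : ℕ, q.Prime → r.Prime → pCoreOf q M ≠ ⊥ → q ≠ r →
      pCoreOf r M ⊓ H ≤ ppCoreOf q H := by
    intro q r hq hr hF hqr
    have : Fact q.Prime := ⟨hq⟩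
    apply le_ppCoreOf_of_balance hHsolv (hAH q hq) (hap q hq) inf_le_right
    · intro w hw
      rw [Subgroup.mem_centralizer_iff]
      intro x hx
      exact commute_pCoreOf hq hr hqr M (ha1 q hq hx) hw.1
    · exact coprime_card_prime_of_isPGroup hq hr hqr ((isPGroup_pCoreOf r M).to_le inf_le_left)
    · apply le_normalizer_inf
      · exact (inf_le_right.trans (hA0 q hq hF)).trans (le_normalizer_pCoreOf r M)
      · exact inf_le_left.trans Subgroup.le_normalizer
  have harq : ∀ q r : ℕ, q.Prime → r.Prime → pCoreOf q M ≠ ⊥ → q ≠ r → a r ≤ ppCoreOf q H :=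
    fun q r hq hr hF hqr => (le_inf (ha1 r hr) (hAH r hr)).trans (hA1 q r hq hr hF hqr)
  have hA2 : ∀ q r : ℕ, q.Prime → r.Prime → pCoreOf q M ≠ ⊥ → q ≠ r →
      pCoreOf q H ≤ Subgroup.centralizer (a r : Set G) := by
    intro q r hq hr hF hqr
    have : Fact q.Prime := ⟨hq⟩
    apply le_centralizer_of_commute
    intro x hx y hy
    exact commute_pCoreOf_ppCoreOf q H hx (harq q r hq hr hF hqr hy)
  have hE0 : ∀ q : ℕ, q.Prime → pCoreOf q M = ⊥ → pCoreOf q H = ⊥ := by
    intro q hq hF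
    apply htriv q hq hF _ (isPGroup_pCoreOf q H)
    intro r hr
    exact (hAH r hr).trans (le_normalizer_pCoreOf q H)
  have hA3 : ∀ q : ℕ, q.Prime → pCoreOf q H ≤ M := by
    intro q hq
    by_cases hF : pCoreOf q M = ⊥
    · rw [hE0 q hq hF]
      exact bot_le
    · obtain ⟨r, hr, hrq, hFr⟩ := hother q
      exact (hA2 q r hq hr hF (Ne.symm hrq)).trans (hA0 r hr hFr)
  have hA4 : ∀ q r : ℕ, q.Prime → r.Prime → q ≠ r →
      pCoreOf q H ≤ Subgroup.centralizer (pCoreOf r M : Set G) := by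
    intro q r hq hr hqr
    by_cases hFq : pCoreOf q M = ⊥
    · rw [hE0 q hq hFq]
      exact bot_le
    have : Fact r.Prime := ⟨hr⟩
    have : Fact q.Prime := ⟨hq⟩
    have hPQ : a r ≤ Subgroup.centralizer (pCoreOf q H : Set G) :=
      le_centralizer_symm (hA2 q r hq hr hFq hqr)
    refine Cfsg.Agent.Lib.Helper1.thompson_PxQ r (a r) (pCoreOf q H) (hap r hr)
      (coprime_card_prime_of_isPGroup hr hq (Ne.symm hqr) (isPGroup_pCoreOf q H)) hPQ _
      (pCoreOf r M) rfl (isPGroup_pCoreOf r M) ?_ ?_ ?_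
    · exact ((ha1 r hr).trans (pCoreOf_le r M)).trans (le_normalizer_pCoreOf r M)
    · exact (hA3 q hq).trans (le_normalizer_pCoreOf r M)
    · refine (ha2 r hr).trans ((harq q r hq hr hFq hqr).trans ?_)
      apply le_centralizer_of_commute
      intro x hx y hy
      exact (commute_pCoreOf_ppCoreOf q H hy hx).symm
  have hHne : H ≠ ⊥ := by
    intro h
    have : Fact q₁.Prime := ⟨hq₁⟩
    have h3 : pCoreOf q₁ M ⊓ Subgroup.centralizer (pCoreOf q₁ M : Set G) ≤ ⊥ := by
      rw [← h]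
      refine le_trans ?_ ((ha2 q₁ hq₁).trans (hAH q₁ hq₁))
      exact inf_le_inf le_rfl
        (Subgroup.centralizer_le (SetLike.coe_subset_coe.mpr (ha1 q₁ hq₁)))
    exact inf_centralizer_ne_bot (isPGroup_pCoreOf q₁ M) hF₁ (le_bot_iff.mp h3)
  have hA5 : ∀ r : ℕ, r.Prime → pCoreOf r M ≠ ⊥ → fitCompl r H ≠ ⊥ := by
    intro r hr hFr hfc
    have hFH : fittingOf H = pCoreOf r H := by rw [fittingOf_eq_sup hr H, hfc, sup_bot_eq]
    have hEr : pCoreOf r H ≠ ⊥ := by
      rw [← hFH]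
      exact fittingOf_ne_bot hHsolv hHne
    obtain ⟨r', hr', hr'r, hFr'⟩ := hother r
    have h1 : pCoreOf r' M ≤ Subgroup.centralizer (pCoreOf r H : Set G) :=
      le_centralizer_symm (hA4 r r' hr hr' (Ne.symm hr'r))
    have h2 : Subgroup.centralizer (pCoreOf r H : Set G) ≤ H :=
      centralizer_le_of_isCoatom hG hH hEr (pCoreOf_le r H) (le_normalizer_pCoreOf r H)
    have h3 : pCoreOf r' M ≤ pCoreOf r H := by
      have h4 := inf_centralizer_fittingOf_le H hHsolv
      rw [hFH] at h4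
      exact (le_inf (h1.trans h2) h1).trans h4
    apply hFr'
    exact eq_bot_of_le_of_coprime h3
      (coprime_card_of_isPGroup hr' hr hr'r (isPGroup_pCoreOf r' M) (isPGroup_pCoreOf r H))
  have hA6 : ∀ r : ℕ, r.Prime → pCoreOf r M ≤ H := by
    intro r hr
    by_cases hFr : pCoreOf r M = ⊥
    · rw [hFr]
      exact bot_le
    · have h1 : pCoreOf r M ≤ Subgroup.centralizer (fitCompl r H : Set G) := by
        intro x hx
        rw [mem_centralizer_fitCompl_iff]
        intro q hq hqr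
        exact le_centralizer_symm (hA4 q r hq hr hqr) hx
      exact h1.trans (centralizer_le_of_isCoatom hG hH (hA5 r hr hFr) (fitCompl_le r H)
        (le_normalizer_fitCompl r H))
  exact ⟨⟨hA3, hA6, hA4⟩, hA5⟩

/-- **Bender's uniqueness theorem**, family form. -/
theorem uniqueness_of_family (hG : IsMinSimpleOddOrder G) {M : Subgroup G} (hM : IsCoatom M)
    (a : ℕ → Subgroup G)
    (ha1 : ∀ q : ℕ, q.Prime → a q ≤ pCoreOf q M)
    (ha2 : ∀ q : ℕ, q.Prime → pCoreOf q M ⊓ Subgroup.centralizer (a q : Set G) ≤ a q)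
    (hπ : ∃ q₁ q₂ : ℕ, q₁.Prime ∧ q₂.Prime ∧ q₁ ≠ q₂ ∧ pCoreOf q₁ M ≠ ⊥ ∧ pCoreOf q₂ M ≠ ⊥)
    (htriv : ∀ q : ℕ, q.Prime → pCoreOf q M = ⊥ → ∀ Y : Subgroup G, IsPGroup q Y →
      (∀ r : ℕ, r.Prime → a r ≤ Subgroup.normalizer (Y : Set G)) → Y = ⊥)
    {H : Subgroup G} (hH : IsCoatom H) (hAH : ∀ q : ℕ, q.Prime → a q ≤ H) : H = M := by
  by_contra hHM
  obtain ⟨q₁, q₂, hq₁, hq₂, hq₁₂, hF₁, hF₂⟩ := hπ
  have : Fact q₁.Prime := ⟨hq₁⟩
  obtain ⟨𝓗, h𝓗⟩ : ∃ 𝓗 : Set (Subgroup G),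
      𝓗 = {H | IsCoatom H ∧ (∀ q : ℕ, q.Prime → a q ≤ H) ∧ H ≠ M} := ⟨_, rfl⟩
  have hFc : fitCompl q₁ M ≠ ⊥ := by
    intro h
    apply hF₂
    rw [eq_bot_iff, ← h]
    exact pCoreOf_le_fitCompl hq₂ (Ne.symm hq₁₂) M
  have hempty : 𝓗 = ∅ := by
    apply no_linked_family hG hM hF₁ hFc 𝓗
    · intro H' hH'
      rw [h𝓗] at hH'
      obtain ⟨hH'c, hH'a, hH'M⟩ := hH'
      obtain ⟨hl, hfc⟩ := linked_of_family hG hM a ha1 ha2
        ⟨q₁, q₂, hq₁, hq₂, hq₁₂, hF₁, hF₂⟩ htriv hH'c hH'a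
      exact ⟨hH'c, hH'M, hl, hfc q₁ hq₁ hF₁⟩
    · intro T hTp hFT hTC L hL hNL
      by_cases hLM : L = M
      · exact Or.inl hLM
      · right
        rw [h𝓗]
        refine ⟨hL, ?_, hLM⟩
        intro q hq
        refine le_trans ?_ hNL
        by_cases hqp : q = q₁
        · rw [hqp]
          exact ((ha1 q₁ hq₁).trans hFT).trans Subgroup.le_normalizer
        · have h1 : a q ≤ fitCompl q₁ M := (ha1 q hq).trans (pCoreOf_le_fitCompl hq hqp M)
          exact (h1.trans (le_centralizer_symm hTC)).trans (Subgroup.centralizer_le_normalizer _)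
  have hmem : H ∈ 𝓗 := by
    rw [h𝓗]
    exact ⟨hH, hAH, hHM⟩
  rw [hempty] at hmem
  exact hmem

end Cfsg.Agent.Lib.Helper10.BG
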