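import Mathlib
import Cfsg.Prelude
import Cfsg.Agent.Lib.Helper10.BGBase
import Cfsg.Agent.Lib.Helper10.BGSylow
import Cfsg.Agent.Lib.Helper10.BGSolv
import Cfsg.Agent.Lib.Helper10.BGUniq
import Cfsg.Agent.Lib.Lead.BGTrans
import Cfsg.Agent.Lib.Lead.BGTrans5
import Cfsg.Agent.Lib.Helper17.SubnormalClosure

/-!
# The uniqueness theorem for subgroups of `F(M)` (Bender--Glauberman, Theorem 8.1)

From the transitivity theorems: the hypothesis of `uniqueness_of_family` on invariant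
`q`-subgroups holds as soon as the centre of `A` has rank at least three.
-/

set_option autoImplicit false
open Cfsg
open scoped commutatorElement Pointwise

namespace Cfsg.Agent.Lib.Helper10.BG

open Cfsg.Agent.Lib.Lead.Trans
open Cfsg.Agent.Lib.Lead.BGTrans
open Cfsg.Agent.Lib.Lead.BGTrans5
open Cfsg.Agent.Lib.Helper12 (IsPiNat)

variable {G : Type*} [Group G]

theorem commute_of_inf_eq_bot' {Y F : Subgroup G} {y x : G} (hy : y ∈ Y) (hx : x ∈ F)
    (hyF : y ∈ Subgroup.normalizer (F : Set G)) (hxY : x ∈ Subgroup.normalizer (Y : Set G))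
    (hinf : Y ⊓ F = ⊥) : y * x = x * y := by
  have h1 : y * x * y⁻¹ * x⁻¹ ∈ F :=
    F.mul_mem (conj_mem_of_mem_normalizer hyF hx) (F.inv_mem hx)
  have h2 : y * x * y⁻¹ * x⁻¹ ∈ Y := by
    have h3 : x * y⁻¹ * x⁻¹ ∈ Y := conj_mem_of_mem_normalizer hxY (Y.inv_mem hy)
    have h4 : y * x * y⁻¹ * x⁻¹ = y * (x * y⁻¹ * x⁻¹) := by group
    rw [h4]
    exact Y.mul_mem hy h3
  have h5 : y * x * y⁻¹ * x⁻¹ ∈ Y ⊓ F := ⟨h2, h1⟩
  rw [hinf, Subgroup.mem_bot] at h5
  calc y * x = (y * x * y⁻¹ * x⁻¹) * (x * y) := by group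
    _ = x * y := by rw [h5, one_mul]

variable [Finite G]

theorem dvd_card_of_pgroup_ne_bot {q : ℕ} [Fact q.Prime] {Z : Subgroup G} (hZ : IsPGroup q Z)
    (hZ1 : Z ≠ ⊥) : q ∣ Nat.card Z := by
  obtain ⟨k, hk⟩ := hZ.exists_card_eq
  have hk0 : k ≠ 0 := by
    rintro rfl
    rw [pow_zero] at hk
    exact hZ1 (Subgroup.card_eq_one.mp hk)
  rw [hk]
  exact dvd_pow_self q hk0

theorem exists_zpowers_of_dvd {q : ℕ} [Fact q.Prime] {Y : Subgroup G} (h : q ∣ Nat.card Y) :
    ∃ x ∈ Y, x ≠ 1 ∧ IsPGroup q (Subgroup.zpowers x) := by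
  obtain ⟨x, hx⟩ := exists_prime_orderOf_dvd_card' (G := Y) q h
  refine ⟨(x : G), x.2, ?_, ?_⟩
  · intro h1
    have h2 : x = 1 := Subtype.ext h1
    rw [h2, orderOf_one] at hx
    exact (Fact.out : q.Prime).one_lt.ne hx
  · apply IsPGroup.of_card (n := 1)
    rw [Nat.card_zpowers, pow_one, Subgroup.orderOf_coe, hx]

theorem pCoreOf_ne_bot_of_dvd_card {X Y : Subgroup G} (hY : Y ≤ fittingOf X) {q : ℕ}
    (hq : q.Prime) (h : q ∣ Nat.card Y) : pCoreOf q X ≠ ⊥ := by
  have : Fact q.Prime := ⟨hq⟩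
  obtain ⟨x, hxY, hx1, hxp⟩ := exists_zpowers_of_dvd h
  have h1 : Subgroup.zpowers x ≤ pCoreOf q X :=
    pgroup_le_pCoreOf_of_le_fittingOf hq (Subgroup.zpowers_le.mpr (hY hxY)) hxp
  intro hbot
  rw [hbot] at h1
  exact hx1 (Subgroup.mem_bot.mp (h1 (Subgroup.mem_zpowers x)))

/-- a subgroup of `F(X)` whose order is prime to the order of `F(X)`-primes is trivial. -/
theorem eq_bot_of_le_fittingOf_of_coprime {X Y : Subgroup G} (hY : Y ≤ fittingOf X)
    (h : ∀ q : ℕ, q.Prime → pCoreOf q X ≠ ⊥ → (Nat.card Y).Coprime q) : Y = ⊥ := by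
  by_contra hne
  have hcard : Nat.card Y ≠ 1 := fun h1 => hne (Subgroup.card_eq_one.mp h1)
  obtain ⟨q, hq, hqY⟩ := Nat.exists_prime_and_dvd hcard
  have h1 := h q hq (pCoreOf_ne_bot_of_dvd_card hY hq hqY)
  exact hq.one_lt.ne' (Nat.eq_one_of_dvd_coprimes h1 hqY (dvd_refl q))

section Family

variable (hG : IsMinSimpleOddOrder G) {M : Subgroup G} (hM : IsCoatom M) (a : ℕ → Subgroup G)
  (ha1 : ∀ q : ℕ, q.Prime → a q ≤ pCoreOf q M)
  (ha2 : ∀ q : ℕ, q.Prime → pCoreOf q M ⊓ Subgroup.centralizer (a q : Set G) ≤ a q)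

include ha1 in
theorem family_isPGroup {q : ℕ} (hq : q.Prime) : IsPGroup q (a q) :=
  (isPGroup_pCoreOf q M).to_le (ha1 q hq)

include ha1 ha2 in
theorem family_center_le {q : ℕ} (hq : q.Prime) :
    pCoreOf q M ⊓ Subgroup.centralizer (pCoreOf q M : Set G) ≤ a q :=
  (inf_le_inf le_rfl (Subgroup.centralizer_le (SetLike.coe_subset_coe.mpr (ha1 q hq)))).trans
    (ha2 q hq)

include ha1 ha2 in
theorem family_ne_bot {q : ℕ} (hq : q.Prime) (hF : pCoreOf q M ≠ ⊥) : a q ≠ ⊥ := by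
  have : Fact q.Prime := ⟨hq⟩
  intro h
  have h1 := family_center_le a ha1 ha2 hq
  rw [h] at h1
  exact inf_centralizer_ne_bot (isPGroup_pCoreOf q M) hF (le_bot_iff.mp h1)

include hG hM ha1 ha2 in
/-- balance: `O_r(M) ∩ X ≤ O_{q'}(X)` for proper `X ⊇ a q`, `q ≠ r`. -/
theorem family_balance {X : Subgroup G} (hX : X ≠ ⊤) {q r : ℕ} (hq : q.Prime) (hr : r.Prime)
    (hF : pCoreOf q M ≠ ⊥) (hqr : q ≠ r) (haX : a q ≤ X) : pCoreOf r M ⊓ X ≤ ppCoreOf q X := by
  have : Fact q.Prime := ⟨hq⟩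
  apply le_ppCoreOf_of_balance (isSolvable_of_ne_top hG hX) haX (family_isPGroup a ha1 hq)
    inf_le_right
  · intro w hw
    rw [Subgroup.mem_centralizer_iff]
    intro x hx
    exact commute_pCoreOf hq hr hqr M (ha1 q hq hx) hw.1
  · exact coprime_card_prime_of_isPGroup hq hr hqr ((isPGroup_pCoreOf r M).to_le inf_le_left)
  · apply le_normalizer_inf
    · exact (inf_le_right.trans (centralizer_le_of_family hG hM hq hF (ha1 q hq) (ha2 q hq))).trans
        (le_normalizer_pCoreOf r M)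
    · exact inf_le_left.trans Subgroup.le_normalizer

include hG hM ha1 ha2 in
/-- no nontrivial subgroup of `M` of order prime to `π(F(M))` is normalized by the family. -/
theorem family_invariant_eq_bot {Y : Subgroup G} (hYM : Y ≤ M)
    (hYn : ∀ q : ℕ, q.Prime → a q ≤ Subgroup.normalizer (Y : Set G))
    (hYc : ∀ q : ℕ, q.Prime → pCoreOf q M ≠ ⊥ → (Nat.card Y).Coprime q) : Y = ⊥ := by
  apply eq_bot_of_le_fittingOf_of_coprime (X := M) _ hYc
  refine le_trans ?_ (inf_centralizer_fittingOf_le M (isSolvable_of_ne_top hG hM.1))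
  apply le_inf hYM
  intro y hy
  rw [fittingOf_eq_iSup, mem_centralizer_iSup_iff]
  intro q
  by_cases hF : pCoreOf (q : ℕ) M = ⊥
  · rw [hF, Subgroup.mem_centralizer_iff]
    intro x hx
    rw [SetLike.mem_coe, Subgroup.mem_bot] at hx
    rw [hx, one_mul, mul_one]
  have hq : (q : ℕ).Prime := q.2
  have : Fact (q : ℕ).Prime := ⟨hq⟩
  have hinf : Y ⊓ pCoreOf (q : ℕ) M = ⊥ := by
    apply inf_eq_bot_of_coprime
    obtain ⟨k, hk⟩ := (isPGroup_pCoreOf (q : ℕ) M).exists_card_eq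
    rw [hk]
    exact Nat.Coprime.pow_right k (hYc q hq hF)
  have hYF : Y ≤ Subgroup.normalizer (pCoreOf (q : ℕ) M : Set G) :=
    hYM.trans (le_normalizer_pCoreOf q M)
  have hcomm : a q ≤ Subgroup.centralizer (Y : Set G) := by
    apply le_centralizer_of_commute
    intro x hx y' hy'
    exact (commute_of_inf_eq_bot' hy' (ha1 q hq hx) (hYF hy') (hYn q hq hx) hinf).symm
  have key : Y ≤ Subgroup.centralizer (pCoreOf (q : ℕ) M : Set G) := by
    refine Cfsg.Agent.Lib.Helper1.thompson_PxQ q (a q) Y (family_isPGroup a ha1 hq)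
      (hYc q hq hF) hcomm _ (pCoreOf (q : ℕ) M) rfl (isPGroup_pCoreOf q M) ?_ hYF ?_
    · exact ((ha1 q hq).trans (pCoreOf_le q M)).trans (le_normalizer_pCoreOf q M)
    · exact (ha2 q hq).trans hcomm
  exact key hy

end Family

section Trivial

/-- **Bender--Glauberman 7.3 + 7.5 applied to `F(M)`**: if `A ≤ F(M)` satisfies the transitivity
hypothesis, its centre has rank at least three, `C(A) ≤ M` and no nontrivial `A`-invariant
subgroup of `M` has order prime to `#A`, then `A` normalizes no nontrivial `q`-subgroup for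
`q ∤ #A`. -/
theorem invariant_pgroup_eq_bot (hG : IsMinSimpleOddOrder G) {M : Subgroup G} (hM : IsCoatom M)
    {A : Subgroup G} (hA : TransitivityHypothesis A)
    (hZ : ¬ RankLE 2 ↥(A ⊓ Subgroup.centralizer (A : Set G)))
    (hAF : A ≤ fittingOf M)
    (hπ : ∀ r : ℕ, r.Prime → r ∣ Nat.card (fittingOf M) → r ∣ Nat.card A)
    (hCA : Subgroup.centralizer (A : Set G) ≤ M)
    (hP4 : ∀ Y : Subgroup G, Y ≤ M → A ≤ Subgroup.normalizer (Y : Set G) →
      (Nat.card Y).Coprime (Nat.card A) → Y = ⊥)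
    {q : ℕ} (hq : q.Prime) (hqA : ¬ q ∣ Nat.card A) {Y : Subgroup G} (hY : IsPGroup q Y)
    (hAY : A ≤ Subgroup.normalizer (Y : Set G)) : Y = ⊥ := by
  have : Fact q.Prime := ⟨hq⟩
  have hqcop : ∀ Q : Subgroup G, IsPGroup q Q → (Nat.card Q).Coprime (Nat.card A) := by
    intro Q hQ
    obtain ⟨k, hk⟩ := hQ.exists_card_eq
    rw [hk]
    exact Nat.Coprime.pow_left k ((Nat.Prime.coprime_iff_not_dvd hq).mpr hqA)
  -- `O_{π'}(C(A)) = 1`
  have hK : piCoreOf (primesNotDvd (Nat.card A)) (Subgroup.centralizer (A : Set G)) = ⊥ := by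
    apply hP4
    · exact (piCoreOf_le _ _).trans hCA
    · exact (le_normalizer_centralizer Subgroup.le_normalizer).trans
        (normalizer_le_normalizer_piCoreOf _ _)
    · exact coprime_of_isPiNat_primesNotDvd (piCoreOf_isPiNat _ _)
  have huniq : ∀ Q₁ Q₂ : Subgroup G, MaxInv A q Q₁ → MaxInv A q Q₂ → Q₂ = Q₁ := by
    intro Q₁ Q₂ h₁ h₂
    obtain ⟨k, hk, hkQ⟩ := bg73 hG A hA hZ q hqA h₁ h₂
    rw [hK, Subgroup.mem_bot] at hk
    rw [hkQ, hk, map_one, one_smul]
  have htr : TransOn (primesNotDvd (Nat.card A)) A q := by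
    intro Q₁ Q₂ h₁ h₂
    exact bg73 hG A hA hZ q hqA h₁ h₂
  have hsn : (A.subgroupOf (fittingOf M)).IsSubnormal := by
    haveI : Group.IsNilpotent (fittingOf M) := isNilpotent_fittingOf M
    exact Cfsg.Agent.Lib.Helper17.isSubnormal_of_normalizerCondition
      Group.normalizerCondition_of_isNilpotent _ _ rfl
  have hFtop : fittingOf M ≠ ⊤ := ne_top_of_le_isCoatom hM (fittingOf_le M)
  obtain ⟨-, -, h75, -⟩ := bg75 hG A hA q hqA (fittingOf M) hFtop hπ hAF hsn htr
  obtain ⟨Q, hYQ, hQ⟩ := exists_maxInv A q (⟨hY, hAY⟩ : Inv A q Y)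
  obtain ⟨Q', -, hQ'⟩ := exists_maxInv (fittingOf M) q (inv_bot (fittingOf M) q)
  have hQQ' : Q' = Q := huniq Q Q' hQ (h75 Q' hQ')
  rw [hQQ'] at hQ'
  have hMQ : M ≤ Subgroup.normalizer (Q : Set G) := by
    intro g hg
    have h1 : MaxInv (fittingOf M) q (MulAut.conj g • Q) :=
      maxInv_conj_of_normalizer (le_normalizer_fittingOf M hg) hQ'
    have h2 : MulAut.conj g • Q = Q := huniq Q _ hQ (h75 _ h1)
    exact Cfsg.Agent.Lib.Helper1.conj_smul_eq_self_iff_mem_normalizer.mp h2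
  have hQbot : Q = ⊥ := by
    by_contra hne
    have hQtop : Q ≠ ⊤ := pgroup_ne_top hG.2 hQ.1.1
    have hN : Subgroup.normalizer (Q : Set G) = M := normalizer_eq_of_isCoatom hG hM hne hQtop hMQ
    have hQM : Q ≤ M := by
      rw [← hN]
      exact Subgroup.le_normalizer
    exact hne (hP4 Q hQM hQ.1.2 (hqcop Q hQ.1.1))
  rw [eq_bot_iff, ← hQbot]
  exact hYQ

end Trivial

section Main

variable (hG : IsMinSimpleOddOrder G) {M : Subgroup G} (hM : IsCoatom M) (a : ℕ → Subgroup G)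
  (ha1 : ∀ q : ℕ, q.Prime → a q ≤ pCoreOf q M)
  (ha2 : ∀ q : ℕ, q.Prime → pCoreOf q M ⊓ Subgroup.centralizer (a q : Set G) ≤ a q)
  (hπ : ∃ q₁ q₂ : ℕ, q₁.Prime ∧ q₂.Prime ∧ q₁ ≠ q₂ ∧ pCoreOf q₁ M ≠ ⊥ ∧ pCoreOf q₂ M ≠ ⊥)
  {A : Subgroup G} (hA : A = ⨆ q : Nat.Primes, a (q : ℕ))

include hA in
theorem family_le_sup {q : ℕ} (hq : q.Prime) : a q ≤ A := by
  rw [hA]
  exact le_iSup (fun r : Nat.Primes => a (r : ℕ)) ⟨q, hq⟩

include ha1 hA in
theorem family_sup_le_fittingOf : A ≤ fittingOf M := by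
  rw [hA]
  apply iSup_le
  intro q
  exact (ha1 q q.2).trans (pCoreOf_le_fittingOf q.2 M)

include ha1 hA in
theorem family_sup_le_normalizer {q : ℕ} (hq : q.Prime) :
    A ≤ Subgroup.normalizer (a q : Set G) := by
  rw [hA]
  apply iSup_le
  intro r
  by_cases hrq : (r : ℕ) = q
  · rw [hrq]
    exact Subgroup.le_normalizer
  · refine le_trans ?_ (Subgroup.centralizer_le_normalizer _)
    apply le_centralizer_of_commute
    intro x hx y hy
    exact commute_pCoreOf r.2 hq hrq M (ha1 r r.2 hx) (ha1 q hq hy)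

include ha1 ha2 hA in
theorem family_dvd_card_iff {q : ℕ} (hq : q.Prime) : q ∣ Nat.card A ↔ pCoreOf q M ≠ ⊥ := by
  have : Fact q.Prime := ⟨hq⟩
  constructor
  · intro h
    exact pCoreOf_ne_bot_of_dvd_card (family_sup_le_fittingOf a ha1 hA) hq h
  · intro hF
    exact (dvd_card_of_pgroup_ne_bot (family_isPGroup a ha1 hq)
      (family_ne_bot a ha1 ha2 hq hF)).trans (Subgroup.card_dvd_of_le (family_le_sup a hA hq))

include hG hM ha1 ha2 hA in
theorem family_sup_invariant_eq_bot {Y : Subgroup G} (hYM : Y ≤ M)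
    (hAY : A ≤ Subgroup.normalizer (Y : Set G)) (hYc : (Nat.card Y).Coprime (Nat.card A)) :
    Y = ⊥ := by
  apply family_invariant_eq_bot hG hM a ha1 ha2 hYM
  · intro q hq
    exact (family_le_sup a hA hq).trans hAY
  · intro q hq hF
    exact Nat.Coprime.coprime_dvd_right ((family_dvd_card_iff a ha1 ha2 hA hq).mpr hF) hYc

include hG hM ha1 ha2 hπ hA in
/-- the transitivity hypothesis holds for the join of the family. -/
theorem family_transitivityHypothesis : TransitivityHypothesis A := by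
  obtain ⟨q₁, q₂, hq₁, hq₂, hq₁₂, hF₁, hF₂⟩ := hπ
  have hAF := family_sup_le_fittingOf a ha1 hA
  have hAM : A ≤ M := hAF.trans (fittingOf_le M)
  have hother : ∀ q : ℕ, ∃ r : ℕ, r.Prime ∧ r ≠ q ∧ pCoreOf r M ≠ ⊥ := by
    intro q
    by_cases h : q = q₁
    · exact ⟨q₂, hq₂, by rw [h]; exact Ne.symm hq₁₂, hF₂⟩
    · exact ⟨q₁, hq₁, Ne.symm h, hF₁⟩
  refine ⟨?_, ne_top_of_le_isCoatom hM hAM, ?_⟩
  · intro h
    apply family_ne_bot a ha1 ha2 hq₁ hF₁
    rw [eq_bot_iff, ← h]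
    exact family_le_sup a hA hq₁
  intro X hX hAX
  apply le_antisymm
  · apply sSup_le
    rintro Y ⟨hYX, hYpi, hAY⟩
    have hYcop : (Nat.card Y).Coprime (Nat.card A) := coprime_of_isPiNat_primesNotDvd hYpi
    -- `Y ≤ O_{q'}(X)` for every prime `q` of `F(M)`
    have hkey : ∀ q : ℕ, q.Prime → pCoreOf q M ≠ ⊥ → Y ≤ ppCoreOf q X := by
      intro q hq hF
      obtain ⟨r, hr, hrq, hFr⟩ := hother q
      have har : a r ≤ ppCoreOf q X :=
        (le_inf (ha1 r hr) ((family_le_sup a hA hr).trans hAX)).trans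
          (family_balance hG hM a ha1 ha2 hX hq hr hF (Ne.symm hrq)
            ((family_le_sup a hA hq).trans hAX))
      have hact : Cfsg.Agent.Lib.Helper1.CoprimeAct (a r) Y :=
        { norm := (family_le_sup a hA hr).trans hAY
          cop := Nat.Coprime.coprime_dvd_left
            (Subgroup.card_dvd_of_le (family_le_sup a hA hr)) hYcop.symm
          solv := Or.inl (by
            have : Fact r.Prime := ⟨hr⟩
            have := (family_isPGroup a ha1 hr).isNilpotent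
            infer_instance) }
      have hcent : Y ⊓ Subgroup.centralizer (a r : Set G) = ⊥ := by
        apply family_sup_invariant_eq_bot hG hM a ha1 ha2 hA
        · exact inf_le_right.trans
            (centralizer_le_of_family hG hM hr hFr (ha1 r hr) (ha2 r hr))
        · exact le_normalizer_inf hAY
            (le_normalizer_centralizer (family_sup_le_normalizer a ha1 hA hr))
        · exact Nat.Coprime.coprime_dvd_left (Subgroup.card_dvd_of_le inf_le_left) hYcop
      have hYeq := hact.commutator_sup_centralizer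
      rw [hcent, sup_bot_eq] at hYeq
      rw [← hYeq, Subgroup.commutator_le]
      intro y hy x hx
      rw [commutatorElement_def]
      have hyN : y ∈ Subgroup.normalizer (ppCoreOf q X : Set G) :=
        le_normalizer_ppCoreOf q X (hYX hy)
      exact (ppCoreOf q X).mul_mem (conj_mem_of_mem_normalizer hyN (har hx))
        ((ppCoreOf q X).inv_mem (har hx))
    -- the intersection of these cores
    obtain ⟨D, hD⟩ : ∃ D : Subgroup G, D = ⨅ (q : ℕ) (_ : q.Prime ∧ pCoreOf q M ≠ ⊥),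
        ppCoreOf q X := ⟨_, rfl⟩
    have hDmem : ∀ w : G, w ∈ D ↔ ∀ q : ℕ, q.Prime → pCoreOf q M ≠ ⊥ → w ∈ ppCoreOf q X := by
      intro w
      rw [hD]
      simp only [Subgroup.mem_iInf]
      constructor
      · intro h q hq hF
        exact h q ⟨hq, hF⟩
      · intro h q hq
        exact h q hq.1 hq.2
    have hYD : Y ≤ D := fun y hy => (hDmem y).mpr (fun q hq hF => hkey q hq hF hy)
    refine hYD.trans ?_
    apply le_piCoreOf
    · intro w hw
      exact ppCoreOf_le q₁ X ((hDmem w).mp hw q₁ hq₁ hF₁)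
    · intro x hx w hw
      rw [hDmem] at hw ⊢
      intro q hq hF
      exact conj_mem_of_mem_normalizer (le_normalizer_ppCoreOf q X hx) (hw q hq hF)
    · intro r hr hrD
      refine ⟨hr, ?_⟩
      intro hrA
      have hFr := (family_dvd_card_iff a ha1 ha2 hA hr).mp hrA
      have hDr : D ≤ ppCoreOf r X := fun w hw => (hDmem w).mp hw r hr hFr
      have h1 : r ∣ Nat.card (ppCoreOf r X) := hrD.trans (Subgroup.card_dvd_of_le hDr)
      have h2 := coprime_card_ppCoreOf r X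
      exact hr.one_lt.ne' (Nat.eq_one_of_dvd_coprimes h2 h1 (dvd_refl r))
  · apply le_sSup
    exact ⟨piCoreOf_le _ X, piCoreOf_isPiNat _ X, hAX.trans (le_normalizer_piCoreOf _ X)⟩

include hG hM ha1 ha2 hπ hA in
/-- **Bender--Glauberman, Theorem 8.1(a)**, family form: if `F(M)` is not of prime power order,
`A` is the join of the family and `Z(A)` has rank at least three, then `M` is the only maximal
subgroup containing `A`. -/
theorem eq_of_isCoatom_of_family (hZ : ¬ RankLE 2 ↥(A ⊓ Subgroup.centralizer (A : Set G)))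
    {H : Subgroup G} (hH : IsCoatom H) (hAH : A ≤ H) : H = M := by
  have hTH := family_transitivityHypothesis hG hM a ha1 ha2 hπ hA
  have hAF := family_sup_le_fittingOf a ha1 hA
  obtain ⟨q₁, q₂, hq₁, hq₂, hq₁₂, hF₁, hF₂⟩ := hπ
  have hCA : Subgroup.centralizer (A : Set G) ≤ M :=
    (Subgroup.centralizer_le (SetLike.coe_subset_coe.mpr (family_le_sup a hA hq₁))).trans
      (centralizer_le_of_family hG hM hq₁ hF₁ (ha1 q₁ hq₁) (ha2 q₁ hq₁))
  apply uniqueness_of_family hG hM a ha1 ha2 ⟨q₁, q₂, hq₁, hq₂, hq₁₂, hF₁, hF₂⟩ _ hH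
    (fun q hq => (family_le_sup a hA hq).trans hAH)
  intro q hq hF Y hY hYn
  have hqA : ¬ q ∣ Nat.card A := fun h => (family_dvd_card_iff a ha1 ha2 hA hq).mp h hF
  apply invariant_pgroup_eq_bot hG hM hTH hZ hAF _ hCA _ hq hqA hY
  · rw [hA]
    exact iSup_le (fun r => hYn r r.2)
  · intro r hr hrd
    exact (family_dvd_card_iff a ha1 ha2 hA hr).mpr (pCoreOf_ne_bot_of_dvd_card le_rfl hr hrd)
  · intro Y' hY'M hAY' hY'c
    exact family_sup_invariant_eq_bot hG hM a ha1 ha2 hA hY'M hAY' hY'c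

end Main

end Cfsg.Agent.Lib.Helper10.BG
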