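import Mathlib
import Cfsg.Prelude
import Cfsg.Agent.Lib.Helper10.BGBase
import Cfsg.Agent.Lib.Helper10.BGSylow
import Cfsg.Agent.Lib.Helper10.BGSolv
import Cfsg.Agent.Lib.Helper10.BGUniq
import Cfsg.Agent.Lib.Helper10.BGUniq2
import Cfsg.Agent.Lib.Lead.BGTransHyp

/-!
# The uniqueness theorem when `F(M)` is a `p`-group (Bender--Glauberman, Theorem 8.1(b))
-/

set_option autoImplicit false
open Cfsg
open scoped commutatorElement Pointwise

namespace Cfsg.Agent.Lib.Helper10.BG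

variable {G : Type*} [Group G] [Finite G]

section Rank

omit [Finite G] in
theorem not_pRankLE_of_le {p k : ℕ} {B X : Subgroup G} (hBX : B ≤ X)
    (hBe : IsElementaryAbelian p B) (hcard : p ^ k < Nat.card B) : ¬ PRankLE p k ↥X := by
  intro h
  have h1 := h (B.subgroupOf X) (by
      obtain ⟨hc, -⟩ := hBe
      refine ⟨⟨?_⟩⟩
      rintro ⟨a, ha⟩ ⟨b, hb⟩
      apply Subtype.ext
      apply Subtype.ext
      have := hc.is_comm.comm ⟨(a : G), ha⟩ ⟨(b : G), hb⟩
      show (a : G) * (b : G) = (b : G) * (a : G)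
      exact congrArg Subtype.val this)
    (by
      intro v hv
      apply Subtype.ext
      exact hBe.2 (v : G) hv)
  rw [card_subgroupOf_of_le hBX] at h1
  omega

omit [Finite G] in
theorem not_rankLE_of_le {p k : ℕ} (hp : p.Prime) {B X : Subgroup G} (hBX : B ≤ X)
    (hBe : IsElementaryAbelian p B) (hcard : p ^ k < Nat.card B) : ¬ RankLE k ↥X :=
  fun h => not_pRankLE_of_le hBX hBe hcard (h p hp)

theorem ne_bot_of_not_pRankLE {p k : ℕ} (hp : p.Prime) {A : Subgroup G}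
    (h : ¬ PRankLE p k ↥A) : A ≠ ⊥ := by
  rintro rfl
  apply h
  intro B _ _
  calc Nat.card B ≤ Nat.card (⊥ : Subgroup G) := Subgroup.card_le_card_group B
    _ = 1 := Subgroup.card_bot
    _ ≤ p ^ k := Nat.one_le_pow _ _ hp.pos

omit [Finite G] in
theorem pRankLE_mono {p k l : ℕ} (hp : p.Prime) (hkl : k ≤ l) {X : Type*} [Group X]
    (h : PRankLE p k X) : PRankLE p l X := by
  intro B hB hBp
  exact (h B hB hBp).trans (Nat.pow_le_pow_right hp.pos hkl)

end Rank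

section FittingPGroup

theorem fitCompl_eq_bot_of_isPGroup {p : ℕ} (hp : p.Prime) {X : Subgroup G}
    (hFp : IsPGroup p ↥(fittingOf X)) : fitCompl p X = ⊥ := by
  rw [eq_bot_iff]
  apply fitCompl_le_of
  intro q hq hqp
  rw [le_bot_iff]
  exact eq_bot_of_le_of_coprime (pCoreOf_le_fittingOf hq X)
    (coprime_card_of_isPGroup hq hp hqp (isPGroup_pCoreOf q X) hFp)

theorem fittingOf_eq_pCoreOf_of_fitCompl_eq_bot {p : ℕ} (hp : p.Prime) {X : Subgroup G}
    (h : fitCompl p X = ⊥) : fittingOf X = pCoreOf p X := by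
  rw [fittingOf_eq_sup hp X, h, sup_bot_eq]

theorem ppCoreOf_eq_bot_of_fitCompl_eq_bot {p : ℕ} [Fact p.Prime] {X : Subgroup G}
    (hX : Group.IsSolvable X) (h : fitCompl p X = ⊥) : ppCoreOf p X = ⊥ := by
  have hp : p.Prime := Fact.out
  have hF := fittingOf_eq_pCoreOf_of_fitCompl_eq_bot hp h
  have h1 : ppCoreOf p X ≤ pCoreOf p X := by
    rw [← hF]
    refine le_trans ?_ (inf_centralizer_fittingOf_le X hX)
    apply le_inf (ppCoreOf_le p X)
    rw [hF]
    apply le_centralizer_of_commute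
    intro x hx y hy
    exact (commute_pCoreOf_ppCoreOf p X hy hx).symm
  rw [eq_bot_iff, ← inf_pCoreOf_ppCoreOf p X]
  exact le_inf h1 le_rfl

/-- if `O_{p'}(M) = 1`, a maximal `p`-subgroup of the maximal subgroup `M` is a Sylow subgroup of
the whole group, and `M = N(Z(L(S)))`. -/
theorem isSylowIn_top_of_ppCoreOf_eq_bot (hG : IsMinSimpleOddOrder G) {M S : Subgroup G}
    (hM : IsCoatom M) {p : ℕ} [Fact p.Prime] (hS : IsSylowIn p S M) (hS1 : S ≠ ⊥)
    (h : ppCoreOf p M = ⊥) :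
    Subgroup.normalizer (puigZ S : Set G) = M ∧ IsSylowIn p S ⊤ := by
  have hN : Subgroup.normalizer (puigZ S : Set G) = M :=
    normalizer_puigZ_eq hG hM hS hS1 (by rw [h]; exact bot_le)
  refine ⟨hN, ?_⟩
  apply IsSylowIn.of_normalizer_le le_top hS.isPGroup
  intro x _ hxN hxp
  have hxM : x ∈ M := by
    rw [← hN]
    exact normalizer_le_normalizer_puigZ S hxN
  have h3 := hS.eq_of_le (sup_le hS.le (Subgroup.zpowers_le.mpr hxM)) hxp le_sup_left
  rw [← h3]
  exact Subgroup.mem_sup_right (Subgroup.mem_zpowers x)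

/-- a nontrivial `p`-subgroup all of whose maximal overgroups have trivial `O_{p'}` lies in a
unique maximal subgroup. -/
theorem eq_of_isCoatom_of_ppCoreOf_eq_bot (hG : IsMinSimpleOddOrder G) {M : Subgroup G}
    (hM : IsCoatom M) {p : ℕ} [Fact p.Prime] {A : Subgroup G} (hA1 : A ≠ ⊥) (hAp : IsPGroup p A)
    (hAM : A ≤ M)
    (hall : ∀ H : Subgroup G, IsCoatom H → A ≤ H → ppCoreOf p H = ⊥)
    {H : Subgroup G} (hH : IsCoatom H) (hAH : A ≤ H) : H = M := by
  by_contra hHM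
  obtain ⟨S, hS⟩ : ∃ S : Set (Subgroup G × Subgroup G),
      S = {x | IsCoatom x.1 ∧ x.1 ≠ M ∧ A ≤ x.2 ∧ x.2 ≤ x.1 ∧ x.2 ≤ M ∧ IsPGroup p x.2} :=
    ⟨_, rfl⟩
  have hSne : Nonempty S := by
    refine ⟨⟨(H, A), ?_⟩⟩
    rw [hS]
    exact ⟨hH, hHM, le_rfl, hAH, hAM, hAp⟩
  obtain ⟨⟨⟨H', R⟩, hHR⟩, hmax⟩ := Finite.exists_max (fun x : S => Nat.card x.1.2)
  have hHR' : IsCoatom H' ∧ H' ≠ M ∧ A ≤ R ∧ R ≤ H' ∧ R ≤ M ∧ IsPGroup p R := by
    rw [hS] at hHR
    exact hHR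
  obtain ⟨hH'c, hH'M, hAR, hRH, hRM, hRp⟩ := hHR'
  have hmax' : ∀ L R' : Subgroup G, IsCoatom L → L ≠ M → A ≤ R' → R' ≤ L → R' ≤ M →
      IsPGroup p R' → Nat.card R' ≤ Nat.card R := by
    intro L R' a b c d e f
    have hmem : (L, R') ∈ S := by
      rw [hS]
      exact ⟨a, b, c, d, e, f⟩
    exact hmax ⟨(L, R'), hmem⟩
  have hR1 : R ≠ ⊥ := by
    intro h
    apply hA1
    rw [eq_bot_iff, ← h]
    exact hAR
  obtain ⟨S₁, hS₁, hRS₁⟩ := exists_isSylowIn_ge hRM hRp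
  have hS₁1 : S₁ ≠ ⊥ := by
    intro h
    apply hR1
    rw [eq_bot_iff, ← h]
    exact hRS₁
  obtain ⟨hNM, hS₁top⟩ := isSylowIn_top_of_ppCoreOf_eq_bot hG hM hS₁ hS₁1 (hall M hM hAM)
  have hH'0 : ppCoreOf p H' = ⊥ := hall H' hH'c (hAR.trans hRH)
  by_cases hRS : IsSylowIn p R S₁
  · have h3 : S₁ = R := hRS.eq_of_le le_rfl hS₁.isPGroup hRS₁
    rw [h3] at hS₁top hNM
    have hRH' : IsSylowIn p R H' := hS₁top.of_le hRH le_top
    have hNH : Subgroup.normalizer (puigZ R : Set G) = H' :=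
      normalizer_puigZ_eq hG hH'c hRH' hR1 (by rw [hH'0]; exact bot_le)
    exact hH'M (hNH.symm.trans hNM)
  · obtain ⟨x, hxS, hxN, hxR, -⟩ := exists_normalizer_gt hRS₁ hRp hRS
    obtain ⟨R₁, hR₁⟩ : ∃ R₁ : Subgroup G, R₁ = R ⊔ Subgroup.zpowers x := ⟨_, rfl⟩
    have hRR₁ : R ≤ R₁ := by rw [hR₁]; exact le_sup_left
    have hR₁S : R₁ ≤ S₁ := by
      rw [hR₁]
      exact sup_le hRS₁ (Subgroup.zpowers_le.mpr hxS)
    have hR₁p : IsPGroup p R₁ := hS₁.isPGroup.to_le hR₁S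
    have hR₁M : R₁ ≤ M := hR₁S.trans hS₁.le
    have hR₁N : R₁ ≤ Subgroup.normalizer (R : Set G) := by
      rw [hR₁]
      exact sup_le Subgroup.le_normalizer (Subgroup.zpowers_le.mpr hxN)
    have hlt : Nat.card R < Nat.card R₁ := by
      by_contra hle
      push Not at hle
      have h3 : R = R₁ := Subgroup.eq_of_le_of_card_ge hRR₁ hle
      apply hxR
      rw [h3, hR₁]
      exact Subgroup.mem_sup_right (Subgroup.mem_zpowers x)
    have hRtop : R ≠ ⊤ := ne_top_of_le_isCoatom hM hRM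
    have hNR : Subgroup.normalizer (R : Set G) ≠ ⊤ :=
      Cfsg.Agent.Lib.Lead.BGTrans.normalizer_ne_top hG.2 hR1 hRtop
    obtain ⟨L, hL, hNL⟩ := exists_isCoatom_ge hNR
    have hLM : L = M := by
      by_contra hLM
      have h3 := hmax' L R₁ hL hLM (hAR.trans hRR₁) (hR₁N.trans hNL) hR₁M hR₁p
      omega
    rw [hLM] at hNL
    have hRH' : IsSylowIn p R H' := by
      apply IsSylowIn.of_normalizer_le hRH hRp
      intro y hyH hyN hyp
      have hyM : y ∈ M := hNL hyN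
      have h3 := hmax' H' (R ⊔ Subgroup.zpowers y) hH'c hH'M (hAR.trans le_sup_left)
        (sup_le hRH (Subgroup.zpowers_le.mpr hyH)) (sup_le hRM (Subgroup.zpowers_le.mpr hyM)) hyp
      have h4 : R = R ⊔ Subgroup.zpowers y := Subgroup.eq_of_le_of_card_ge le_sup_left h3
      rw [h4]
      exact Subgroup.mem_sup_right (Subgroup.mem_zpowers y)
    have hNH : Subgroup.normalizer (puigZ R : Set G) = H' :=
      normalizer_puigZ_eq hG hH'c hRH' hR1 (by rw [hH'0]; exact bot_le)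
    have hR₁H : R₁ ≤ H' := by
      rw [← hNH]
      exact hR₁N.trans (normalizer_le_normalizer_puigZ R)
    have h3 := hmax' H' R₁ hH'c hH'M (hAR.trans hRR₁) hR₁H hR₁M hR₁p
    omega

variable (hG : IsMinSimpleOddOrder G) {M : Subgroup G} (hM : IsCoatom M) {p : ℕ} [Fact p.Prime]
  (hFp : IsPGroup p ↥(fittingOf M)) (hM1 : M ≠ ⊥)

include hG hM hFp hM1 in
/-- **Bender--Glauberman 8.1(b)**, first part. -/
theorem sylow_of_fitting_pgroup {S : Subgroup G} (hS : IsSylowIn p S M) : IsSylowIn p S ⊤ := by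
  have hp : p.Prime := Fact.out
  have hMsolv := isSolvable_of_ne_top hG hM.1
  have hcompl := fitCompl_eq_bot_of_isPGroup hp hFp
  have hF := fittingOf_eq_pCoreOf_of_fitCompl_eq_bot hp hcompl
  have hM0 := ppCoreOf_eq_bot_of_fitCompl_eq_bot hMsolv hcompl
  have hS1 : S ≠ ⊥ := by
    intro h
    apply fittingOf_ne_bot hMsolv hM1
    rw [hF, eq_bot_iff, ← h]
    exact hS.pCoreOf_le
  exact (isSylowIn_top_of_ppCoreOf_eq_bot hG hM hS hS1 hM0).2

include hG hM hFp in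
/-- **Bender--Glauberman 8.1(b)**, second part. -/
theorem scn_of_fitting_pgroup {S A : Subgroup G} (hS : IsSylowIn p S M) (hSCN : IsSCN S A)
    (hA3 : ¬ PRankLE p 2 ↥A) :
    A ≤ fittingOf M ∧ ∀ H : Subgroup G, IsCoatom H → A ≤ H → H = M := by
  have hp : p.Prime := Fact.out
  obtain ⟨hAS, hSN, hSC⟩ := hSCN
  have hA1 : A ≠ ⊥ := ne_bot_of_not_pRankLE hp hA3
  have hAp : IsPGroup p A := hS.isPGroup.to_le hAS
  have hp2 : p ≠ 2 := prime_ne_two_of_pgroup hG hAp hA1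
  have hAM : A ≤ M := hAS.trans hS.le
  have hM1 : M ≠ ⊥ := by
    intro h
    apply hA1
    rw [eq_bot_iff, ← h]
    exact hAM
  have hMsolv := isSolvable_of_ne_top hG hM.1
  have hcompl := fitCompl_eq_bot_of_isPGroup hp hFp
  have hF := fittingOf_eq_pCoreOf_of_fitCompl_eq_bot hp hcompl
  have hM0 := ppCoreOf_eq_bot_of_fitCompl_eq_bot hMsolv hcompl
  have hF1 : pCoreOf p M ≠ ⊥ := by
    rw [← hF]
    exact fittingOf_ne_bot hMsolv hM1
  have hS1 : S ≠ ⊥ := by
    intro h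
    apply hA1
    rw [eq_bot_iff, ← h]
    exact hAS
  obtain ⟨-, hStop⟩ := isSylowIn_top_of_ppCoreOf_eq_bot hG hM hS hS1 hM0
  have hAC : A ≤ Subgroup.centralizer (A : Set G) := by
    intro x hx
    have h1 : x ∈ S ⊓ Subgroup.centralizer (A : Set G) := by rw [hSC]; exact hx
    exact h1.2
  have hAcomm : ∀ x ∈ A, ∀ y ∈ A, x * y = y * x := by
    intro x hx y hy
    exact (Subgroup.mem_centralizer_iff.mp (hAC hy) x hx)
  have hAF : A ≤ pCoreOf p M :=
    le_pCoreOf_of_abelian hp2 hMsolv (odd_card_subgroup hG M) hM0 hAM hAcomm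
      (hS.pCoreOf_le.trans hSN)
  have hAF' : A ≤ fittingOf M := by rw [hF]; exact hAF
  refine ⟨hAF', ?_⟩
  -- the transitivity hypothesis
  have hpG : p ∣ Nat.card G :=
    (dvd_card_of_pgroup_ne_bot hAp hA1).trans (Subgroup.card_subgroup_dvd_card A)
  have hTH : TransitivityHypothesis A := by
    apply Cfsg.Agent.Lib.Lead.BGTransHyp.transitivityHypothesis_of_omega hG p hpG A hAp hA1
    intro y hy hyo
    exact Cfsg.Agent.Lib.Lead.BGTransHyp.mem_of_scn hStop.toSylowTop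
      (by rw [hStop.coe_toSylowTop]; exact ⟨hAS, hSN, hSC⟩) hy hyo
  have hFCA : pCoreOf p M ⊓ Subgroup.centralizer (A : Set G) ≤ A := by
    intro x hx
    have h1 : x ∈ S ⊓ Subgroup.centralizer (A : Set G) := ⟨hS.pCoreOf_le hx.1, hx.2⟩
    rw [hSC] at h1
    exact h1
  have hCA : Subgroup.centralizer (A : Set G) ≤ M :=
    centralizer_le_of_family hG hM hp hF1 hAF hFCA
  have hcopA : ∀ Y : Subgroup G, (Nat.card Y).Coprime (Nat.card A) → (Nat.card Y).Coprime p := by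
    intro Y hY
    exact Nat.Coprime.coprime_dvd_right (dvd_card_of_pgroup_ne_bot hAp hA1) hY
  have hP4 : ∀ Y : Subgroup G, Y ≤ M → A ≤ Subgroup.normalizer (Y : Set G) →
      (Nat.card Y).Coprime (Nat.card A) → Y = ⊥ := by
    intro Y hYM hAY hYc
    have hYp := hcopA Y hYc
    have hinf : Y ⊓ pCoreOf p M = ⊥ := by
      apply inf_eq_bot_of_coprime
      obtain ⟨k, hk⟩ := (isPGroup_pCoreOf p M).exists_card_eq
      rw [hk]
      exact Nat.Coprime.pow_right k hYp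
    have hYF : Y ≤ Subgroup.normalizer (pCoreOf p M : Set G) :=
      hYM.trans (le_normalizer_pCoreOf p M)
    have hcomm : A ≤ Subgroup.centralizer (Y : Set G) := by
      apply le_centralizer_of_commute
      intro x hx y' hy'
      exact (commute_of_inf_eq_bot' hy' (hAF hx) (hYF hy') (hAY hx) hinf).symm
    have key : Y ≤ Subgroup.centralizer (pCoreOf p M : Set G) := by
      refine Cfsg.Agent.Lib.Helper1.thompson_PxQ p A Y hAp hYp hcomm _ (pCoreOf p M) rfl
        (isPGroup_pCoreOf p M) ?_ hYF ?_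
      · exact hAM.trans (le_normalizer_pCoreOf p M)
      · exact hFCA.trans hcomm
    have h1 : Y ≤ pCoreOf p M := by
      rw [← hF]
      refine le_trans ?_ (inf_centralizer_fittingOf_le M hMsolv)
      rw [hF]
      exact le_inf hYM key
    rw [eq_bot_iff, ← hinf]
    exact le_inf le_rfl h1
  have hZ : ¬ RankLE 2 ↥(A ⊓ Subgroup.centralizer (A : Set G)) := by
    rw [inf_of_le_left hAC]
    exact fun h => hA3 (h p hp)
  have hπ : ∀ r : ℕ, r.Prime → r ∣ Nat.card (fittingOf M) → r ∣ Nat.card A := by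
    intro r hr hrd
    obtain ⟨k, hk⟩ := hFp.exists_card_eq
    rw [hk] at hrd
    have hrp : r = p := (Nat.prime_dvd_prime_iff_eq hr hp).mp (hr.dvd_of_dvd_pow hrd)
    rw [hrp]
    exact dvd_card_of_pgroup_ne_bot hAp hA1
  have htriv : ∀ q : ℕ, q.Prime → q ≠ p → ∀ Y : Subgroup G, IsPGroup q Y →
      A ≤ Subgroup.normalizer (Y : Set G) → Y = ⊥ := by
    intro q hq hqp Y hY hAY
    have hqA : ¬ q ∣ Nat.card A := by
      intro h
      obtain ⟨k, hk⟩ := hAp.exists_card_eq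
      rw [hk] at h
      exact hqp ((Nat.prime_dvd_prime_iff_eq hq hp).mp (hq.dvd_of_dvd_pow h))
    exact invariant_pgroup_eq_bot hG hM hTH hZ hAF' hπ hCA hP4 hq hqA hY hAY
  intro H hH hAH
  apply eq_of_isCoatom_of_ppCoreOf_eq_bot hG hM hA1 hAp hAM _ hH hAH
  intro L hL hAL
  apply ppCoreOf_eq_bot_of_fitCompl_eq_bot (isSolvable_of_ne_top hG hL.1)
  rw [eq_bot_iff]
  apply fitCompl_le_of
  intro q hq hqp
  rw [le_bot_iff]
  exact htriv q hq hqp _ (isPGroup_pCoreOf q L) (hAL.trans (le_normalizer_pCoreOf q L))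

end FittingPGroup

end Cfsg.Agent.Lib.Helper10.BG
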