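import Mathlib
import Cfsg.Agent.Lib.Helper10.DihedralRecog
import Cfsg.Agent.Lib.Helper10.CNGroup
import Cfsg.Agent.Lib.Helper1.Fitting
import Cfsg.Agent.Lib.Helper1.Frattini

set_option autoImplicit false

namespace Cfsg.Agent.Lib.Helper10

open scoped commutatorElement

/-- an element of odd order whose square is trivial is trivial -/
theorem eq_one_of_sq_eq_one_of_odd {G : Type*} [Group G] [Finite G] (L : Subgroup G)
    (hodd : Odd (Nat.card ↥L)) {f : G} (hf : f ∈ L) (h2 : f * f = 1) : f = 1 := by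
  have h1 : orderOf f ∣ 2 := orderOf_dvd_of_pow_eq_one (by rw [pow_two, h2])
  have h3 : orderOf f ∣ Nat.card ↥L := Subgroup.orderOf_dvd_natCard L hf
  have h4 : orderOf f ∣ Nat.gcd 2 (Nat.card ↥L) := Nat.dvd_gcd h1 h3
  have h5 : Nat.gcd 2 (Nat.card ↥L) = 1 := Nat.coprime_two_left.mpr hodd
  rw [h5] at h4
  exact orderOf_eq_one_iff.mp (Nat.dvd_one.mp h4)

/-- **descent of faithfulness**: an involution normalizing the odd order group `L` and centralizing
a normal subgroup `N` of `L` with `C_L(N) ≤ N` centralizes `L`. -/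
theorem involution_centralizes_of_centralizes {G : Type*} [Group G] [Finite G] (L N : Subgroup G)
    (hLN : L ≤ Subgroup.normalizer (N : Set G))
    (hcent : L ⊓ Subgroup.centralizer (N : Set G) ≤ N)
    (hodd : Odd (Nat.card ↥L)) (a : G) (ha2 : a * a = 1)
    (haL : a ∈ Subgroup.normalizer (L : Set G))
    (haN : ∀ f ∈ N, a * f = f * a) : ∀ l ∈ L, a * l = l * a := by
  have hainv : a⁻¹ = a := inv_eq_of_mul_eq_one_left ha2
  intro l hl
  have halL : a * l * a⁻¹ ∈ L := (Subgroup.mem_normalizer_iff.mp haL l).mp hl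
  have hfL : l⁻¹ * (a * l * a⁻¹) ∈ L := L.mul_mem (L.inv_mem hl) halL
  have hconjN : ∀ g ∈ N, l * g * l⁻¹ ∈ N := fun g hg =>
    (Subgroup.mem_normalizer_iff.mp (hLN hl) g).mp hg
  have hfC : l⁻¹ * (a * l * a⁻¹) ∈ Subgroup.centralizer (N : Set G) := by
    rw [Subgroup.mem_centralizer_iff]
    intro g hg
    have h1 : a⁻¹ * g * a = g := by
      have := haN g hg
      calc a⁻¹ * g * a = a⁻¹ * (g * a) := by group
        _ = a⁻¹ * (a * g) := by rw [this]
        _ = g := by group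
    have h2 : a * (l * g * l⁻¹) * a⁻¹ = l * g * l⁻¹ := by
      have := haN _ (hconjN g hg)
      calc a * (l * g * l⁻¹) * a⁻¹ = (a * (l * g * l⁻¹)) * a⁻¹ := by group
        _ = ((l * g * l⁻¹) * a) * a⁻¹ := by rw [this]
        _ = l * g * l⁻¹ := by group
    symm
    calc l⁻¹ * (a * l * a⁻¹) * g
        = l⁻¹ * (a * (l * (a⁻¹ * g * a) * l⁻¹) * a⁻¹) * (a * l * a⁻¹) := by group
      _ = l⁻¹ * (a * (l * g * l⁻¹) * a⁻¹) * (a * l * a⁻¹) := by rw [h1]
      _ = l⁻¹ * (l * g * l⁻¹) * (a * l * a⁻¹) := by rw [h2]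
      _ = g * (l⁻¹ * (a * l * a⁻¹)) := by group
  have hfN : l⁻¹ * (a * l * a⁻¹) ∈ N := hcent (Subgroup.mem_inf.mpr ⟨hfL, hfC⟩)
  have haf := haN _ hfN
  -- `f * f = 1`
  have hff : (l⁻¹ * (a * l * a⁻¹)) * (l⁻¹ * (a * l * a⁻¹)) = 1 := by
    have h3 : a * (l⁻¹ * (a * l * a⁻¹)) * a⁻¹ = l⁻¹ * (a * l * a⁻¹) := by
      calc a * (l⁻¹ * (a * l * a⁻¹)) * a⁻¹ = ((l⁻¹ * (a * l * a⁻¹)) * a) * a⁻¹ := by rw [haf]
        _ = l⁻¹ * (a * l * a⁻¹) := by group
    have h4 : a * (l⁻¹ * (a * l * a⁻¹)) * a⁻¹ = (a * l * a⁻¹)⁻¹ * ((a * a) * l * (a * a)⁻¹) := by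
      group
    rw [ha2] at h4
    rw [h3] at h4
    -- `f = (a l a⁻¹)⁻¹ l`, so `f * f = 1`
    calc (l⁻¹ * (a * l * a⁻¹)) * (l⁻¹ * (a * l * a⁻¹))
        = (l⁻¹ * (a * l * a⁻¹)) * ((a * l * a⁻¹)⁻¹ * (1 * l * (1 : G)⁻¹)) := by rw [← h4]
      _ = 1 := by group
  have hf1 := eq_one_of_sq_eq_one_of_odd L hodd hfL hff
  have h5 : a * l * a⁻¹ = l := by
    calc a * l * a⁻¹ = l * (l⁻¹ * (a * l * a⁻¹)) := by group
      _ = l := by rw [hf1, mul_one]
  calc a * l = (a * l * a⁻¹) * a := by group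
    _ = l * a := by rw [h5]

/-- in a nilpotent group a nontrivial normal subgroup contains a nontrivial central element -/
theorem exists_mem_center_of_normal {N : Type*} [Group N] [hN : Group.IsNilpotent N]
    (K : Subgroup N) [hK : K.Normal] (hK1 : K ≠ ⊥) :
    ∃ y ∈ K, y ≠ 1 ∧ y ∈ Subgroup.center N := by
  classical
  obtain ⟨n, hn⟩ := Group.IsNilpotent.nilpotent N
  have hex : ∃ n, K ⊓ Subgroup.upperCentralSeries N n ≠ ⊥ := ⟨n, by rw [hn, inf_top_eq]; exact hK1⟩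
  have hspec := Nat.find_spec hex
  have hn0 : Nat.find hex ≠ 0 := by
    intro h0
    rw [h0, Subgroup.upperCentralSeries_zero, inf_bot_eq] at hspec
    exact hspec rfl
  obtain ⟨m, hm⟩ := Nat.exists_eq_succ_of_ne_zero hn0
  have hmin : K ⊓ Subgroup.upperCentralSeries N m = ⊥ := by
    by_contra h
    have := Nat.find_min' hex h
    omega
  rw [hm] at hspec
  obtain ⟨y, hy1⟩ := Subgroup.ne_bot_iff_exists_ne_one.mp hspec
  obtain ⟨hyK, hyZ⟩ := Subgroup.mem_inf.mp y.2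
  refine ⟨(y : N), hyK, fun h => hy1 (Subtype.ext h), ?_⟩
  rw [Subgroup.mem_center_iff]
  intro g
  have h1 : ⁅(y : N), g⁆ ∈ Subgroup.upperCentralSeries N m :=
    (Subgroup.mem_upperCentralSeries_succ_iff.mp hyZ) g
  have h2 : ⁅(y : N), g⁆ ∈ K := by
    rw [commutatorElement_def]
    have h3 : g * (y : N)⁻¹ * g⁻¹ ∈ K := hK.conj_mem _ (K.inv_mem hyK) g
    have h4 : (y : N) * g * (y : N)⁻¹ * g⁻¹ = (y : N) * (g * (y : N)⁻¹ * g⁻¹) := by group
    rw [h4]
    exact K.mul_mem hyK h3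
  have h5 : ⁅(y : N), g⁆ ∈ K ⊓ Subgroup.upperCentralSeries N m := Subgroup.mem_inf.mpr ⟨h2, h1⟩
  rw [hmin, Subgroup.mem_bot, commutatorElement_eq_one_iff_mul_comm] at h5
  exact h5.symm

/-- subgroup form: in a nilpotent subgroup `F`, between `F`-invariant subgroups `E < K ≤ F` there
is an element of `K` outside `E` that is central modulo `E`. -/
theorem exists_central_mod {G : Type*} [Group G] (F E K : Subgroup G)
    (hF : Group.IsNilpotent ↥F) (hEK : E ≤ K) (hKF : K ≤ F)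
    (hFE : F ≤ Subgroup.normalizer (E : Set G)) (hFK : F ≤ Subgroup.normalizer (K : Set G))
    (hne : E ≠ K) : ∃ y ∈ K, y ∉ E ∧ ∀ f ∈ F, f * y * f⁻¹ * y⁻¹ ∈ E := by
  have hEn : (E.subgroupOf F).Normal := by
    refine ⟨fun n hn g => ?_⟩
    rw [Subgroup.mem_subgroupOf] at hn ⊢
    exact (Subgroup.mem_normalizer_iff.mp (hFE g.2) _).mp hn
  have hKn : (K.subgroupOf F).Normal := by
    refine ⟨fun n hn g => ?_⟩
    rw [Subgroup.mem_subgroupOf] at hn ⊢
    exact (Subgroup.mem_normalizer_iff.mp (hFK g.2) _).mp hn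
  have hKbar : ((K.subgroupOf F).map (QuotientGroup.mk' (E.subgroupOf F))).Normal :=
    hKn.map _ (QuotientGroup.mk'_surjective _)
  have hKbar1 : (K.subgroupOf F).map (QuotientGroup.mk' (E.subgroupOf F)) ≠ ⊥ := by
    intro h0
    apply hne
    apply le_antisymm hEK
    intro k hk
    have h1 : QuotientGroup.mk' (E.subgroupOf F) ⟨k, hKF hk⟩ ∈
        (K.subgroupOf F).map (QuotientGroup.mk' (E.subgroupOf F)) :=
      Subgroup.mem_map_of_mem _ (Subgroup.mem_subgroupOf.mpr hk)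
    rw [h0, Subgroup.mem_bot] at h1
    exact Subgroup.mem_subgroupOf.mp ((QuotientGroup.eq_one_iff _).mp h1)
  have hQnil : Group.IsNilpotent (↥F ⧸ E.subgroupOf F) := inferInstance
  obtain ⟨yb, hybK, hyb1, hybZ⟩ := exists_mem_center_of_normal _ hKbar1
  obtain ⟨y, hyK, rfl⟩ := hybK
  refine ⟨(y : G), Subgroup.mem_subgroupOf.mp hyK, ?_, ?_⟩
  · intro hyE
    apply hyb1
    exact (QuotientGroup.eq_one_iff _).mpr (Subgroup.mem_subgroupOf.mpr hyE)
  · intro f hf
    have h1 := (Subgroup.mem_center_iff.mp hybZ) (QuotientGroup.mk' (E.subgroupOf F) ⟨f, hf⟩)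
    have h2 : QuotientGroup.mk' (E.subgroupOf F) (⟨f, hf⟩ * y * ⟨f, hf⟩⁻¹ * y⁻¹) = 1 := by
      rw [map_mul, map_mul, map_mul, map_inv, map_inv, h1]
      group
    have h3 := (QuotientGroup.eq_one_iff _).mp h2
    exact Subgroup.mem_subgroupOf.mp h3

/-- **eigenvectors**: an elementary abelian `2`-group `A` normalizing a nontrivial abelian group `E`
of odd order normalizes a nontrivial cyclic subgroup, acting on it by `±1`. -/
theorem exists_eigenvector {G : Type*} [Group G] [Finite G] (E A : Subgroup G)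
    (hEc : ∀ x ∈ E, ∀ y ∈ E, x * y = y * x)
    (hAc : ∀ a ∈ A, ∀ b ∈ A, a * b = b * a) (hA2 : ∀ a ∈ A, a * a = 1)
    (hAE : ∀ c ∈ A, ∀ y ∈ E, c * y * c⁻¹ ∈ E) (hE1 : E ≠ ⊥) :
    ∃ x ∈ E, x ≠ 1 ∧ ∀ c ∈ A, c * x * c⁻¹ = x ∨ c * x * c⁻¹ = x⁻¹ := by
  have hfin : Set.Finite {X : Subgroup G | X ≠ ⊥ ∧ X ≤ E ∧ ∀ c ∈ A, ∀ y ∈ X, c * y * c⁻¹ ∈ X} :=
    Set.toFinite _
  have hne : {X : Subgroup G | X ≠ ⊥ ∧ X ≤ E ∧ ∀ c ∈ A, ∀ y ∈ X, c * y * c⁻¹ ∈ X}.Nonempty :=
    ⟨E, hE1, le_rfl, hAE⟩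
  obtain ⟨X, ⟨hX1, hXE, hXA⟩, hmin⟩ := hfin.exists_minimal hne
  obtain ⟨x, hx1⟩ := Subgroup.ne_bot_iff_exists_ne_one.mp hX1
  refine ⟨(x : G), hXE x.2, fun h => hx1 (Subtype.ext h), ?_⟩
  intro c hc
  have hcinv : c⁻¹ = c := inv_eq_of_mul_eq_one_left (hA2 c hc)
  by_cases hXc : X ⊓ Subgroup.centralizer {c} = ⊥
  · right
    -- `v = x * (c x c⁻¹)` is fixed by `c`
    have hcx : c * (x : G) * c⁻¹ ∈ X := hXA c hc _ x.2
    have hv : (x : G) * (c * (x : G) * c⁻¹) ∈ X ⊓ Subgroup.centralizer {c} := by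
      refine Subgroup.mem_inf.mpr ⟨X.mul_mem x.2 hcx, ?_⟩
      rw [Subgroup.mem_centralizer_iff]
      intro w hw
      rw [Set.mem_singleton_iff] at hw
      subst hw
      have h1 : w * ((x : G) * (w * (x : G) * w⁻¹)) * w⁻¹ =
          (w * (x : G) * w⁻¹) * ((w * w) * (x : G) * (w * w)⁻¹) := by group
      rw [hA2 w hc] at h1
      have h2 : (w * (x : G) * w⁻¹) * ((1 : G) * (x : G) * (1 : G)⁻¹) =
          (x : G) * (w * (x : G) * w⁻¹) := by
        rw [one_mul, inv_one, mul_one]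
        exact hEc _ (hXE hcx) _ (hXE x.2)
      rw [h2] at h1
      calc w * ((x : G) * (w * (x : G) * w⁻¹))
          = (w * ((x : G) * (w * (x : G) * w⁻¹)) * w⁻¹) * w := by group
        _ = (x : G) * (w * (x : G) * w⁻¹) * w := by rw [h1]
    rw [hXc, Subgroup.mem_bot] at hv
    exact (eq_inv_of_mul_eq_one_right hv)
  · left
    have hmem : X ⊓ Subgroup.centralizer {c} ∈
        {X : Subgroup G | X ≠ ⊥ ∧ X ≤ E ∧ ∀ c ∈ A, ∀ y ∈ X, c * y * c⁻¹ ∈ X} := by
      refine ⟨hXc, inf_le_left.trans hXE, ?_⟩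
      intro d hd y hy
      obtain ⟨hyX, hyC⟩ := Subgroup.mem_inf.mp hy
      refine Subgroup.mem_inf.mpr ⟨hXA d hd y hyX, ?_⟩
      rw [Subgroup.mem_centralizer_iff]
      intro w hw
      rw [Set.mem_singleton_iff] at hw
      subst hw
      have h1 : w * y = y * w := (Subgroup.mem_centralizer_iff.mp hyC) w (Set.mem_singleton w)
      have h2 : w * d = d * w := hAc w hc d hd
      have hwd : Commute w d := h2
      have hwy : Commute w y := h1
      exact ((hwd.mul_right hwy).mul_right hwd.inv_right).eq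
    have hle := hmin hmem inf_le_left
    have hxC := (Subgroup.mem_inf.mp (hle x.2)).2
    have h1 : c * (x : G) = (x : G) * c :=
      (Subgroup.mem_centralizer_iff.mp hxC) c (Set.mem_singleton c)
    rw [h1]
    group

/-- eigenvector inverted by a prescribed element acting nontrivially -/
theorem exists_eigenvector_inverted {G : Type*} [Group G] [Finite G] (E A : Subgroup G)
    (hEc : ∀ x ∈ E, ∀ y ∈ E, x * y = y * x)
    (hAc : ∀ a ∈ A, ∀ b ∈ A, a * b = b * a) (hA2 : ∀ a ∈ A, a * a = 1)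
    (hAE : ∀ c ∈ A, ∀ y ∈ E, c * y * c⁻¹ ∈ E)
    (a₀ : G) (ha₀ : a₀ ∈ A) (hnc : ∃ y ∈ E, a₀ * y ≠ y * a₀) :
    ∃ x ∈ E, x ≠ 1 ∧ a₀ * x * a₀⁻¹ = x⁻¹ ∧ ∀ c ∈ A, c * x * c⁻¹ = x ∨ c * x * c⁻¹ = x⁻¹ := by
  have ha₀2 := hA2 a₀ ha₀
  -- the inverted elements
  let I : Subgroup G :=
    { carrier := {y | y ∈ E ∧ a₀ * y * a₀⁻¹ = y⁻¹}
      mul_mem' := by
        rintro y z ⟨hy, hy'⟩ ⟨hz, hz'⟩
        refine ⟨E.mul_mem hy hz, ?_⟩
        have h1 : a₀ * (y * z) * a₀⁻¹ = (a₀ * y * a₀⁻¹) * (a₀ * z * a₀⁻¹) := by group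
        rw [h1, hy', hz', mul_inv_rev]
        exact hEc _ (E.inv_mem hy) _ (E.inv_mem hz)
      one_mem' := ⟨E.one_mem, by group⟩
      inv_mem' := by
        rintro y ⟨hy, hy'⟩
        refine ⟨E.inv_mem hy, ?_⟩
        rw [← conj_inv, hy'] }
  have hI : ∀ y, y ∈ I ↔ (y ∈ E ∧ a₀ * y * a₀⁻¹ = y⁻¹) := fun y => Iff.rfl
  have hIE : I ≤ E := fun y hy => ((hI y).mp hy).1
  have hI1 : I ≠ ⊥ := by
    obtain ⟨y, hy, hya⟩ := hnc
    intro h0
    have hcy : a₀ * y * a₀⁻¹ ∈ E := hAE a₀ ha₀ y hy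
    have hw : y * (a₀ * y * a₀⁻¹)⁻¹ ∈ I := by
      rw [hI]
      refine ⟨E.mul_mem hy (E.inv_mem hcy), ?_⟩
      have h1 : a₀ * (y * (a₀ * y * a₀⁻¹)⁻¹) * a₀⁻¹ =
          (a₀ * y * a₀⁻¹) * ((a₀ * a₀) * y * (a₀ * a₀)⁻¹)⁻¹ := by group
      rw [h1, ha₀2, one_mul, inv_one, mul_one, mul_inv_rev, inv_inv]
    rw [h0, Subgroup.mem_bot] at hw
    apply hya
    have h2 : y = a₀ * y * a₀⁻¹ := by
      have := mul_inv_eq_one.mp hw
      exact this
    calc a₀ * y = (a₀ * y * a₀⁻¹) * a₀ := by group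
      _ = y * a₀ := by rw [← h2]
  have hAI : ∀ c ∈ A, ∀ y ∈ I, c * y * c⁻¹ ∈ I := by
    intro c hc y hy
    obtain ⟨hyE, hy'⟩ := (hI y).mp hy
    rw [hI]
    refine ⟨hAE c hc y hyE, ?_⟩
    have h2 : a₀ * c = c * a₀ := hAc a₀ ha₀ c hc
    have h3 : a₀ * (c * y * c⁻¹) * a₀⁻¹ = c * (a₀ * y * a₀⁻¹) * c⁻¹ := by
      calc a₀ * (c * y * c⁻¹) * a₀⁻¹ = (a₀ * c) * y * (a₀ * c)⁻¹ := by group
        _ = (c * a₀) * y * (c * a₀)⁻¹ := by rw [h2]
        _ = c * (a₀ * y * a₀⁻¹) * c⁻¹ := by group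
    rw [h3, hy', conj_inv]
  obtain ⟨x, hxI, hx1, hxA⟩ := exists_eigenvector I A
    (fun u hu v hv => hEc u (hIE hu) v (hIE hv)) hAc hA2 hAI hI1
  exact ⟨x, hIE hxI, hx1, ((hI x).mp hxI).2, hxA⟩

/-- **dual bases**: an elementary abelian `2`-group `A` of order `2^d` acting faithfully on an
abelian group `E` of odd order has a basis `a i` and eigenvectors `x i ∈ E` such that `a i` inverts
`x i` and centralizes `x j` for `j ≠ i`. -/
theorem exists_dual_basis {G : Type*} [Group G] [Finite G] (E A' : Subgroup G)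
    (hEc : ∀ x ∈ E, ∀ y ∈ E, x * y = y * x) (hEodd : Odd (Nat.card ↥E))
    (hAc : ∀ a ∈ A', ∀ b ∈ A', a * b = b * a) (hA2 : ∀ a ∈ A', a * a = 1)
    (hAE : ∀ c ∈ A', ∀ y ∈ E, c * y * c⁻¹ ∈ E) :
    ∀ (d : ℕ) (A : Subgroup G), A ≤ A' → Nat.card ↥A = 2 ^ d →
      A ⊓ Subgroup.centralizer (E : Set G) = ⊥ →
      ∃ a x : Fin d → G, (∀ i, a i ∈ A ∧ x i ∈ E ∧ x i ≠ 1 ∧
          (∀ c ∈ A', c * x i * c⁻¹ = x i ∨ c * x i * c⁻¹ = (x i)⁻¹) ∧
          a i * x i * (a i)⁻¹ = (x i)⁻¹ ∧ ∀ j, j ≠ i → a j * x i = x i * a j) ∧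
        (⨆ i, Subgroup.zpowers (a i)) = A := by
  intro d
  induction d with
  | zero =>
    intro A hAA' hcard hfaith
    have hA : A = ⊥ := Subgroup.card_eq_one.mp (by rw [hcard, pow_zero])
    refine ⟨fun i => i.elim0, fun i => i.elim0, fun i => i.elim0, ?_⟩
    rw [hA]
    exact iSup_of_empty _
  | succ d ih =>
    intro A hAA' hcard hfaith
    have hA1 : A ≠ ⊥ := by
      intro h0
      rw [h0, Subgroup.card_bot] at hcard
      have h2 : 2 ≤ 2 ^ (d + 1) := by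
        calc 2 = 2 ^ 1 := by norm_num
          _ ≤ 2 ^ (d + 1) := Nat.pow_le_pow_right (by norm_num) (by omega)
      omega
    obtain ⟨a₀', ha₀1'⟩ := Subgroup.ne_bot_iff_exists_ne_one.mp hA1
    obtain ⟨a₀, ha₀def⟩ : ∃ a₀ : G, a₀ = (a₀' : G) := ⟨_, rfl⟩
    have ha₀ : a₀ ∈ A := by rw [ha₀def]; exact a₀'.2
    have ha₀1 : a₀ ≠ 1 := by
      rw [ha₀def]
      exact fun h => ha₀1' (Subtype.ext h)
    have hnc : ∃ y ∈ E, a₀ * y ≠ y * a₀ := by
      by_contra hall
      push Not at hall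
      apply ha₀1
      have h1 : a₀ ∈ A ⊓ Subgroup.centralizer (E : Set G) :=
        Subgroup.mem_inf.mpr ⟨ha₀, Subgroup.mem_centralizer_iff.mpr
          (fun y hy => (hall y hy).symm)⟩
      rwa [hfaith, Subgroup.mem_bot] at h1
    obtain ⟨x, hxE, hx1, hxinv, hxA⟩ :=
      exists_eigenvector_inverted E A' hEc hAc hA2 hAE a₀ (hAA' ha₀) hnc
    have hxx : x⁻¹ ≠ x := by
      intro h
      apply hx1
      apply eq_one_of_sq_eq_one_of_odd E hEodd hxE
      nth_rewrite 1 [← h]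
      exact inv_mul_cancel x
    -- dichotomy
    have hdich : ∀ c ∈ A, (c ∈ A ⊓ Subgroup.centralizer {x} ∧ c * x * c⁻¹ = x) ∨
        (c ∉ A ⊓ Subgroup.centralizer {x} ∧ c * x * c⁻¹ = x⁻¹) := by
      intro c hc
      rcases hxA c (hAA' hc) with h | h
      · left
        refine ⟨Subgroup.mem_inf.mpr ⟨hc, ?_⟩, h⟩
        rw [Subgroup.mem_centralizer_iff]
        intro w hw
        rw [Set.mem_singleton_iff] at hw
        subst hw
        exact (mul_inv_eq_iff_eq_mul.mp h).symm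
      · right
        refine ⟨?_, h⟩
        intro hmem
        have h1 := (Subgroup.mem_centralizer_iff.mp (Subgroup.mem_inf.mp hmem).2) x
          (Set.mem_singleton x)
        have h2 : c * x * c⁻¹ = x := by rw [← h1]; group
        rw [h] at h2
        exact hxx h2
    have ha₀B : a₀ ∉ A ⊓ Subgroup.centralizer {x} := by
      rcases hdich a₀ ha₀ with ⟨-, h⟩ | ⟨h, -⟩
      · rw [hxinv] at h
        exact absurd h hxx
      · exact h
    have hxinv' : ∀ c : G, c * x * c⁻¹ = x⁻¹ → c * x⁻¹ * c⁻¹ = x := by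
      intro c hc
      rw [← conj_inv, hc, inv_inv]
    have hidx : ((A ⊓ Subgroup.centralizer {x}).subgroupOf A).index = 2 := by
      rw [Subgroup.index_eq_two_iff]
      refine ⟨⟨a₀, ha₀⟩, fun b => ?_⟩
      rw [Subgroup.mem_subgroupOf, Subgroup.mem_subgroupOf]
      have hba : ((b * ⟨a₀, ha₀⟩ : ↥A) : G) = (b : G) * a₀ := rfl
      rw [hba]
      rcases hdich (b : G) b.2 with ⟨hbB, hb⟩ | ⟨hbB, hb⟩
      · right
        refine ⟨hbB, ?_⟩
        intro hmem
        apply ha₀B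
        have h1 : a₀ = (b : G)⁻¹ * ((b : G) * a₀) := by group
        rw [h1]
        exact Subgroup.mul_mem _ (Subgroup.inv_mem _ hbB) hmem
      · left
        refine ⟨?_, hbB⟩
        rcases hdich ((b : G) * a₀) (A.mul_mem b.2 ha₀) with ⟨h, -⟩ | ⟨-, h⟩
        · exact h
        · exfalso
          have h2 : (b : G) * a₀ * x * ((b : G) * a₀)⁻¹ = (b : G) * (a₀ * x * a₀⁻¹) * (b : G)⁻¹ := by
            group
          rw [h2, hxinv, hxinv' _ hb] at h
          exact hxx h.symm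
    have hBcard : Nat.card ↥(A ⊓ Subgroup.centralizer {x}) = 2 ^ d := by
      have h1 := Subgroup.card_mul_index ((A ⊓ Subgroup.centralizer {x}).subgroupOf A)
      rw [hidx, hcard] at h1
      have h2 : Nat.card ↥((A ⊓ Subgroup.centralizer {x}).subgroupOf A) =
          Nat.card ↥(A ⊓ Subgroup.centralizer {x}) :=
        Nat.card_congr (Subgroup.subgroupOfEquivOfLe inf_le_left).toEquiv
      rw [h2, pow_succ] at h1
      exact Nat.eq_of_mul_eq_mul_right (by norm_num) h1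
    obtain ⟨b, y, hby, hbsup⟩ := ih (A ⊓ Subgroup.centralizer {x}) (inf_le_left.trans hAA') hBcard
      (by
        rw [eq_bot_iff, ← hfaith]
        exact inf_le_inf_right _ inf_le_left)
    -- adjusting
    have hadj : ∀ T : Finset (Fin d), ∃ a ∈ A, a ∉ A ⊓ Subgroup.centralizer {x} ∧
        ∀ i ∈ T, a * y i = y i * a := by
      intro T
      induction T using Finset.induction_on with
      | empty => exact ⟨a₀, ha₀, ha₀B, fun i hi => absurd hi (Finset.notMem_empty i)⟩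
      | insert i T hiT ihT =>
        obtain ⟨a, haA, haB, haT⟩ := ihT
        by_cases hai : a * y i = y i * a
        · refine ⟨a, haA, haB, fun k hk => ?_⟩
          rcases Finset.mem_insert.mp hk with rfl | hk
          · exact hai
          · exact haT k hk
        · have hinv : a * y i * a⁻¹ = (y i)⁻¹ := by
            rcases (hby i).2.2.2.1 a (hAA' haA) with h | h
            · exact absurd (mul_inv_eq_iff_eq_mul.mp h) hai
            · exact h
          refine ⟨a * b i, A.mul_mem haA (inf_le_left (a := A) (hby i).1), ?_, ?_⟩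
          · intro hmem
            apply haB
            have h1 : a = (a * b i) * (b i)⁻¹ := by group
            rw [h1]
            exact Subgroup.mul_mem _ hmem (Subgroup.inv_mem _ (hby i).1)
          · intro k hk
            rcases Finset.mem_insert.mp hk with rfl | hk
            · have hb := (hby k).2.2.2.2.1
              have e1 : b k * y k = (y k)⁻¹ * b k := by rw [← hb]; group
              have e2 : a * (y k)⁻¹ = y k * a := by
                have h3 : a * (y k)⁻¹ * a⁻¹ = y k := by rw [← conj_inv, hinv, inv_inv]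
                exact mul_inv_eq_iff_eq_mul.mp h3
              rw [mul_assoc, e1, ← mul_assoc, e2, mul_assoc]
            · have hki : k ≠ i := fun h => hiT (h ▸ hk)
              have h1 := haT k hk
              have h2 := (hby k).2.2.2.2.2 i (Ne.symm hki)
              rw [mul_assoc, h2, ← mul_assoc, h1, mul_assoc]
    obtain ⟨a, haA, haB, haT⟩ := hadj Finset.univ
    have hax : a * x * a⁻¹ = x⁻¹ := by
      rcases hdich a haA with ⟨h, -⟩ | ⟨-, h⟩
      · exact absurd h haB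
      · exact h
    refine ⟨Fin.cons a b, Fin.cons x y, ?_, ?_⟩
    · intro i
      refine Fin.cases ?_ (fun k => ?_) i
      · simp only [Fin.cons_zero]
        refine ⟨haA, hxE, hx1, hxA, hax, ?_⟩
        intro j
        refine Fin.cases ?_ (fun l => ?_) j
        · intro h
          exact absurd rfl h
        · intro _
          simp only [Fin.cons_succ]
          have h1 := (Subgroup.mem_centralizer_iff.mp (Subgroup.mem_inf.mp (hby l).1).2) x
            (Set.mem_singleton x)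
          exact h1.symm
      · simp only [Fin.cons_succ]
        refine ⟨inf_le_left (a := A) (hby k).1, (hby k).2.1, (hby k).2.2.1, (hby k).2.2.2.1,
          (hby k).2.2.2.2.1, ?_⟩
        intro j
        refine Fin.cases ?_ (fun l => ?_) j
        · intro _
          simp only [Fin.cons_zero]
          exact haT k (Finset.mem_univ k)
        · intro hne
          simp only [Fin.cons_succ]
          exact (hby k).2.2.2.2.2 l (fun h => hne (by rw [h]))
    · apply le_antisymm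
      · apply iSup_le
        intro i
        refine Fin.cases ?_ (fun k => ?_) i
        · simp only [Fin.cons_zero]
          exact Subgroup.zpowers_le.mpr haA
        · simp only [Fin.cons_succ]
          exact Subgroup.zpowers_le.mpr (inf_le_left (a := A) (hby k).1)
      · have hBle : A ⊓ Subgroup.centralizer {x} ≤
            ⨆ i : Fin (d + 1), Subgroup.zpowers ((Fin.cons a b : Fin (d + 1) → G) i) := by
          rw [← hbsup]
          apply iSup_le
          intro k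
          have h1 : Subgroup.zpowers (b k) =
              Subgroup.zpowers ((Fin.cons a b : Fin (d + 1) → G) k.succ) := by
            simp only [Fin.cons_succ]
          rw [h1]
          exact le_iSup (fun i : Fin (d + 1) =>
            Subgroup.zpowers ((Fin.cons a b : Fin (d + 1) → G) i)) k.succ
        have hale : a ∈ ⨆ i : Fin (d + 1),
            Subgroup.zpowers ((Fin.cons a b : Fin (d + 1) → G) i) := by
          have h1 : Subgroup.zpowers a =
              Subgroup.zpowers ((Fin.cons a b : Fin (d + 1) → G) 0) := by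
            simp only [Fin.cons_zero]
          have h2 := le_iSup (fun i : Fin (d + 1) =>
            Subgroup.zpowers ((Fin.cons a b : Fin (d + 1) → G) i)) 0
          rw [← h1] at h2
          exact h2 (Subgroup.mem_zpowers a)
        intro g hg
        rcases hdich g hg with ⟨h, -⟩ | ⟨-, h⟩
        · exact hBle h
        · have hga : g * a ∈ A ⊓ Subgroup.centralizer {x} := by
            rcases hdich (g * a) (A.mul_mem hg haA) with ⟨h', -⟩ | ⟨-, h'⟩
            · exact h'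
            · exfalso
              have h2 : g * a * x * (g * a)⁻¹ = g * (a * x * a⁻¹) * g⁻¹ := by group
              rw [h2, hax, hxinv' _ h] at h'
              exact hxx h'.symm
          have h3 : g = (g * a) * a⁻¹ := by group
          rw [h3]
          exact Subgroup.mul_mem _ (hBle hga) (Subgroup.inv_mem _ hale)

/-- conjugation-invariance of `E ⊔ ⟨y⟩` from its generators -/
theorem conj_mem_sup_zpowers {G : Type*} [Group G] (E : Subgroup G) (y g : G)
    (hE : ∀ e ∈ E, g * e * g⁻¹ ∈ E ⊔ Subgroup.zpowers y)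
    (hy : g * y * g⁻¹ ∈ E ⊔ Subgroup.zpowers y) :
    ∀ n ∈ E ⊔ Subgroup.zpowers y, g * n * g⁻¹ ∈ E ⊔ Subgroup.zpowers y := by
  have hle : E ⊔ Subgroup.zpowers y ≤
      (E ⊔ Subgroup.zpowers y).comap (MulAut.conj g).toMonoidHom := by
    apply sup_le
    · intro e he
      rw [Subgroup.mem_comap]
      exact hE e he
    · rw [Subgroup.zpowers_le, Subgroup.mem_comap]
      exact hy
  intro n hn
  exact hle hn

theorem le_normalizer_of_conj_mem {G : Type*} [Group G] {K N : Subgroup G}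
    (h : ∀ x ∈ K, ∀ n ∈ N, x * n * x⁻¹ ∈ N) : K ≤ Subgroup.normalizer (N : Set G) := by
  intro x hx
  rw [Subgroup.mem_normalizer_iff]
  intro n
  refine ⟨h x hx n, fun hn => ?_⟩
  have h1 := h x⁻¹ (K.inv_mem hx) _ hn
  have h2 : x⁻¹ * (x * n * x⁻¹) * x⁻¹⁻¹ = n := by group
  rwa [h2] at h1

theorem conj_mem_of_le_normalizer {G : Type*} [Group G] {K N : Subgroup G}
    (h : K ≤ Subgroup.normalizer (N : Set G)) : ∀ x ∈ K, ∀ n ∈ N, x * n * x⁻¹ ∈ N :=
  fun x hx n hn => (Subgroup.mem_normalizer_iff.mp (h hx) n).mp hn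

/-- **self-centralizing invariant abelian normal subgroups** of a nilpotent group with an
elementary abelian `2`-group of operators. -/
theorem exists_invariant_abelian_self_centralizing {G : Type*} [Group G] [Finite G]
    (F A : Subgroup G) (hF : Group.IsNilpotent ↥F)
    (hAc : ∀ a ∈ A, ∀ b ∈ A, a * b = b * a) (hA2 : ∀ a ∈ A, a * a = 1)
    (hAF : ∀ c ∈ A, ∀ f ∈ F, c * f * c⁻¹ ∈ F) :
    ∃ E : Subgroup G, E ≤ F ∧ (∀ x ∈ E, ∀ y ∈ E, x * y = y * x) ∧
      (∀ f ∈ F, ∀ e ∈ E, f * e * f⁻¹ ∈ E) ∧ (∀ c ∈ A, ∀ e ∈ E, c * e * c⁻¹ ∈ E) ∧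
      F ⊓ Subgroup.centralizer (E : Set G) ≤ E := by
  have hfin : Set.Finite {E : Subgroup G | E ≤ F ∧ (∀ x ∈ E, ∀ y ∈ E, x * y = y * x) ∧
      (∀ f ∈ F, ∀ e ∈ E, f * e * f⁻¹ ∈ E) ∧ (∀ c ∈ A, ∀ e ∈ E, c * e * c⁻¹ ∈ E)} :=
    Set.toFinite _
  have hne : {E : Subgroup G | E ≤ F ∧ (∀ x ∈ E, ∀ y ∈ E, x * y = y * x) ∧
      (∀ f ∈ F, ∀ e ∈ E, f * e * f⁻¹ ∈ E) ∧ (∀ c ∈ A, ∀ e ∈ E, c * e * c⁻¹ ∈ E)}.Nonempty := by
    refine ⟨⊥, bot_le, ?_, ?_, ?_⟩
    · intro x hx y hy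
      rw [Subgroup.mem_bot] at hx hy
      rw [hx, hy]
    · intro f _ e he
      rw [Subgroup.mem_bot] at he ⊢
      rw [he]; group
    · intro c _ e he
      rw [Subgroup.mem_bot] at he ⊢
      rw [he]; group
  obtain ⟨E, ⟨hEF, hEc, hFE, hAE⟩, hmax⟩ := hfin.exists_maximal hne
  refine ⟨E, hEF, hEc, hFE, hAE, ?_⟩
  by_contra hnot
  have hainv : ∀ c ∈ A, c⁻¹ = c := fun c hc => inv_eq_of_mul_eq_one_left (hA2 c hc)
  -- `C = C_F(E)`
  have hEC : E ≤ F ⊓ Subgroup.centralizer (E : Set G) := by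
    intro e he
    refine Subgroup.mem_inf.mpr ⟨hEF he, ?_⟩
    rw [Subgroup.mem_centralizer_iff]
    intro u hu
    exact hEc u hu e he
  have hCne : E ≠ F ⊓ Subgroup.centralizer (E : Set G) := by
    intro h
    apply hnot
    rw [← h]
  -- conjugation invariance of the centralizer
  have hcentinv : ∀ g : G, (∀ e ∈ E, g⁻¹ * e * g ∈ E) → ∀ y ∈ Subgroup.centralizer (E : Set G),
      g * y * g⁻¹ ∈ Subgroup.centralizer (E : Set G) := by
    intro g hg y hy
    rw [Subgroup.mem_centralizer_iff] at hy ⊢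
    intro e he
    have h1 := hy _ (hg e he)
    calc e * (g * y * g⁻¹) = g * ((g⁻¹ * e * g) * y) * g⁻¹ := by group
      _ = g * (y * (g⁻¹ * e * g)) * g⁻¹ := by rw [h1]
      _ = g * y * g⁻¹ * e := by group
  have hFinvE : ∀ f ∈ F, ∀ e ∈ E, f⁻¹ * e * f ∈ E := by
    intro f hf e he
    have := hFE f⁻¹ (F.inv_mem hf) e he
    rwa [inv_inv] at this
  have hAinvE : ∀ c ∈ A, ∀ e ∈ E, c⁻¹ * e * c ∈ E := by
    intro c hc e he
    have := hAE c⁻¹ (A.inv_mem hc) e he
    rwa [inv_inv] at this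
  have hFC : F ≤ Subgroup.normalizer ((F ⊓ Subgroup.centralizer (E : Set G) : Subgroup G) : Set G) := by
    apply le_normalizer_of_conj_mem
    intro f hf y hy
    obtain ⟨hyF, hyC⟩ := Subgroup.mem_inf.mp hy
    exact Subgroup.mem_inf.mpr ⟨F.mul_mem (F.mul_mem hf hyF) (F.inv_mem hf),
      hcentinv f (hFinvE f hf) y hyC⟩
  obtain ⟨y₀, hy₀C, hy₀E, hy₀⟩ := exists_central_mod F E _ hF hEC inf_le_left
    (le_normalizer_of_conj_mem hFE) hFC hCne
  -- the subgroup `W`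
  let W : Subgroup G :=
    { carrier := {y | y ∈ F ⊓ Subgroup.centralizer (E : Set G) ∧ ∀ f ∈ F, f * y * f⁻¹ * y⁻¹ ∈ E}
      mul_mem' := by
        rintro y z ⟨hy, hy'⟩ ⟨hz, hz'⟩
        refine ⟨Subgroup.mul_mem _ hy hz, ?_⟩
        intro f hf
        have h1 : f * (y * z) * f⁻¹ * (y * z)⁻¹ =
            (f * y * f⁻¹ * y⁻¹) * (y * (f * z * f⁻¹ * z⁻¹) * y⁻¹) := by group
        rw [h1]
        exact E.mul_mem (hy' f hf) (hFE y (Subgroup.mem_inf.mp hy).1 _ (hz' f hf))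
      one_mem' := by
        refine ⟨Subgroup.one_mem _, ?_⟩
        intro f _
        have h1 : f * 1 * f⁻¹ * (1 : G)⁻¹ = 1 := by group
        rw [h1]
        exact E.one_mem
      inv_mem' := by
        rintro y ⟨hy, hy'⟩
        refine ⟨Subgroup.inv_mem _ hy, ?_⟩
        intro f hf
        have h1 : f * y⁻¹ * f⁻¹ * y⁻¹⁻¹ = y⁻¹ * (f * y * f⁻¹ * y⁻¹)⁻¹ * y := by group
        rw [h1]
        exact hFinvE y (Subgroup.mem_inf.mp hy).1 _ (E.inv_mem (hy' f hf)) }
  have hW : ∀ y, y ∈ W ↔ (y ∈ F ⊓ Subgroup.centralizer (E : Set G) ∧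
      ∀ f ∈ F, f * y * f⁻¹ * y⁻¹ ∈ E) := fun y => Iff.rfl
  have hWF : W ≤ F := fun y hy => (Subgroup.mem_inf.mp ((hW y).mp hy).1).1
  have hEW : E ≤ W := by
    intro e he
    rw [hW]
    refine ⟨hEC he, fun f hf => E.mul_mem (hFE f hf e he) (E.inv_mem he)⟩
  have hWne : W ≠ E := by
    intro h
    apply hy₀E
    rw [← h, hW]
    exact ⟨hy₀C, hy₀⟩
  have hAW : ∀ c ∈ A, ∀ y ∈ W, c * y * c⁻¹ ∈ W := by
    intro c hc y hy
    obtain ⟨hyC, hy'⟩ := (hW y).mp hy
    obtain ⟨hyF, hyCE⟩ := Subgroup.mem_inf.mp hyC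
    rw [hW]
    refine ⟨Subgroup.mem_inf.mpr ⟨hAF c hc y hyF, hcentinv c (hAinvE c hc) y hyCE⟩, ?_⟩
    intro f hf
    have hcf : c⁻¹ * f * c ∈ F := by
      have := hAF c⁻¹ (A.inv_mem hc) f hf
      rwa [inv_inv] at this
    have h1 : f * (c * y * c⁻¹) * f⁻¹ * (c * y * c⁻¹)⁻¹ =
        c * ((c⁻¹ * f * c) * y * (c⁻¹ * f * c)⁻¹ * y⁻¹) * c⁻¹ := by group
    rw [h1]
    exact hAE c hc _ (hy' _ hcf)
  -- a minimal invariant subgroup above `E`
  have hfinX : Set.Finite {X : Subgroup G | E ≤ X ∧ X ≤ W ∧ X ≠ E ∧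
      ∀ c ∈ A, ∀ y ∈ X, c * y * c⁻¹ ∈ X} := Set.toFinite _
  have hneX : {X : Subgroup G | E ≤ X ∧ X ≤ W ∧ X ≠ E ∧
      ∀ c ∈ A, ∀ y ∈ X, c * y * c⁻¹ ∈ X}.Nonempty := ⟨W, hEW, le_rfl, hWne, hAW⟩
  obtain ⟨X, ⟨hEX, hXW, hXne, hAX⟩, hminX⟩ := hfinX.exists_minimal hneX
  obtain ⟨y, hyX, hyE⟩ : ∃ y ∈ X, y ∉ E := by
    by_contra hall
    push Not at hall
    exact hXne (le_antisymm hall hEX)
  have hyW : y ∈ W := hXW hyX
  have hyF : y ∈ F := hWF hyW
  have hyCE : y ∈ Subgroup.centralizer (E : Set G) := (Subgroup.mem_inf.mp ((hW y).mp hyW).1).2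
  -- `y` is an eigenvector modulo `E`
  have heig : ∀ c ∈ A, c * y * c⁻¹ * y⁻¹ ∈ E ∨ y * (c * y * c⁻¹) ∈ E := by
    intro c hc
    let Xc : Subgroup G :=
      { carrier := {u | u ∈ X ∧ c * u * c⁻¹ * u⁻¹ ∈ E}
        mul_mem' := by
          rintro u v ⟨hu, hu'⟩ ⟨hv, hv'⟩
          refine ⟨X.mul_mem hu hv, ?_⟩
          have h1 : c * (u * v) * c⁻¹ * (u * v)⁻¹ =
              (c * u * c⁻¹ * u⁻¹) * (u * (c * v * c⁻¹ * v⁻¹) * u⁻¹) := by group
          rw [h1]
          exact E.mul_mem hu' (hFE u (hWF (hXW hu)) _ hv')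
        one_mem' := by
          refine ⟨X.one_mem, ?_⟩
          have h1 : c * 1 * c⁻¹ * (1 : G)⁻¹ = 1 := by group
          rw [h1]
          exact E.one_mem
        inv_mem' := by
          rintro u ⟨hu, hu'⟩
          refine ⟨X.inv_mem hu, ?_⟩
          have h1 : c * u⁻¹ * c⁻¹ * u⁻¹⁻¹ = u⁻¹ * (c * u * c⁻¹ * u⁻¹)⁻¹ * u := by group
          rw [h1]
          exact hFinvE u (hWF (hXW hu)) _ (E.inv_mem hu') }
    have hXc : ∀ u, u ∈ Xc ↔ (u ∈ X ∧ c * u * c⁻¹ * u⁻¹ ∈ E) := fun u => Iff.rfl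
    have hEXc : E ≤ Xc := by
      intro e he
      rw [hXc]
      exact ⟨hEX he, E.mul_mem (hAE c hc e he) (E.inv_mem he)⟩
    have hXcX : Xc ≤ X := fun u hu => ((hXc u).mp hu).1
    have hAXc : ∀ d ∈ A, ∀ u ∈ Xc, d * u * d⁻¹ ∈ Xc := by
      intro d hd u hu
      obtain ⟨huX, hu'⟩ := (hXc u).mp hu
      rw [hXc]
      refine ⟨hAX d hd u huX, ?_⟩
      have hcd : Commute c d := hAc c hc d hd
      have h1 : c * (d * u * d⁻¹) * c⁻¹ * (d * u * d⁻¹)⁻¹ =
          d * (c * u * c⁻¹ * u⁻¹) * d⁻¹ := by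
        have e1 : c * d = d * c := hcd.eq
        have e2 : d⁻¹ * c⁻¹ = c⁻¹ * d⁻¹ := by
          rw [← mul_inv_rev, ← mul_inv_rev, e1]
        calc c * (d * u * d⁻¹) * c⁻¹ * (d * u * d⁻¹)⁻¹
            = (c * d) * u * (d⁻¹ * c⁻¹) * (d * u⁻¹ * d⁻¹) := by group
          _ = (d * c) * u * (c⁻¹ * d⁻¹) * (d * u⁻¹ * d⁻¹) := by rw [e1, e2]
          _ = d * (c * u * c⁻¹ * u⁻¹) * d⁻¹ := by group
      rw [h1]
      exact hAE d hd _ hu'
    by_cases hXcE : Xc = E
    · right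
      have hcy : c * y * c⁻¹ ∈ X := hAX c hc y hyX
      have hv : y * (c * y * c⁻¹) ∈ Xc := by
        rw [hXc]
        refine ⟨X.mul_mem hyX hcy, ?_⟩
        have h1 : c * (y * (c * y * c⁻¹)) * c⁻¹ * (y * (c * y * c⁻¹))⁻¹ =
            (c * y * c⁻¹) * ((c * c) * y * (c * c)⁻¹) * (c * y * c⁻¹)⁻¹ * y⁻¹ := by group
        rw [h1, hA2 c hc, one_mul, inv_one, mul_one]
        exact ((hW y).mp hyW).2 _ (hWF (hXW hcy))
      rw [hXcE] at hv
      exact hv
    · left
      have hmem : Xc ∈ {X : Subgroup G | E ≤ X ∧ X ≤ W ∧ X ≠ E ∧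
          ∀ c ∈ A, ∀ y ∈ X, c * y * c⁻¹ ∈ X} := ⟨hEXc, hXcX.trans hXW, hXcE, hAXc⟩
      have hle := hminX hmem hXcX
      exact ((hXc y).mp (hle hyX)).2
  -- the larger subgroup
  have hyY : y ∈ E ⊔ Subgroup.zpowers y :=
    (le_sup_right : Subgroup.zpowers y ≤ E ⊔ Subgroup.zpowers y) (Subgroup.mem_zpowers y)
  have hEY : E ≤ E ⊔ Subgroup.zpowers y := le_sup_left
  have hYmem : E ⊔ Subgroup.zpowers y ∈ {E : Subgroup G | E ≤ F ∧
      (∀ x ∈ E, ∀ y ∈ E, x * y = y * x) ∧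
      (∀ f ∈ F, ∀ e ∈ E, f * e * f⁻¹ ∈ E) ∧ (∀ c ∈ A, ∀ e ∈ E, c * e * c⁻¹ ∈ E)} := by
    refine ⟨sup_le hEF (Subgroup.zpowers_le.mpr hyF), ?_, ?_, ?_⟩
    · -- commutativity
      have h1 : E ≤ Subgroup.centralizer ((E ⊔ Subgroup.zpowers y : Subgroup G) : Set G) := by
        rw [Subgroup.le_centralizer_iff]
        apply sup_le
        · intro e he
          rw [Subgroup.mem_centralizer_iff]
          intro u hu
          exact hEc u hu e he
        · rw [Subgroup.zpowers_le]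
          exact hyCE
      have h2 : Subgroup.zpowers y ≤
          Subgroup.centralizer ((E ⊔ Subgroup.zpowers y : Subgroup G) : Set G) := by
        rw [Subgroup.le_centralizer_iff]
        apply sup_le
        · intro e he
          rw [Subgroup.mem_centralizer_iff]
          intro u hu
          obtain ⟨k, rfl⟩ := Subgroup.mem_zpowers_iff.mp hu
          have h3 : Commute y e := ((Subgroup.mem_centralizer_iff.mp hyCE) e he).symm
          exact (h3.zpow_left k).eq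
        · intro u hu
          rw [Subgroup.mem_centralizer_iff]
          intro v hv
          obtain ⟨k, rfl⟩ := Subgroup.mem_zpowers_iff.mp hu
          obtain ⟨l, rfl⟩ := Subgroup.mem_zpowers_iff.mp hv
          exact (((Commute.refl y).zpow_left l).zpow_right k).eq
      have h3 : E ⊔ Subgroup.zpowers y ≤
          Subgroup.centralizer ((E ⊔ Subgroup.zpowers y : Subgroup G) : Set G) := sup_le h1 h2
      intro u hu v hv
      exact ((Subgroup.mem_centralizer_iff.mp (h3 hu)) v hv).symm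
    · intro f hf
      apply conj_mem_sup_zpowers
      · intro e he
        exact hEY (hFE f hf e he)
      · have h1 : f * y * f⁻¹ = (f * y * f⁻¹ * y⁻¹) * y := by group
        rw [h1]
        exact Subgroup.mul_mem _ (hEY (((hW y).mp hyW).2 f hf)) hyY
    · intro c hc
      apply conj_mem_sup_zpowers
      · intro e he
        exact hEY (hAE c hc e he)
      · rcases heig c hc with h | h
        · have h1 : c * y * c⁻¹ = (c * y * c⁻¹ * y⁻¹) * y := by group
          rw [h1]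
          exact Subgroup.mul_mem _ (hEY h) hyY
        · have h1 : c * y * c⁻¹ = y⁻¹ * (y * (c * y * c⁻¹)) := by group
          rw [h1]
          exact Subgroup.mul_mem _ (Subgroup.inv_mem _ hyY) (hEY h)
  have hle := hmax hYmem hEY
  exact hyE (hle hyY)

/-- **Thompson's dihedral lemma**, elementwise form. -/
theorem thompson_dihedral {G : Type*} [Group G] [Finite G] (L A : Subgroup G)
    (hLs : Group.IsSolvable ↥L) (hLodd : Odd (Nat.card ↥L))
    (hAc : ∀ a ∈ A, ∀ b ∈ A, a * b = b * a) (hA2 : ∀ a ∈ A, a * a = 1)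
    (d : ℕ) (hAd : Nat.card ↥A = 2 ^ d) (hAL : A ≤ Subgroup.normalizer (L : Set G))
    (hfaith : A ⊓ Subgroup.centralizer (L : Set G) = ⊥) :
    ∃ a x : Fin d → G, (∀ i, a i ∈ A ∧ x i ∈ L ∧ x i ≠ 1 ∧
        a i * x i * (a i)⁻¹ = (x i)⁻¹ ∧
        ∀ j, j ≠ i → (a j * x i = x i * a j ∧ x j * x i = x i * x j)) ∧
      (⨆ i, Subgroup.zpowers (a i)) = A := by
  -- the Fitting subgroup of `L`
  have hFL : Cfsg.fittingOf L ≤ L := Subgroup.map_subtype_le _
  have hFnil : Group.IsNilpotent ↥(Cfsg.fittingOf L) :=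
    isNilpotent_map L.subtype _ Cfsg.Agent.Lib.Helper1.fittingSubgroup_isNilpotent
  have hchar : (Cfsg.fittingSubgroup ↥L).Characteristic :=
    Cfsg.Agent.Lib.Helper1.fittingSubgroup_characteristic
  have hNF : Subgroup.normalizer (L : Set G) ≤
      Subgroup.normalizer ((Cfsg.fittingOf L : Subgroup G) : Set G) :=
    Cfsg.Agent.Lib.Helper1.normalizer_le_normalizer_map_of_characteristic L _
  have hLF : L ≤ Subgroup.normalizer ((Cfsg.fittingOf L : Subgroup G) : Set G) :=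
    Subgroup.le_normalizer.trans hNF
  have hAF : A ≤ Subgroup.normalizer ((Cfsg.fittingOf L : Subgroup G) : Set G) := hAL.trans hNF
  have hcentF : L ⊓ Subgroup.centralizer ((Cfsg.fittingOf L : Subgroup G) : Set G) ≤
      Cfsg.fittingOf L := by
    intro l hl
    obtain ⟨hlL, hlC⟩ := Subgroup.mem_inf.mp hl
    have h1 : (⟨l, hlL⟩ : ↥L) ∈ Subgroup.centralizer (Cfsg.fittingSubgroup ↥L : Set ↥L) := by
      rw [Subgroup.mem_centralizer_iff]
      intro f hf
      apply Subtype.ext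
      have h2 : (f : G) ∈ Cfsg.fittingOf L := ⟨f, hf, rfl⟩
      exact (Subgroup.mem_centralizer_iff.mp hlC) (f : G) h2
    have h3 := Cfsg.Agent.Lib.Helper1.centralizer_fittingSubgroup_le h1
    exact ⟨⟨l, hlL⟩, h3, rfl⟩
  have hFodd : Odd (Nat.card ↥(Cfsg.fittingOf L)) := by
    have h1 : Nat.card ↥(Cfsg.fittingOf L) ∣ Nat.card ↥L := Subgroup.card_dvd_of_le hFL
    exact Odd.of_dvd_nat hLodd h1
  -- the abelian subgroup
  obtain ⟨E, hEF, hEc, hFE, hAE, hcentE⟩ := exists_invariant_abelian_self_centralizing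
    (Cfsg.fittingOf L) A hFnil hAc hA2 (conj_mem_of_le_normalizer hAF)
  have hEodd : Odd (Nat.card ↥E) := by
    have h1 : Nat.card ↥E ∣ Nat.card ↥(Cfsg.fittingOf L) := Subgroup.card_dvd_of_le hEF
    exact Odd.of_dvd_nat hFodd h1
  -- faithfulness on `E`
  have hfaithE : A ⊓ Subgroup.centralizer (E : Set G) = ⊥ := by
    rw [eq_bot_iff, ← hfaith]
    intro a ha
    obtain ⟨haA, haC⟩ := Subgroup.mem_inf.mp ha
    refine Subgroup.mem_inf.mpr ⟨haA, ?_⟩
    have h1 : ∀ f ∈ Cfsg.fittingOf L, a * f = f * a :=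
      involution_centralizes_of_centralizes (Cfsg.fittingOf L) E
        (le_normalizer_of_conj_mem hFE) hcentE hFodd a (hA2 a haA) (hAF haA)
        (fun e he => ((Subgroup.mem_centralizer_iff.mp haC) e he).symm)
    have h2 : ∀ l ∈ L, a * l = l * a :=
      involution_centralizes_of_centralizes L (Cfsg.fittingOf L) hLF hcentF hLodd a (hA2 a haA)
        (hAL haA) h1
    rw [Subgroup.mem_centralizer_iff]
    intro l hl
    exact (h2 l hl).symm
  obtain ⟨a, x, hax, hsup⟩ := exists_dual_basis E A hEc hEodd hAc hA2 hAE d A le_rfl hAd hfaithE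
  refine ⟨a, x, ?_, hsup⟩
  intro i
  obtain ⟨h1, h2, h3, -, h5, h6⟩ := hax i
  refine ⟨h1, hFL (hEF h2), h3, h5, ?_⟩
  intro j hj
  exact ⟨h6 j hj, hEc _ (hax j).2.1 _ h2⟩

end Cfsg.Agent.Lib.Helper10
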