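import Mathlib
import Cfsg.Prelude.Def_Transfer
import Cfsg.Prelude.Def_CaseTheorems
import Cfsg.Agent.Lib.Helper10.UniqueOrderP
import Cfsg.Agent.Lib.Helper10.ThompsonDihedral
import Cfsg.Agent.Lib.Helper1.Cores
import Cfsg.Agent.Lib.Helper1.Basic
import Cfsg.Agent.H5.Basic

set_option autoImplicit false

namespace Cfsg.Agent.Lib.Helper10

/-- a finite `p`-group of order greater than `p` has order at least `p ^ 2` -/
theorem sq_le_card_of_lt_card {p : ℕ} [Fact p.Prime] {H : Type*} [Group H] [Finite H]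
    (hH : IsPGroup p H) (h : p < Nat.card H) : p ^ 2 ≤ Nat.card H := by
  have hp : p.Prime := Fact.out
  obtain ⟨k, hk⟩ := hH.exists_card_eq
  rw [hk] at h ⊢
  have h1 : 1 < k := by
    by_contra hk1
    push Not at hk1
    have : p ^ k ≤ p ^ 1 := Nat.pow_le_pow_right hp.pos hk1
    rw [pow_one] at this
    omega
  exact Nat.pow_le_pow_right hp.pos h1

/-- **kernel lemma**: if all commutators `[g, y]`, `g ∈ Y`, lie in the central subgroup `⟨z⟩` of
order dividing `p`, then `C_Y(y)` has index at most `p` in `Y`. -/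
theorem card_le_mul_card_inf_centralizer {P : Type*} [Group P] [Finite P] {p : ℕ} [Fact p.Prime]
    (z y : P) (hz : z ∈ Subgroup.center P) (hzp : z ^ p = 1) (Y : Subgroup P)
    (h : ∀ g ∈ Y, g * y * g⁻¹ * y⁻¹ ∈ Subgroup.zpowers z) :
    Nat.card ↥Y ≤ p * Nat.card ↥(Y ⊓ Subgroup.centralizer ({y} : Set P)) := by
  have hp : p.Prime := Fact.out
  have hcen : ∀ c ∈ Subgroup.zpowers z, ∀ g : P, g * c = c * g := by
    intro c hc g
    have h1 : Subgroup.zpowers z ≤ Subgroup.center P := Subgroup.zpowers_le.mpr hz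
    exact (Subgroup.mem_center_iff.mp (h1 hc)) g
  let φ : ↥Y →* ↥(Subgroup.zpowers z) := MonoidHom.mk'
    (fun g => ⟨(g : P) * y * (g : P)⁻¹ * y⁻¹, h g g.2⟩) (by
      intro g k
      apply Subtype.ext
      simp only [Subgroup.coe_mul]
      have h1 := hcen _ (h k k.2) (g : P)
      calc (g : P) * (k : P) * y * ((g : P) * (k : P))⁻¹ * y⁻¹
          = ((g : P) * ((k : P) * y * (k : P)⁻¹ * y⁻¹)) * y * (g : P)⁻¹ * y⁻¹ := by group
        _ = (((k : P) * y * (k : P)⁻¹ * y⁻¹) * (g : P)) * y * (g : P)⁻¹ * y⁻¹ := by rw [h1]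
        _ = ((g : P) * y * (g : P)⁻¹ * y⁻¹) * ((k : P) * y * (k : P)⁻¹ * y⁻¹) := by
          have h2 := hcen _ (h g g.2) ((k : P) * y * (k : P)⁻¹ * y⁻¹)
          rw [← h2]
          group)
  have hker : φ.ker = (Y ⊓ Subgroup.centralizer ({y} : Set P)).subgroupOf Y := by
    ext g
    rw [MonoidHom.mem_ker, Subgroup.mem_subgroupOf, Subgroup.mem_inf, Subgroup.mem_centralizer_iff]
    constructor
    · intro hg
      have h1 : (g : P) * y * (g : P)⁻¹ * y⁻¹ = 1 := congrArg Subtype.val hg
      refine ⟨g.2, ?_⟩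
      intro w hw
      rw [Set.mem_singleton_iff] at hw
      subst hw
      calc w * (g : P) = ((g : P) * w * (g : P)⁻¹ * w⁻¹)⁻¹ * ((g : P) * w) := by group
        _ = (g : P) * w := by rw [h1]; group
    · rintro ⟨-, hg⟩
      apply Subtype.ext
      have h1 := hg y rfl
      show (g : P) * y * (g : P)⁻¹ * y⁻¹ = 1
      rw [← h1]
      group
  have h1 : Nat.card φ.ker * φ.ker.index = Nat.card ↥Y := Subgroup.card_mul_index _
  rw [Subgroup.index_ker] at h1
  have h2 : Nat.card ↥φ.range ≤ p := by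
    have h3 : Nat.card ↥φ.range ≤ Nat.card ↥(Subgroup.zpowers z) := Subgroup.card_le_card_group _
    have h4 : Nat.card ↥(Subgroup.zpowers z) ≤ p := by
      rw [Nat.card_zpowers]
      exact Nat.le_of_dvd hp.pos (orderOf_dvd_of_pow_eq_one hzp)
    omega
  have h5 : Nat.card φ.ker = Nat.card ↥(Y ⊓ Subgroup.centralizer ({y} : Set P)) := by
    rw [hker]
    exact Nat.card_congr (Subgroup.subgroupOfEquivOfLe inf_le_left).toEquiv
  rw [← h1, h5, mul_comm]
  exact Nat.mul_le_mul_right _ h2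

/-- the conclusion we are after: a normal elementary abelian subgroup of order `p ^ 2` whose
centralizer has index at most `p` (in the strong form: in every subgroup). -/
def GoodEpSq (p : ℕ) {P : Type*} [Group P] (U : Subgroup P) : Prop :=
  U.Normal ∧ Cfsg.IsElementaryAbelian p U ∧ Nat.card ↥U = p ^ 2 ∧
    ∀ Y : Subgroup P, Nat.card ↥Y ≤ p * Nat.card ↥(Y ⊓ Subgroup.centralizer (U : Set P))

/-- **Lemma U**: a central element `z` of order `p` and an element `y ∉ ⟨z⟩` of order `p` that is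
central modulo `⟨z⟩` generate a normal elementary abelian subgroup of order `p ^ 2`. -/
theorem goodEpSq_of_central_mod {P : Type*} [Group P] [Finite P] {p : ℕ} [Fact p.Prime]
    (hP : IsPGroup p P) (z y : P) (hz : z ∈ Subgroup.center P) (hzp : z ^ p = 1) (hz1 : z ≠ 1)
    (hyp : y ^ p = 1) (hy : y ∉ Subgroup.zpowers z)
    (h : ∀ g : P, g * y * g⁻¹ * y⁻¹ ∈ Subgroup.zpowers z) :
    GoodEpSq p (Subgroup.zpowers z ⊔ Subgroup.zpowers y) := by
  have hp : p.Prime := Fact.out
  have hzc : ∀ g : P, g * z = z * g := fun g => (Subgroup.mem_center_iff.mp hz) g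
  have hy1 : y ≠ 1 := by
    rintro rfl
    exact hy (Subgroup.one_mem _)
  have hnorm : (Subgroup.zpowers z ⊔ Subgroup.zpowers y).Normal := by
    constructor
    intro n hn g
    refine conj_mem_sup_zpowers (Subgroup.zpowers z) y g ?_ ?_ n hn
    · intro e he
      have h1 : Subgroup.zpowers z ≤ Subgroup.center P := Subgroup.zpowers_le.mpr hz
      have h2 := (Subgroup.mem_center_iff.mp (h1 he)) g
      have h3 : g * e * g⁻¹ = e := by rw [h2]; group
      rw [h3]
      exact (le_sup_left : Subgroup.zpowers z ≤ _) he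
    · have h1 : g * y * g⁻¹ = (g * y * g⁻¹ * y⁻¹) * y := by group
      rw [h1]
      exact Subgroup.mul_mem _ ((le_sup_left : Subgroup.zpowers z ≤ _) (h g))
        ((le_sup_right : Subgroup.zpowers y ≤ _) (Subgroup.mem_zpowers y))
  have hEA : Cfsg.IsElementaryAbelian p (Subgroup.zpowers z ⊔ Subgroup.zpowers y) := by
    apply Cfsg.H5.isElementaryAbelian_sup (Cfsg.H5.isElementaryAbelian_zpowers hzp)
      (Cfsg.H5.isElementaryAbelian_zpowers hyp)
    rw [Subgroup.zpowers_le, Subgroup.mem_centralizer_iff]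
    intro w _
    exact hzc w
  have hcz : Nat.card ↥(Subgroup.zpowers z) = p := by
    rw [Nat.card_zpowers]; exact orderOf_eq_prime hzp hz1
  have hcy : Nat.card ↥(Subgroup.zpowers y) = p := by
    rw [Nat.card_zpowers]; exact orderOf_eq_prime hyp hy1
  have hcard : Nat.card ↥(Subgroup.zpowers z ⊔ Subgroup.zpowers y) = p ^ 2 := by
    have hzn : (Subgroup.zpowers z).Normal := by
      constructor
      intro n hn g
      have h1 : Subgroup.zpowers z ≤ Subgroup.center P := Subgroup.zpowers_le.mpr hz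
      have h2 := (Subgroup.mem_center_iff.mp (h1 hn)) g
      have h3 : g * n * g⁻¹ = n := by rw [h2]; group
      rw [h3]; exact hn
    have h1 : Nat.card ↥(Subgroup.zpowers y ⊔ Subgroup.zpowers z) ∣
        Nat.card ↥(Subgroup.zpowers y) * Nat.card ↥(Subgroup.zpowers z) :=
      Cfsg.Agent.Lib.Helper1.card_sup_dvd_of_normal _ _
    rw [sup_comm, hcz, hcy, ← sq] at h1
    have h2 : Subgroup.zpowers z < Subgroup.zpowers z ⊔ Subgroup.zpowers y := by
      refine lt_of_le_of_ne le_sup_left ?_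
      intro heq
      apply hy
      rw [heq]
      exact (le_sup_right : Subgroup.zpowers y ≤ _) (Subgroup.mem_zpowers y)
    have h3 := Cfsg.Agent.Lib.Helper1.card_lt_of_lt h2
    rw [hcz] at h3
    have h4 := sq_le_card_of_lt_card (hP.to_subgroup _) h3
    exact Nat.dvd_antisymm h1 (by
      obtain ⟨k, hk⟩ := (hP.to_subgroup (Subgroup.zpowers z ⊔ Subgroup.zpowers y)).exists_card_eq
      rw [hk] at h4 ⊢
      exact pow_dvd_pow p ((Nat.pow_le_pow_iff_right hp.one_lt).mp h4))
  refine ⟨hnorm, hEA, hcard, ?_⟩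
  intro Y
  have h1 := card_le_mul_card_inf_centralizer (p := p) z y hz hzp Y (fun g _ => h g)
  have h2 : Y ⊓ Subgroup.centralizer ({y} : Set P) ≤
      Y ⊓ Subgroup.centralizer ((Subgroup.zpowers z ⊔ Subgroup.zpowers y : Subgroup P) : Set P) := by
    apply inf_le_inf_left
    intro g hg
    have hgy : y * g = g * y := (Subgroup.mem_centralizer_iff.mp hg) y rfl
    have h3 : Subgroup.zpowers z ⊔ Subgroup.zpowers y ≤ Subgroup.centralizer ({g} : Set P) := by
      apply sup_le
      · rw [Subgroup.zpowers_le, Subgroup.mem_centralizer_iff]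
        intro w hw
        rw [Set.mem_singleton_iff] at hw
        subst hw
        exact hzc w
      · rw [Subgroup.zpowers_le, Subgroup.mem_centralizer_iff]
        intro w hw
        rw [Set.mem_singleton_iff] at hw
        subst hw
        exact hgy.symm
    rw [Subgroup.mem_centralizer_iff]
    intro u hu
    exact ((Subgroup.mem_centralizer_iff.mp (h3 hu)) g rfl).symm
  have h3 := Subgroup.card_le_of_le h2
  calc Nat.card ↥Y ≤ p * Nat.card ↥(Y ⊓ Subgroup.centralizer ({y} : Set P)) := h1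
    _ ≤ _ := Nat.mul_le_mul_left _ h3

/-- the elements of exponent `n` of an abelian subgroup -/
def omegaSub {P : Type*} [Group P] (A : Subgroup P) (hA : ∀ a ∈ A, ∀ b ∈ A, a * b = b * a)
    (n : ℕ) : Subgroup P where
  carrier := {a | a ∈ A ∧ a ^ n = 1}
  one_mem' := ⟨A.one_mem, one_pow n⟩
  mul_mem' := by
    rintro a b ⟨ha, han⟩ ⟨hb, hbn⟩
    refine ⟨A.mul_mem ha hb, ?_⟩
    rw [(show Commute a b from hA a ha b hb).mul_pow, han, hbn, one_mul]
  inv_mem' := by
    rintro a ⟨ha, han⟩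
    exact ⟨A.inv_mem ha, by rw [inv_pow, han, inv_one]⟩

theorem mem_omegaSub {P : Type*} [Group P] {A : Subgroup P}
    {hA : ∀ a ∈ A, ∀ b ∈ A, a * b = b * a} {n : ℕ} {a : P} :
    a ∈ omegaSub A hA n ↔ a ∈ A ∧ a ^ n = 1 := Iff.rfl

theorem conj_mem_omegaSub {P : Type*} [Group P] {A : Subgroup P} [hAn : A.Normal]
    {hA : ∀ a ∈ A, ∀ b ∈ A, a * b = b * a} {n : ℕ} (g : P) {a : P} (ha : a ∈ omegaSub A hA n) :
    g * a * g⁻¹ ∈ omegaSub A hA n := by
  refine ⟨hAn.conj_mem a ha.1 g, ?_⟩
  rw [conj_pow, ha.2, mul_one, mul_inv_cancel]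

/-- commutators of a group with a cyclic self-centralizing normal subgroup lie in that subgroup -/
theorem commutator_mem_of_cyclic_self_centralizing {P : Type*} [Group P] (A : Subgroup P)
    [hAn : A.Normal] (hcyc : IsCyclic ↥A) (hCA : Subgroup.centralizer (A : Set P) ≤ A)
    (g h : P) : g * h * g⁻¹ * h⁻¹ ∈ A := by
  apply hCA
  rw [Subgroup.mem_centralizer_iff]
  intro x hx
  have hcommAut : ∀ φ ψ : MulAut ↥A, φ * ψ = ψ * φ := by
    intro φ ψ
    apply (IsCyclic.mulAutMulEquiv ↥A).injective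
    rw [map_mul, map_mul, mul_comm]
  have h1 : (MulAut.conjNormal (H := A)) (g * h * g⁻¹ * h⁻¹) = 1 := by
    rw [map_mul, map_mul, map_mul, map_inv, map_inv,
      hcommAut (MulAut.conjNormal g) (MulAut.conjNormal h)]
    group
  have h2 := congrArg (fun φ : MulAut ↥A => ((φ ⟨x, hx⟩ : ↥A) : P)) h1
  simp only [MulAut.conjNormal_apply, MulAut.one_apply] at h2
  calc x * (g * h * g⁻¹ * h⁻¹)
      = (g * h * g⁻¹ * h⁻¹) * x * (g * h * g⁻¹ * h⁻¹)⁻¹ * (g * h * g⁻¹ * h⁻¹) := by rw [h2]
    _ = (g * h * g⁻¹ * h⁻¹) * x := by group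

/-- geometric sums modulo `m` when the ratio is `1` modulo `m` -/
theorem sum_pow_modEq {m r : ℕ} (hr : r ≡ 1 [MOD m]) (k : ℕ) :
    (∑ i ∈ Finset.range k, r ^ i) ≡ k [MOD m] := by
  induction k with
  | zero => simp only [Finset.range_zero, Finset.sum_empty]; rfl
  | succ k ih =>
    rw [Finset.sum_range_succ]
    have h1 : r ^ k ≡ 1 [MOD m] := by simpa using hr.pow k
    exact Nat.ModEq.add ih h1

/-- **normal `E_{p^2}`**: a finite `p`-group of rank at least `3` has a normal elementary abelian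
subgroup of order `p ^ 2`. -/
theorem exists_goodEpSq {P : Type*} [Group P] [Finite P] {p : ℕ} [Fact p.Prime]
    (hP : IsPGroup p P) (hrk : ¬ Cfsg.PRankLE p 2 P) : ∃ U : Subgroup P, GoodEpSq p U := by
  have hp : p.Prime := Fact.out
  obtain ⟨E0, hE0c, hE0p, hE0card⟩ : ∃ E0 : Subgroup P, IsMulCommutative ↥E0 ∧
      (∀ a ∈ E0, a ^ p = 1) ∧ p ^ 2 < Nat.card ↥E0 := by
    unfold Cfsg.PRankLE at hrk
    push Not at hrk
    exact hrk
  obtain ⟨A, hAn, hAc, hAmax⟩ := exists_maximal_normal_abelian P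
  have hCA := centralizer_le_of_maximal_normal_abelian hP A hAc hAmax
  have hAcomm : ∀ a ∈ A, ∀ b ∈ A, a * b = b * a := fun a ha b hb =>
    congrArg Subtype.val (hAc.is_comm.comm ⟨a, ha⟩ ⟨b, hb⟩)
  have hcardP : p ^ 2 < Nat.card P := lt_of_lt_of_le hE0card (Subgroup.card_le_card_group E0)
  have hp2 : p < p ^ 2 := by
    have := hp.one_lt
    nlinarith
  have hnt : Nontrivial P := by
    rw [← Finite.one_lt_card_iff_nontrivial]
    have := hp.one_lt
    omega
  have hcnt : Nontrivial ↥(Subgroup.center P) := hP.center_nontrivial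
  obtain ⟨c, hc1⟩ := exists_ne (1 : ↥(Subgroup.center P))
  have hc1' : (c : P) ≠ 1 := fun h => hc1 (Subtype.ext h)
  obtain ⟨z, hzc, hzp, hz1⟩ := exists_orderOf_eq_prime_zpowers hP (c : P) hc1'
  have hz : z ∈ Subgroup.center P := (Subgroup.zpowers_le.mpr c.2) hzc
  have hzA : z ∈ A := hCA (Subgroup.center_le_centralizer _ hz)
  have hzcard : Nat.card ↥(Subgroup.zpowers z) = p := by
    rw [Nat.card_zpowers]; exact orderOf_eq_prime hzp hz1
  have hznorm : ∀ x ∈ (⊤ : Subgroup P), ∀ n ∈ Subgroup.zpowers z, x * n * x⁻¹ ∈ Subgroup.zpowers z := by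
    intro x _ n hn
    have h1 : Subgroup.zpowers z ≤ Subgroup.center P := Subgroup.zpowers_le.mpr hz
    have h2 := (Subgroup.mem_center_iff.mp (h1 hn)) x
    have h3 : x * n * x⁻¹ = n := by rw [h2]; group
    rw [h3]; exact hn
  have hnil : Group.IsNilpotent ↥(⊤ : Subgroup P) := by
    have := hP.isNilpotent
    infer_instance
  by_cases hcase : ∃ y0 ∈ A, y0 ^ p = 1 ∧ y0 ∉ Subgroup.zpowers z
  · -- Case I: `Ω₁(A)` is not cyclic
    obtain ⟨y0, hy0A, hy0p, hy0z⟩ := hcase
    have hle : Subgroup.zpowers z ≤ omegaSub A hAcomm p := Subgroup.zpowers_le.mpr ⟨hzA, hzp⟩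
    have hne : Subgroup.zpowers z ≠ omegaSub A hAcomm p := by
      intro h
      apply hy0z
      rw [h]
      exact ⟨hy0A, hy0p⟩
    obtain ⟨y, hyK, hyE, hyF⟩ := exists_central_mod ⊤ (Subgroup.zpowers z) (omegaSub A hAcomm p)
      hnil hle le_top (le_normalizer_of_conj_mem hznorm)
      (le_normalizer_of_conj_mem (fun x _ n hn => conj_mem_omegaSub x hn)) hne
    exact ⟨_, goodEpSq_of_central_mod hP z y hz hzp hz1 hyK.2 hyE
      (fun g => hyF g (Subgroup.mem_top g))⟩
  · -- Case II: `Ω₁(A) = ⟨z⟩`, so `A` is cyclic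
    push Not at hcase
    -- an element of `A` of order greater than `p`
    have hex : ∃ x ∈ A, x ^ p ≠ 1 := by
      by_contra hall
      push Not at hall
      have hAz : A ≤ Subgroup.zpowers z := fun x hx => hcase x hx (hall x hx)
      have hAcen : A ≤ Subgroup.center P := hAz.trans (Subgroup.zpowers_le.mpr hz)
      have htop : (⊤ : Subgroup P) ≤ Subgroup.zpowers z := by
        refine le_trans ?_ (hCA.trans hAz)
        intro g _
        rw [Subgroup.mem_centralizer_iff]
        intro a ha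
        exact ((Subgroup.mem_center_iff.mp (hAcen ha)) g).symm
      have h1 := Subgroup.card_le_of_le htop
      rw [Subgroup.card_top, hzcard] at h1
      omega
    have hN1K2 : omegaSub A hAcomm p ≤ omegaSub A hAcomm (p ^ 2) := by
      rintro a ⟨ha, hap⟩
      exact ⟨ha, by rw [sq, pow_mul, hap, one_pow]⟩
    have hne : omegaSub A hAcomm p ≠ omegaSub A hAcomm (p ^ 2) := by
      classical
      obtain ⟨x, hxA, hxp⟩ := hex
      have hexk : ∃ k, x ^ p ^ k = 1 := hP x
      have hk := Nat.find_spec hexk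
      have hk2 : 2 ≤ Nat.find hexk := by
        by_contra hlt
        push Not at hlt
        have h01 : Nat.find hexk = 0 ∨ Nat.find hexk = 1 := by omega
        rcases h01 with h0 | h0
        · rw [h0, pow_zero, pow_one] at hk
          apply hxp
          rw [hk, one_pow]
        · rw [h0, pow_one] at hk
          exact hxp hk
      obtain ⟨k, hk'⟩ : ∃ k, Nat.find hexk = k + 2 := ⟨Nat.find hexk - 2, by omega⟩
      intro heq
      have hw : x ^ p ^ k ∈ omegaSub A hAcomm (p ^ 2) := by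
        refine ⟨A.pow_mem hxA _, ?_⟩
        rw [← pow_mul, ← pow_add, ← hk']
        exact hk
      rw [← heq] at hw
      have h1 : x ^ p ^ (k + 1) = 1 := by
        rw [pow_succ, pow_mul]
        exact hw.2
      have := Nat.find_min' hexk h1
      omega
    obtain ⟨b, hbK, hbN, hbF⟩ := exists_central_mod ⊤ (omegaSub A hAcomm p)
      (omegaSub A hAcomm (p ^ 2)) hnil hN1K2 le_top
      (le_normalizer_of_conj_mem (fun x _ n hn => conj_mem_omegaSub x hn))
      (le_normalizer_of_conj_mem (fun x _ n hn => conj_mem_omegaSub x hn)) hne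
    have hbA : b ∈ A := hbK.1
    have hbp2 : b ^ p ^ 2 = 1 := hbK.2
    have hbp : b ^ p ≠ 1 := fun h => hbN ⟨hbA, h⟩
    have hbcomm : ∀ g : P, g * b * g⁻¹ * b⁻¹ ∈ Subgroup.zpowers z := fun g =>
      hcase _ (hbF g (Subgroup.mem_top g)).1 (hbF g (Subgroup.mem_top g)).2
    have hK := card_le_mul_card_inf_centralizer (p := p) z b hz hzp E0 (fun g _ => hbcomm g)
    -- an element of `E0` centralizing `b` outside `A`
    obtain ⟨e, heE, heb, heA⟩ : ∃ e ∈ E0, b * e = e * b ∧ e ∉ A := by
      by_contra hnone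
      push Not at hnone
      have hle : E0 ⊓ Subgroup.centralizer ({b} : Set P) ≤ Subgroup.zpowers z := by
        intro e he
        obtain ⟨he1, he2⟩ := Subgroup.mem_inf.mp he
        exact hcase e (hnone e he1 ((Subgroup.mem_centralizer_iff.mp he2) b rfl)) (hE0p e he1)
      have h1 := Subgroup.card_le_of_le hle
      rw [hzcard] at h1
      have h2 : p * Nat.card ↥(E0 ⊓ Subgroup.centralizer ({b} : Set P)) ≤ p * p :=
        Nat.mul_le_mul_left _ h1
      rw [sq] at hE0card
      omega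
    have hep : e ^ p = 1 := hE0p e heE
    -- `A` is cyclic
    have hu : UniqueOrderP p ↥A := by
      intro x y hx hx1 hy
      have hx' : (x : P) ^ p = 1 := by
        have := congrArg Subtype.val hx
        simpa using this
      have hy' : (y : P) ^ p = 1 := by
        have := congrArg Subtype.val hy
        simpa using this
      have hx1' : (x : P) ≠ 1 := fun h0 => hx1 (Subtype.ext h0)
      have hxz : (x : P) ∈ Subgroup.zpowers z := hcase x x.2 hx'
      have hyz : (y : P) ∈ Subgroup.zpowers z := hcase y y.2 hy'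
      have heq : Subgroup.zpowers (x : P) = Subgroup.zpowers z := by
        apply Subgroup.eq_of_le_of_card_ge (Subgroup.zpowers_le.mpr hxz)
        rw [Nat.card_zpowers, Nat.card_zpowers, orderOf_eq_prime hx' hx1', orderOf_eq_prime hzp hz1]
      rw [← heq] at hyz
      obtain ⟨k, hk⟩ := Subgroup.mem_zpowers_iff.mp hyz
      refine Subgroup.mem_zpowers_iff.mpr ⟨k, ?_⟩
      apply Subtype.ext
      rw [Subgroup.coe_zpow]
      exact hk
    have hcyc : IsCyclic ↥A :=
      isCyclic_of_comm_of_uniqueOrderP (hP.to_subgroup A) (fun a b => hAc.is_comm.comm a b) hu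
    obtain ⟨⟨a, haA⟩, hgen⟩ := hcyc.exists_generator
    have hgen' : ∀ x ∈ A, ∃ k : ℕ, a ^ k = x := by
      intro x hx
      have h1 := hgen ⟨x, hx⟩
      have h2 : (⟨x, hx⟩ : ↥A) ∈ Submonoid.powers (⟨a, haA⟩ : ↥A) :=
        mem_powers_iff_mem_zpowers.mpr h1
      obtain ⟨k, hk⟩ := (Submonoid.mem_powers_iff _ _).mp h2
      refine ⟨k, ?_⟩
      have := congrArg Subtype.val hk
      simpa using this
    obtain ⟨r, hr⟩ := hgen' (e * a * e⁻¹) (hAn.conj_mem a haA e)
    have hconj : ∀ a' ∈ A, e * a' * e⁻¹ = a' ^ r := by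
      intro a' ha'
      obtain ⟨k, rfl⟩ := hgen' a' ha'
      rw [← conj_pow, ← hr, ← pow_mul, ← pow_mul, mul_comm]
    have hob : orderOf b = p ^ 2 := by
      have := orderOf_eq_prime_pow (x := b) (p := p) (n := 1) (by rwa [pow_one]) (by simpa using hbp2)
      simpa using this
    have hbr : b ^ r = b := by
      rw [← hconj b hbA, ← heb]
      group
    have hr1 : r ≡ 1 [MOD p ^ 2] := by
      have h1 : b ^ r = b ^ 1 := by rw [hbr, pow_one]
      rw [pow_eq_pow_iff_modEq, hob] at h1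
      exact h1
    have hS := sum_pow_modEq hr1 p
    have key : ∀ g : P, g * e * g⁻¹ * e⁻¹ ∈ Subgroup.zpowers z := by
      intro g
      have ha'A : g * e * g⁻¹ * e⁻¹ ∈ A :=
        commutator_mem_of_cyclic_self_centralizing A hcyc hCA g e
      have h1 := mul_pow_of_conj (hconj _ ha'A) 1 p
      have h2 : (g * e * g⁻¹ * e⁻¹) ^ 1 * e = g * e * g⁻¹ := by rw [pow_one]; group
      rw [h2, conj_pow, hep, mul_one, mul_inv_cancel, one_mul, mul_one] at h1
      apply hcase _ ha'A
      obtain ⟨m, hm⟩ := (IsPGroup.iff_orderOf.1 hP) (g * e * g⁻¹ * e⁻¹)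
      have hdvd : orderOf (g * e * g⁻¹ * e⁻¹) ∣ ∑ i ∈ Finset.range p, r ^ i :=
        orderOf_dvd_of_pow_eq_one h1.symm
      by_cases hm2 : 2 ≤ m
      · exfalso
        have h3 : p ^ 2 ∣ ∑ i ∈ Finset.range p, r ^ i := by
          refine dvd_trans ?_ hdvd
          rw [hm]
          exact pow_dvd_pow p hm2
        have h4 : p ^ 2 ∣ p := (Nat.ModEq.dvd_iff hS dvd_rfl).mp h3
        have := Nat.le_of_dvd hp.pos h4
        omega
      · push Not at hm2
        apply orderOf_dvd_iff_pow_eq_one.mp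
        rw [hm]
        calc p ^ m ∣ p ^ 1 := pow_dvd_pow p (by omega)
          _ = p := pow_one p
    have hez : e ∉ Subgroup.zpowers z := fun h => heA ((Subgroup.zpowers_le.mpr hzA) h)
    exact ⟨_, goodEpSq_of_central_mod hP z e hz hzp hz1 hep hez key⟩

end Cfsg.Agent.Lib.Helper10
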