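import Mathlib
import Cfsg.Prelude
import Cfsg.Agent.Lib.Helper10.Transport
import Cfsg.Agent.Lib.Helper10.PComponent2
import Cfsg.Agent.Lib.Helper20.PLen

/-!
Unpacking `Cfsg.PLengthLE p 1 G` (`G = O_{p',p,p'}(G)`) for a finite group.
-/

set_option autoImplicit false

namespace Cfsg.Agent.Lib.Helper10

open Cfsg Cfsg.Agent.Lib.Helper1

section

variable {G : Type*} [Group G]

theorem upperPSeries_zero (p : ℕ) : (upperPSeries p G 0).1 = ⊥ := rfl

theorem upperPSeries_succ_even (p : ℕ) (n : ℕ) (hn : Even n) :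
    (upperPSeries p G (n + 1)).1 =
      (pPrimeCore p (G ⧸ (upperPSeries p G n).1)).comap (QuotientGroup.mk' (upperPSeries p G n).1) := by
  rw [upperPSeries]
  simp only [hn, if_true]

theorem upperPSeries_succ_odd (p : ℕ) (n : ℕ) (hn : ¬ Even n) :
    (upperPSeries p G (n + 1)).1 =
      (pCore p (G ⧸ (upperPSeries p G n).1)).comap (QuotientGroup.mk' (upperPSeries p G n).1) := by
  rw [upperPSeries]
  simp only [hn, if_false]

theorem comap_mk_pPrimeCore_of_eq_bot (p : ℕ) (N : Subgroup G) [N.Normal] (h : N = ⊥) :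
    (pPrimeCore p (G ⧸ N)).comap (QuotientGroup.mk' N) = pPrimeCore p G := by
  have hinj : Function.Injective (QuotientGroup.mk' N) := by
    rw [← MonoidHom.ker_eq_bot_iff, QuotientGroup.ker_mk', h]
  have e : G ≃* G ⧸ N := MulEquiv.ofBijective (QuotientGroup.mk' N)
    ⟨hinj, QuotientGroup.mk'_surjective N⟩
  have h1 : (pPrimeCore p G).map (QuotientGroup.mk' N) = pPrimeCore p (G ⧸ N) :=
    map_pPrimeCore (MulEquiv.ofBijective (QuotientGroup.mk' N)
      ⟨hinj, QuotientGroup.mk'_surjective N⟩) p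
  rw [← h1, Subgroup.comap_map_eq_self_of_injective hinj]

theorem comap_mk_pCore_of_eq (p : ℕ) (N : Subgroup G) [N.Normal] (h : N = pPrimeCore p G) :
    (pCore p (G ⧸ N)).comap (QuotientGroup.mk' N) = pPrimePCore p G := by
  subst h
  rfl

theorem upperPSeries_one (p : ℕ) : (upperPSeries p G 1).1 = pPrimeCore p G := by
  rw [upperPSeries_succ_even p 0 (by decide)]
  exact comap_mk_pPrimeCore_of_eq_bot p _ (upperPSeries_zero p)

theorem upperPSeries_two (p : ℕ) : (upperPSeries p G 2).1 = pPrimePCore p G := by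
  rw [upperPSeries_succ_odd p 1 (by decide)]
  exact comap_mk_pCore_of_eq p _ (upperPSeries_one p)

theorem comap_mk_pPrimeCore_eq_top_iff (p : ℕ) (N M : Subgroup G) [N.Normal] [M.Normal] (h : N = M) :
    (pPrimeCore p (G ⧸ N)).comap (QuotientGroup.mk' N) = ⊤ ↔ pPrimeCore p (G ⧸ M) = ⊤ := by
  subst h
  constructor
  · intro h1
    have := congrArg (Subgroup.map (QuotientGroup.mk' N)) h1
    rwa [Subgroup.map_comap_eq_self_of_surjective (QuotientGroup.mk'_surjective N),
      Subgroup.map_top_of_surjective _ (QuotientGroup.mk'_surjective N)] at this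
  · intro h1
    rw [h1, Subgroup.comap_top]

/-- `p`-length at most one: `G / O_{p',p}(G)` is a `p'`-group -/
theorem pLengthLE_one_iff (p : ℕ) :
    PLengthLE p 1 G ↔ pPrimeCore p (G ⧸ pPrimePCore p G) = ⊤ := by
  unfold PLengthLE
  rw [show 2 * 1 + 1 = 2 + 1 from rfl, upperPSeries_succ_even p 2 (by decide)]
  exact comap_mk_pPrimeCore_eq_top_iff p _ _ (upperPSeries_two p)

theorem index_pPrimePCore_coprime_of_pLengthLE_one [Finite G] (p : ℕ) (h : PLengthLE p 1 G) :
    ((pPrimePCore p G).index).Coprime p := by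
  rw [pLengthLE_one_iff] at h
  have h1 := pPrimeCore_coprime (G := G ⧸ pPrimePCore p G) p
  rw [h, Subgroup.card_top] at h1
  exact h1

theorem pLengthLE_one_of_index_coprime [Finite G] (p : ℕ)
    (h : ((pPrimePCore p G).index).Coprime p) : PLengthLE p 1 G := by
  rw [pLengthLE_one_iff, eq_top_iff]
  apply le_pPrimeCore inferInstance
  rw [Subgroup.card_top]
  exact h

/-- in a group of `p`-length one every Sylow `p`-subgroup lies in `O_{p',p}(G)` -/
theorem sylow_le_pPrimePCore [Finite G] (p : ℕ) [Fact p.Prime] (h : PLengthLE p 1 G)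
    (S : Sylow p G) : (S : Subgroup G) ≤ pPrimePCore p G := by
  intro x hx
  apply mem_of_isSubnormal_of_coprime_index
    (Subgroup.Normal.isSubnormal (inferInstance : (pPrimePCore p G).Normal))
    (index_pPrimePCore_coprime_of_pLengthLE_one p h)
  obtain ⟨k, hk⟩ := (IsPGroup.iff_orderOf.1 S.2) ⟨x, hx⟩
  exact ⟨k, by rw [← hk]; simp⟩

/-- `O_{p',p}(G) = O_{p'}(G) S` for a Sylow `p`-subgroup `S ≤ O_{p',p}(G)` -/
theorem pPrimePCore_eq_sup_sylow [Finite G] (p : ℕ) [Fact p.Prime] (S : Sylow p G)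
    (hS : (S : Subgroup G) ≤ pPrimePCore p G) :
    pPrimePCore p G = pPrimeCore p G ⊔ (S : Subgroup G) := by
  have h1 := map_mk_sylow_pPrimePCore p (S.subtype hS)
  rw [Sylow.coe_subtype, Subgroup.subgroupOf_map_subtype, inf_of_le_left hS] at h1
  have h2 : pPrimePCore p G = (pCore p (G ⧸ pPrimeCore p G)).comap
      (QuotientGroup.mk' (pPrimeCore p G)) := rfl
  rw [h2, ← h1, QuotientGroup.comap_map_mk']

/-- Frattini argument in a group of `p`-length one: `G = N_G(S) O_{p'}(G)` -/
theorem normalizer_sylow_sup_pPrimeCore [Finite G] (p : ℕ) [Fact p.Prime] (h : PLengthLE p 1 G)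
    (S : Sylow p G) :
    pPrimeCore p G ⊔ Subgroup.normalizer ((S : Subgroup G) : Set G) = ⊤ := by
  have hS := sylow_le_pPrimePCore p h S
  have h1 := Sylow.normalizer_sup_eq_top' S hS
  rw [pPrimePCore_eq_sup_sylow p S hS] at h1
  rw [eq_top_iff, ← h1]
  apply sup_le le_sup_right
  exact sup_le le_sup_left (le_trans Subgroup.le_normalizer le_sup_right)

end

end Cfsg.Agent.Lib.Helper10
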