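import Mathlib
import Cfsg.Prelude.Def_Transfer
import Cfsg.Prelude.Def_CaseTheorems
import Cfsg.Agent.Lib.Helper10.PGroup
import Cfsg.Agent.Lib.Helper10.NarrowFit
import Cfsg.Agent.Lib.Helper1.ClassTwo
import Cfsg.Agent.Lib.Helper1.Basic

/-!
Normal elementary abelian subgroups above a given normal elementary abelian subgroup `E` of a
`p`-group, `p` odd: if `C_P(E)` has an element of order `p` outside `E`, there is a normal elementary
abelian subgroup properly containing `E`.
-/

set_option autoImplicit false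

open scoped commutatorElement

namespace Cfsg.Agent.Lib.Helper10

universe u

/-- **Lemma V**: for normal subgroups `E ≤ M` with `E` of exponent `p` (`p` odd) centralized by `M`,
the elements of `M` of order dividing `p` that are central modulo `E` in `M` form a normal
subgroup. -/
theorem exists_omega_central_mod {P : Type*} [Group P] {p : ℕ} [Fact p.Prime] (hp : p ≠ 2)
    (M E : Subgroup P) [hMn : M.Normal] [hEn : E.Normal]
    (hEc : ∀ e ∈ E, ∀ m ∈ M, e * m = m * e) (hEp : ∀ e ∈ E, e ^ p = 1) :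
    ∃ V : Subgroup P, V.Normal ∧
      ∀ y, y ∈ V ↔ (y ∈ M ∧ y ^ p = 1 ∧ ∀ m ∈ M, ⁅y, m⁆ ∈ E) := by
  have hpp : p.Prime := Fact.out
  refine ⟨{ carrier := {y | y ∈ M ∧ y ^ p = 1 ∧ ∀ m ∈ M, ⁅y, m⁆ ∈ E}
            mul_mem' := ?_
            one_mem' := ?_
            inv_mem' := ?_ }, ⟨?_⟩, fun y => Iff.rfl⟩
  · rintro a b ⟨haM, hap, hac⟩ ⟨hbM, hbp, hbc⟩
    refine ⟨mul_mem haM hbM, ?_, ?_⟩
    · have hc : ⁅b, a⁆ ∈ E := hbc a haM
      have hca := hEc _ hc a haM
      have hcb := hEc _ hc b hbM
      rw [Cfsg.Agent.Lib.Helper1.mul_pow_of_commutator_central hca hcb p, hap, hbp, one_mul,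
        one_mul]
      have h2 : p ∣ p.choose 2 := by
        apply hpp.dvd_choose_self (by norm_num)
        have := hpp.two_le
        omega
      obtain ⟨k, hk⟩ := h2
      rw [hk, pow_mul, hEp _ hc, one_pow]
    · intro m hm
      have h1 : ⁅a * b, m⁆ = a * ⁅b, m⁆ * a⁻¹ * ⁅a, m⁆ := by
        simp only [commutatorElement_def]
        group
      rw [h1]
      exact mul_mem (hEn.conj_mem _ (hbc m hm) a) (hac m hm)
  · refine ⟨one_mem _, one_pow _, ?_⟩
    intro m _
    rw [commutatorElement_one_left]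
    exact one_mem _
  · rintro a ⟨haM, hap, hac⟩
    refine ⟨inv_mem haM, by rw [inv_pow, hap, inv_one], ?_⟩
    intro m hm
    have h1 : ⁅a⁻¹, m⁆ = a⁻¹ * (⁅a, m⁆)⁻¹ * a⁻¹⁻¹ := by
      simp only [commutatorElement_def]
      group
    rw [h1]
    exact hEn.conj_mem _ (inv_mem (hac m hm)) a⁻¹
  · rintro y ⟨hyM, hyp, hyc⟩ g
    refine ⟨hMn.conj_mem y hyM g, ?_, ?_⟩
    · rw [conj_pow, hyp, mul_one, mul_inv_cancel]
    · intro m hm
      have h1 : ⁅g * y * g⁻¹, m⁆ = g * ⁅y, g⁻¹ * m * g⁻¹⁻¹⁆ * g⁻¹ := by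
        simp only [commutatorElement_def]
        group
      rw [h1]
      exact hEn.conj_mem _ (hyc _ (hMn.conj_mem m hm g⁻¹)) g

/-- **Lemma Q**: a normal subgroup `V` of a `p`-group not contained in the normal subgroup `E`
has an element outside `E` that is central modulo `E`. -/
theorem exists_central_mod_of_normal {P : Type*} [Group P] [Finite P] {p : ℕ} [Fact p.Prime]
    (hP : IsPGroup p P) (V E : Subgroup P) [hVn : V.Normal] [hEn : E.Normal]
    (h : ∃ y ∈ V, y ∉ E) : ∃ y ∈ V, y ∉ E ∧ ∀ g : P, ⁅y, g⁆ ∈ E := by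
  obtain ⟨y0, hy0V, hy0E⟩ := h
  have hfs : Function.Surjective (QuotientGroup.mk' E) := QuotientGroup.mk'_surjective _
  have hQ : IsPGroup p (P ⧸ E) := hP.to_quotient _
  have hVbar : (V.map (QuotientGroup.mk' E)).Normal := hVn.map _ hfs
  have hne : V.map (QuotientGroup.mk' E) ≠ ⊥ := by
    intro hbot
    have h1 : QuotientGroup.mk' E y0 ∈ V.map (QuotientGroup.mk' E) :=
      Subgroup.mem_map_of_mem _ hy0V
    rw [hbot, Subgroup.mem_bot, QuotientGroup.mk'_apply, QuotientGroup.eq_one_iff] at h1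
    exact hy0E h1
  have h2 := normal_inf_center_ne_bot hQ (V.map (QuotientGroup.mk' E)) hne
  obtain ⟨⟨q, hq⟩, hq1⟩ := (Subgroup.ne_bot_iff_exists_ne_one).mp h2
  rw [Subgroup.mem_inf] at hq
  obtain ⟨⟨y, hyV, rfl⟩, hqc⟩ := hq
  refine ⟨y, hyV, ?_, ?_⟩
  · intro hyE
    apply hq1
    apply Subtype.ext
    show QuotientGroup.mk' E y = 1
    rw [QuotientGroup.mk'_apply, QuotientGroup.eq_one_iff]
    exact hyE
  · intro g
    rw [← QuotientGroup.eq_one_iff, ← QuotientGroup.mk'_apply, map_commutatorElement]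
    rw [Subgroup.mem_center_iff] at hqc
    rw [commutatorElement_eq_one_iff_mul_comm]
    exact (hqc _).symm

/-- **Theorem X**: if the central subgroup `E` of exponent `p` of the `p`-group `T` (`p` odd) does
not contain all elements of order dividing `p`, some element of order `p` outside `E` is central
modulo `E`. -/
theorem exists_order_p_central_mod_aux {p : ℕ} [Fact p.Prime] (hp : p ≠ 2) :
    ∀ (n : ℕ) {T : Type u} [Group T] [Finite T], Nat.card T ≤ n → IsPGroup p T →
      ∀ E : Subgroup T, E ≤ Subgroup.center T → (∀ e ∈ E, e ^ p = 1) →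
      (∃ x, x ∉ E ∧ x ^ p = 1) → ∃ y, y ∉ E ∧ y ^ p = 1 ∧ ∀ t : T, ⁅y, t⁆ ∈ E := by
  have hpp : p.Prime := Fact.out
  intro n
  induction n with
  | zero =>
    intro T _ _ hcard
    have := Nat.card_pos (α := T)
    omega
  | succ n ih =>
    intro T _ _ hcard hT E hEcen hEp hx
    obtain ⟨x, hxE, hxp⟩ := hx
    have hEn : E.Normal := by
      refine ⟨fun e he g => ?_⟩
      have := (Subgroup.mem_center_iff.mp (hEcen he)) g
      rw [this, mul_inv_cancel_right]
      exact he
    by_cases htop : E ⊔ Subgroup.zpowers x = ⊤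
    · refine ⟨x, hxE, hxp, ?_⟩
      intro t
      have h1 : E ⊔ Subgroup.zpowers x ≤ Subgroup.centralizer ({x} : Set T) := by
        apply sup_le
        · intro e he
          rw [Subgroup.mem_centralizer_iff]
          intro y hy
          rw [Set.mem_singleton_iff] at hy
          subst hy
          exact (Subgroup.mem_center_iff.mp (hEcen he)) y
        · rw [Subgroup.zpowers_le, Subgroup.mem_centralizer_iff]
          intro y hy
          rw [Set.mem_singleton_iff] at hy
          subst hy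
          rfl
      have h2 : t ∈ Subgroup.centralizer ({x} : Set T) := by
        apply h1
        rw [htop]
        exact Subgroup.mem_top t
      have h3 : x * t = t * x := (Subgroup.mem_centralizer_iff.mp h2) x rfl
      have h4 : ⁅x, t⁆ = 1 := by
        rw [commutatorElement_eq_one_iff_mul_comm]
        exact h3
      rw [h4]
      exact one_mem _
    · obtain ⟨M, hMco, hHM⟩ := (eq_top_or_exists_le_coatom (E ⊔ Subgroup.zpowers x)).resolve_left htop
      have hnil : Group.IsNilpotent T := hT.isNilpotent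
      have hMn : M.Normal :=
        Subgroup.NormalizerCondition.normal_of_coatom (G := T) M Group.normalizerCondition_of_isNilpotent hMco
      have hEM : E ≤ M := le_sup_left.trans hHM
      have hxM : x ∈ M := hHM (le_sup_right (a := E) (Subgroup.mem_zpowers x))
      have hMcard : Nat.card ↥M ≤ n := by
        have h1 : M < ⊤ := lt_top_iff_ne_top.mpr hMco.1
        have h2 := Cfsg.Agent.Lib.Helper1.card_lt_of_lt h1
        rw [Subgroup.card_top] at h2
        omega
      -- apply the induction hypothesis inside `M`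
      have h1 := ih (T := ↥M) hMcard (hT.to_subgroup M) (E.subgroupOf M)
        (by
          intro e he
          rw [Subgroup.mem_subgroupOf] at he
          rw [Subgroup.mem_center_iff]
          intro m
          apply Subtype.ext
          exact (Subgroup.mem_center_iff.mp (hEcen he)) (m : T))
        (by
          intro e he
          rw [Subgroup.mem_subgroupOf] at he
          apply Subtype.ext
          exact hEp _ he)
        ⟨⟨x, hxM⟩, by
          rw [Subgroup.mem_subgroupOf]
          exact hxE, by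
          apply Subtype.ext
          exact hxp⟩
      obtain ⟨⟨y0, hy0M⟩, hy0E, hy0p, hy0c⟩ := h1
      rw [Subgroup.mem_subgroupOf] at hy0E
      have hy0p' : y0 ^ p = 1 := congrArg Subtype.val hy0p
      have hy0c' : ∀ m ∈ M, ⁅y0, m⁆ ∈ E := by
        intro m hm
        have := hy0c ⟨m, hm⟩
        rw [Subgroup.mem_subgroupOf] at this
        exact this
      obtain ⟨V, hVn, hV⟩ := exists_omega_central_mod hp M E
        (fun e he m _ => ((Subgroup.mem_center_iff.mp (hEcen he)) m).symm) hEp
      have hy0V : y0 ∈ V := (hV y0).mpr ⟨hy0M, hy0p', hy0c'⟩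
      obtain ⟨y, hyV, hyE, hyc⟩ := exists_central_mod_of_normal hT V E ⟨y0, hy0V, hy0E⟩
      exact ⟨y, hyE, ((hV y).mp hyV).2.1, hyc⟩

theorem exists_order_p_central_mod {p : ℕ} [Fact p.Prime] (hp : p ≠ 2) {T : Type u} [Group T]
    [Finite T] (hT : IsPGroup p T) (E : Subgroup T) (hEcen : E ≤ Subgroup.center T)
    (hEp : ∀ e ∈ E, e ^ p = 1) (hx : ∃ x, x ∉ E ∧ x ^ p = 1) :
    ∃ y, y ∉ E ∧ y ^ p = 1 ∧ ∀ t : T, ⁅y, t⁆ ∈ E :=
  exists_order_p_central_mod_aux hp (Nat.card T) le_rfl hT E hEcen hEp hx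

/-- a normal elementary abelian subgroup `E` of a `p`-group (`p` odd) whose centralizer has an
element of order `p` outside `E` lies properly in a normal elementary abelian subgroup. -/
theorem exists_normal_elemAb_gt {P : Type u} [Group P] [Finite P] {p : ℕ} [Fact p.Prime]
    (hp : p ≠ 2) (hP : IsPGroup p P) (E : Subgroup P) [hEn : E.Normal]
    (hE : Cfsg.IsElementaryAbelian p E)
    (h : ∃ x ∈ Subgroup.centralizer (E : Set P), x ∉ E ∧ x ^ p = 1) :
    ∃ F : Subgroup P, F.Normal ∧ Cfsg.IsElementaryAbelian p F ∧ E < F := by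
  obtain ⟨x, hxT, hxE, hxp⟩ := h
  have hTn : (Subgroup.centralizer (E : Set P)).Normal := inferInstance
  have hET : E ≤ Subgroup.centralizer (E : Set P) := by
    intro e he
    rw [Subgroup.mem_centralizer_iff]
    intro f hf
    exact congrArg Subtype.val (hE.1.is_comm.comm ⟨f, hf⟩ ⟨e, he⟩)
  -- Theorem X inside the centralizer
  have h1 := exists_order_p_central_mod hp (hP.to_subgroup (Subgroup.centralizer (E : Set P)))
    (E.subgroupOf (Subgroup.centralizer (E : Set P)))
    (by
      intro e he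
      rw [Subgroup.mem_subgroupOf] at he
      rw [Subgroup.mem_center_iff]
      intro m
      apply Subtype.ext
      exact ((Subgroup.mem_centralizer_iff.mp m.2) _ he).symm)
    (by
      intro e he
      rw [Subgroup.mem_subgroupOf] at he
      apply Subtype.ext
      exact hE.2 _ he)
    ⟨⟨x, hxT⟩, by
      rw [Subgroup.mem_subgroupOf]
      exact hxE, by
      apply Subtype.ext
      exact hxp⟩
  obtain ⟨⟨y0, hy0T⟩, hy0E, hy0p, hy0c⟩ := h1
  rw [Subgroup.mem_subgroupOf] at hy0E
  have hy0p' : y0 ^ p = 1 := congrArg Subtype.val hy0p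
  have hy0c' : ∀ m ∈ Subgroup.centralizer (E : Set P), ⁅y0, m⁆ ∈ E := by
    intro m hm
    have := hy0c ⟨m, hm⟩
    rw [Subgroup.mem_subgroupOf] at this
    exact this
  obtain ⟨V, hVn, hV⟩ := exists_omega_central_mod hp (Subgroup.centralizer (E : Set P)) E
    (fun e he m hm => (Subgroup.mem_centralizer_iff.mp hm) e he) hE.2
  have hy0V : y0 ∈ V := (hV y0).mpr ⟨hy0T, hy0p', hy0c'⟩
  obtain ⟨y, hyV, hyE, hyc⟩ := exists_central_mod_of_normal hP V E ⟨y0, hy0V, hy0E⟩
  obtain ⟨hyT, hyp, -⟩ := (hV y).mp hyV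
  have h2 := elemAb_zpowers (p := p) y hyp
  have h3 := elemAb_sup E (Subgroup.zpowers y) hE.1 h2.1 hE.2 h2.2 (by
    intro e he d hd
    have h4 : Subgroup.zpowers y ≤ Subgroup.centralizer ({e} : Set P) := by
      rw [Subgroup.zpowers_le, Subgroup.mem_centralizer_iff]
      intro z hz
      rw [Set.mem_singleton_iff] at hz
      subst hz
      exact (Subgroup.mem_centralizer_iff.mp hyT) z he
    exact (Subgroup.mem_centralizer_iff.mp (h4 hd)) e rfl)
  refine ⟨E ⊔ Subgroup.zpowers y, ⟨?_⟩, ⟨h3.1, h3.2⟩, ?_⟩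
  · intro f hf g
    have h5 : (E ⊔ Subgroup.zpowers y).map (MulAut.conj g).toMonoidHom ≤ E ⊔ Subgroup.zpowers y := by
      rw [Subgroup.map_sup]
      apply sup_le
      · refine le_trans ?_ le_sup_left
        rintro _ ⟨e, he, rfl⟩
        exact hEn.conj_mem e he g
      · rw [MonoidHom.map_zpowers, Subgroup.zpowers_le]
        have h6 : (MulAut.conj g).toMonoidHom y = (⁅y, g⁆)⁻¹ * y := by
          show g * y * g⁻¹ = (⁅y, g⁆)⁻¹ * y
          simp only [commutatorElement_def]
          group
        rw [h6]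
        exact mul_mem (le_sup_left (a := E) (inv_mem (hyc g)))
          (le_sup_right (a := E) (Subgroup.mem_zpowers y))
    exact h5 (Subgroup.mem_map_of_mem _ hf)
  · refine lt_of_le_of_ne le_sup_left ?_
    intro heq
    apply hyE
    rw [heq]
    exact le_sup_right (a := E) (Subgroup.mem_zpowers y)

/-- a maximal normal abelian subgroup above a given normal abelian subgroup -/
theorem exists_maximal_normal_abelian_ge {G : Type*} [Group G] [Finite G] (F : Subgroup G)
    (hFn : F.Normal) (hFc : IsMulCommutative ↥F) :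
    ∃ A : Subgroup G, F ≤ A ∧ A.Normal ∧ IsMulCommutative ↥A ∧
      ∀ B : Subgroup G, B.Normal → IsMulCommutative ↥B → A ≤ B → B = A := by
  have hfin : Set.Finite {A : Subgroup G | F ≤ A ∧ A.Normal ∧ IsMulCommutative ↥A} :=
    Set.toFinite _
  have hne : {A : Subgroup G | F ≤ A ∧ A.Normal ∧ IsMulCommutative ↥A}.Nonempty :=
    ⟨F, le_rfl, hFn, hFc⟩
  obtain ⟨A, hA, hmax⟩ := hfin.exists_maximal hne
  refine ⟨A, hA.1, hA.2.1, hA.2.2, ?_⟩
  intro B hBn hBc hAB
  exact le_antisymm (hmax ⟨hA.1.trans hAB, hBn, hBc⟩ hAB) hAB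

end Cfsg.Agent.Lib.Helper10
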