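import Mathlib
import Cfsg.Prelude
import Cfsg.Agent.Lib.Helper10.BGBase
import Cfsg.Agent.Lib.Helper10.BGSylow
import Cfsg.Agent.Lib.Helper10.BGSolv
import Cfsg.Agent.Lib.Helper10.BGUniq
import Cfsg.Agent.Lib.Helper10.BGUniq2
import Cfsg.Agent.Lib.Helper10.BGUniq3
import Cfsg.Agent.Lib.Helper10.PLength
import Cfsg.Agent.Lib.Helper10.NormalEpSq
import Cfsg.Agent.Lib.Lead.BGTransHyp
import Cfsg.Agent.S1450
import Cfsg.Agent.S1452
import Cfsg.Agent.S1457

/-!
# Bender--Glauberman, Theorem 9.1

A nontrivial `p`-subgroup `B` of a maximal subgroup `M` such that every `p'`-subgroup normalized by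
`B` lies in `M` is contained in no other maximal subgroup.
-/

set_option autoImplicit false
open Cfsg
open scoped commutatorElement Pointwise

namespace Cfsg.Agent.Lib.Helper10.BG

open Cfsg.Agent.Lib.Lead.Trans
open Cfsg.Agent.Lib.Lead.BGTrans
open Cfsg.Agent.Lib.Lead.BGTrans5
open Cfsg.Agent.Lib.Helper12 (IsPiNat)

section TypeLevel

/-- `O_{p',p}(X) ≤ O_{p'}(X) S` for every Sylow `p`-subgroup `S`. -/
theorem pPrimePCore_le_sup_sylow {X : Type*} [Group X] [Finite X] (p : ℕ) [Fact p.Prime]
    (S : Sylow p X) : pPrimePCore p X ≤ pPrimeCore p X ⊔ (S : Subgroup X) := by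
  have hNn : (pPrimeCore p X).Normal := Cfsg.Agent.Lib.Helper1.pPrimeCore_normal p
  have hsurj : Function.Surjective (QuotientGroup.mk' (pPrimeCore p X)) :=
    QuotientGroup.mk'_surjective _
  intro v hv
  have h1 : QuotientGroup.mk' (pPrimeCore p X) v ∈ pCore p (X ⧸ pPrimeCore p X) := hv
  have h2 : QuotientGroup.mk' (pPrimeCore p X) v ∈
      ((S.mapSurjective hsurj : Sylow p (X ⧸ pPrimeCore p X)) : Subgroup (X ⧸ pPrimeCore p X)) :=
    Cfsg.Agent.Lib.Helper1.pCore_le_sylow (S.mapSurjective hsurj) h1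
  rw [Sylow.coe_mapSurjective] at h2
  obtain ⟨s, hs, hsv⟩ := h2
  have h3 : s⁻¹ * v ∈ pPrimeCore p X := by
    rw [← QuotientGroup.eq_one_iff, QuotientGroup.mk_mul, QuotientGroup.mk_inv]
    have : (QuotientGroup.mk s : X ⧸ pPrimeCore p X) = QuotientGroup.mk v := hsv
    rw [this, inv_mul_cancel]
  have h4 : v = s * (s⁻¹ * v) := by group
  rw [h4]
  exact Subgroup.mul_mem _ (Subgroup.mem_sup_right hs) (Subgroup.mem_sup_left h3)

theorem pRankLE_of_injective {X Y : Type*} [Group X] [Group Y] (f : X →* Y)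
    (hf : Function.Injective f) {p k : ℕ} (h : PRankLE p k Y) : PRankLE p k X := by
  intro B hB hBp
  have h1 := h (B.map f) (Subgroup.map_isMulCommutative B f) (by
    rintro _ ⟨b, hb, rfl⟩
    rw [← map_pow, hBp b hb, map_one])
  rwa [Subgroup.card_map_of_injective hf] at h1

end TypeLevel

variable {G : Type*} [Group G]

section Conj

theorem mem_normalizer_map_conj {D : Subgroup G} {g x : G}
    (h : g⁻¹ * x * g ∈ Subgroup.normalizer (D : Set G)) :
    x ∈ Subgroup.normalizer ((D.map (MulAut.conj g).toMonoidHom : Subgroup G) : Set G) := by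
  apply mem_normalizer_of_map_conj_eq
  have h1 := Cfsg.Agent.Lib.Helper10.map_conj_eq_of_mem_normalizer D _ h
  rw [Subgroup.map_map]
  have h2 : (MulAut.conj x).toMonoidHom.comp (MulAut.conj g).toMonoidHom =
      (MulAut.conj g).toMonoidHom.comp (MulAut.conj (g⁻¹ * x * g)).toMonoidHom := by
    ext y
    simp only [MonoidHom.coe_comp, MulEquiv.coe_toMonoidHom, Function.comp_apply,
      MulAut.conj_apply]
    group
  rw [h2, ← Subgroup.map_map, h1]

omit [Group G] in
theorem isElementaryAbelian_map [Group G] {G' : Type*} [Group G'] (f : G →* G') {p : ℕ}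
    {B : Subgroup G} (hB : IsElementaryAbelian p B) : IsElementaryAbelian p (B.map f) := by
  refine ⟨Cfsg.Agent.Lib.Helper10.isMulCommutative_map' f hB.1, ?_⟩
  rintro _ ⟨b, hb, rfl⟩
  rw [← map_pow, hB.2 b hb, map_one]

end Conj

variable [Finite G]

section Rank

/-- a Sylow `p`-subgroup of a subgroup of `p`-rank `> k` has `p`-rank `> k`. -/
theorem not_pRankLE_sylow_of_not_pRankLE {p k : ℕ} [Fact p.Prime] {P H : Subgroup G}
    (hP : IsSylowIn p P H) (hr : ¬ PRankLE p k ↥H) : ¬ PRankLE p k ↥P := by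
  unfold PRankLE at hr
  push Not at hr
  obtain ⟨B, hBc, hBp, hBcard⟩ := hr
  have hBe : IsElementaryAbelian p B := ⟨hBc, hBp⟩
  have hB'e : IsElementaryAbelian p (B.map H.subtype) := isElementaryAbelian_map _ hBe
  have hB'card : Nat.card (B.map H.subtype) = Nat.card B :=
    Subgroup.card_map_of_injective H.subtype_injective
  have hB'p : IsPGroup p (B.map H.subtype) :=
    Cfsg.Agent.Lib.Lead.BGTrans.isPGroup_of_pow_eq_one hB'e.2
  obtain ⟨T, hT, hBT⟩ := exists_isSylowIn_ge (Subgroup.map_subtype_le B) hB'p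
  obtain ⟨x, -, hx⟩ := hP.exists_conj hT
  have hB'' : (B.map H.subtype).map (MulAut.conj x⁻¹).toMonoidHom ≤ P := by
    have h1 := Subgroup.map_mono (f := (MulAut.conj x⁻¹).toMonoidHom) hBT
    rwa [hx, map_conj_inv_map_conj] at h1
  apply not_pRankLE_of_le hB'' (isElementaryAbelian_map _ hB'e)
  rw [Subgroup.card_map_of_injective (MulAut.conj x⁻¹).injective, hB'card]
  exact hBcard

/-- existence of a self-centralizing normal subgroup of rank at least three. -/
theorem exists_isSCN_of_not_pRankLE {p : ℕ} [Fact p.Prime] (hp2 : p ≠ 2) {P : Subgroup G}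
    (hP : IsPGroup p P) (hr : ¬ PRankLE p 2 ↥P) :
    ∃ A : Subgroup G, IsSCN P A ∧ ¬ PRankLE p 2 ↥A := by
  obtain ⟨U, hUn, hUe, hU2, -⟩ := Cfsg.Agent.Lib.Helper10.exists_goodEpSq hP hr
  haveI := hUn
  obtain ⟨A, -, hAn, hAC, hA3⟩ := Cfsg.Agent.S1452.result p hp2 hP hr U hUe hU2
  refine ⟨A.map P.subtype, ⟨Subgroup.map_subtype_le A, ?_, ?_⟩, ?_⟩
  · apply le_normalizer_of_conj_mem
    rintro x hx _ ⟨a, ha, rfl⟩
    exact ⟨⟨x, hx⟩ * a * ⟨x, hx⟩⁻¹, hAn.conj_mem a ha ⟨x, hx⟩, rfl⟩
  · ext g
    constructor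
    · rintro ⟨hgP, hgC⟩
      have h1 : (⟨g, hgP⟩ : P) ∈ Subgroup.centralizer (A : Set P) := by
        rw [Subgroup.mem_centralizer_iff]
        intro a ha
        apply Subtype.ext
        exact Subgroup.mem_centralizer_iff.mp hgC _ ⟨a, ha, rfl⟩
      rw [hAC] at h1
      exact ⟨⟨g, hgP⟩, h1, rfl⟩
    · rintro ⟨a, ha, rfl⟩
      refine ⟨a.2, ?_⟩
      show (a : G) ∈ Subgroup.centralizer ((A.map P.subtype : Subgroup G) : Set G)
      rw [Subgroup.mem_centralizer_iff]
      rintro _ ⟨b, hb, rfl⟩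
      have ha' : a ∈ Subgroup.centralizer (A : Set P) := by rw [hAC]; exact ha
      have := Subgroup.mem_centralizer_iff.mp ha' b hb
      exact congrArg Subtype.val this
  · intro h
    apply hA3
    exact pRankLE_of_injective (A.equivMapOfInjective P.subtype P.subtype_injective).toMonoidHom
      (A.equivMapOfInjective P.subtype P.subtype_injective).injective h

end Rank

section Generation

open Cfsg.Agent.Lib.Helper1 (CoprimeAct)

theorem exists_invariant_sylow' {A K : Subgroup G} (h : CoprimeAct A K) {q : ℕ} (hq : q.Prime) :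
    ∃ Y : Subgroup G, Y ≤ K ∧ Nat.card Y = q ^ (Nat.card K).factorization q ∧
      A ≤ Subgroup.normalizer (Y : Set G) := by
  have : Fact q.Prime := ⟨hq⟩
  obtain ⟨P, hP⟩ := h.exists_invariant_sylSet q
  exact ⟨P.1, P.2.1, P.2.2, hP⟩

/-- under coprime action, a subgroup containing all invariant subgroups of prime power order
contains everything. -/
theorem le_of_invariant_pgroups_le {A K T : Subgroup G} (h : CoprimeAct A K)
    (hT : ∀ q : ℕ, q.Prime → ∀ Y : Subgroup G, Y ≤ K → IsPGroup q Y →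
      A ≤ Subgroup.normalizer (Y : Set G) → Y ≤ T) : K ≤ T := by
  have hex : ∀ q : Nat.Primes, ∃ Y : Subgroup G, Y ≤ K ∧
      Nat.card Y = (q : ℕ) ^ (Nat.card K).factorization q ∧
      A ≤ Subgroup.normalizer (Y : Set G) := fun q => exists_invariant_sylow' h q.2
  choose Y hYK hYcard hYA using hex
  have hJK : (⨆ q : Nat.Primes, Y q) ≤ K := iSup_le hYK
  have hJT : (⨆ q : Nat.Primes, Y q) ≤ T := by
    apply iSup_le
    intro q
    have : Fact (q : ℕ).Prime := ⟨q.2⟩
    exact hT q q.2 (Y q) (hYK q) (IsPGroup.of_card (hYcard q)) (hYA q)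
  have hdvd : Nat.card K ∣ Nat.card (⨆ q : Nat.Primes, Y q : Subgroup G) := by
    rw [← Nat.factorization_le_iff_dvd Nat.card_pos.ne' Nat.card_pos.ne']
    intro q
    by_cases hq : q.Prime
    · rw [← hq.pow_dvd_iff_le_factorization Nat.card_pos.ne']
      have h1 := Subgroup.card_dvd_of_le (le_iSup Y ⟨q, hq⟩)
      rw [hYcard ⟨q, hq⟩] at h1
      exact h1
    · rw [Nat.factorization_eq_zero_of_not_prime _ hq]
      exact Nat.zero_le _
  have hle : Nat.card K ≤ Nat.card (⨆ q : Nat.Primes, Y q : Subgroup G) :=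
    Nat.le_of_dvd Nat.card_pos hdvd
  have heq : (⨆ q : Nat.Primes, Y q) = K := Subgroup.eq_of_le_of_card_ge hJK hle
  rw [← heq]
  exact hJT

end Generation

section PLengthOne

/-- rank at most two: `X = O_{p'}(X) N_X(T)` for a maximal `p`-subgroup `T` of the solvable
subgroup `X` of odd order. -/
theorem le_ppCoreOf_sup_normalizer_of_pRankLE {p : ℕ} [Fact p.Prime] {X T : Subgroup G}
    (hX : Group.IsSolvable X) (hodd : Odd (Nat.card X)) (hpX : p ∣ Nat.card X)
    (hT : IsSylowIn p T X) (hr : PRankLE p 2 ↥X) :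
    X ≤ ppCoreOf p X ⊔ (X ⊓ Subgroup.normalizer (T : Set G)) := by
  haveI := hX
  have h1 := (Cfsg.Agent.S1450.result hodd p hpX hr).2.2.2.2.2
  have h2 := Cfsg.Agent.Lib.Helper10.pLengthLE_one_of_index_coprime p h1
  have key := Cfsg.Agent.Lib.Helper10.normalizer_sylow_sup_pPrimeCore p h2 hT.toSylow
  rw [hT.coe_toSylow] at key
  intro x hx
  have h3 : (⟨x, hx⟩ : X) ∈ (⊤ : Subgroup X) := Subgroup.mem_top _
  rw [← key] at h3
  have h4 : x ∈ (pPrimeCore p X ⊔ Subgroup.normalizer
      ((T.subgroupOf X : Subgroup X) : Set X)).map X.subtype := ⟨⟨x, hx⟩, h3, rfl⟩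
  rw [Subgroup.map_sup] at h4
  have h5 : (Subgroup.normalizer ((T.subgroupOf X : Subgroup X) : Set X)).map X.subtype ≤
      X ⊓ Subgroup.normalizer (T : Set G) := by
    apply le_inf (Subgroup.map_subtype_le _)
    apply le_normalizer_of_conj_mem
    rintro _ ⟨n, hn, rfl⟩ t ht
    have h6 : n * ⟨t, hT.le ht⟩ * n⁻¹ ∈ T.subgroupOf X :=
      conj_mem_of_mem_normalizer hn (by rw [Subgroup.mem_subgroupOf]; exact ht)
    exact h6
  have h6 := sup_le_sup (le_refl (ppCoreOf p X)) h5
  exact h6 h4

/-- `p`-stability: the conjugates in `X` of an abelian normal subgroup of a maximal `p`-subgroup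
`T` of `X` lie in `O_{p'}(X) T`. -/
theorem conj_mem_ppCoreOf_sup_of_abelian {p : ℕ} [Fact p.Prime] {X T A : Subgroup G}
    (hX : Group.IsSolvable X) (hodd : Odd (Nat.card X)) (hT : IsSylowIn p T X) (hAT : A ≤ T)
    (hAc : ∀ a ∈ A, ∀ b ∈ A, a * b = b * a) (hTA : T ≤ Subgroup.normalizer (A : Set G))
    {h a : G} (hh : h ∈ X) (ha : a ∈ A) : h * a * h⁻¹ ∈ ppCoreOf p X ⊔ T := by
  haveI := hX
  have hAX : A ≤ X := hAT.trans hT.le
  have h1 : A.subgroupOf X ≤ pPrimePCore p X := by
    apply Cfsg.Agent.S1457.result hodd p hT.toSylow (A.subgroupOf X)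
    · intro a' ha'
      exact (hT.mem_toSylow a').mpr (hAT ha')
    · refine ⟨⟨?_⟩⟩
      rintro ⟨x, hx⟩ ⟨y, hy⟩
      apply Subtype.ext
      apply Subtype.ext
      exact hAc _ hx _ hy
    · intro t ht
      apply mem_normalizer_subgroupOf
      exact hTA ((hT.mem_toSylow t).mp ht)
  have hVn : (pPrimePCore p X).Normal := inferInstance
  have h2 : (⟨h, hh⟩ : X) * ⟨a, hAX ha⟩ * (⟨h, hh⟩ : X)⁻¹ ∈ pPrimePCore p X :=
    hVn.conj_mem _ (h1 (by rw [Subgroup.mem_subgroupOf]; exact ha)) _
  have h3 := pPrimePCore_le_sup_sylow p hT.toSylow h2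
  rw [hT.coe_toSylow] at h3
  have h4 : h * a * h⁻¹ ∈ (pPrimeCore p X ⊔ T.subgroupOf X).map X.subtype :=
    ⟨_, h3, rfl⟩
  rw [Subgroup.map_sup, Subgroup.map_subgroupOf_eq_of_le hT.le] at h4
  exact h4

end PLengthOne

section Nine

/-- **Bender--Glauberman, Theorem 9.1**, in the form: a nontrivial `p`-subgroup `B` of the maximal
subgroup `M` such that every `p'`-subgroup normalized by `B` lies in `M` is contained in no other
maximal subgroup. -/
theorem eq_of_isCoatom_of_invariant_le (hG : IsMinSimpleOddOrder G) {M : Subgroup G}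
    (hM : IsCoatom M) {p : ℕ} [Fact p.Prime] {B : Subgroup G} (hB1 : B ≠ ⊥) (hBp : IsPGroup p B)
    (hBM : B ≤ M)
    (hinv : ∀ Y : Subgroup G, (Nat.card Y).Coprime p → B ≤ Subgroup.normalizer (Y : Set G) →
      Y ≤ M)
    {H : Subgroup G} (hH : IsCoatom H) (hBH : B ≤ H) : H = M := by
  by_contra hHM
  have hp : p.Prime := Fact.out
  have hp2 : p ≠ 2 := prime_ne_two_of_pgroup hG hBp hB1
  have hMsolv := isSolvable_of_ne_top hG hM.1
  obtain ⟨D, hD⟩ : ∃ D : Subgroup G, D = ppCoreOf p M := ⟨_, rfl⟩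
  have hDM : D ≤ M := by rw [hD]; exact ppCoreOf_le p M
  have hMD : M ≤ Subgroup.normalizer (D : Set G) := by rw [hD]; exact le_normalizer_ppCoreOf p M
  have hDcop : (Nat.card D).Coprime p := by rw [hD]; exact coprime_card_ppCoreOf p M
  -- invariant `p'`-subgroups under a Sylow subgroup of `M` containing `B`
  have hclaim1 : ∀ P : Subgroup G, IsSylowIn p P M → B ≤ P → ∀ Y : Subgroup G,
      (Nat.card Y).Coprime p → P ≤ Subgroup.normalizer (Y : Set G) → Y ≤ D := by
    intro P hP hBP Y hY hPY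
    rw [hD]
    exact le_ppCoreOf_of_sylow_invariant hMsolv hP (hinv Y hY (hBP.trans hPY)) hY hPY
  have hclaim2 : ∀ P : Subgroup G, IsSylowIn p P M → B ≤ P →
      Subgroup.normalizer (P : Set G) ≤ M ∧ IsSylowIn p P ⊤ ∧
        (D = ⊥ → Subgroup.normalizer (puigZ P : Set G) = M) := by
    intro P hP hBP
    have hP1 : P ≠ ⊥ := by
      intro h
      apply hB1
      rw [eq_bot_iff, ← h]
      exact hBP
    have hpuig : D = ⊥ → Subgroup.normalizer (puigZ P : Set G) = M := by
      intro hD0
      rw [hD] at hD0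
      exact (isSylowIn_top_of_ppCoreOf_eq_bot hG hM hP hP1 hD0).1
    have hNP : Subgroup.normalizer (P : Set G) ≤ M := by
      by_cases hD0 : D = ⊥
      · rw [← hpuig hD0]
        exact normalizer_le_normalizer_puigZ P
      · have hND : Subgroup.normalizer (D : Set G) = M :=
          normalizer_eq_of_isCoatom' hG hM hD0 hDM hMD
        intro g hg
        rw [← hND]
        have h1 : D.map (MulAut.conj g).toMonoidHom ≤ D := by
          apply hclaim1 P hP hBP
          · rw [Subgroup.card_map_of_injective (MulAut.conj g).injective]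
            exact hDcop
          · intro x hx
            apply mem_normalizer_map_conj
            exact hMD (hP.le (conj_mem_of_mem_normalizer' hg hx))
        apply mem_normalizer_of_map_conj_eq
        apply Subgroup.eq_of_le_of_card_ge h1
        rw [Subgroup.card_map_of_injective (MulAut.conj g).injective]
    refine ⟨hNP, ?_, hpuig⟩
    apply IsSylowIn.of_normalizer_le le_top hP.isPGroup
    intro x _ hxN hxp
    have h3 := hP.eq_of_le (sup_le hP.le (Subgroup.zpowers_le.mpr (hNP hxN))) hxp le_sup_left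
    rw [← h3]
    exact Subgroup.mem_sup_right (Subgroup.mem_zpowers x)
  -- the extremal pair
  obtain ⟨S, hS⟩ : ∃ S : Set (Subgroup G × Subgroup G),
      S = {x | IsCoatom x.1 ∧ x.1 ≠ M ∧ B ≤ x.2 ∧ x.2 ≤ x.1 ∧ x.2 ≤ M ∧ IsPGroup p x.2} :=
    ⟨_, rfl⟩
  have hSne : Nonempty S := by
    refine ⟨⟨(H, B), ?_⟩⟩
    rw [hS]
    exact ⟨hH, hHM, le_rfl, hBH, hBM, hBp⟩
  obtain ⟨⟨⟨H', R⟩, hHR⟩, hmax⟩ := Finite.exists_max (fun x : S => Nat.card x.1.2)
  have hHR' : IsCoatom H' ∧ H' ≠ M ∧ B ≤ R ∧ R ≤ H' ∧ R ≤ M ∧ IsPGroup p R := by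
    rw [hS] at hHR
    exact hHR
  obtain ⟨hH'c, hH'M, hBR, hRH, hRM, hRp⟩ := hHR'
  have hmax' : ∀ L R' : Subgroup G, IsCoatom L → L ≠ M → B ≤ R' → R' ≤ L → R' ≤ M →
      IsPGroup p R' → Nat.card R' ≤ Nat.card R := by
    intro L R' a b c d e f
    have hmem : (L, R') ∈ S := by
      rw [hS]
      exact ⟨a, b, c, d, e, f⟩
    exact hmax ⟨(L, R'), hmem⟩
  have hR1 : R ≠ ⊥ := by
    intro h
    apply hB1
    rw [eq_bot_iff, ← h]
    exact hBR
  have hH'solv := isSolvable_of_ne_top hG hH'c.1
  have hH'odd := odd_card_subgroup hG H'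
  obtain ⟨P, hP, hRP⟩ := exists_isSylowIn_ge hRM hRp
  have hBP : B ≤ P := hBR.trans hRP
  obtain ⟨hNP, hPtop, hpuigP⟩ := hclaim2 P hP hBP
  have hOH : ppCoreOf p H' ≤ M :=
    hinv _ (coprime_card_ppCoreOf p H') ((hBR.trans hRH).trans (le_normalizer_ppCoreOf p H'))
  have hfin : H' ≤ M → False := fun hle => hH'M (eq_of_isCoatom_of_le hH'c hM hle).symm
  by_cases hRS : IsSylowIn p R P
  · have h3 : P = R := hRS.eq_of_le le_rfl hP.isPGroup hRP
    rw [← h3] at hRH hR1
    have hPH' : IsSylowIn p P H' := hPtop.of_le hRH le_top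
    by_cases hD0 : D = ⊥
    · apply hfin
      refine (puig_sup hp2 hH'solv hH'odd hPH').trans (sup_le hOH ?_)
      rw [hpuigP hD0]
      exact inf_le_right
    · have hND : Subgroup.normalizer (D : Set G) = M :=
        normalizer_eq_of_isCoatom' hG hM hD0 hDM hMD
      have hpH' : p ∣ Nat.card H' :=
        (dvd_card_of_pgroup_ne_bot hP.isPGroup hR1).trans (Subgroup.card_dvd_of_le hRH)
      by_cases hr : PRankLE p 2 ↥H'
      · apply hfin
        exact (le_ppCoreOf_sup_normalizer_of_pRankLE hH'solv hH'odd hpH' hPH' hr).trans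
          (sup_le hOH (inf_le_right.trans hNP))
      · have hrP : ¬ PRankLE p 2 ↥P := not_pRankLE_sylow_of_not_pRankLE hPH' hr
        obtain ⟨A, ⟨hAP, hPNA, hPCA⟩, hA3⟩ := exists_isSCN_of_not_pRankLE hp2 hP.isPGroup hrP
        have hA1 : A ≠ ⊥ := ne_bot_of_not_pRankLE hp hA3
        have hAp : IsPGroup p A := hP.isPGroup.to_le hAP
        have hAC : A ≤ Subgroup.centralizer (A : Set G) := by
          intro x hx
          have h4 : x ∈ P ⊓ Subgroup.centralizer (A : Set G) := by rw [hPCA]; exact hx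
          exact h4.2
        have hAcomm : ∀ x ∈ A, ∀ y ∈ A, x * y = y * x := fun x hx y hy =>
          Subgroup.mem_centralizer_iff.mp (hAC hy) x hx
        have hpA : p ∣ Nat.card A := dvd_card_of_pgroup_ne_bot hAp hA1
        have hpG : p ∣ Nat.card G := hpA.trans (Subgroup.card_subgroup_dvd_card A)
        have hTH : TransitivityHypothesis A := by
          apply Cfsg.Agent.Lib.Lead.BGTransHyp.transitivityHypothesis_of_omega hG p hpG A hAp hA1
          intro y hy hyo
          exact Cfsg.Agent.Lib.Lead.BGTransHyp.mem_of_scn hPtop.toSylowTop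
            (by rw [hPtop.coe_toSylowTop]; exact ⟨hAP, hPNA, hPCA⟩) hy hyo
        have hZ : ¬ RankLE 2 ↥(A ⊓ Subgroup.centralizer (A : Set G)) := by
          rw [inf_of_le_left hAC]
          exact fun h => hA3 (h p hp)
        have hPtop' : P ≠ ⊤ := pgroup_ne_top hG.2 hP.isPGroup
        have hPπ : ∀ r : ℕ, r.Prime → r ∣ Nat.card P → r ∣ Nat.card A := by
          intro r hr hrd
          obtain ⟨k, hk⟩ := hP.isPGroup.exists_card_eq
          rw [hk] at hrd
          have hrp : r = p := (Nat.prime_dvd_prime_iff_eq hr hp).mp (hr.dvd_of_dvd_pow hrd)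
          rw [hrp]
          exact hpA
        have hsn : (A.subgroupOf P).IsSubnormal :=
          (Subgroup.normal_subgroupOf_of_le_normalizer hPNA).isSubnormal
        -- all `A`-invariant `q`-subgroups lie in `D`
        have hinvD : ∀ q : ℕ, q.Prime → q ≠ p → ∀ Y : Subgroup G, IsPGroup q Y →
            A ≤ Subgroup.normalizer (Y : Set G) → Y ≤ D := by
          intro q hq hqp Y hY hAY
          have : Fact q.Prime := ⟨hq⟩
          have hqA : ¬ q ∣ Nat.card A := by
            intro h
            obtain ⟨k, hk⟩ := hAp.exists_card_eq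
            rw [hk] at h
            exact hqp ((Nat.prime_dvd_prime_iff_eq hq hp).mp (hq.dvd_of_dvd_pow h))
          have hK : piCoreOf (primesNotDvd (Nat.card A)) (Subgroup.centralizer (A : Set G)) ≤
              D := by
            apply hclaim1 P hP hBP
            · exact Nat.Coprime.coprime_dvd_right hpA
                (coprime_of_isPiNat_primesNotDvd (piCoreOf_isPiNat _ _))
            · exact hPNA.trans ((normalizer_le_normalizer_centralizer A).trans
                (normalizer_le_normalizer_piCoreOf _ _))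
          obtain ⟨Q, hYQ, hQ⟩ := exists_maxInv A q (⟨hY, hAY⟩ : Inv A q Y)
          obtain ⟨Q₁, -, hQ₁⟩ := exists_maxInv P q (inv_bot P q)
          have htr : TransOn (primesNotDvd (Nat.card A)) A q :=
            fun Q₁ Q₂ h₁ h₂ => bg73 hG A hTH hZ q hqA h₁ h₂
          obtain ⟨-, -, h75, -⟩ := bg75 hG A hTH q hqA P hPtop' hPπ hAP hsn htr
          obtain ⟨k, hk, hkQ⟩ := bg73 hG A hTH hZ q hqA (h75 Q₁ hQ₁) hQ
          have hQ₁D : Q₁ ≤ D :=
            hclaim1 P hP hBP Q₁ (coprime_card_prime_of_isPGroup hp hq (Ne.symm hqp) hQ₁.1.1)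
              hQ₁.1.2
          rw [hkQ] at hYQ
          exact hYQ.trans
            (Cfsg.Agent.Lib.Helper1.conj_smul_le_of_mem_normalizer (hMD (hDM (hK hk))) hQ₁D)
        have hHD : H' ≤ Subgroup.normalizer (D : Set G) := by
          intro h hh
          have hAD' : A ≤ Subgroup.normalizer
              ((D.map (MulAut.conj h).toMonoidHom : Subgroup G) : Set G) := by
            intro a ha
            apply mem_normalizer_map_conj
            have h4 := conj_mem_ppCoreOf_sup_of_abelian hH'solv hH'odd hPH' hAP hAcomm hPNA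
              (H'.inv_mem hh) ha
            rw [inv_inv] at h4
            exact hMD ((sup_le hOH hP.le) h4)
          have hcop' : Cfsg.Agent.Lib.Helper1.CoprimeAct A
              (D.map (MulAut.conj h).toMonoidHom) :=
            { norm := hAD'
              cop := by
                rw [Subgroup.card_map_of_injective (MulAut.conj h).injective]
                obtain ⟨k, hk⟩ := hAp.exists_card_eq
                rw [hk]
                exact Nat.Coprime.pow_left k hDcop.symm
              solv := Or.inl (by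
                have := hAp.isNilpotent
                infer_instance) }
          have h1 : D.map (MulAut.conj h).toMonoidHom ≤ D := by
            apply le_of_invariant_pgroups_le hcop'
            intro q hq Y hYD' hY hAY
            by_cases hqp : q = p
            · have hYbot : Y = ⊥ := by
                apply eq_bot_of_le_of_coprime hYD'
                rw [Subgroup.card_map_of_injective (MulAut.conj h).injective]
                have : Fact q.Prime := ⟨hq⟩
                obtain ⟨k, hk⟩ := hY.exists_card_eq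
                rw [hk, hqp]
                exact Nat.Coprime.pow_left k hDcop.symm
              rw [hYbot]
              exact bot_le
            · exact hinvD q hq hqp Y hY hAY
          apply mem_normalizer_of_map_conj_eq
          apply Subgroup.eq_of_le_of_card_ge h1
          rw [Subgroup.card_map_of_injective (MulAut.conj h).injective]
        apply hfin
        rw [← hND]
        exact hHD
  · obtain ⟨x, hxP, hxN, hxR, -⟩ := exists_normalizer_gt hRP hRp hRS
    obtain ⟨R₁, hR₁⟩ : ∃ R₁ : Subgroup G, R₁ = R ⊔ Subgroup.zpowers x := ⟨_, rfl⟩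
    have hRR₁ : R ≤ R₁ := by rw [hR₁]; exact le_sup_left
    have hR₁P : R₁ ≤ P := by
      rw [hR₁]
      exact sup_le hRP (Subgroup.zpowers_le.mpr hxP)
    have hR₁p : IsPGroup p R₁ := hP.isPGroup.to_le hR₁P
    have hR₁M : R₁ ≤ M := hR₁P.trans hP.le
    have hR₁N : R₁ ≤ Subgroup.normalizer (R : Set G) := by
      rw [hR₁]
      exact sup_le Subgroup.le_normalizer (Subgroup.zpowers_le.mpr hxN)
    have hlt : Nat.card R < Nat.card R₁ := by
      by_contra hle
      push Not at hle
      have h3 : R = R₁ := Subgroup.eq_of_le_of_card_ge hRR₁ hle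
      apply hxR
      rw [h3, hR₁]
      exact Subgroup.mem_sup_right (Subgroup.mem_zpowers x)
    have hRtop : R ≠ ⊤ := ne_top_of_le_isCoatom hM hRM
    have hNR : Subgroup.normalizer (R : Set G) ≠ ⊤ :=
      Cfsg.Agent.Lib.Lead.BGTrans.normalizer_ne_top hG.2 hR1 hRtop
    obtain ⟨L, hL, hNL⟩ := exists_isCoatom_ge hNR
    have hLM : L = M := by
      by_contra hLM
      have h3 := hmax' L R₁ hL hLM (hBR.trans hRR₁) (hR₁N.trans hNL) hR₁M hR₁p
      omega
    rw [hLM] at hNL
    have hRH' : IsSylowIn p R H' := by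
      apply IsSylowIn.of_normalizer_le hRH hRp
      intro y hyH hyN hyp
      have hyM : y ∈ M := hNL hyN
      have h3 := hmax' H' (R ⊔ Subgroup.zpowers y) hH'c hH'M (hBR.trans le_sup_left)
        (sup_le hRH (Subgroup.zpowers_le.mpr hyH)) (sup_le hRM (Subgroup.zpowers_le.mpr hyM)) hyp
      have h4 : R = R ⊔ Subgroup.zpowers y := Subgroup.eq_of_le_of_card_ge le_sup_left h3
      rw [h4]
      exact Subgroup.mem_sup_right (Subgroup.mem_zpowers y)
    have hNZ : Subgroup.normalizer (puigZ R : Set G) ≤ M := by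
      have hZ1 : puigZ R ≠ ⊥ := puigZ_ne_bot hRp hR1
      have hZtop : puigZ R ≠ ⊤ := ne_top_of_le_isCoatom hM ((puigZ_le R).trans hRM)
      have hNZtop := Cfsg.Agent.Lib.Lead.BGTrans.normalizer_ne_top hG.2 hZ1 hZtop
      obtain ⟨L', hL', hNL'⟩ := exists_isCoatom_ge hNZtop
      have hL'M : L' = M := by
        by_contra hne
        have h3 := hmax' L' R₁ hL' hne (hBR.trans hRR₁)
          ((hR₁N.trans (normalizer_le_normalizer_puigZ R)).trans hNL') hR₁M hR₁p
        omega
      rw [← hL'M]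
      exact hNL'
    apply hfin
    exact (puig_sup hp2 hH'solv hH'odd hRH').trans (sup_le hOH (inf_le_right.trans hNZ))

end Nine

end Cfsg.Agent.Lib.Helper10.BG
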