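import Mathlib
import Cfsg.Prelude
import Cfsg.Agent.Lib.Helper10.BGBase
import Cfsg.Agent.Lib.Helper10.BGSylow
import Cfsg.Agent.Lib.Helper10.BGSolv
import Cfsg.Agent.Lib.Helper10.BGUniq3
import Cfsg.Agent.Lib.Helper10.BGNine
import Cfsg.Agent.Lib.Helper10.UniqueOrderP
import Cfsg.Agent.Lib.Helper10.NormalEpSq

/-!
# Auxiliary facts for Bender--Glauberman, Section 9

Conjugation invariance of "lies in a unique maximal subgroup", noncyclic `p`-groups of odd order
have rank at least two, and the centralizer of a normal `E_{p^2}`.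
-/

set_option autoImplicit false
open Cfsg

namespace Cfsg.Agent.Lib.Helper10.BG

variable {G : Type*} [Group G]

section ConjInv

theorem isCoatom_map_conj {M : Subgroup G} (g : G) (h : IsCoatom M) :
    IsCoatom (M.map (MulAut.conj g).toMonoidHom) :=
  (OrderIso.isCoatom_iff (MulEquiv.mapSubgroup (MulAut.conj g)) M).mpr h

theorem inUniqueMaximal_map_conj [Finite G] {X : Subgroup G} (g : G) (h : InUniqueMaximal X) :
    InUniqueMaximal (X.map (MulAut.conj g).toMonoidHom) := by
  obtain ⟨M, hM, hXM, huniq⟩ := inUniqueMaximal_exists h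
  apply inUniqueMaximal_of (isCoatom_map_conj g hM) (Subgroup.map_mono hXM)
  intro L hL hXL
  have h1 : X ≤ L.map (MulAut.conj g⁻¹).toMonoidHom := by
    have := Subgroup.map_mono (f := (MulAut.conj g⁻¹).toMonoidHom) hXL
    rwa [map_conj_inv_map_conj] at this
  have h2 : L.map (MulAut.conj g⁻¹).toMonoidHom = M := huniq _ (isCoatom_map_conj g⁻¹ hL) h1
  rw [← h2, map_conj_map_conj_inv]

end ConjInv

section RankTwo

theorem isElementaryAbelian_zpowers_sup_zpowers {P : Type*} [Group P] {p : ℕ} {z w : P}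
    (hz : z ∈ Subgroup.center P) (hzp : z ^ p = 1) (hwp : w ^ p = 1) :
    IsElementaryAbelian p (Subgroup.zpowers z ⊔ Subgroup.zpowers w) := by
  have hcomm : ∀ a ∈ Subgroup.zpowers z, ∀ b ∈ Subgroup.zpowers w, a * b = b * a := by
    intro a ha b _
    have hac : a ∈ Subgroup.center P := (Subgroup.zpowers_le.mpr hz) ha
    exact ((Subgroup.mem_center_iff.mp hac) b).symm
  have hdecomp : ∀ x ∈ Subgroup.zpowers z ⊔ Subgroup.zpowers w,
      ∃ a ∈ Subgroup.zpowers z, ∃ b ∈ Subgroup.zpowers w, x = a * b :=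
    fun x hx => mem_sup_of_commute' hcomm hx
  have hzpow : ∀ a ∈ Subgroup.zpowers z, a ^ p = 1 := by
    intro a ha
    obtain ⟨k, rfl⟩ := Subgroup.mem_zpowers_iff.mp ha
    rw [← zpow_natCast, ← zpow_mul, mul_comm, zpow_mul, zpow_natCast, hzp, one_zpow]
  have hwpow : ∀ b ∈ Subgroup.zpowers w, b ^ p = 1 := by
    intro b hb
    obtain ⟨k, rfl⟩ := Subgroup.mem_zpowers_iff.mp hb
    rw [← zpow_natCast, ← zpow_mul, mul_comm, zpow_mul, zpow_natCast, hwp, one_zpow]
  have hwcomm : ∀ b ∈ Subgroup.zpowers w, ∀ b' ∈ Subgroup.zpowers w, b * b' = b' * b := by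
    intro b hb b' hb'
    obtain ⟨k, rfl⟩ := Subgroup.mem_zpowers_iff.mp hb
    obtain ⟨l, rfl⟩ := Subgroup.mem_zpowers_iff.mp hb'
    rw [← zpow_add, ← zpow_add, add_comm]
  constructor
  · refine ⟨⟨?_⟩⟩
    rintro ⟨x, hx⟩ ⟨y, hy⟩
    apply Subtype.ext
    show x * y = y * x
    obtain ⟨a, ha, b, hb, rfl⟩ := hdecomp x hx
    obtain ⟨a', ha', b', hb', rfl⟩ := hdecomp y hy
    have hac : a ∈ Subgroup.center P := (Subgroup.zpowers_le.mpr hz) ha
    have ha'c : a' ∈ Subgroup.center P := (Subgroup.zpowers_le.mpr hz) ha'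
    have h1 : ∀ g : P, g * a = a * g := fun g => Subgroup.mem_center_iff.mp hac g
    have h2 : ∀ g : P, g * a' = a' * g := fun g => Subgroup.mem_center_iff.mp ha'c g
    calc a * b * (a' * b') = a * (b * a') * b' := by group
      _ = a * (a' * b) * b' := by rw [h2 b]
      _ = (a * a') * (b * b') := by group
      _ = (a' * a) * (b' * b) := by rw [h2 a, hwcomm b hb b' hb']
      _ = a' * (a * b') * b := by group
      _ = a' * (b' * a) * b := by rw [h1 b']
      _ = a' * b' * (a * b) := by group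
  · intro x hx
    obtain ⟨a, ha, b, hb, rfl⟩ := hdecomp x hx
    have hab : Commute a b := hcomm a ha b hb
    rw [hab.mul_pow, hzpow a ha, hwpow b hb, one_mul]

/-- a noncyclic `p`-group, `p` odd, contains an elementary abelian subgroup of order `p ^ 2`. -/
theorem not_pRankLE_one_of_not_isCyclic {p : ℕ} [Fact p.Prime] (hp2 : p ≠ 2) {P : Type*}
    [Group P] [Finite P] (hP : IsPGroup p P) (hnc : ¬ IsCyclic P) : ¬ PRankLE p 1 P := by
  intro hr
  apply hnc
  have hu : UniqueOrderP p P := by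
    intro x y hx hx1 hy
    have hnt : Nontrivial P := ⟨⟨x, 1, hx1⟩⟩
    have hcnt : Nontrivial (Subgroup.center P) := hP.center_nontrivial
    obtain ⟨c, hc1⟩ := exists_ne (1 : Subgroup.center P)
    have hc1' : (c : P) ≠ 1 := fun h => hc1 (Subtype.ext h)
    obtain ⟨z, hzc, hzp, hz1⟩ := exists_orderOf_eq_prime_zpowers hP (c : P) hc1'
    have hz : z ∈ Subgroup.center P := (Subgroup.zpowers_le.mpr c.2) hzc
    have hzcard : Nat.card (Subgroup.zpowers z) = p := by
      rw [Nat.card_zpowers, orderOf_eq_prime hzp hz1]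
    have key : ∀ w : P, w ^ p = 1 → w ∈ Subgroup.zpowers z := by
      intro w hw
      have he := isElementaryAbelian_zpowers_sup_zpowers hz hzp hw
      have hcard := hr _ he.1 he.2
      rw [pow_one] at hcard
      have h3 : Subgroup.zpowers z = Subgroup.zpowers z ⊔ Subgroup.zpowers w :=
        Subgroup.eq_of_le_of_card_ge le_sup_left (by rw [hzcard]; exact hcard)
      rw [h3]
      exact Subgroup.mem_sup_right (Subgroup.mem_zpowers w)
    have hxcard : Nat.card (Subgroup.zpowers x) = p := by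
      rw [Nat.card_zpowers, orderOf_eq_prime hx hx1]
    have h4 : Subgroup.zpowers x = Subgroup.zpowers z :=
      Subgroup.eq_of_le_of_card_ge (Subgroup.zpowers_le.mpr (key x hx)) (by rw [hxcard, hzcard])
    rw [h4]
    exact key y hy
  rcases isCyclic_or_quaternion_of_uniqueOrderP hP hu with h | ⟨h2, -⟩
  · exact h
  · exact absurd h2 hp2

end RankTwo

section GoodEpSq

variable [Finite G]

/-- the centralizer of a normal `E_{p^2}` of `P` has index at most `p` in every subgroup of
`P`. -/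
theorem card_le_mul_card_inf_centralizer_map {p : ℕ} {P : Subgroup G} {U : Subgroup ↥P}
    (hU : GoodEpSq p U) {Y : Subgroup G} (hYP : Y ≤ P) :
    Nat.card Y ≤ p * Nat.card (Y ⊓ Subgroup.centralizer ((U.map P.subtype : Subgroup G) : Set G) :
      Subgroup G) := by
  have h1 := hU.2.2.2 (Y.subgroupOf P)
  rw [card_subgroupOf_of_le hYP] at h1
  refine h1.trans (Nat.mul_le_mul_left p ?_)
  have h2 : (Y.subgroupOf P ⊓ Subgroup.centralizer (U : Set ↥P)).map P.subtype ≤
      Y ⊓ Subgroup.centralizer ((U.map P.subtype : Subgroup G) : Set G) := by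
    rintro _ ⟨y, ⟨hyY, hyC⟩, rfl⟩
    refine ⟨hyY, ?_⟩
    show (y : G) ∈ Subgroup.centralizer ((U.map P.subtype : Subgroup G) : Set G)
    rw [Subgroup.mem_centralizer_iff]
    rintro _ ⟨u, hu, rfl⟩
    have := Subgroup.mem_centralizer_iff.mp hyC u hu
    exact congrArg Subtype.val this
  have h3 := Subgroup.card_le_of_le h2
  rwa [Subgroup.card_map_of_injective P.subtype_injective] at h3

end GoodEpSq

end Cfsg.Agent.Lib.Helper10.BG
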