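import Mathlib
import Cfsg.Prelude.Def_OddOrderLocal
import Cfsg.Agent.Lib.Helper10.NarrowAct
import Cfsg.Agent.Lib.Helper10.NarrowFit
import Cfsg.Agent.Lib.Helper10.PLength

/-!
Solvable groups of odd order with narrow Sylow `p`-subgroups (BG, Theorem 5.5 and its
corollary).
-/

set_option autoImplicit false

namespace Cfsg.Agent.Lib.Helper10

open scoped Classical
open scoped commutatorElement

section Transfer

universe u v

variable {p : ℕ} [Fact p.Prime]

/-- the second alternative in the definition of a narrow group gives a narrow witness, transported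
along an injective homomorphism. -/
theorem hasNarrowWitness_range_of_isNarrow {R : Type u} [Group R] [Finite R] {H : Type v}
    [Group H] [Finite H] (φ : R →* H) (hφ : Function.Injective φ)
    (h : ∃ R₀ R₁ : Subgroup R, Nat.card R₀ = p ∧ IsCyclic R₁ ∧ R₀ ⊓ R₁ = ⊥ ∧
      (∀ a ∈ R₀, ∀ b ∈ R₁, a * b = b * a) ∧ R₀ ⊔ R₁ = Subgroup.centralizer (R₀ : Set R)) :
    HasNarrowWitness p φ.range := by
  have hp : p.Prime := Fact.out
  obtain ⟨R₀, R₁, hcard, hcyc, hdisj, hcomm, hcent⟩ := h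
  -- a generator of `R₀`
  have hnt : Nontrivial ↥R₀ := by
    apply Finite.one_lt_card_iff_nontrivial.mp
    rw [hcard]
    exact hp.one_lt
  obtain ⟨x₀, hx₀⟩ := exists_ne (1 : ↥R₀)
  have hgen : ∀ r ∈ R₀, r ∈ Subgroup.zpowers (x₀ : R) := by
    intro r hr
    have h1 : (⟨r, hr⟩ : ↥R₀) ∈ Subgroup.zpowers x₀ := mem_zpowers_of_prime_card hcard hx₀
    obtain ⟨k, hk⟩ := h1
    refine ⟨k, ?_⟩
    have := congrArg Subtype.val hk
    simpa using this
  have hR₀exp : ∀ r ∈ R₀, r ^ p = 1 := by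
    intro r hr
    have h1 : (⟨r, hr⟩ : ↥R₀) ^ p = 1 := by
      rw [← hcard]
      exact pow_card_eq_one'
    have := congrArg Subtype.val h1
    simpa using this
  -- `R₁` is commutative
  have hR₁comm : ∀ a ∈ R₁, ∀ b ∈ R₁, a * b = b * a := by
    intro a ha b hb
    obtain ⟨g, hg⟩ := hcyc.exists_generator
    obtain ⟨i, hi⟩ := hg ⟨a, ha⟩
    obtain ⟨j, hj⟩ := hg ⟨b, hb⟩
    have h1 : (⟨a, ha⟩ : ↥R₁) * ⟨b, hb⟩ = ⟨b, hb⟩ * ⟨a, ha⟩ := by
      rw [← hi, ← hj]
      exact ((Commute.refl g).zpow_zpow i j).eq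
    exact congrArg Subtype.val h1
  -- the `p`-torsion of `R₁`
  let T₁ : Subgroup R :=
    { carrier := {b | b ∈ R₁ ∧ b ^ p = 1}
      mul_mem' := by
        rintro a b ⟨ha, hap⟩ ⟨hb, hbp⟩
        refine ⟨mul_mem ha hb, ?_⟩
        have : Commute a b := hR₁comm a ha b hb
        rw [this.mul_pow, hap, hbp, mul_one]
      one_mem' := ⟨one_mem _, one_pow _⟩
      inv_mem' := by
        rintro a ⟨ha, hap⟩
        exact ⟨inv_mem ha, by rw [inv_pow, hap, inv_one]⟩ }
  have hT₁mem : ∀ b : R, b ∈ T₁ ↔ b ∈ R₁ ∧ b ^ p = 1 := fun b => Iff.rfl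
  have hT₁R₁ : T₁ ≤ R₁ := fun b hb => ((hT₁mem b).mp hb).1
  have hT₁card : Nat.card T₁ ≤ p := by
    have hc : IsCyclic ↥(T₁.subgroupOf R₁) := inferInstance
    obtain ⟨g, hg⟩ := hc.exists_generator
    have h1 : orderOf g = Nat.card ↥(T₁.subgroupOf R₁) := orderOf_eq_card_of_forall_mem_zpowers hg
    have h2 : g ^ p = 1 := by
      apply Subtype.ext
      apply Subtype.ext
      have := ((hT₁mem ((g : ↥R₁) : R)).mp g.2).2
      simpa using this
    have h3 : orderOf g ∣ p := orderOf_dvd_of_pow_eq_one h2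
    rw [← Nat.card_congr (Subgroup.subgroupOfEquivOfLe hT₁R₁).toEquiv, ← h1]
    exact Nat.le_of_dvd hp.pos h3
  have hcommT : ∀ a ∈ R₀, ∀ b ∈ T₁, a * b = b * a := fun a ha b hb => hcomm a ha b (hT₁R₁ hb)
  have hdisjT : R₀ ⊓ T₁ = ⊥ := by
    rw [eq_bot_iff, ← hdisj]
    exact inf_le_inf_left _ hT₁R₁
  obtain ⟨S₀, hS₀⟩ : ∃ S₀ : Subgroup R, S₀ = R₀ ⊔ T₁ := ⟨_, rfl⟩
  have hS₀card : Nat.card S₀ ≤ p ^ 2 := by
    rw [hS₀, card_sup_of_commute_of_disjoint R₀ T₁ hcommT hdisjT, hcard, pow_two]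
    exact Nat.mul_le_mul_left p hT₁card
  have hx₀S₀ : (x₀ : R) ∈ S₀ := by
    rw [hS₀]
    exact Subgroup.mem_sup_left x₀.2
  have hwit : ∀ g : R, g * (x₀ : R) = (x₀ : R) * g → g ^ p = 1 → g ∈ S₀ := by
    intro g hgx hgp
    have h1 : g ∈ Subgroup.centralizer (R₀ : Set R) := by
      rw [Subgroup.mem_centralizer_iff]
      intro r hr
      obtain ⟨k, rfl⟩ := hgen r hr
      have : Commute g (x₀ : R) := hgx
      exact (this.zpow_right k).eq.symm
    rw [← hcent] at h1
    obtain ⟨a, ha, b, hb, rfl⟩ := (mem_sup_of_commute R₀ R₁ hcomm).mp h1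
    have hc : Commute a b := hcomm a ha b hb
    rw [hc.mul_pow, hR₀exp a ha, one_mul] at hgp
    rw [hS₀]
    exact Subgroup.mul_mem_sup ha ((hT₁mem b).mpr ⟨hb, hgp⟩)
  refine ⟨S₀.map φ, ?_, ?_, φ (x₀ : R), ⟨_, hx₀S₀, rfl⟩, ?_⟩
  · rintro _ ⟨s, _, rfl⟩
    exact ⟨s, rfl⟩
  · rw [Subgroup.card_map_of_injective hφ]
    exact hS₀card
  · rintro _ ⟨g, rfl⟩ hgx hgp
    refine ⟨g, hwit g ?_ ?_, rfl⟩
    · apply hφ
      rw [map_mul, map_mul]
      exact hgx
    · apply hφ
      rw [map_pow, map_one]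
      exact hgp

end Transfer

section SylowNarrow

universe u

variable {p : ℕ} [Fact p.Prime] {G : Type u} [Group G] [Finite G]

/-- **BG, Section 5**: a solvable group `G` of odd order with `O_{p'}(G) = 1` and narrow `O_p(G)`:
`G' ≤ O_p(G)`, `O_p(G)` is a Sylow subgroup, and all prime divisors of `|G|` are at most `p`. -/
theorem core_free_structure_of_narrow [Group.IsSolvable G] (hodd : Odd (Nat.card G)) (hp2 : p ≠ 2)
    (hn : IsNarrowSub p (Cfsg.pCore p G)) (hcore : Cfsg.pPrimeCore p G = ⊥) :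
    commutator G ≤ Cfsg.pCore p G ∧ ((Cfsg.pCore p G).index).Coprime p ∧
      ∀ q : ℕ, q.Prime → q ∣ Nat.card G → q ≤ p := by
  have hp : p.Prime := Fact.out
  have hTn : (Cfsg.pCore p G).Normal := Cfsg.Agent.Lib.Helper1.pCore_normal p
  have hTp : IsPGroup p (Cfsg.pCore p G) := Cfsg.Agent.Lib.Helper1.pCore_isPGroup p
  have hCT : Subgroup.centralizer (Cfsg.pCore p G : Set G) ≤ Cfsg.pCore p G :=
    Cfsg.Agent.Lib.Helper1.centralizer_pCore_le p hcore
  have hTN : Subgroup.normalizer (Cfsg.pCore p G : Set G) = ⊤ :=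
    Subgroup.normalizer_eq_top_iff.mpr hTn
  -- the commutator subgroup is a `p`-group
  have hcomm : commutator G ≤ Cfsg.pCore p G := by
    have htopodd : Odd (Nat.card (⊤ : Subgroup G)) := by
      rw [Subgroup.card_top]
      exact hodd
    have htops : Group.IsSolvable (⊤ : Subgroup G) :=
      Group.isSolvable_of_isSolvable_injective (Subgroup.subtype_injective _)
    have key := isNarrowSub_commutator_pgroup hp2 (Cfsg.pCore p G) ⊤ hTp hn
      (by rw [hTN]) htops htopodd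
    apply Cfsg.Agent.Lib.Helper1.le_pCore inferInstance
    intro ⟨a, ha⟩
    obtain ⟨k, hk⟩ := key a ha
    obtain ⟨m, hm⟩ := hTp ⟨a ^ p ^ k, hCT hk⟩
    refine ⟨k + m, ?_⟩
    apply Subtype.ext
    have := congrArg Subtype.val hm
    simp only [Subgroup.coe_pow, Subgroup.coe_one] at this ⊢
    rw [pow_add, pow_mul]
    exact this
  -- the core is a Sylow subgroup
  obtain ⟨S⟩ : Nonempty (Sylow p G) := inferInstance
  have hTS : Cfsg.pCore p G ≤ S := Cfsg.Agent.Lib.Helper1.pCore_le_sylow S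
  have hSn : (S : Subgroup G).Normal := by
    refine ⟨fun x hx g => ?_⟩
    have h1 : g * x * g⁻¹ = ⁅g, x⁆ * x := by
      rw [commutatorElement_def]; group
    rw [h1]
    exact mul_mem (hTS (hcomm (Subgroup.commutator_mem_commutator (Subgroup.mem_top g)
      (Subgroup.mem_top x)))) hx
  have hST : (S : Subgroup G) = Cfsg.pCore p G :=
    le_antisymm (Cfsg.Agent.Lib.Helper1.le_pCore hSn S.2) hTS
  have hidx : ((Cfsg.pCore p G).index).Coprime p := by
    rw [← hST]
    exact (hp.coprime_iff_not_dvd.mpr S.not_dvd_index).symm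
  refine ⟨hcomm, hidx, ?_⟩
  intro q hq hqG
  by_contra hlt
  push Not at hlt
  have hqp : q ≠ p := by omega
  have hq2 : q ≠ 2 := by
    rintro rfl
    exact (Nat.not_even_iff_odd.mpr hodd) (even_iff_two_dvd.mpr hqG)
  have : Fact q.Prime := ⟨hq⟩
  obtain ⟨a, hoa⟩ := exists_prime_orderOf_dvd_card' q hqG
  have haN : a ∈ Subgroup.normalizer (Cfsg.pCore p G : Set G) := by
    rw [hTN]; exact Subgroup.mem_top a
  have hac : a ∉ Subgroup.centralizer (Cfsg.pCore p G : Set G) := by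
    intro hc
    obtain ⟨m, hm⟩ := hTp ⟨a, hCT hc⟩
    have h1 : a ^ p ^ m = 1 := by
      have := congrArg Subtype.val hm
      simpa using this
    have h2 : q ∣ p ^ m := by
      rw [← hoa]
      exact orderOf_dvd_of_pow_eq_one h1
    exact hqp ((Nat.prime_dvd_prime_iff_eq hq hp).mp (hq.dvd_of_dvd_pow h2))
  have hcop : (orderOf a).Coprime p := by
    rw [hoa]
    exact (Nat.coprime_primes hq hp).mpr hqp
  have haq : a ^ q ∈ Subgroup.centralizer (Cfsg.pCore p G : Set G) := by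
    rw [← hoa, pow_orderOf_eq_one]
    exact one_mem _
  have := isNarrowSub_prime_lt hp2 (Cfsg.pCore p G) hTp hn a haN hcop q hq hqp hq2 haq hac
  omega

/-- the `p`-rank of a group is that of its Sylow `p`-subgroups. -/
theorem pRankLE_of_sylow (S : Sylow p G) {k : ℕ} (h : Cfsg.PRankLE p k ↥(S : Subgroup G)) :
    Cfsg.PRankLE p k G := by
  intro A hAc hAe
  have hAp : IsPGroup p A := by
    intro a
    refine ⟨1, ?_⟩
    apply Subtype.ext
    rw [pow_one, Subgroup.coe_pow, Subgroup.coe_one]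
    exact hAe a a.2
  obtain ⟨Q, hQ⟩ := hAp.exists_le_sylow
  obtain ⟨g, hg⟩ := MulAction.exists_smul_eq G Q S
  -- conjugate `A` into `S`
  obtain ⟨A', hA'⟩ : ∃ A' : Subgroup G, A' = A.map (MulAut.conj g).toMonoidHom := ⟨_, rfl⟩
  have hA'S : A' ≤ S := by
    rw [hA']
    rintro _ ⟨a, ha, rfl⟩
    have h1 : a ∈ (Q : Subgroup G) := hQ ha
    have h2 : (MulAut.conj g) a ∈ ((g • Q : Sylow p G) : Subgroup G) := by
      rw [Sylow.coe_subgroup_smul]
      exact Subgroup.smul_mem_pointwise_smul a (MulAut.conj g) _ h1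
    rw [hg] at h2
    exact h2
  have hcard : Nat.card A' = Nat.card A := by
    rw [hA']
    exact Subgroup.card_map_of_injective (MulAut.conj g).injective
  have hA'c : IsMulCommutative ↥A' := by
    rw [hA']
    exact Subgroup.map_isMulCommutative A _
  have hA'e : ∀ a ∈ A', a ^ p = 1 := by
    rw [hA']
    rintro _ ⟨a, ha, rfl⟩
    rw [← map_pow, hAe a ha, map_one]
  rw [← hcard]
  have hS : Cfsg.PRankLE p k ↥(S : Subgroup G) := h
  exact Cfsg.Agent.Lib.Helper9.card_le_of_pRankLE hA'S hA'c hA'e hS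

/-- **BG, Corollary 5.6**: a solvable group of odd order with a narrow Sylow `p`-subgroup, of
`p`-length one if the rank is at least three. -/
theorem narrow_sylow_all [Group.IsSolvable G] (hodd : Odd (Nat.card G)) (hp2 : p ≠ 2)
    (S : Sylow p G) (hS : Cfsg.IsNarrow p ↥(S : Subgroup G))
    (hpl : ¬ Cfsg.PRankLE p 2 ↥(S : Subgroup G) → Cfsg.PLengthLE p 1 G) :
    (∀ q : ℕ, q.Prime → q ∣ (Cfsg.pPrimeCore p G).index → q ≤ p) ∧
      ((p = 3 ∨ ∀ q : ℕ, q.Prime → q ∣ Nat.card G → p ≤ q) → Cfsg.HasNormalPComplement p G) ∧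
      Cfsg.HasNormalPComplement p ↥(commutator G) ∧
      (∀ L : Subgroup ↥(commutator G), (Nat.card L).Coprime p →
        L ≤ Cfsg.pPrimeCore p ↥(commutator G)) ∧
      commutator G ≤ Cfsg.pPrimePCore p G ∧ ((Cfsg.pPrimePCore p G).index).Coprime p := by
  have hp : p.Prime := Fact.out
  by_cases hrk : Cfsg.PRankLE p 2 ↥(S : Subgroup G)
  · exact rank_two_all hodd hp2 (pRankLE_of_sylow S hrk)
  have hlen := hpl hrk
  have hnar := hS.resolve_left hrk
  have hNn : (Cfsg.pPrimeCore p G).Normal := Cfsg.Agent.Lib.Helper1.pPrimeCore_normal p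
  -- the image of `S` is `O_p(G / O_{p'}(G))`
  have hSle := sylow_le_pPrimePCore p hlen S
  have himg : (S : Subgroup G).map (QuotientGroup.mk' (Cfsg.pPrimeCore p G)) =
      Cfsg.pCore p (G ⧸ Cfsg.pPrimeCore p G) := by
    have h1 := map_mk_sylow_pPrimePCore p (S.subtype hSle)
    rw [Sylow.coe_subtype, Subgroup.subgroupOf_map_subtype, inf_of_le_left hSle] at h1
    exact h1
  obtain ⟨φ, hφ⟩ : ∃ φ : ↥(S : Subgroup G) →* G ⧸ Cfsg.pPrimeCore p G,
      φ = (QuotientGroup.mk' (Cfsg.pPrimeCore p G)).comp (S : Subgroup G).subtype := ⟨_, rfl⟩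
  have hφinj : Function.Injective φ := by
    rw [injective_iff_map_eq_one]
    intro x hx
    rw [hφ] at hx
    have h1 : (x : G) ∈ Cfsg.pPrimeCore p G := (QuotientGroup.eq_one_iff _).mp hx
    have hdisj : Disjoint (S : Subgroup G) (Cfsg.pPrimeCore p G) := by
      apply Subgroup.disjoint_of_coprime_natCard
      obtain ⟨n, hn⟩ := S.2.exists_card_eq
      rw [hn]
      exact Nat.Coprime.pow_left n (Cfsg.Agent.Lib.Helper1.pPrimeCore_coprime p).symm
    exact Subtype.ext (Subgroup.disjoint_def.mp hdisj x.2 h1)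
  have hrange : φ.range = Cfsg.pCore p (G ⧸ Cfsg.pPrimeCore p G) := by
    rw [← himg, hφ, MonoidHom.range_comp, Subgroup.range_subtype]
  have hwit := hasNarrowWitness_range_of_isNarrow φ hφinj hnar
  rw [hrange] at hwit
  have hQodd : Odd (Nat.card (G ⧸ Cfsg.pPrimeCore p G)) := by
    have h1 : Nat.card (G ⧸ Cfsg.pPrimeCore p G) ∣ Nat.card G := by
      rw [← Subgroup.index_eq_card]
      exact Subgroup.index_dvd_card _
    obtain ⟨c, hc⟩ := h1
    rw [hc] at hodd
    exact (Nat.odd_mul.mp hodd).1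
  obtain ⟨H1, H2, H3⟩ := core_free_structure_of_narrow hQodd hp2 (Or.inr hwit)
    (pPrimeCore_quotient_eq_bot p)
  exact rank_two_conclusions hodd H1 H2 H3

end SylowNarrow

end Cfsg.Agent.Lib.Helper10
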