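import Mathlib
import Cfsg.Prelude.Def_OddOrderLocal
import Cfsg.Agent.Lib.Helper10.NarrowFit
import Cfsg.Agent.Lib.Helper10.NarrowSylow

/-!
Solvable groups of odd order whose Fitting subgroup has rank at most two (BG, Theorem 4.20):
the derived subgroup is nilpotent, characteristic subgroups of Sylow subgroups inside the derived
subgroup are normal, and there is a Sylow tower.
-/

set_option autoImplicit false

namespace Cfsg.Agent.Lib.Helper10

open scoped Classical
open scoped commutatorElement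

section Tower

universe u

variable {G : Type u} [Group G]

theorem normal_of_commutator_le (M : Subgroup G) (h : commutator G ≤ M) : M.Normal := by
  refine ⟨fun x hx g => ?_⟩
  have h1 : g * x * g⁻¹ = ⁅g, x⁆ * x := by
    rw [commutatorElement_def]; group
  rw [h1]
  exact mul_mem (h (Subgroup.commutator_mem_commutator (Subgroup.mem_top g)
    (Subgroup.mem_top x))) hx

variable [Finite G]

theorem isNilpotent_of_le_fittingSubgroup (K : Subgroup G) (h : K ≤ Cfsg.fittingSubgroup G) :
    Group.IsNilpotent ↥K := by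
  have h0 : Group.IsNilpotent ↥(Cfsg.fittingSubgroup G) :=
    Cfsg.Agent.Lib.Helper1.fittingSubgroup_isNilpotent
  have h1 : Group.IsNilpotent ↥(K.subgroupOf (Cfsg.fittingSubgroup G)) := inferInstance
  exact Group.nilpotent_of_mulEquiv (Subgroup.subgroupOfEquivOfLe h)

/-- **BG, Theorem 4.20(b)**: if `G' ≤ F(G)`, every characteristic subgroup of a Sylow subgroup
`S` contained in `S'` is normal in `G`. -/
theorem normal_map_of_characteristic_of_le_commutator
    (hF : commutator G ≤ Cfsg.fittingSubgroup G) (q : ℕ) [Fact q.Prime] (S : Sylow q G)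
    (T : Subgroup ↥(S : Subgroup G)) (hT : T.Characteristic)
    (hle : T.map (S : Subgroup G).subtype ≤ ⁅(S : Subgroup G), (S : Subgroup G)⁆) :
    (T.map (S : Subgroup G).subtype).Normal := by
  have hq : q.Prime := Fact.out
  obtain ⟨T', hT'⟩ : ∃ T' : Subgroup G, T' = T.map (S : Subgroup G).subtype := ⟨_, rfl⟩
  rw [← hT'] at hle ⊢
  have hT'S : T' ≤ S := by
    rw [hT']
    exact Subgroup.map_subtype_le T
  have hT'F : T' ≤ Cfsg.fittingSubgroup G := by
    refine hle.trans (le_trans ?_ hF)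
    rw [commutator_def]
    exact Subgroup.commutator_mono le_top le_top
  have hT'q : T' ≤ Cfsg.pCore q G := by
    intro t ht
    obtain ⟨k, hk⟩ := S.2 ⟨t, hT'S ht⟩
    apply mem_pCore_of_mem_fittingSubgroup q t (hT'F ht) k
    have := congrArg Subtype.val hk
    simpa using this
  have hNS : Subgroup.normalizer ((S : Subgroup G) : Set G) ≤ Subgroup.normalizer (T' : Set G) := by
    rw [hT']
    exact Cfsg.Agent.Lib.Helper1.normalizer_le_normalizer_map_of_characteristic (S : Subgroup G) T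
  have hSN : (S : Subgroup G) ≤ Subgroup.normalizer (T' : Set G) :=
    Subgroup.le_normalizer.trans hNS
  have hFN : Cfsg.fittingSubgroup G ≤ Subgroup.normalizer (T' : Set G) := by
    rw [Cfsg.Agent.Lib.Helper1.fittingSubgroup_eq_iSup_primes]
    refine iSup_le fun r => ?_
    have : Fact (r : ℕ).Prime := ⟨r.2⟩
    by_cases hr : (r : ℕ) = q
    · rw [hr]
      exact (Cfsg.Agent.Lib.Helper1.pCore_le_sylow S).trans hSN
    · exact ((pCore_le_centralizer_pCore q (r : ℕ) hr).trans
        (Subgroup.centralizer_le hT'q)).trans (Subgroup.centralizer_le_normalizer _)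
  obtain ⟨M, hM⟩ : ∃ M : Subgroup G, M = (S : Subgroup G) ⊔ commutator G := ⟨_, rfl⟩
  have hMn : M.Normal := normal_of_commutator_le M (by rw [hM]; exact le_sup_right)
  have hSM : (S : Subgroup G) ≤ M := by rw [hM]; exact le_sup_left
  have hfr := Sylow.normalizer_sup_eq_top' S hSM
  have hMN : M ≤ Subgroup.normalizer (T' : Set G) := by
    rw [hM]
    exact sup_le hSN (hF.trans hFN)
  have htop : Subgroup.normalizer (T' : Set G) = ⊤ := by
    rw [eq_top_iff, ← hfr]
    exact sup_le hNS hMN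
  exact Subgroup.normalizer_eq_top_iff.mp htop

/-- **BG, Theorem 4.20(c), main step**: for the smallest prime divisor `p` of `|G|`, the subgroup
`O_{p'}(G)` has `p`-power index. -/
theorem pPrimeCore_index_pow_of_min_prime [Group.IsSolvable G] (hodd : Odd (Nat.card G)) (p : ℕ)
    [Fact p.Prime] (hp2 : p ≠ 2)
    (hn : ∀ q : ℕ, q.Prime → q ≠ 2 → IsNarrowSub q (Cfsg.pCore q G))
    (hmin : ∀ q : ℕ, q.Prime → q ∣ Nat.card G → p ≤ q) :
    ∃ k : ℕ, (Cfsg.pPrimeCore p G).index = p ^ k := by
  have hp : p.Prime := Fact.out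
  have hRn : (Cfsg.pCore p G).Normal := Cfsg.Agent.Lib.Helper1.pCore_normal p
  have hRp : IsPGroup p (Cfsg.pCore p G) := Cfsg.Agent.Lib.Helper1.pCore_isPGroup p
  have hRN : Subgroup.normalizer (Cfsg.pCore p G : Set G) = ⊤ :=
    Subgroup.normalizer_eq_top_iff.mpr hRn
  -- all `p'`-elements centralize `O_p(G)`
  have hcent : ∀ (n : ℕ) (b : G), orderOf b = n → n.Coprime p →
      b ∈ Subgroup.centralizer (Cfsg.pCore p G : Set G) := by
    intro n
    induction n using Nat.strong_induction_on with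
    | _ n ih =>
      intro b hbn hcop
      by_cases h1 : n = 1
      · rw [h1] at hbn
        rw [orderOf_eq_one_iff.mp hbn]
        exact one_mem _
      have hnpos : 0 < n := by
        rw [← hbn]
        exact orderOf_pos b
      have hq : (n.minFac).Prime := Nat.minFac_prime h1
      obtain ⟨q, hqdef⟩ : ∃ q, q = n.minFac := ⟨_, rfl⟩
      rw [← hqdef] at hq
      have hqn : q ∣ n := hqdef ▸ Nat.minFac_dvd n
      have hqG : q ∣ Nat.card G := by
        refine hqn.trans ?_
        rw [← hbn]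
        exact orderOf_dvd_natCard b
      have hpq : p ≤ q := hmin q hq hqG
      have hqp : q ≠ p := by
        rintro rfl
        have := Nat.Coprime.eq_one_of_dvd hcop.symm hqn
        exact hq.one_lt.ne' this
      have hq2 : q ≠ 2 := by
        have := hp.two_le
        omega
      have hbq : b ^ q ∈ Subgroup.centralizer (Cfsg.pCore p G : Set G) := by
        apply ih (n / q) (Nat.div_lt_self hnpos hq.one_lt) (b ^ q)
        · rw [orderOf_pow_of_dvd hq.pos.ne' (hbn ▸ hqn), hbn]
        · exact Nat.Coprime.coprime_dvd_left (Nat.div_dvd_of_dvd hqn) hcop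
      by_contra hb
      have := isNarrowSub_prime_lt hp2 (Cfsg.pCore p G) hRp (hn p hp hp2) b
        (by rw [hRN]; exact Subgroup.mem_top b) (by rw [hbn]; exact hcop) q hq hqp hq2 hbq hb
      omega
  -- the quotient by `O_{p'}(G)`
  have hNn : (Cfsg.pPrimeCore p G).Normal := Cfsg.Agent.Lib.Helper1.pPrimeCore_normal p
  have hTp : IsPGroup p (Cfsg.pCore p (G ⧸ Cfsg.pPrimeCore p G)) :=
    Cfsg.Agent.Lib.Helper1.pCore_isPGroup p
  have hCT : Subgroup.centralizer (Cfsg.pCore p (G ⧸ Cfsg.pPrimeCore p G) :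
      Set (G ⧸ Cfsg.pPrimeCore p G)) ≤ Cfsg.pCore p (G ⧸ Cfsg.pPrimeCore p G) :=
    Cfsg.Agent.Lib.Helper1.centralizer_pCore_le p (pPrimeCore_quotient_eq_bot p)
  have hG'F : commutator G ≤ Cfsg.fittingSubgroup G :=
    commutator_le_fittingSubgroup_of_narrow hodd hn
  obtain ⟨P₁, hP₁⟩ : ∃ P₁ : Subgroup (G ⧸ Cfsg.pPrimeCore p G),
      P₁ = (Cfsg.pCore p G).map (QuotientGroup.mk' (Cfsg.pPrimeCore p G)) := ⟨_, rfl⟩
  have hP₁T : P₁ ≤ Cfsg.pCore p (G ⧸ Cfsg.pPrimeCore p G) := by
    rw [hP₁]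
    apply Cfsg.Agent.Lib.Helper1.le_pCore
    · exact hRn.map _ (QuotientGroup.mk'_surjective _)
    · exact hRp.map _
  have hmem : ∀ b : G, (orderOf b).Coprime p →
      QuotientGroup.mk' (Cfsg.pPrimeCore p G) b ∈ Cfsg.pCore p (G ⧸ Cfsg.pPrimeCore p G) := by
    intro b hbcop
    have hbC := hcent (orderOf b) b rfl hbcop
    apply hCT
    rw [Subgroup.mem_centralizer_iff]
    intro x hx
    have key := Cfsg.Agent.Lib.Helper17.stability_centralizes hTp
      (a := QuotientGroup.mk' (Cfsg.pPrimeCore p G) b)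
      (Nat.Coprime.coprime_dvd_left (orderOf_map_dvd _ b) hbcop) hP₁T
      (by
        intro x hx
        obtain ⟨x', rfl⟩ := QuotientGroup.mk'_surjective (Cfsg.pPrimeCore p G) x
        rw [← map_commutatorElement]
        have h1 : ⁅x', b⁆ ∈ Cfsg.fittingSubgroup G :=
          hG'F (Subgroup.commutator_mem_commutator (Subgroup.mem_top x') (Subgroup.mem_top b))
        have h2 : ⁅x', b⁆ ∈ ((Cfsg.pPrimeCore p G ⊔ Cfsg.pCore p G : Subgroup G) : Set G) :=
          fittingSubgroup_le_pPrimeCore_sup_pCore p h1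
        rw [Subgroup.mul_normal] at h2
        obtain ⟨d, hd, r, hr, hdr⟩ := h2
        rw [← hdr, map_mul]
        have : QuotientGroup.mk' (Cfsg.pPrimeCore p G) d = 1 := (QuotientGroup.eq_one_iff d).mpr hd
        rw [this, one_mul, hP₁]
        exact ⟨r, hr, rfl⟩)
      (by
        intro y hy
        rw [hP₁] at hy
        obtain ⟨r, hr, rfl⟩ := hy
        rw [← map_mul, ← map_mul]
        congr 1
        exact ((Subgroup.mem_centralizer_iff.mp hbC) r hr).symm)
    exact (key x hx).symm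
  have hQp : IsPGroup p (G ⧸ Cfsg.pPrimeCore p G) := by
    intro y
    obtain ⟨g, rfl⟩ := QuotientGroup.mk'_surjective (Cfsg.pPrimeCore p G) y
    obtain ⟨n, hn'⟩ : ∃ n, n = orderOf g := ⟨_, rfl⟩
    have hnpos : 0 < n := by
      rw [hn']
      exact orderOf_pos g
    obtain ⟨e, he⟩ : ∃ e, e = n.factorization p := ⟨_, rfl⟩
    have hb : (orderOf (g ^ p ^ e)).Coprime p := by
      rw [orderOf_pow_of_dvd (pow_pos hp.pos e).ne' (by rw [← hn', he]; exact Nat.ordProj_dvd n p),
        ← hn', he]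
      exact (Nat.coprime_ordCompl hp hnpos.ne').symm
    obtain ⟨m, hm⟩ := hTp ⟨_, hmem (g ^ p ^ e) hb⟩
    refine ⟨e + m, ?_⟩
    have := congrArg Subtype.val hm
    simp only [Subgroup.coe_pow, Subgroup.coe_one] at this
    rw [pow_add, pow_mul, ← map_pow]
    exact this
  obtain ⟨k, hk⟩ := hQp.exists_card_eq
  exact ⟨k, by rw [Subgroup.index_eq_card]; exact hk⟩

/-- the Fitting subgroup of a normal subgroup lies in the Fitting subgroup. -/
theorem map_fittingSubgroup_le (N : Subgroup G) [hN : N.Normal] :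
    (Cfsg.fittingSubgroup ↥N).map N.subtype ≤ Cfsg.fittingSubgroup G := by
  have hchar : (Cfsg.fittingSubgroup ↥N).Characteristic :=
    Cfsg.Agent.Lib.Helper1.fittingSubgroup_characteristic
  apply Cfsg.Agent.Lib.Helper1.le_fittingSubgroup
  · apply Subgroup.normalizer_eq_top_iff.mp
    rw [eq_top_iff]
    refine le_trans ?_
      (Cfsg.Agent.Lib.Helper1.normalizer_le_normalizer_map_of_characteristic N
        (Cfsg.fittingSubgroup ↥N))
    rw [Subgroup.normalizer_eq_top_iff.mpr hN]
  · have h0 : Group.IsNilpotent ↥(Cfsg.fittingSubgroup ↥N) :=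
      Cfsg.Agent.Lib.Helper1.fittingSubgroup_isNilpotent
    exact Group.nilpotent_of_mulEquiv
      ((Cfsg.fittingSubgroup ↥N).equivMapOfInjective N.subtype N.subtype_injective)

omit [Finite G] in
/-- a characteristic subgroup of a characteristic subgroup is characteristic. -/
theorem characteristic_map_subtype (N₀ : Subgroup G) (hN₀ : N₀.Characteristic)
    (N' : Subgroup ↥N₀) (hN' : N'.Characteristic) : (N'.map N₀.subtype).Characteristic := by
  rw [Subgroup.characteristic_iff_map_le]
  intro φ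
  rintro _ ⟨_, ⟨x, hx, rfl⟩, rfl⟩
  have hmap : N₀.map φ.toMonoidHom = N₀ := Subgroup.characteristic_iff_map_eq.mp hN₀ φ
  let ψ : ↥N₀ ≃* ↥N₀ := (φ.subgroupMap N₀).trans (MulEquiv.subgroupCongr hmap)
  have hψ : ∀ y : ↥N₀, ((ψ y : ↥N₀) : G) = φ (y : G) := fun y => rfl
  have h1 : ψ x ∈ N' := (Subgroup.characteristic_iff_map_le.mp hN' ψ) ⟨x, hx, rfl⟩
  exact ⟨ψ x, h1, hψ x⟩

/-- **BG, Theorem 4.20(c)**: Sylow tower. -/
theorem exists_char_hall_tower : ∀ (n : ℕ) (G : Type u) [Group G] [Finite G]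
    [Group.IsSolvable G], Nat.card G = n → Odd (Nat.card G) →
    Cfsg.RankLE 2 ↥(Cfsg.fittingSubgroup G) →
    ∀ p : ℕ, ∃ N : Subgroup G, N.Characteristic ∧ Cfsg.IsPiHall {q | q.Prime ∧ p < q} N := by
  intro n
  induction n using Nat.strong_induction_on with
  | _ n ih =>
    intro G _ _ _ hcard hodd hrk p
    by_cases h1 : Nat.card G = 1
    · refine ⟨⊤, Subgroup.topCharacteristic, ?_, ?_⟩
      · intro q hq hqd
        rw [Subgroup.card_top, h1] at hqd
        exact absurd (Nat.dvd_one.mp hqd) hq.one_lt.ne'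
      · intro q hq _ hqd
        rw [Subgroup.index_top] at hqd
        exact absurd (Nat.dvd_one.mp hqd) hq.one_lt.ne'
    have hp₀ : ((Nat.card G).minFac).Prime := Nat.minFac_prime h1
    obtain ⟨p₀, hp₀def⟩ : ∃ p₀, p₀ = (Nat.card G).minFac := ⟨_, rfl⟩
    rw [← hp₀def] at hp₀
    have hp₀G : p₀ ∣ Nat.card G := hp₀def ▸ Nat.minFac_dvd _
    have hmin : ∀ q : ℕ, q.Prime → q ∣ Nat.card G → p₀ ≤ q := by
      intro q hq hqd
      rw [hp₀def]
      exact Nat.minFac_le_of_dvd hq.two_le hqd
    by_cases hlt : p < p₀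
    · refine ⟨⊤, Subgroup.topCharacteristic, ?_, ?_⟩
      · intro q hq hqd
        rw [Subgroup.card_top] at hqd
        exact ⟨hq, lt_of_lt_of_le hlt (hmin q hq hqd)⟩
      · intro q hq _ hqd
        rw [Subgroup.index_top] at hqd
        exact absurd (Nat.dvd_one.mp hqd) hq.one_lt.ne'
    push Not at hlt
    have hp₀2 : p₀ ≠ 2 := by
      rintro rfl
      exact (Nat.not_even_iff_odd.mpr hodd) (even_iff_two_dvd.mpr hp₀G)
    have : Fact p₀.Prime := ⟨hp₀⟩
    have hn : ∀ q : ℕ, q.Prime → q ≠ 2 → IsNarrowSub q (Cfsg.pCore q G) := by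
      intro q hq _
      have : Fact q.Prime := ⟨hq⟩
      exact Or.inl (Cfsg.Agent.Lib.Helper9.pRankLE_of_le
        (Cfsg.Agent.Lib.Helper1.pCore_le_fittingSubgroup q) (hrk q hq))
    obtain ⟨k, hk⟩ := pPrimeCore_index_pow_of_min_prime hodd p₀ hp₀2 hn hmin
    obtain ⟨N₀, hN₀⟩ : ∃ N₀ : Subgroup G, N₀ = Cfsg.pPrimeCore p₀ G := ⟨_, rfl⟩
    rw [← hN₀] at hk
    have hN₀char : N₀.Characteristic := by
      rw [hN₀]
      exact Cfsg.Agent.Lib.Helper1.pPrimeCore_characteristic p₀
    have hN₀n : N₀.Normal := inferInstance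
    have hN₀cop : (Nat.card N₀).Coprime p₀ := by
      rw [hN₀]
      exact Cfsg.Agent.Lib.Helper1.pPrimeCore_coprime p₀
    have hmul : Nat.card N₀ * p₀ ^ k = Nat.card G := by
      rw [← hk]
      exact Subgroup.card_mul_index N₀
    have hk0 : k ≠ 0 := by
      rintro rfl
      rw [pow_zero, mul_one] at hmul
      rw [hmul] at hN₀cop
      have := Nat.Coprime.eq_one_of_dvd hN₀cop.symm hp₀G
      exact hp₀.one_lt.ne' this
    have hlt' : Nat.card N₀ < n := by
      rw [← hcard, ← hmul]
      have h2 : 1 < p₀ ^ k := Nat.one_lt_pow hk0 hp₀.one_lt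
      have h3 : 0 < Nat.card N₀ := Nat.card_pos
      nlinarith
    have hoddN : Odd (Nat.card N₀) := by
      rw [← hmul] at hodd
      exact (Nat.odd_mul.mp hodd).1
    have hrkN : Cfsg.RankLE 2 ↥(Cfsg.fittingSubgroup ↥N₀) := by
      intro q hq
      have h5 := map_fittingSubgroup_le N₀
      let f : ↥(Cfsg.fittingSubgroup ↥N₀) →* ↥(Cfsg.fittingSubgroup G) :=
        (Subgroup.inclusion h5).comp
          ((Cfsg.fittingSubgroup ↥N₀).equivMapOfInjective N₀.subtype
            N₀.subtype_injective).toMonoidHom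
      have hf : Function.Injective f := by
        intro x y hxy
        have h6 := (Subgroup.inclusion_injective h5) hxy
        exact (MulEquiv.injective _) h6
      exact Cfsg.Agent.Lib.Helper9.pRankLE_of_injective f hf (hrk q hq)
    obtain ⟨N', hN'char, hN'1, hN'2⟩ := ih (Nat.card N₀) hlt' ↥N₀ rfl hoddN hrkN p
    refine ⟨N'.map N₀.subtype, characteristic_map_subtype N₀ hN₀char N' hN'char, ?_, ?_⟩
    · intro q hq hqd
      rw [Subgroup.card_map_of_injective N₀.subtype_injective] at hqd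
      exact hN'1 q hq hqd
    · intro q hq hqπ hqd
      rw [Subgroup.index_map_subtype, hk] at hqd
      rcases (Nat.Prime.dvd_mul hq).mp hqd with h | h
      · exact hN'2 q hq hqπ h
      · have h7 := (Nat.prime_dvd_prime_iff_eq hq hp₀).mp (hq.dvd_of_dvd_pow h)
        have h8 : p < q := hqπ.2
        omega

end Tower

end Cfsg.Agent.Lib.Helper10
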