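import Mathlib
import Cfsg.Prelude
import Cfsg.Agent.Lib.Helper10.BGBase
import Cfsg.Agent.Lib.Helper10.BGSylow
import Cfsg.Agent.Lib.Helper10.BGSolv
import Cfsg.Agent.Lib.Helper10.BGUniq3
import Cfsg.Agent.Lib.Helper10.BGNine
import Cfsg.Agent.Lib.Helper10.BGNine2
import Cfsg.Agent.S1403

/-!
# Bender--Glauberman, Section 10: the primes `σ(M)` (Lemma 10.1)

For a maximal subgroup `M` of a minimal simple group of odd order and a prime `p ∈ σ(M)`,
the centralizer of a nontrivial `p`-subgroup `X` is transitive on the conjugates of `M`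
containing `X`.
-/

set_option autoImplicit false
open Cfsg
open scoped commutatorElement Pointwise

namespace Cfsg.Agent.Lib.Helper10.BG

variable {G : Type*} [Group G]

section ConjMaps

theorem map_conj_map_conj (a b : G) (K : Subgroup G) :
    (K.map (MulAut.conj a).toMonoidHom).map (MulAut.conj b).toMonoidHom =
      K.map (MulAut.conj (b * a)).toMonoidHom := by
  rw [Subgroup.map_map]
  congr 1
  ext y
  simp [mul_assoc]

theorem map_conj_congr {a b : G} (h : a = b) (K : Subgroup G) :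
    K.map (MulAut.conj a).toMonoidHom = K.map (MulAut.conj b).toMonoidHom := by
  rw [h]

theorem map_conj_one (K : Subgroup G) : K.map (MulAut.conj (1 : G)).toMonoidHom = K := by
  ext x
  constructor
  · rintro ⟨y, hy, rfl⟩
    simpa using hy
  · intro hx
    exact ⟨x, hx, by simp⟩

theorem map_conj_eq_self_of_mem {M : Subgroup G} {m : G} (hm : m ∈ M) :
    M.map (MulAut.conj m).toMonoidHom = M :=
  Cfsg.Agent.Lib.Helper10.map_conj_eq_of_mem_normalizer M m (Subgroup.le_normalizer hm)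

theorem le_map_conj_of_mem_normalizer {X M : Subgroup G} {n : G}
    (hn : n ∈ Subgroup.normalizer (X : Set G)) (hXM : X ≤ M) :
    X ≤ M.map (MulAut.conj n).toMonoidHom := by
  intro x hx
  refine ⟨n⁻¹ * x * n, hXM (conj_mem_of_mem_normalizer' hn hx), ?_⟩
  simp [mul_assoc]

theorem centralizer_anti {X Y : Subgroup G} (h : X ≤ Y) :
    Subgroup.centralizer (Y : Set G) ≤ Subgroup.centralizer (X : Set G) :=
  Subgroup.centralizer_le h

end ConjMaps

section Coatoms

variable [Finite G]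

omit [Finite G] in
theorem ne_bot_of_isCoatom (hG : IsMinSimpleOddOrder G) {M : Subgroup G} (hM : IsCoatom M) :
    M ≠ ⊥ := by
  rintro rfl
  obtain ⟨hsimple, hnc, -⟩ := hG.2
  apply hnc
  have := hsimple
  obtain ⟨x, hx⟩ := exists_ne (1 : G)
  have h1 : Subgroup.zpowers x = ⊤ := by
    apply hM.2
    rw [bot_lt_iff_ne_bot]
    intro h
    apply hx
    have : x ∈ (⊥ : Subgroup G) := by rw [← h]; exact Subgroup.mem_zpowers x
    exact Subgroup.mem_bot.mp this
  refine ⟨⟨fun a b => ?_⟩⟩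
  have ha : a ∈ Subgroup.zpowers x := by rw [h1]; exact Subgroup.mem_top a
  have hb : b ∈ Subgroup.zpowers x := by rw [h1]; exact Subgroup.mem_top b
  obtain ⟨k, rfl⟩ := Subgroup.mem_zpowers_iff.mp ha
  obtain ⟨l, rfl⟩ := Subgroup.mem_zpowers_iff.mp hb
  rw [← zpow_add, ← zpow_add, add_comm]

theorem normalizer_isCoatom (hG : IsMinSimpleOddOrder G) {M : Subgroup G} (hM : IsCoatom M) :
    Subgroup.normalizer (M : Set G) = M :=
  normalizer_eq_of_isCoatom hG hM (ne_bot_of_isCoatom hG hM) hM.1 Subgroup.le_normalizer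

theorem mem_of_map_conj_eq_self (hG : IsMinSimpleOddOrder G) {M : Subgroup G} (hM : IsCoatom M)
    {g : G} (h : M.map (MulAut.conj g).toMonoidHom = M) : g ∈ M := by
  rw [← normalizer_isCoatom hG hM]
  exact mem_normalizer_of_map_conj_eq h

end Coatoms

section Ppp

/-- `O_{p',p}(X)` of the subgroup `X`, as a subgroup of the ambient group. -/
def pppCoreOf (p : ℕ) (X : Subgroup G) : Subgroup G := (pPrimePCore p X).map X.subtype

theorem pppCoreOf_le (p : ℕ) (X : Subgroup G) : pppCoreOf p X ≤ X :=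
  Subgroup.map_subtype_le _

theorem le_normalizer_map_subtype_of_normal {X : Subgroup G} (N : Subgroup X) [hN : N.Normal] :
    X ≤ Subgroup.normalizer ((N.map X.subtype : Subgroup G) : Set G) := by
  apply le_normalizer_of_conj_mem
  rintro x hx _ ⟨n, hn, rfl⟩
  exact ⟨⟨x, hx⟩ * n * ⟨x, hx⟩⁻¹, hN.conj_mem n hn ⟨x, hx⟩, rfl⟩

theorem le_normalizer_pppCoreOf (p : ℕ) (X : Subgroup G) :
    X ≤ Subgroup.normalizer (pppCoreOf p X : Set G) := by
  have hVn : (pPrimePCore p X).Normal := inferInstance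
  exact le_normalizer_map_subtype_of_normal (pPrimePCore p X)

theorem pCore_le_pPrimePCore {X : Type*} [Group X] (p : ℕ) : pCore p X ≤ pPrimePCore p X := by
  have hNn : (pPrimeCore p X).Normal := Cfsg.Agent.Lib.Helper1.pPrimeCore_normal p
  intro x hx
  show QuotientGroup.mk' (pPrimeCore p X) x ∈ pCore p (X ⧸ pPrimeCore p X)
  have hn : ((pCore p X).map (QuotientGroup.mk' (pPrimeCore p X))).Normal :=
    Subgroup.Normal.map inferInstance _ (QuotientGroup.mk'_surjective _)
  have hp : IsPGroup p ((pCore p X).map (QuotientGroup.mk' (pPrimeCore p X))) :=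
    (Cfsg.Agent.Lib.Helper1.pCore_isPGroup p).map _
  exact Cfsg.Agent.Lib.Helper1.le_pCore hn hp ⟨x, hx, rfl⟩

theorem pCoreOf_le_pppCoreOf (p : ℕ) (X : Subgroup G) : pCoreOf p X ≤ pppCoreOf p X :=
  Subgroup.map_mono (pCore_le_pPrimePCore p)

theorem pPrimeCore_le_pPrimePCore {X : Type*} [Group X] (p : ℕ) :
    pPrimeCore p X ≤ pPrimePCore p X := by
  have hNn : (pPrimeCore p X).Normal := Cfsg.Agent.Lib.Helper1.pPrimeCore_normal p
  intro x hx
  show QuotientGroup.mk' (pPrimeCore p X) x ∈ pCore p (X ⧸ pPrimeCore p X)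
  have : QuotientGroup.mk' (pPrimeCore p X) x = 1 := by
    rw [QuotientGroup.mk'_apply, QuotientGroup.eq_one_iff]
    exact hx
  rw [this]
  exact Subgroup.one_mem _

theorem ppCoreOf_le_pppCoreOf (p : ℕ) (X : Subgroup G) : ppCoreOf p X ≤ pppCoreOf p X :=
  Subgroup.map_mono (pPrimeCore_le_pPrimePCore p)

variable [Finite G]

theorem pppCoreOf_le_sup {p : ℕ} [Fact p.Prime] {X T : Subgroup G} (hT : IsSylowIn p T X) :
    pppCoreOf p X ≤ ppCoreOf p X ⊔ T := by
  have h3 := pPrimePCore_le_sup_sylow p hT.toSylow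
  rw [hT.coe_toSylow] at h3
  have h4 := Subgroup.map_mono (f := X.subtype) h3
  rw [Subgroup.map_sup, Subgroup.map_subgroupOf_eq_of_le hT.le] at h4
  exact h4

/-- an abelian normal subgroup of a maximal `p`-subgroup of the solvable odd order subgroup `X`
lies in `O_{p',p}(X)`. -/
theorem abelian_le_pppCoreOf {p : ℕ} [Fact p.Prime] {X T A : Subgroup G}
    (hX : Group.IsSolvable X) (hodd : Odd (Nat.card X)) (hT : IsSylowIn p T X) (hAT : A ≤ T)
    (hAc : IsMulCommutative A) (hTA : T ≤ Subgroup.normalizer (A : Set G)) :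
    A ≤ pppCoreOf p X := by
  have := hX
  have hAX : A ≤ X := hAT.trans hT.le
  have h1 : A.subgroupOf X ≤ pPrimePCore p X := by
    apply Cfsg.Agent.S1457.result hodd p hT.toSylow (A.subgroupOf X)
    · intro a' ha'
      exact (hT.mem_toSylow a').mpr (hAT ha')
    · refine ⟨⟨?_⟩⟩
      rintro ⟨x, hx⟩ ⟨y, hy⟩
      apply Subtype.ext
      apply Subtype.ext
      show (x : G) * (y : G) = (y : G) * (x : G)
      have := hAc.is_comm.comm ⟨(x : G), hx⟩ ⟨(y : G), hy⟩
      exact congrArg Subtype.val this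
    · intro t ht
      apply mem_normalizer_subgroupOf
      exact hTA ((hT.mem_toSylow t).mp ht)
  have h2 := Subgroup.map_mono (f := X.subtype) h1
  rw [Subgroup.map_subgroupOf_eq_of_le hAX] at h2
  exact h2

omit [Finite G] in
theorem exists_mul_of_mem_sup_of_le_normalizer {N H : Subgroup G}
    (hLE : H ≤ Subgroup.normalizer (N : Set G)) {x : G} (hx : x ∈ N ⊔ H) :
    ∃ n ∈ N, ∃ h ∈ H, x = n * h := by
  have h1 : x ∈ ((N ⊔ H : Subgroup G) : Set G) := hx
  rw [Subgroup.coe_mul_of_right_le_normalizer_left N H hLE] at h1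
  obtain ⟨n, hn, h, hh, rfl⟩ := h1
  exact ⟨n, hn, h, hh, rfl⟩

/-- Frattini argument for `O_{p',p}(X)`. -/
theorem le_ppCoreOf_sup_normalizer_inf_pppCoreOf {p : ℕ} [Fact p.Prime] {X T : Subgroup G}
    (hT : IsSylowIn p T X) :
    X ≤ ppCoreOf p X ⊔ (X ⊓ Subgroup.normalizer ((T ⊓ pppCoreOf p X : Subgroup G) : Set G)) := by
  have hT' : IsSylowIn p (T ⊓ pppCoreOf p X) (pppCoreOf p X) :=
    hT.inf_normal (pppCoreOf_le p X) (le_normalizer_pppCoreOf p X)
  intro x hx
  obtain ⟨c, hc, n, hn, rfl⟩ := frattini (pppCoreOf_le p X) (le_normalizer_pppCoreOf p X) hT' hx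
  have hc' := pppCoreOf_le_sup hT hc
  obtain ⟨d, hd, t, ht, rfl⟩ := exists_mul_of_mem_sup_of_le_normalizer
    (hT.le.trans (le_normalizer_ppCoreOf p X)) hc'
  have htV : t ∈ pppCoreOf p X := by
    have h1 : t = d⁻¹ * (d * t) := by group
    rw [h1]
    exact mul_mem (inv_mem (ppCoreOf_le_pppCoreOf p X hd)) hc
  have htN : t ∈ X ⊓ Subgroup.normalizer ((T ⊓ pppCoreOf p X : Subgroup G) : Set G) :=
    ⟨hT.le ht, Subgroup.le_normalizer ⟨ht, htV⟩⟩
  rw [mul_assoc]
  exact mul_mem (Subgroup.mem_sup_left hd) (Subgroup.mem_sup_right (mul_mem htN hn))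

end Ppp

section RankAux

/-- a member of `SCN(P)` is commutative. -/
theorem isMulCommutative_of_isSCN {P A : Subgroup G} (h : IsSCN P A) : IsMulCommutative A := by
  obtain ⟨hAP, -, hC⟩ := h
  refine ⟨⟨?_⟩⟩
  rintro ⟨a, ha⟩ ⟨b, hb⟩
  apply Subtype.ext
  show a * b = b * a
  have hb' : b ∈ P ⊓ Subgroup.centralizer (A : Set G) := by rw [hC]; exact hb
  exact (Subgroup.mem_centralizer_iff.mp hb'.2 a ha)

theorem not_pRankLE_mono {p k : ℕ} {A X : Subgroup G} (hAX : A ≤ X) (h : ¬ PRankLE p k ↥A) :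
    ¬ PRankLE p k ↥X := by
  obtain ⟨V, hVA, hVe, hVcard⟩ := Cfsg.Agent.S1400.exists_elementary_of_not_pRankLE h
  exact not_pRankLE_of_le (hVA.trans hAX) hVe hVcard

variable [Finite G]

/-- the Uniqueness Theorem for subgroups of `p`-rank at least three. -/
theorem inUniqueMaximal_of_not_pRankLE (hG : IsMinSimpleOddOrder G) {p : ℕ} (hp : p.Prime)
    {X : Subgroup G} (hX : X ≠ ⊤) (h : ¬ PRankLE p 2 ↥X) : InUniqueMaximal X := by
  apply Cfsg.Agent.S1403.result hG X hX
  · intro h1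
    apply h
    intro B hBc hBp
    have h2 := h1 p hp B hBc hBp
    have : p ^ 1 ≤ p ^ 2 := Nat.pow_le_pow_right hp.pos (by norm_num)
    omega
  · left
    intro h1
    exact h (h1 p hp)

end RankAux

section Sigma

/-- the defining property of a prime in `σ(M)`, in conjugation invariant form. -/
def SigmaProp (p : ℕ) (M : Subgroup G) : Prop :=
  IsCoatom M ∧ ∀ P : Subgroup G, IsSylowIn p P M → Subgroup.normalizer (P : Set G) ≤ M

variable [Finite G] {p : ℕ} [Fact p.Prime]

omit [Finite G] [Fact p.Prime] in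
theorem IsSylowIn.map_conj_gen {T X : Subgroup G} (h : IsSylowIn p T X) (g : G) :
    IsSylowIn p (T.map (MulAut.conj g).toMonoidHom) (X.map (MulAut.conj g).toMonoidHom) := by
  refine ⟨Subgroup.map_mono h.le, h.isPGroup.map _, ?_⟩
  intro Q hQX hQ hle
  have h1 : Q.map (MulAut.conj g⁻¹).toMonoidHom = T := by
    apply h.eq_of_le
    · have := Subgroup.map_mono (f := (MulAut.conj g⁻¹).toMonoidHom) hQX
      rwa [map_conj_inv_map_conj] at this
    · exact hQ.map _
    · have := Subgroup.map_mono (f := (MulAut.conj g⁻¹).toMonoidHom) hle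
      rwa [map_conj_inv_map_conj] at this
  rw [← h1, map_conj_map_conj_inv]

omit [Finite G] [Fact p.Prime] in
theorem conj_mem_normalizer_of_mem_normalizer_map_conj {D : Subgroup G} {g x : G}
    (h : x ∈ Subgroup.normalizer ((D.map (MulAut.conj g).toMonoidHom : Subgroup G) : Set G)) :
    g⁻¹ * x * g ∈ Subgroup.normalizer (D : Set G) := by
  have h1 : g⁻¹ * x * g ∈ Subgroup.normalizer
      (((D.map (MulAut.conj g).toMonoidHom).map (MulAut.conj g⁻¹).toMonoidHom : Subgroup G) :
        Set G) := by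
    apply mem_normalizer_map_conj
    have : g⁻¹⁻¹ * (g⁻¹ * x * g) * g⁻¹ = x := by group
    rw [this]
    exact h
  rwa [map_conj_inv_map_conj] at h1

theorem sigmaProp_of_mem_sigma {M : Subgroup G} (hM : IsCoatom M) (hp : p ∈ sigma M) :
    SigmaProp p M := by
  refine ⟨hM, ?_⟩
  obtain ⟨-, -, P₀, hP₀⟩ := hp
  intro P hP
  have h0 : IsSylowIn p ((P₀ : Subgroup M).map M.subtype) M := isSylowIn_of_sylow P₀
  obtain ⟨x, hxM, hx⟩ := h0.exists_conj hP
  intro n hn
  rw [hx] at hn
  have h1 := hP₀ (conj_mem_normalizer_of_mem_normalizer_map_conj hn)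
  have h2 : n = x * (x⁻¹ * n * x) * x⁻¹ := by group
  rw [h2]
  exact mul_mem (mul_mem hxM h1) (inv_mem hxM)

omit [Finite G] [Fact p.Prime] in
theorem SigmaProp.map_conj {M : Subgroup G} (h : SigmaProp p M) (g : G) :
    SigmaProp p (M.map (MulAut.conj g).toMonoidHom) := by
  refine ⟨isCoatom_map_conj g h.1, ?_⟩
  intro P hP
  have h1 : IsSylowIn p (P.map (MulAut.conj g⁻¹).toMonoidHom) M := by
    have := hP.map_conj_gen g⁻¹
    rwa [map_conj_inv_map_conj] at this
  have h2 := h.2 _ h1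
  intro n hn
  have h3 : P = (P.map (MulAut.conj g⁻¹).toMonoidHom).map (MulAut.conj g).toMonoidHom :=
    (map_conj_map_conj_inv g P).symm
  rw [h3] at hn
  have h4 := h2 (conj_mem_normalizer_of_mem_normalizer_map_conj hn)
  refine ⟨g⁻¹ * n * g, h4, ?_⟩
  simp [mul_assoc]

theorem SigmaProp.isSylowIn_top {M P : Subgroup G} (h : SigmaProp p M) (hP : IsSylowIn p P M) :
    IsSylowIn p P ⊤ := by
  apply IsSylowIn.of_normalizer_le le_top hP.isPGroup
  intro x _ hxN hxp
  have h3 := hP.eq_of_le (sup_le hP.le (Subgroup.zpowers_le.mpr (h.2 P hP hxN))) hxp le_sup_left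
  rw [← h3]
  exact Subgroup.mem_sup_right (Subgroup.mem_zpowers x)

omit [Fact p.Prime] in
theorem card_lt_of_le_of_ne {X Y : Subgroup G} (hXY : X ≤ Y) (hne : X ≠ Y) :
    Nat.card X < Nat.card Y := by
  by_contra hcon
  push Not at hcon
  exact hne (Subgroup.eq_of_le_of_card_ge hXY hcon)

/-- **Bender--Glauberman, Lemma 10.1**: for `p ∈ σ(M)` the centralizer of a nontrivial
`p`-subgroup `X` is transitive on the conjugates of `M` containing `X`. -/
theorem sigma_conj_aux (hG : IsMinSimpleOddOrder G) :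
    ∀ (n : ℕ) (X : Subgroup G), Nat.card G - Nat.card X = n → IsPGroup p X → X ≠ ⊥ →
      ∀ M₁ : Subgroup G, SigmaProp p M₁ → ∀ g : G, X ≤ M₁ →
        X ≤ M₁.map (MulAut.conj g).toMonoidHom →
        ∃ c ∈ Subgroup.centralizer (X : Set G),
          M₁.map (MulAut.conj g).toMonoidHom = M₁.map (MulAut.conj c).toMonoidHom := by
  intro n
  induction n using Nat.strong_induction_on with
  | _ n ih =>
  intro X hn hXp hX1 M₁ hσ₁ g hXM₁ hXM₂
  have hp : p.Prime := Fact.out
  have hp2 : p ≠ 2 := prime_ne_two_of_pgroup hG hXp hX1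
  -- the inductive hypothesis
  have IH : ∀ Y : Subgroup G, IsPGroup p Y → X ≤ Y → X ≠ Y → ∀ M' : Subgroup G,
      SigmaProp p M' → ∀ k : G, Y ≤ M' → Y ≤ M'.map (MulAut.conj k).toMonoidHom →
      ∃ c ∈ Subgroup.centralizer (Y : Set G),
        M'.map (MulAut.conj k).toMonoidHom = M'.map (MulAut.conj c).toMonoidHom := by
    intro Y hYp hXY hne M' hσ' k h1 h2
    have hlt : Nat.card X < Nat.card Y := card_lt_of_le_of_ne hXY hne
    have hYG : Nat.card Y ≤ Nat.card G := Subgroup.card_le_card_group Y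
    have hY1 : Y ≠ ⊥ := by
      rintro rfl
      exact hX1 (le_bot_iff.mp hXY)
    exact ih (Nat.card G - Nat.card Y) (by omega) Y rfl hYp hY1 M' hσ' k h1 h2
  obtain ⟨P₁, hP₁, hXP₁⟩ := exists_isSylowIn_ge hXM₁ hXp
  have hP₁top : IsSylowIn p P₁ ⊤ := hσ₁.isSylowIn_top hP₁
  by_cases hXP : X = P₁
  · -- `X` is a Sylow subgroup
    subst hXP
    have hσ₂ := hσ₁.map_conj g
    have h1 : IsSylowIn p X (M₁.map (MulAut.conj g).toMonoidHom) := hP₁top.of_le hXM₂ le_top
    have h2 : IsSylowIn p (X.map (MulAut.conj g).toMonoidHom)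
        (M₁.map (MulAut.conj g).toMonoidHom) := hP₁.map_conj_gen g
    obtain ⟨m, hm, hmX⟩ := h2.exists_conj h1
    rw [map_conj_map_conj] at hmX
    have h3 : m * g ∈ M₁ := hσ₁.2 X hP₁ (mem_normalizer_of_map_conj_eq hmX.symm)
    obtain ⟨m₁, hm₁, hm₁m⟩ := hm
    have h4 : g ∈ M₁ := by
      have h5 : m * g = g * m₁ := by
        rw [← hm₁m]
        simp [mul_assoc]
      rw [h5] at h3
      have h6 : g = (g * m₁) * m₁⁻¹ := by group
      rw [h6]
      exact mul_mem h3 (inv_mem hm₁)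
    refine ⟨1, Subgroup.one_mem _, ?_⟩
    rw [map_conj_eq_self_of_mem h4, map_conj_one]
  · -- `X` is not a Sylow subgroup
    obtain ⟨H, hH⟩ : ∃ H : Subgroup G, H = Subgroup.normalizer (X : Set G) := ⟨_, rfl⟩
    have hXH : X ≤ H := by rw [hH]; exact Subgroup.le_normalizer
    have hCH : Subgroup.centralizer (X : Set G) ≤ H := by
      rw [hH]; exact Subgroup.centralizer_le_normalizer _
    have hcardP : ∀ P' : Subgroup G, IsSylowIn p P' ⊤ → Nat.card P' = Nat.card P₁ := by
      intro P' hP'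
      obtain ⟨x, -, hx⟩ := hP₁top.exists_conj hP'
      rw [hx]
      exact Subgroup.card_map_of_injective (MulAut.conj x).injective
    -- a Sylow subgroup of `N(X)` inside a `C(X)`-conjugate
    have keyB : ∀ M' : Subgroup G, SigmaProp p M' → X ≤ M' →
        ∃ c ∈ Subgroup.centralizer (X : Set G), ∃ S : Subgroup G, IsSylowIn p S H ∧
          S ≤ M'.map (MulAut.conj c).toMonoidHom ∧ X ≠ S ∧ X ≤ S := by
      intro M' hσ' hXM'
      obtain ⟨P', hP', hXP'⟩ := exists_isSylowIn_ge hXM' hXp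
      have hP'top : IsSylowIn p P' ⊤ := hσ'.isSylowIn_top hP'
      have hXP'ne : X ≠ P' := by
        intro h
        apply hXP
        apply Subgroup.eq_of_le_of_card_ge hXP₁
        rw [← hcardP P' hP'top, ← h]
      obtain ⟨y, hyP', hyN, hyX⟩ := Cfsg.Agent.Lib.Helper17.pgroup_normalizer_gt hP'.isPGroup
        (lt_of_le_of_ne hXP' hXP'ne)
      obtain ⟨T, hT⟩ : ∃ T : Subgroup G, T = P' ⊓ H := ⟨_, rfl⟩
      have hXT : X ≤ T := by rw [hT]; exact le_inf hXP' hXH
      have hXTne : X ≠ T := by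
        intro h
        apply hyX
        rw [h, hT]
        exact ⟨hyP', by rw [hH]; exact hyN⟩
      have hTp : IsPGroup p T := hP'.isPGroup.to_le (by rw [hT]; exact inf_le_left)
      have hTH : T ≤ H := by rw [hT]; exact inf_le_right
      have hTM' : T ≤ M' := by rw [hT]; exact inf_le_left.trans hP'.le
      obtain ⟨S, hS, hTS⟩ := exists_isSylowIn_ge hTH hTp
      obtain ⟨P'', hP'', hSP''⟩ := exists_isSylowIn_ge (le_top : S ≤ ⊤) hS.isPGroup
      obtain ⟨a, -, ha⟩ := hP'top.exists_conj hP''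
      have hSM : S ≤ M'.map (MulAut.conj a).toMonoidHom := by
        rw [ha] at hSP''
        exact hSP''.trans (Subgroup.map_mono hP'.le)
      obtain ⟨c, hc, hca⟩ := IH T hTp hXT hXTne M' hσ' a hTM' (hTS.trans hSM)
      refine ⟨c, centralizer_anti hXT hc, S, hS, ?_, ?_, hXT.trans hTS⟩
      · rw [← hca]; exact hSM
      · intro h
        apply hXTne
        exact le_antisymm hXT (by rw [h]; exact hTS)
    -- the factorization of `N(X)`
    have keyA : ∀ M' : Subgroup G, SigmaProp p M' → X ≤ M' → ∀ S : Subgroup G,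
        IsSylowIn p S H → S ≤ M' → X ≠ S → X ≤ S →
        H ≤ Subgroup.centralizer (X : Set G) ⊔ (H ⊓ M') := by
      intro M' hσ' hXM' S hS hSM' hXS hXleS
      have hHtop : H ≠ ⊤ := by
        rw [hH]
        exact Cfsg.Agent.Lib.Lead.BGTrans.normalizer_ne_top hG.2 hX1
          (Cfsg.Agent.Lib.Lead.BGTrans.pgroup_ne_top hG.2 hXp)
      have hHsolv : Group.IsSolvable H := isSolvable_of_ne_top hG hHtop
      have hHodd : Odd (Nat.card H) := odd_card_subgroup hG H
      have hi : ∀ Y : Subgroup G, IsPGroup p Y → X ≤ Y → X ≠ Y → Y ≤ M' →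
          H ⊓ Subgroup.normalizer (Y : Set G) ≤
            Subgroup.centralizer (X : Set G) ⊔ (H ⊓ M') := by
        intro Y hYp hXY hne hYM' k hk
        obtain ⟨hkH, hkY⟩ := hk
        have h2 : Y ≤ M'.map (MulAut.conj k).toMonoidHom :=
          le_map_conj_of_mem_normalizer hkY hYM'
        obtain ⟨c, hc, hck⟩ := IH Y hYp hXY hne M' hσ' k hYM' h2
        have h3 : M'.map (MulAut.conj (c⁻¹ * k)).toMonoidHom = M' := by
          rw [← map_conj_map_conj, hck, map_conj_map_conj, inv_mul_cancel, map_conj_one]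
        have h4 : c⁻¹ * k ∈ M' := mem_of_map_conj_eq_self hG hσ'.1 h3
        have hcX : c ∈ Subgroup.centralizer (X : Set G) := centralizer_anti hXY hc
        have h5 : k = c * (c⁻¹ * k) := by group
        rw [h5]
        exact mul_mem (Subgroup.mem_sup_left hcX)
          (Subgroup.mem_sup_right
            (Subgroup.mem_inf.mpr ⟨H.mul_mem (H.inv_mem (hCH hcX)) hkH, h4⟩))
      have hii : ppCoreOf p H ≤ Subgroup.centralizer (X : Set G) := by
        apply le_centralizer_of_commute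
        intro a ha b hb
        apply commute_of_normalize_of_inf_eq_bot (A := ppCoreOf p H) (B := X) _ _ _ ha hb
        · exact (ppCoreOf_le p H).trans (by rw [hH])
        · exact hXH.trans (le_normalizer_ppCoreOf p H)
        · apply inf_eq_bot_of_coprime
          obtain ⟨k, hk⟩ := hXp.exists_card_eq
          rw [hk]
          exact Nat.Coprime.pow_right k (coprime_card_ppCoreOf p H)
      have hpH : p ∣ Nat.card H := by
        obtain ⟨k, hk⟩ := hXp.exists_card_eq
        have hk0 : k ≠ 0 := by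
          rintro rfl
          rw [pow_zero] at hk
          exact hX1 (Subgroup.card_eq_one.mp hk)
        have h1 : p ∣ Nat.card X := by rw [hk]; exact dvd_pow_self p hk0
        exact h1.trans (Subgroup.card_dvd_of_le hXH)
      by_cases hr : PRankLE p 2 ↥H
      · have h1 := le_ppCoreOf_sup_normalizer_of_pRankLE hHsolv hHodd hpH hS hr
        refine h1.trans (sup_le (hii.trans le_sup_left) ?_)
        exact hi S hS.isPGroup hXleS hXS hSM'
      · have hrS : ¬ PRankLE p 2 ↥S := not_pRankLE_sylow_of_not_pRankLE hS hr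
        obtain ⟨A, hSCN, hA3⟩ := exists_isSCN_of_not_pRankLE hp2 hS.isPGroup hrS
        by_cases hAX : A ≤ X
        · have hX3 : ¬ PRankLE p 2 ↥X := not_pRankLE_mono hAX hA3
          have hXtop : X ≠ ⊤ := Cfsg.Agent.Lib.Lead.BGTrans.pgroup_ne_top hG.2 hXp
          have hXU := inUniqueMaximal_of_not_pRankLE hG hp hXtop hX3
          obtain ⟨L, hL, hXL, huniq⟩ := inUniqueMaximal_exists hXU
          have hHL : H ≤ L := le_of_unique_isCoatom huniq hXH hHtop
          have hM'L : M' = L := huniq M' hσ'.1 hXM'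
          rw [hM'L]
          exact fun x hx => Subgroup.mem_sup_right ⟨hx, hHL hx⟩
        · have hAc : IsMulCommutative A := isMulCommutative_of_isSCN hSCN
          have hAV : A ≤ pppCoreOf p H :=
            abelian_le_pppCoreOf hHsolv hHodd hS hSCN.1 hAc hSCN.2.1
          have hXn : H ≤ Subgroup.normalizer (X : Set G) := by rw [hH]
          have hXV : X ≤ pppCoreOf p H :=
            (le_pCoreOf hXH hXn hXp).trans (pCoreOf_le_pppCoreOf p H)
          have h1 := le_ppCoreOf_sup_normalizer_inf_pppCoreOf hS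
          refine h1.trans (sup_le (hii.trans le_sup_left) ?_)
          apply hi (S ⊓ pppCoreOf p H) (hS.isPGroup.to_le inf_le_left) (le_inf hXleS hXV)
          · intro h
            apply hAX
            rw [h]
            exact le_inf hSCN.1 hAV
          · exact inf_le_left.trans hSM'
    -- assembly
    obtain ⟨c₁, hc₁, S₁, hS₁, hS₁M, hXS₁, hXleS₁⟩ := keyB M₁ hσ₁ hXM₁
    have hσ₂ := hσ₁.map_conj g
    obtain ⟨c₂, hc₂, S₂, hS₂, hS₂M, hXS₂, hXleS₂⟩ :=
      keyB (M₁.map (MulAut.conj g).toMonoidHom) hσ₂ hXM₂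
    obtain ⟨k, hkH, hk⟩ := hS₁.exists_conj hS₂
    have hσ₁' := hσ₁.map_conj c₁
    have hXM₁' : X ≤ M₁.map (MulAut.conj c₁).toMonoidHom :=
      le_map_conj_of_mem_normalizer (Subgroup.centralizer_le_normalizer _ hc₁) hXM₁
    have hσ'' := hσ₁'.map_conj k
    have hS₂M'' : S₂ ≤ (M₁.map (MulAut.conj c₁).toMonoidHom).map (MulAut.conj k).toMonoidHom := by
      rw [hk]
      exact Subgroup.map_mono hS₁M
    have e1 : M₁.map (MulAut.conj (c₂ * g)).toMonoidHom =
        ((M₁.map (MulAut.conj c₁).toMonoidHom).map (MulAut.conj k).toMonoidHom).map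
          (MulAut.conj ((c₂ * g) * (k * c₁)⁻¹)).toMonoidHom := by
      simp only [map_conj_map_conj]
      exact map_conj_congr (by group) M₁
    have hS₂M₂ : S₂ ≤ ((M₁.map (MulAut.conj c₁).toMonoidHom).map
        (MulAut.conj k).toMonoidHom).map (MulAut.conj ((c₂ * g) * (k * c₁)⁻¹)).toMonoidHom := by
      rw [← e1, ← map_conj_map_conj]
      exact hS₂M
    obtain ⟨c₃, hc₃, hc₃eq⟩ := IH S₂ hS₂.isPGroup hXleS₂ hXS₂ _ hσ'' _ hS₂M'' hS₂M₂
    -- `M₁^g = M₁^(c₂⁻¹ c₃ k c₁)`
    have h2 : M₁.map (MulAut.conj g).toMonoidHom =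
        (M₁.map (MulAut.conj c₁).toMonoidHom).map (MulAut.conj (c₂⁻¹ * c₃ * k)).toMonoidHom := by
      have e2 : M₁.map (MulAut.conj g).toMonoidHom =
          (M₁.map (MulAut.conj (c₂ * g)).toMonoidHom).map (MulAut.conj c₂⁻¹).toMonoidHom := by
        simp only [map_conj_map_conj]
        exact map_conj_congr (by group) M₁
      rw [e2, e1, hc₃eq]
      simp only [map_conj_map_conj]
      exact map_conj_congr (by group) M₁
    have hk' : c₂⁻¹ * c₃ * k ∈ H := by
      have hc₃X : c₃ ∈ Subgroup.centralizer (X : Set G) := centralizer_anti hXleS₂ hc₃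
      exact mul_mem (mul_mem (inv_mem (hCH hc₂)) (hCH hc₃X)) hkH
    have h6 := keyA (M₁.map (MulAut.conj c₁).toMonoidHom) hσ₁' hXM₁' S₁ hS₁ hS₁M hXS₁ hXleS₁ hk'
    have hnorm : H ⊓ M₁.map (MulAut.conj c₁).toMonoidHom ≤
        Subgroup.normalizer ((Subgroup.centralizer (X : Set G) : Subgroup G) : Set G) := by
      apply inf_le_left.trans
      apply le_normalizer_centralizer
      rw [hH]
    obtain ⟨c, hc, m', hm', hcm⟩ := exists_mul_of_mem_sup_of_le_normalizer hnorm h6
    refine ⟨c * c₁, mul_mem hc hc₁, ?_⟩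
    rw [h2, hcm, ← map_conj_map_conj m' c, map_conj_eq_self_of_mem hm'.2, map_conj_map_conj]

theorem sigma_conj (hG : IsMinSimpleOddOrder G) {M X : Subgroup G} (hσ : SigmaProp p M)
    (hXp : IsPGroup p X) (hX1 : X ≠ ⊥) (hXM : X ≤ M) {g : G}
    (hg : X ≤ M.map (MulAut.conj g).toMonoidHom) :
    ∃ c ∈ Subgroup.centralizer (X : Set G), ∃ m ∈ M, g = c * m := by
  obtain ⟨c, hc, hcg⟩ := sigma_conj_aux hG _ X rfl hXp hX1 M hσ g hXM hg
  have h3 : M.map (MulAut.conj (c⁻¹ * g)).toMonoidHom = M := by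
    rw [← map_conj_map_conj, hcg, map_conj_map_conj, inv_mul_cancel, map_conj_one]
  have h4 : c⁻¹ * g ∈ M := mem_of_map_conj_eq_self hG hσ.1 h3
  exact ⟨c, hc, c⁻¹ * g, h4, by group⟩

end Sigma

end Cfsg.Agent.Lib.Helper10.BG
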