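import Mathlib
import Cfsg.Prelude
import Cfsg.Agent.Lib.Helper10.BGTen
import Cfsg.Agent.Lib.Helper10.Rank2Solv
import Cfsg.Agent.Lib.Helper12.PiCore
import Cfsg.Agent.S1451

/-!
# Bender--Glauberman, Theorem 10.2: the Hall subgroup `M_α`

A type level criterion for `O_π(X)` to be a Hall subgroup of a solvable group `X` of odd order with
`X / O_π(X)` of rank at most two, and the fact that Sylow subgroups for the primes of `σ(M)` lie in
the derived group of `M` (focal subgroup theorem).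
-/

set_option autoImplicit false
open Cfsg
open scoped commutatorElement Pointwise

namespace Cfsg.Agent.Lib.Helper10.BG

open Cfsg.Agent.Lib.Helper12 (IsPiNat)

section TypeLevel

variable {X : Type*} [Group X] [Finite X]

/-- a `q`-subgroup of the Fitting subgroup lies in `O_q`. -/
theorem pgroup_le_pCore_of_le_fittingSubgroup {q : ℕ} [Fact q.Prime] {Q : Subgroup X}
    (hQ : IsPGroup q Q) (hQF : Q ≤ fittingSubgroup X) : Q ≤ pCore q X := by
  have hFn : (fittingSubgroup X).Normal := Cfsg.Agent.Lib.Helper1.fittingSubgroup_normal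
  have hFnil : Group.IsNilpotent (fittingSubgroup X) :=
    Cfsg.Agent.Lib.Helper1.fittingSubgroup_isNilpotent
  have hQ' : IsPGroup q (Q.subgroupOf (fittingSubgroup X)) := hQ.comap_subtype
  obtain ⟨S, hS⟩ := hQ'.exists_le_sylow
  have hSn : (S : Subgroup (fittingSubgroup X)).Normal := inferInstance
  have hSc : (S : Subgroup (fittingSubgroup X)).Characteristic := S.characteristic_of_normal hSn
  have hTn : ((S : Subgroup (fittingSubgroup X)).map (fittingSubgroup X).subtype).Normal :=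
    inferInstance
  have hTp : IsPGroup q ((S : Subgroup (fittingSubgroup X)).map (fittingSubgroup X).subtype) :=
    S.2.map _
  refine le_trans ?_ (Cfsg.Agent.Lib.Helper1.le_pCore hTn hTp)
  intro x hx
  exact ⟨⟨x, hQF hx⟩, hS (by rw [Subgroup.mem_subgroupOf]; exact hx), rfl⟩

theorem pCore_le_piCore {π : Set ℕ} {q : ℕ} [Fact q.Prime] (hq : q ∈ π) :
    pCore q X ≤ piCore π X := by
  apply Cfsg.Agent.Lib.Helper12.le_piCore (Cfsg.Agent.Lib.Helper1.pCore_normal q)
  intro r hr hrd
  obtain ⟨k, hk⟩ := (Cfsg.Agent.Lib.Helper1.pCore_isPGroup (G := X) q).exists_card_eq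
  rw [hk] at hrd
  have h1 : r ∣ q := hr.dvd_of_dvd_pow hrd
  have h2 : r = q := (Nat.prime_dvd_prime_iff_eq hr Fact.out).mp h1
  rw [h2]
  exact hq

theorem eq_bot_of_isPGroup_of_not_dvd {q : ℕ} [Fact q.Prime] {Q : Subgroup X} (hQ : IsPGroup q Q)
    (h : ¬ q ∣ Nat.card X) : Q = ⊥ := by
  obtain ⟨k, hk⟩ := hQ.exists_card_eq
  have hk0 : k = 0 := by
    by_contra hk0
    apply h
    have h1 : q ∣ Nat.card Q := by rw [hk]; exact dvd_pow_self q hk0
    exact h1.trans (Subgroup.card_subgroup_dvd_card Q)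
  rw [hk0, pow_zero] at hk
  exact Subgroup.card_eq_one.mp hk

/-- **Bender--Glauberman, Theorem 10.2**, type level: if the `q`-rank of the solvable group `X` of
odd order is at most two for the primes `q ∉ π` and the Sylow subgroups for the primes in `π` lie
in the derived group, then `O_π(X)` is a Hall subgroup, `X / O_π(X)` has rank at most two and a
nilpotent derived group. -/
theorem piCore_hall_of_rank (π : Set ℕ) [Group.IsSolvable X] (hodd : Odd (Nat.card X))
    (hrank : ∀ q : ℕ, q.Prime → q ∉ π → PRankLE q 2 X)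
    (hder : ∀ (p : ℕ) [Fact p.Prime], p ∈ π → ∀ P : Sylow p X, (P : Subgroup X) ≤ commutator X) :
    (∀ p : ℕ, p.Prime → p ∈ π → ¬ p ∣ (piCore π X).index) ∧
      RankLE 2 (X ⧸ piCore π X) ∧
      Group.IsNilpotent ↥((commutator X).map (QuotientGroup.mk' (piCore π X))) := by
  have hKpi : IsPiNat π (Nat.card (piCore π X)) := Cfsg.Agent.Lib.Helper12.piCore_isPiNat π
  have hcore : piCore π (X ⧸ (piCore π X)) = ⊥ := Cfsg.Agent.Lib.Helper12.piCore_quotient_piCore π
  have hsurj : Function.Surjective (QuotientGroup.mk' (piCore π X)) := QuotientGroup.mk'_surjective (piCore π X)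
  have hoddQ : Odd (Nat.card (X ⧸ (piCore π X))) := by
    have h1 : Nat.card (X ⧸ (piCore π X)) ∣ Nat.card X := by
      rw [← Subgroup.index_eq_card]
      exact Subgroup.index_dvd_card (piCore π X)
    exact Odd.of_dvd_nat hodd h1
  -- the rank of the quotient at the primes outside `π`
  have hrankQ : ∀ q : ℕ, q.Prime → q ∉ π → PRankLE q 2 (X ⧸ (piCore π X)) := by
    intro q hq hqπ
    have : Fact q.Prime := ⟨hq⟩
    apply Cfsg.Agent.Lib.Helper10.pRankLE_quotient (piCore π X) _ (hrank q hq hqπ)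
    rw [Nat.coprime_comm, Nat.Prime.coprime_iff_not_dvd hq]
    intro hd
    exact hqπ (hKpi q hq hd)
  -- `q`-subgroups of the Fitting subgroup of the quotient, `q ∈ π`, are trivial
  have htriv : ∀ (q : ℕ) [Fact q.Prime], q ∈ π → ∀ Q : Subgroup (X ⧸ (piCore π X)), IsPGroup q Q →
      Q ≤ fittingSubgroup (X ⧸ (piCore π X)) → Q = ⊥ := by
    intro q _ hqπ Q hQ hQF
    have h1 := (pgroup_le_pCore_of_le_fittingSubgroup hQ hQF).trans (pCore_le_piCore hqπ)
    rw [hcore] at h1
    exact le_bot_iff.mp h1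
  have hrF : RankLE 2 (fittingSubgroup (X ⧸ (piCore π X))) := by
    intro q hq
    have : Fact q.Prime := ⟨hq⟩
    by_cases hqπ : q ∈ π
    · intro A hAc hAq
      have hAp : IsPGroup q (A.map (fittingSubgroup (X ⧸ (piCore π X))).subtype) := by
        apply IsPGroup.map
        intro a
        refine ⟨1, ?_⟩
        apply Subtype.ext
        rw [pow_one, Subgroup.coe_pow, Subgroup.coe_one]
        exact hAq a a.2
      have h1 := htriv q hqπ _ hAp (Subgroup.map_subtype_le A)
      have h2 : Nat.card A = 1 := by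
        rw [← Subgroup.card_map_of_injective (fittingSubgroup (X ⧸ (piCore π X))).subtype_injective, h1,
          Subgroup.card_bot]
      rw [h2]
      exact Nat.one_le_pow _ _ hq.pos
    · exact pRankLE_of_injective (fittingSubgroup (X ⧸ (piCore π X))).subtype
        (fittingSubgroup (X ⧸ (piCore π X))).subtype_injective (hrankQ q hq hqπ)
  have hnil : Group.IsNilpotent ↥(commutator (X ⧸ (piCore π X))) :=
    (Cfsg.Agent.S1451.result hoddQ (Or.inr hrF)).1
  have hcomm : (commutator X).map (QuotientGroup.mk' (piCore π X)) = commutator (X ⧸ (piCore π X)) := by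
    rw [commutator_def, commutator_def, Subgroup.map_commutator,
      Subgroup.map_top_of_surjective _ hsurj]
  have hcF : commutator (X ⧸ (piCore π X)) ≤ fittingSubgroup (X ⧸ (piCore π X)) :=
    Cfsg.Agent.Lib.Helper1.le_fittingSubgroup inferInstance hnil
  -- the primes of `π` do not divide the index
  have hindex : ∀ p : ℕ, p.Prime → p ∈ π → ¬ p ∣ (piCore π X).index := by
    intro p hp hpπ hd
    have : Fact p.Prime := ⟨hp⟩
    obtain ⟨P⟩ : Nonempty (Sylow p X) := inferInstance
    have hP := hder p hpπ P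
    have h1 : ((P.mapSurjective hsurj : Sylow p (X ⧸ (piCore π X))) : Subgroup (X ⧸ (piCore π X))) ≤
        fittingSubgroup (X ⧸ (piCore π X)) := by
      rw [Sylow.coe_mapSurjective]
      exact (Subgroup.map_mono hP).trans (hcomm.le.trans hcF)
    have h2 := htriv p hpπ _ (P.mapSurjective hsurj).2 h1
    have h3 : p ∣ Nat.card (X ⧸ (piCore π X)) := by rwa [← Subgroup.index_eq_card]
    have h4 := (P.mapSurjective hsurj).ne_bot_of_dvd_card h3
    exact h4 h2
  refine ⟨hindex, ?_, by rw [hcomm]; exact hnil⟩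
  intro q hq
  have : Fact q.Prime := ⟨hq⟩
  by_cases hqπ : q ∈ π
  · intro A hAc hAq
    have hAp : IsPGroup q A := by
      intro a
      refine ⟨1, ?_⟩
      apply Subtype.ext
      rw [pow_one, Subgroup.coe_pow, Subgroup.coe_one]
      exact hAq a a.2
    have hnd : ¬ q ∣ Nat.card (X ⧸ (piCore π X)) := by
      rw [← Subgroup.index_eq_card]
      exact hindex q hq hqπ
    rw [eq_bot_of_isPGroup_of_not_dvd hAp hnd, Subgroup.card_bot]
    exact Nat.one_le_pow _ _ hq.pos
  · exact hrankQ q hq hqπ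

/-- the Hall property of a larger core: if moreover the Sylow subgroups for the primes of `ρ ⊇ π`
lie in the derived group, then `O_ρ(X)` is a Hall subgroup. -/
theorem piCore_hall_of_rank_of_subset (π ρ : Set ℕ) (hπρ : π ⊆ ρ) [Group.IsSolvable X]
    (hodd : Odd (Nat.card X))
    (hrank : ∀ q : ℕ, q.Prime → q ∉ π → PRankLE q 2 X)
    (hder : ∀ (p : ℕ) [Fact p.Prime], p ∈ ρ → ∀ P : Sylow p X, (P : Subgroup X) ≤ commutator X) :
    ∀ p : ℕ, p.Prime → p ∈ ρ → ¬ p ∣ (piCore ρ X).index := by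
  obtain ⟨-, -, hnil⟩ := piCore_hall_of_rank π hodd hrank
    (fun p _ hp P => hder p (hπρ hp) P)
  have hsurj : Function.Surjective (QuotientGroup.mk' (piCore π X)) :=
    QuotientGroup.mk'_surjective _
  have hcomm : (commutator X).map (QuotientGroup.mk' (piCore π X)) =
      commutator (X ⧸ piCore π X) := by
    rw [commutator_def, commutator_def, Subgroup.map_commutator,
      Subgroup.map_top_of_surjective _ hsurj]
  rw [hcomm] at hnil
  have hcF : commutator (X ⧸ piCore π X) ≤ fittingSubgroup (X ⧸ piCore π X) :=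
    Cfsg.Agent.Lib.Helper1.le_fittingSubgroup inferInstance hnil
  intro p hp hpρ hd
  have : Fact p.Prime := ⟨hp⟩
  obtain ⟨P⟩ : Nonempty (Sylow p X) := inferInstance
  have hP := hder p hpρ P
  have h1 : (P : Subgroup X).map (QuotientGroup.mk' (piCore π X)) ≤
      pCore p (X ⧸ piCore π X) := by
    apply pgroup_le_pCore_of_le_fittingSubgroup (P.2.map _)
    exact (Subgroup.map_mono hP).trans (hcomm.le.trans hcF)
  have h2 : (P : Subgroup X) ≤ (pCore p (X ⧸ piCore π X)).comap
      (QuotientGroup.mk' (piCore π X)) := by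
    intro x hx
    exact h1 ⟨x, hx, rfl⟩
  have hn : ((pCore p (X ⧸ piCore π X)).comap (QuotientGroup.mk' (piCore π X))).Normal :=
    Subgroup.Normal.comap (Cfsg.Agent.Lib.Helper1.pCore_normal p) _
  have hpi : IsPiNat ρ (Nat.card ((pCore p (X ⧸ piCore π X)).comap
      (QuotientGroup.mk' (piCore π X)))) := by
    rw [Cfsg.Agent.Lib.Helper1.card_comap_mk]
    apply Cfsg.Agent.Lib.Helper12.IsPiNat.mul
    · intro r hr hrd
      obtain ⟨k, hk⟩ := (Cfsg.Agent.Lib.Helper1.pCore_isPGroup (G := X ⧸ piCore π X)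
        p).exists_card_eq
      rw [hk] at hrd
      have h3 : r ∣ p := hr.dvd_of_dvd_pow hrd
      have h4 : r = p := (Nat.prime_dvd_prime_iff_eq hr hp).mp h3
      rw [h4]
      exact hpρ
    · intro r hr hrd
      exact hπρ (Cfsg.Agent.Lib.Helper12.piCore_isPiNat π r hr hrd)
  have h3 : (P : Subgroup X) ≤ piCore ρ X := h2.trans (Cfsg.Agent.Lib.Helper12.le_piCore hn hpi)
  apply P.not_dvd_index
  exact hd.trans (Subgroup.index_dvd_of_le h3)

end TypeLevel

section Focal

variable {G : Type*} [Group G] [Finite G]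

omit [Finite G] in
theorem commutator_eq_top (hG : IsMinSimpleOddOrder G) : commutator G = ⊤ := by
  obtain ⟨hsimple, hnc, -⟩ := hG.2
  have := hsimple
  have hn : (commutator G).Normal := inferInstance
  rcases hn.eq_bot_or_eq_top with h | h
  · exfalso
    apply hnc
    refine ⟨⟨fun a b => ?_⟩⟩
    have h1 : ⁅a, b⁆ ∈ commutator G :=
      Subgroup.commutator_mem_commutator (Subgroup.mem_top a) (Subgroup.mem_top b)
    rw [h, Subgroup.mem_bot] at h1
    exact commutatorElement_eq_one_iff_mul_comm.mp h1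
  · exact h

/-- fusion of `p`-subgroups of `M` is controlled by `M`, for `p ∈ σ(M)`. -/
theorem sigma_fusion (hG : IsMinSimpleOddOrder G) {M : Subgroup G} {p : ℕ} [Fact p.Prime]
    (hσ : SigmaProp p M) {X : Subgroup G} (hXp : IsPGroup p X) (hX1 : X ≠ ⊥) (hXM : X ≤ M)
    {g : G} (hg : X.map (MulAut.conj g).toMonoidHom ≤ M) :
    ∃ m ∈ M, ∃ c ∈ Subgroup.centralizer (X : Set G), g = m * c := by
  have h1 : X ≤ M.map (MulAut.conj g⁻¹).toMonoidHom := by
    have := Subgroup.map_mono (f := (MulAut.conj g⁻¹).toMonoidHom) hg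
    rwa [map_conj_inv_map_conj] at this
  obtain ⟨c, hc, m, hm, hcm⟩ := sigma_conj hG hσ hXp hX1 hXM h1
  refine ⟨m⁻¹, inv_mem hm, c⁻¹, inv_mem hc, ?_⟩
  have : g = (g⁻¹)⁻¹ := by group
  rw [this, hcm]
  group

/-- for `p ∈ σ(M)`, a Sylow `p`-subgroup of `M` lies in the derived group of `M`. -/
theorem sylow_le_commutator_of_sigmaProp (hG : IsMinSimpleOddOrder G) {M P : Subgroup G}
    {p : ℕ} [Fact p.Prime] (hσ : SigmaProp p M) (hP : IsSylowIn p P M) : P ≤ ⁅M, M⁆ := by
  have hPtop := hσ.isSylowIn_top hP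
  have h1 := Subgroup.commutator_inf_eq_focalSubgroup hPtop.toSylowTop
  rw [commutator_eq_top hG, top_inf_eq, hPtop.coe_toSylowTop] at h1
  intro y hy
  rw [h1, Subgroup.focalSubgroup_def] at hy
  revert y
  show Subgroup.closure _ ≤ ⁅M, M⁆
  rw [Subgroup.closure_le]
  rintro g ⟨hgP, x, hxP, u, rfl⟩
  by_cases hx1 : x = 1
  · subst hx1
    have : ⁅(1 : G), u⁆ = 1 := by simp [commutatorElement_def]
    rw [this]
    exact Subgroup.one_mem _
  · have hXP : Subgroup.zpowers x ≤ P := Subgroup.zpowers_le.mpr hxP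
    have hXp : IsPGroup p (Subgroup.zpowers x) := hP.isPGroup.to_le hXP
    have hX1 : Subgroup.zpowers x ≠ ⊥ := by
      intro h
      exact hx1 (Subgroup.zpowers_eq_bot.mp h)
    have h2 : u * x * u⁻¹ ∈ P := by
      have h3 : u * x * u⁻¹ = (x⁻¹ * ⁅x, u⁆)⁻¹ := by
        rw [commutatorElement_def]; group
      rw [h3]
      exact inv_mem (mul_mem (inv_mem hxP) hgP)
    have h4 : (Subgroup.zpowers x).map (MulAut.conj u).toMonoidHom ≤ M := by
      rw [MonoidHom.map_zpowers, Subgroup.zpowers_le]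
      exact hP.le h2
    obtain ⟨m, hm, c, hc, rfl⟩ := sigma_fusion hG hσ hXp hX1 (hXP.trans hP.le) h4
    have hcx : c * x⁻¹ = x⁻¹ * c := by
      have := Subgroup.mem_centralizer_iff.mp hc x⁻¹ (inv_mem (Subgroup.mem_zpowers x))
      exact this.symm
    have h5 : ⁅x, m * c⁆ = ⁅x, m⁆ := by
      rw [commutatorElement_def, commutatorElement_def]
      calc x * (m * c) * x⁻¹ * (m * c)⁻¹ = x * m * (c * x⁻¹) * c⁻¹ * m⁻¹ := by group
        _ = x * m * (x⁻¹ * c) * c⁻¹ * m⁻¹ := by rw [hcx]
        _ = x * m * x⁻¹ * m⁻¹ := by group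
    rw [h5]
    exact Subgroup.commutator_mem_commutator (hP.le hxP) hm

/-- type level form: for `p ∈ σ(M)`, the Sylow `p`-subgroups of `M` lie in `M'`. -/
theorem sylow_le_commutator_of_mem_sigma (hG : IsMinSimpleOddOrder G) {M : Subgroup G}
    (hM : IsCoatom M) {p : ℕ} [Fact p.Prime] (hp : p ∈ sigma M) (P : Sylow p ↥M) :
    (P : Subgroup ↥M) ≤ commutator ↥M := by
  have hσ := sigmaProp_of_mem_sigma hM hp
  have h1 := sylow_le_commutator_of_sigmaProp hG hσ (isSylowIn_of_sylow P)
  intro x hx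
  have h2 : (x : G) ∈ ⁅M, M⁆ := h1 ⟨x, hx, rfl⟩
  rw [← Subgroup.map_subtype_commutator] at h2
  obtain ⟨y, hy, hyx⟩ := h2
  have : y = x := Subtype.ext hyx
  rwa [← this]

/-- for `p ∈ σ(M)`, `p` does not divide the index of `M`. -/
theorem not_dvd_index_of_mem_sigma {M : Subgroup G} (hM : IsCoatom M) {p : ℕ} [Fact p.Prime]
    (hp : p ∈ sigma M) : ¬ p ∣ M.index := by
  intro h
  have hσ := sigmaProp_of_mem_sigma hM hp
  obtain ⟨P, hP⟩ := exists_isSylowIn p M
  have hPtop := hσ.isSylowIn_top hP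
  apply hPtop.not_dvd_index
  rw [← Subgroup.relIndex_mul_index hP.le]
  exact Dvd.dvd.mul_left h _

omit [Finite G] in
theorem alpha_rank (M : Subgroup G) : ∀ q : ℕ, q.Prime → q ∉ alpha M → PRankLE q 2 ↥M := by
  intro q hq hqα
  by_contra h
  exact hqα ⟨hq, h⟩

/-- the primes of `α(M)` lie in `σ(M)`. -/
theorem alpha_subset_sigma (hG : IsMinSimpleOddOrder G) {M : Subgroup G} (hM : IsCoatom M) :
    alpha M ⊆ sigma M := by
  rintro p ⟨hp, hr⟩
  have : Fact p.Prime := ⟨hp⟩
  obtain ⟨P, hP⟩ := exists_isSylowIn p M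
  have hrP : ¬ PRankLE p 2 ↥P := not_pRankLE_sylow_of_not_pRankLE hP hr
  have hP1 : P ≠ ⊥ := ne_bot_of_not_pRankLE hp hrP
  have hPtop : P ≠ ⊤ := Cfsg.Agent.Lib.Lead.BGTrans.pgroup_ne_top hG.2 hP.isPGroup
  have hPU := inUniqueMaximal_of_not_pRankLE hG hp hPtop hrP
  obtain ⟨L, hL, hPL, huniq⟩ := inUniqueMaximal_exists hPU
  have hML : M = L := huniq M hM hP.le
  have hNtop : Subgroup.normalizer (P : Set G) ≠ ⊤ :=
    Cfsg.Agent.Lib.Lead.BGTrans.normalizer_ne_top hG.2 hP1 hPtop
  have hNP : Subgroup.normalizer (P : Set G) ≤ M := by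
    rw [hML]
    exact le_of_unique_isCoatom huniq Subgroup.le_normalizer hNtop
  refine ⟨hp, ?_, hP.toSylow, ?_⟩
  · obtain ⟨k, hk⟩ := hP.isPGroup.exists_card_eq
    have hk0 : k ≠ 0 := by
      rintro rfl
      rw [pow_zero] at hk
      exact hP1 (Subgroup.card_eq_one.mp hk)
    have h1 : p ∣ Nat.card P := by rw [hk]; exact dvd_pow_self p hk0
    exact h1.trans (Subgroup.card_dvd_of_le hP.le)
  · rw [hP.coe_toSylow, Subgroup.map_subgroupOf_eq_of_le hP.le]
    exact hNP

end Focal

end Cfsg.Agent.Lib.Helper10.BG
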