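import Mathlib
import Cfsg.Prelude
import Cfsg.Agent.Lib.Helper10.BGTen2
import Cfsg.Agent.Lib.Helper10.OmegaCentralize
import Cfsg.Agent.Lib.Helper10.MetaAut
import Cfsg.Agent.Lib.Helper1.ThompsonPQ
import Cfsg.Agent.Lib.Helper1.CoprimeSylow
import Cfsg.Agent.S1453
import Cfsg.Agent.S1405

/-!
# Bender--Glauberman, Lemma 10.3: centralizers of `α(M)'`-subgroups in `M_α`

A `p'`-group `X` acting on a `p`-group `P₀` of rank at least three and centralizing a maximal
elementary abelian subgroup of order `p ^ 2` centralizes `P₀`; consequences for `C_M(X)`.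
-/

set_option autoImplicit false
open Cfsg
open scoped commutatorElement Pointwise

namespace Cfsg.Agent.Lib.Helper10.BG

variable {G : Type*} [Group G]

section CharMap

/-- conjugation by an element of the normalizer as an automorphism of the subgroup. -/
def conjEquivOfMemNormalizer {P : Subgroup G} {g : G}
    (hg : g ∈ Subgroup.normalizer (P : Set G)) : P ≃* P where
  toFun x := ⟨g * x * g⁻¹, conj_mem_of_mem_normalizer hg x.2⟩
  invFun x := ⟨g⁻¹ * x * g, conj_mem_of_mem_normalizer' hg x.2⟩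
  left_inv x := by
    apply Subtype.ext
    simp [mul_assoc]
  right_inv x := by
    apply Subtype.ext
    simp [mul_assoc]
  map_mul' x y := by
    apply Subtype.ext
    simp [mul_assoc]

/-- a characteristic subgroup of `P` is normalized by the normalizer of `P`. -/
theorem normalizer_le_normalizer_map_of_characteristic {P : Subgroup G} (T : Subgroup P)
    [hT : T.Characteristic] :
    Subgroup.normalizer (P : Set G) ≤
      Subgroup.normalizer ((T.map P.subtype : Subgroup G) : Set G) := by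
  apply le_normalizer_of_conj_mem
  rintro g hg _ ⟨t, ht, rfl⟩
  refine ⟨conjEquivOfMemNormalizer hg t, ?_, rfl⟩
  exact (Cfsg.Agent.Lib.Helper10.char_mem_iff T (conjEquivOfMemNormalizer hg) t).mpr ht

end CharMap

section NarrowAction

variable [Finite G]

omit [Finite G] in
theorem isElementaryAbelian_sup_zpowers {p : ℕ} {B : Subgroup G} (hB : IsElementaryAbelian p B)
    {x : G} (hx : x ^ p = 1) (hcomm : ∀ b ∈ B, b * x = x * b) :
    IsElementaryAbelian p (B ⊔ Subgroup.zpowers x) := by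
  have hc : ∀ a ∈ B, ∀ b ∈ Subgroup.zpowers x, a * b = b * a := by
    intro a ha b hb
    obtain ⟨k, rfl⟩ := Subgroup.mem_zpowers_iff.mp hb
    have : Commute a x := hcomm a ha
    exact (this.zpow_right k).eq
  have hdecomp : ∀ y ∈ B ⊔ Subgroup.zpowers x, ∃ a ∈ B, ∃ b ∈ Subgroup.zpowers x, y = a * b :=
    fun y hy => mem_sup_of_commute' hc hy
  have hzp : ∀ b ∈ Subgroup.zpowers x, b ^ p = 1 := by
    intro b hb
    obtain ⟨k, rfl⟩ := Subgroup.mem_zpowers_iff.mp hb
    rw [← zpow_natCast, ← zpow_mul, mul_comm, zpow_mul, zpow_natCast, hx, one_zpow]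
  have hzc : ∀ b ∈ Subgroup.zpowers x, ∀ b' ∈ Subgroup.zpowers x, b * b' = b' * b := by
    intro b hb b' hb'
    obtain ⟨k, rfl⟩ := Subgroup.mem_zpowers_iff.mp hb
    obtain ⟨l, rfl⟩ := Subgroup.mem_zpowers_iff.mp hb'
    rw [← zpow_add, ← zpow_add, add_comm]
  have hBc : ∀ a ∈ B, ∀ a' ∈ B, a * a' = a' * a := by
    intro a ha a' ha'
    have := hB.1.is_comm.comm ⟨a, ha⟩ ⟨a', ha'⟩
    exact congrArg Subtype.val this
  constructor
  · refine ⟨⟨?_⟩⟩
    rintro ⟨y, hy⟩ ⟨z, hz⟩
    apply Subtype.ext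
    show y * z = z * y
    obtain ⟨a, ha, b, hb, rfl⟩ := hdecomp y hy
    obtain ⟨a', ha', b', hb', rfl⟩ := hdecomp z hz
    calc a * b * (a' * b') = a * (b * a') * b' := by group
      _ = a * (a' * b) * b' := by rw [hc a' ha' b hb]
      _ = (a * a') * (b * b') := by group
      _ = (a' * a) * (b' * b) := by rw [hBc a ha a' ha', hzc b hb b' hb']
      _ = a' * (a * b') * b := by group
      _ = a' * (b' * a) * b := by rw [hc a ha b' hb']
      _ = a' * b' * (a * b) := by group
  · intro y hy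
    obtain ⟨a, ha, b, hb, rfl⟩ := hdecomp y hy
    have hab : Commute a b := hc a ha b hb
    rw [hab.mul_pow, hB.2 a ha, hzp b hb, one_mul]

/-- a `p'`-group normalizing a `p`-group `P₀` of rank at least three and centralizing a maximal
elementary abelian subgroup `B` of `P₀` of order `p ^ 2` centralizes `P₀`. -/
theorem le_centralizer_of_centralizes_max_elementary {p : ℕ} [Fact p.Prime] (hp2 : p ≠ 2)
    {P₀ B X : Subgroup G} (hP₀ : IsPGroup p P₀) (hr : ¬ PRankLE p 2 ↥P₀) (hBP : B ≤ P₀)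
    (hBe : IsElementaryAbelian p B) (hBcard : Nat.card B = p ^ 2)
    (hBmax : ∀ B' : Subgroup G, B' ≤ P₀ → IsElementaryAbelian p B' → B ≤ B' → B' = B)
    (hXcop : (Nat.card X).Coprime p) (hXP : X ≤ Subgroup.normalizer (P₀ : Set G))
    (hBX : B ≤ Subgroup.centralizer (X : Set G)) :
    P₀ ≤ Subgroup.centralizer (X : Set G) := by
  have hp : p.Prime := Fact.out
  -- the type level data
  have hEe : IsElementaryAbelian p (B.subgroupOf P₀) := by
    constructor
    · refine ⟨⟨?_⟩⟩
      rintro ⟨x, hx⟩ ⟨y, hy⟩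
      apply Subtype.ext
      apply Subtype.ext
      show (x : G) * (y : G) = (y : G) * (x : G)
      have := hBe.1.is_comm.comm ⟨(x : G), hx⟩ ⟨(y : G), hy⟩
      exact congrArg Subtype.val this
    · intro a ha
      apply Subtype.ext
      rw [Subgroup.coe_pow, Subgroup.coe_one]
      exact hBe.2 a ha
  have hEcard : Nat.card (B.subgroupOf P₀) = p ^ 2 := by
    rw [Nat.card_congr (Subgroup.subgroupOfEquivOfLe hBP).toEquiv, hBcard]
  have hEmax : ∀ B' : Subgroup P₀, IsElementaryAbelian p B' → B.subgroupOf P₀ ≤ B' →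
      B' = B.subgroupOf P₀ := by
    intro B' hB'e hle
    have h1 : B'.map P₀.subtype = B := by
      apply hBmax _ (Subgroup.map_subtype_le B') (isElementaryAbelian_map _ hB'e)
      intro b hb
      exact ⟨⟨b, hBP hb⟩, hle (by rw [Subgroup.mem_subgroupOf]; exact hb), rfl⟩
    rw [← h1]
    exact (Subgroup.comap_map_eq_self_of_injective P₀.subtype_injective B').symm
  obtain ⟨hET, -, -, hTchar, hTindex⟩ :=
    Cfsg.Agent.S1453.result p hp2 hP₀ hr (B.subgroupOf P₀) hEe hEcard hEmax
  obtain ⟨T, hT⟩ : ∃ T : Subgroup P₀, T = Subgroup.centralizer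
      ((Subgroup.closure {x : P₀ | x ∈ Subgroup.upperCentralSeries P₀ 2 ∧ x ^ p = 1} :
        Subgroup P₀) : Set P₀) := ⟨_, rfl⟩
  rw [← hT] at hET hTchar hTindex
  obtain ⟨T₀, hT₀⟩ : ∃ T₀ : Subgroup G, T₀ = T.map P₀.subtype := ⟨_, rfl⟩
  have hT₀P : T₀ ≤ P₀ := by rw [hT₀]; exact Subgroup.map_subtype_le T
  have hT₀p : IsPGroup p T₀ := hP₀.to_le hT₀P
  have hNT₀ : Subgroup.normalizer (P₀ : Set G) ≤ Subgroup.normalizer (T₀ : Set G) := by
    rw [hT₀]
    have := hTchar
    exact normalizer_le_normalizer_map_of_characteristic T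
  have hXT₀ : X ≤ Subgroup.normalizer (T₀ : Set G) := hXP.trans hNT₀
  have hBT₀ : B ≤ Subgroup.normalizer (T₀ : Set G) :=
    (hBP.trans Subgroup.le_normalizer).trans hNT₀
  have hXB : X ≤ Subgroup.centralizer (B : Set G) := le_centralizer_symm hBX
  -- elements of order `p` of `P₀` centralizing `B` lie in `B`
  have hmemB : ∀ x ∈ P₀, x ^ p = 1 → (∀ b ∈ B, b * x = x * b) → x ∈ B := by
    intro x hxP hxp hxB
    have h1 := hBmax (B ⊔ Subgroup.zpowers x) (sup_le hBP (Subgroup.zpowers_le.mpr hxP))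
      (isElementaryAbelian_sup_zpowers hBe hxp hxB) le_sup_left
    rw [← h1]
    exact Subgroup.mem_sup_right (Subgroup.mem_zpowers x)
  -- `X` centralizes `C_{T₀}(B)`
  have hC : T₀ ⊓ Subgroup.centralizer (B : Set G) ≤ Subgroup.centralizer (X : Set G) := by
    apply le_centralizer_symm
    apply Cfsg.Agent.Lib.Helper10.le_centralizer_of_centralizes_order_p p hp2 X _ hXcop
      (hT₀p.to_le inf_le_left)
    · apply le_normalizer_inf hXT₀
      exact hXB.trans (le_normalizer_centralizer (Subgroup.centralizer_le_normalizer _))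
    · intro x hx hox a ha
      have hxB : x ∈ B := by
        apply hmemB x (hT₀P hx.1)
        · rw [← hox]; exact pow_orderOf_eq_one x
        · intro b hb
          exact Subgroup.mem_centralizer_iff.mp hx.2 b hb
      exact Subgroup.mem_centralizer_iff.mp (hBX hxB) a ha
  have hXT : X ≤ Subgroup.centralizer (T₀ : Set G) :=
    Cfsg.Agent.Lib.Helper1.thompson_PxQ p B X
      (Cfsg.Agent.Lib.Lead.BGTrans.isPGroup_of_pow_eq_one hBe.2) hXcop hBX _ T₀ rfl hT₀p hBT₀
      hXT₀ hC
  -- `P₀ = T₀ B`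
  have hBT : ¬ B ≤ T₀ := by
    intro h
    apply hET
    intro b hb
    rw [Subgroup.mem_subgroupOf] at hb
    obtain ⟨t, ht, htb⟩ := (by rw [hT₀] at h; exact h hb : (b : G) ∈ T.map P₀.subtype)
    have : t = b := Subtype.ext htb
    rwa [← this]
  have hcardT : Nat.card T₀ * p = Nat.card P₀ := by
    rw [hT₀, Subgroup.card_map_of_injective P₀.subtype_injective, ← hTindex,
      Subgroup.card_mul_index]
  have hsup : P₀ = T₀ ⊔ B := by
    symm
    apply Subgroup.eq_of_le_of_card_ge (sup_le hT₀P hBP)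
    have h1 : Nat.card T₀ ∣ Nat.card (T₀ ⊔ B : Subgroup G) :=
      Subgroup.card_dvd_of_le le_sup_left
    have h2 : Nat.card T₀ < Nat.card (T₀ ⊔ B : Subgroup G) := by
      apply card_lt_of_le_of_ne le_sup_left
      intro h
      apply hBT
      rw [h]
      exact le_sup_right
    obtain ⟨k, hk⟩ := h1
    have hT₀pos : 0 < Nat.card T₀ := Nat.card_pos
    have hk2 : 2 ≤ k := by
      by_contra hk2
      push Not at hk2
      have : Nat.card T₀ * k ≤ Nat.card T₀ * 1 := Nat.mul_le_mul_left _ (by omega)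
      omega
    have h3 : IsPGroup p (T₀ ⊔ B : Subgroup G) := hP₀.to_le (sup_le hT₀P hBP)
    obtain ⟨a, ha⟩ := h3.exists_card_eq
    obtain ⟨b, hb⟩ := hT₀p.exists_card_eq
    have hab : b < a := by
      rw [ha, hb] at h2
      exact (Nat.pow_lt_pow_iff_right hp.one_lt).mp h2
    rw [← hcardT, ha, hb, ← pow_succ]
    exact Nat.pow_le_pow_right hp.pos hab
  rw [hsup]
  exact sup_le (le_centralizer_symm hXT) hBX

end NarrowAction

section HallLemmas

variable [Finite G]

/-- a `p`-subgroup of `M` lies in every normal subgroup of `M` of index prime to `p`. -/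
theorem pgroup_le_of_not_dvd_relIndex {p : ℕ} [Fact p.Prime] {N M Q : Subgroup G}
    (hn : M ≤ Subgroup.normalizer (N : Set G)) (hnd : ¬ p ∣ N.relIndex M) (hQ : IsPGroup p Q)
    (hQM : Q ≤ M) : Q ≤ N := by
  have hN : (N.subgroupOf M).Normal := Subgroup.normal_subgroupOf_of_le_normalizer hn
  have h1 : IsPGroup p ((Q.subgroupOf M).map (QuotientGroup.mk' (N.subgroupOf M))) :=
    (hQ.comap_subtype).map _
  have h2 : ¬ p ∣ Nat.card (↥M ⧸ N.subgroupOf M) := by
    rw [← Subgroup.index_eq_card]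
    exact hnd
  have h3 := eq_bot_of_isPGroup_of_not_dvd h1 h2
  intro q hq
  have h4 : QuotientGroup.mk' (N.subgroupOf M) ⟨q, hQM hq⟩ ∈
      (⊥ : Subgroup (↥M ⧸ N.subgroupOf M)) := by
    rw [← h3]
    exact ⟨⟨q, hQM hq⟩, (Subgroup.mem_subgroupOf.mpr hq : (⟨q, hQM hq⟩ : M) ∈ Q.subgroupOf M), rfl⟩
  rw [Subgroup.mem_bot, QuotientGroup.mk'_apply, QuotientGroup.eq_one_iff,
    Subgroup.mem_subgroupOf] at h4
  exact h4

omit [Finite G] in
theorem le_normalizer_alphaCore (M : Subgroup G) :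
    M ≤ Subgroup.normalizer (alphaCore M : Set G) := by
  unfold alphaCore
  exact le_normalizer_map_subtype_of_normal (piCore (alpha M) ↥M)

omit [Finite G] in
theorem le_normalizer_sigmaCore (M : Subgroup G) :
    M ≤ Subgroup.normalizer (sigmaCore M : Set G) := by
  unfold sigmaCore
  exact le_normalizer_map_subtype_of_normal (piCore (sigma M) ↥M)

/-- for `p ∈ α(M)`, the `p`-subgroups of `M` lie in `M_α`. -/
theorem pgroup_le_alphaCore (hG : IsMinSimpleOddOrder G) {M : Subgroup G} (hM : IsCoatom M)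
    {p : ℕ} [Fact p.Prime] (hp : p ∈ alpha M) {Q : Subgroup G} (hQ : IsPGroup p Q)
    (hQM : Q ≤ M) : Q ≤ alphaCore M := by
  obtain ⟨hHallOf, -⟩ := Cfsg.Agent.S1405.result hG M hM
  exact pgroup_le_of_not_dvd_relIndex (le_normalizer_alphaCore M) (hHallOf.2.2 p hp.1 hp) hQ hQM

/-- for `p ∈ α(M)`, `M_α` has `p`-rank at least three. -/
theorem not_pRankLE_alphaCore (hG : IsMinSimpleOddOrder G) {M : Subgroup G} (hM : IsCoatom M)
    {p : ℕ} [Fact p.Prime] (hp : p ∈ alpha M) : ¬ PRankLE p 2 ↥(alphaCore M) := by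
  obtain ⟨S, hS⟩ := exists_isSylowIn p M
  have hS3 := not_pRankLE_sylow_of_not_pRankLE hS hp.2
  exact not_pRankLE_mono (pgroup_le_alphaCore hG hM hp hS.isPGroup hS.le) hS3

end HallLemmas

end Cfsg.Agent.Lib.Helper10.BG
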