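import Mathlib
import Cfsg.Prelude
import Cfsg.Agent.Lib.Helper10.BGTen3
import Cfsg.Agent.S1350

/-!
# Bender--Glauberman, Section 12: the complement `E` of `M_σ`

General facts on nilpotent groups with cyclic Sylow subgroups, complements of `M_σ` in `M`, and
Lemma 12.1.
-/

set_option autoImplicit false
open Cfsg
open scoped commutatorElement Pointwise

namespace Cfsg.Agent.Lib.Helper10.BG

section Cyclic

/-- a finite nilpotent group all of whose Sylow subgroups are cyclic is cyclic. -/
theorem isCyclic_of_isNilpotent_of_isZGroup {H : Type*} [Group H] [Finite H]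
    (hn : Group.IsNilpotent H) (hz : IsZGroup H) : IsCyclic H := by
  have hnorm : ∀ {p : ℕ} [Fact p.Prime] (P : Sylow p H), (P : Subgroup H).Normal :=
    fun P => inferInstance
  have hcomm : ∀ a b : H, a * b = b * a := by
    intro a b
    apply (Sylow.directProductOfNormal hnorm).symm.injective
    rw [map_mul, map_mul]
    funext p P
    have hpp : (p : ℕ).Prime := Nat.prime_of_mem_primeFactors p.2
    have hc : IsCyclic ↥(P : Subgroup H) := hz.isZGroup p hpp P
    simp only [Pi.mul_apply]
    exact (IsCyclic.isMulCommutative (α := ↥(P : Subgroup H))).is_comm.comm _ _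
  let _inst : CommGroup H := { (inferInstance : Group H) with mul_comm := hcomm }
  exact IsCyclic.of_exponent_eq_card (IsZGroup.exponent_eq_card H)

variable {G : Type*} [Group G] [Finite G]

/-- a `p`-subgroup, `p` odd, of a group of `p`-rank one is cyclic. -/
theorem isCyclic_of_pRankLE_one {p : ℕ} [Fact p.Prime] (hp2 : p ≠ 2) {M Q : Subgroup G}
    (hr : PRankLE p 1 ↥M) (hQM : Q ≤ M) (hQ : IsPGroup p Q) : IsCyclic Q := by
  by_contra hnc
  have h1 : ¬ PRankLE p 1 ↥Q := not_pRankLE_one_of_not_isCyclic hp2 hQ hnc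
  exact not_pRankLE_mono hQM h1 hr

/-- a subgroup containing a maximal `q`-subgroup of `K` for every prime `q` contains `K`. -/
theorem le_of_forall_sylow_le {K T : Subgroup G}
    (h : ∀ q : ℕ, q.Prime → ∃ Q : Subgroup G, IsSylowIn q Q K ∧ Q ≤ T) : K ≤ T := by
  suffices hdvd : Nat.card K ∣ Nat.card (K ⊓ T : Subgroup G) by
    have h1 : K ⊓ T = K :=
      Subgroup.eq_of_le_of_card_ge inf_le_left (Nat.le_of_dvd Nat.card_pos hdvd)
    exact inf_eq_left.mp h1
  rw [← Nat.factorization_le_iff_dvd Nat.card_pos.ne' Nat.card_pos.ne']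
  intro q
  by_cases hq : q.Prime
  · have : Fact q.Prime := ⟨hq⟩
    rw [← hq.pow_dvd_iff_le_factorization Nat.card_pos.ne']
    obtain ⟨Q, hQ, hQT⟩ := h q hq
    have h1 : Nat.card Q = q ^ (Nat.card K).factorization q := by
      have h2 := hQ.toSylow.card_eq_multiplicity
      rw [hQ.coe_toSylow, card_subgroupOf_of_le hQ.le] at h2
      exact h2
    rw [← h1]
    exact Subgroup.card_dvd_of_le (le_inf hQ.le hQT)
  · rw [Nat.factorization_eq_zero_of_not_prime _ hq]
    exact Nat.zero_le _

end Cyclic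

section Commutators

/-- an injective homomorphism reflects nilpotency of the derived group. -/
theorem isNilpotent_commutator_of_injective {X Y : Type*} [Group X] [Group Y] (f : X →* Y)
    (hf : Function.Injective f) (h : Group.IsNilpotent ↥(commutator Y)) :
    Group.IsNilpotent ↥(commutator X) := by
  have h1 : (commutator X).map f ≤ commutator Y := by
    rw [commutator_def, commutator_def, Subgroup.map_commutator]
    exact Subgroup.commutator_mono le_top le_top
  have h2 : Group.IsNilpotent ↥((commutator X).map f) := isNilpotent_of_le h1 h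
  exact Group.nilpotent_of_mulEquiv ((commutator X).equivMapOfInjective f hf).symm

variable {G : Type*} [Group G]

theorem isNilpotent_commutator_subgroup {E : Subgroup G}
    (h : Group.IsNilpotent ↥(commutator ↥E)) : Group.IsNilpotent ↥⁅E, E⁆ := by
  have h1 : (commutator ↥E).map E.subtype = ⁅E, E⁆ := Subgroup.map_subtype_commutator E
  rw [← h1]
  exact Group.nilpotent_of_mulEquiv
    ((commutator ↥E).equivMapOfInjective E.subtype E.subtype_injective)

theorem map_commutator_of_surjective {X Y : Type*} [Group X] [Group Y] (f : X →* Y)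
    (hf : Function.Surjective f) : (commutator X).map f = commutator Y := by
  rw [commutator_def, commutator_def, Subgroup.map_commutator, Subgroup.map_top_of_surjective f hf]

theorem card_commutator_of_bijective {X Y : Type*} [Group X] [Group Y] (f : X →* Y)
    (hf : Function.Bijective f) : Nat.card (commutator X) = Nat.card (commutator Y) := by
  rw [← map_commutator_of_surjective f hf.2]
  exact (Subgroup.card_map_of_injective hf.1).symm

theorem card_commutator_dvd_quotient {X : Type*} [Group X] [Finite X] (N : Subgroup X) [N.Normal] :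
    Nat.card (commutator X) ∣ Nat.card (commutator (X ⧸ N)) * Nat.card N := by
  rw [← Cfsg.Agent.Lib.Helper1.card_comap_mk N (commutator (X ⧸ N))]
  apply Subgroup.card_dvd_of_le
  rw [← map_commutator_of_surjective (QuotientGroup.mk' N) (QuotientGroup.mk'_surjective N)]
  exact Subgroup.le_comap_map _ _

theorem card_commutator_subgroup (E : Subgroup G) :
    Nat.card ↥⁅E, E⁆ = Nat.card (commutator ↥E) := by
  rw [← Subgroup.map_subtype_commutator E]
  exact Subgroup.card_map_of_injective E.subtype_injective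

theorem relIndex_commutator_subgroup (E : Subgroup G) :
    (⁅E, E⁆ : Subgroup G).relIndex E = (commutator ↥E).index := by
  rw [← Subgroup.map_subtype_commutator E]
  unfold Subgroup.relIndex Subgroup.subgroupOf
  rw [Subgroup.comap_map_eq_self_of_injective E.subtype_injective]

theorem le_normalizer_commutator_self (E : Subgroup G) :
    E ≤ Subgroup.normalizer ((⁅E, E⁆ : Subgroup G) : Set G) := by
  rw [← Subgroup.map_subtype_commutator E]
  exact le_normalizer_map_subtype_of_normal (commutator ↥E)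

end Commutators

section Complements

variable {G : Type*} [Group G]

/-- a subgroup `E` of `M` meeting the normal subgroup `N` trivially embeds into `M / N`. -/
theorem quotient_comp_inclusion_injective {M E : Subgroup G} (hEM : E ≤ M) (N : Subgroup ↥M)
    [N.Normal] (h : E ⊓ N.map M.subtype = ⊥) :
    Function.Injective ((QuotientGroup.mk' N).comp (Subgroup.inclusion hEM)) := by
  rw [injective_iff_map_eq_one]
  intro e he
  rw [MonoidHom.comp_apply, QuotientGroup.mk'_apply, QuotientGroup.eq_one_iff] at he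
  have h1 : (e : G) ∈ E ⊓ N.map M.subtype :=
    Subgroup.mem_inf.mpr ⟨e.2, ⟨Subgroup.inclusion hEM e, he, rfl⟩⟩
  rw [h, Subgroup.mem_bot] at h1
  exact Subtype.ext h1

/-- a complement `E` of the normal subgroup `N` of `M` maps onto `M / N`. -/
theorem quotient_comp_inclusion_bijective {M E : Subgroup G} (N : Subgroup ↥M) [N.Normal]
    (hE : IsComplIn E (N.map M.subtype) M) :
    Function.Bijective ((QuotientGroup.mk' N).comp (Subgroup.inclusion hE.1)) := by
  refine ⟨quotient_comp_inclusion_injective hE.1 N hE.2.2.1, ?_⟩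
  intro x
  obtain ⟨m, rfl⟩ := QuotientGroup.mk'_surjective N x
  obtain ⟨a, ha, b, hb, hm⟩ := hE.2.2.2 (m : G) m.2
  obtain ⟨n, hn, hnb⟩ := hb
  refine ⟨⟨a, ha⟩, ?_⟩
  rw [MonoidHom.comp_apply, QuotientGroup.mk'_apply, QuotientGroup.mk'_apply, QuotientGroup.eq]
  have h1 : (Subgroup.inclusion hE.1 ⟨a, ha⟩)⁻¹ * m = n := by
    apply Subtype.ext
    show (a : G)⁻¹ * (m : G) = (n : G)
    rw [hm, inv_mul_cancel_left]
    exact hnb.symm
  rw [h1]
  exact hn

end Complements

section NilpotentSylow

variable {G : Type*} [Group G] [Finite G]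

theorem eq_bot_of_isPGroup_of_not_dvd_card {q : ℕ} [Fact q.Prime] {Q : Subgroup G}
    (hQ : IsPGroup q Q) (h : ¬ q ∣ Nat.card Q) : Q = ⊥ := by
  obtain ⟨k, hk⟩ := hQ.exists_card_eq
  have hk0 : k = 0 := by
    by_contra hk0
    apply h
    rw [hk]
    exact dvd_pow_self q hk0
  rw [hk0, pow_zero] at hk
  exact Subgroup.card_eq_one.mp hk

/-- two `q`-subgroups of a nilpotent subgroup generate a `q`-group. -/
theorem isPGroup_sup_of_le_nilpotent {q : ℕ} [Fact q.Prime] {N Q₁ Q₂ : Subgroup G}
    (hN : Group.IsNilpotent ↥N) (h₁ : Q₁ ≤ N) (h₂ : Q₂ ≤ N) (hQ₁ : IsPGroup q Q₁)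
    (hQ₂ : IsPGroup q Q₂) : IsPGroup q (Q₁ ⊔ Q₂ : Subgroup G) := by
  obtain ⟨S₁, hS₁⟩ := (hQ₁.comap_subtype (K := N)).exists_le_sylow
  obtain ⟨S₂, hS₂⟩ := (hQ₂.comap_subtype (K := N)).exists_le_sylow
  have hnorm : (S₁ : Subgroup ↥N).Normal := inferInstance
  have hS : S₂ = S₁ := by
    have hu := Sylow.unique_of_normal S₁ hnorm
    exact Subsingleton.elim _ _
  subst hS
  have h3 : (Q₁ ⊔ Q₂ : Subgroup G) ≤ (S₂ : Subgroup ↥N).map N.subtype := by
    apply sup_le
    · intro x hx
      exact ⟨⟨x, h₁ hx⟩, hS₁ (Subgroup.mem_subgroupOf.mpr hx), rfl⟩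
    · intro x hx
      exact ⟨⟨x, h₂ hx⟩, hS₂ (Subgroup.mem_subgroupOf.mpr hx), rfl⟩
  exact (S₂.2.map N.subtype).to_le h3

/-- a maximal `q`-subgroup of `E` lying in a nilpotent normal subgroup of `E` is normal in `E`. -/
theorem le_normalizer_of_isSylowIn_of_le_nilpotent {q : ℕ} [Fact q.Prime] {N E Q : Subgroup G}
    (hN : Group.IsNilpotent ↥N) (hNE : N ≤ E) (hn : E ≤ Subgroup.normalizer (N : Set G))
    (hQN : Q ≤ N) (hQ : IsSylowIn q Q E) : E ≤ Subgroup.normalizer (Q : Set G) := by
  intro g hg
  have h1 : Q.map (MulAut.conj g).toMonoidHom ≤ N := by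
    have h0 := Cfsg.Agent.Lib.Helper10.map_conj_eq_of_mem_normalizer N g (hn hg)
    rw [← h0]
    exact Subgroup.map_mono hQN
  have h2 := isPGroup_sup_of_le_nilpotent hN hQN h1 hQ.isPGroup (hQ.isPGroup.map _)
  have h3 : Q ⊔ Q.map (MulAut.conj g).toMonoidHom = Q :=
    hQ.eq_of_le (sup_le hQ.le (h1.trans hNE)) h2 le_sup_left
  have h4 : Q.map (MulAut.conj g).toMonoidHom ≤ Q := le_sup_right.trans h3.le
  apply mem_normalizer_of_map_conj_eq
  apply Subgroup.eq_of_le_of_card_ge h4
  rw [Subgroup.card_map_of_injective (MulAut.conj g).injective]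

/-- a subgroup of a nilpotent normal subgroup `N` of `E` which contains a maximal `q`-subgroup
of `E` for every prime `q` dividing its order is normal in `E`. -/
theorem le_normalizer_of_hall_le_nilpotent {N E K : Subgroup G}
    (hN : Group.IsNilpotent ↥N) (hNE : N ≤ E) (hn : E ≤ Subgroup.normalizer (N : Set G))
    (hKN : K ≤ N)
    (hK : ∀ q : ℕ, q.Prime → q ∣ Nat.card K → ∃ Q : Subgroup G, IsSylowIn q Q E ∧ Q ≤ K) :
    E ≤ Subgroup.normalizer (K : Set G) := by
  intro g hg
  apply mem_normalizer_of_map_conj_eq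
  symm
  apply Subgroup.eq_of_le_of_card_ge
  · apply le_of_forall_sylow_le
    intro q hq
    have : Fact q.Prime := ⟨hq⟩
    by_cases hd : q ∣ Nat.card K
    · obtain ⟨Q, hQ, hQK⟩ := hK q hq hd
      refine ⟨Q, hQ.of_le hQK (hKN.trans hNE), ?_⟩
      have h1 := le_normalizer_of_isSylowIn_of_le_nilpotent hN hNE hn (hQK.trans hKN) hQ hg
      have h2 := Cfsg.Agent.Lib.Helper10.map_conj_eq_of_mem_normalizer Q g h1
      rw [← h2]
      exact Subgroup.map_mono hQK
    · obtain ⟨Q, hQ⟩ := exists_isSylowIn q K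
      refine ⟨Q, hQ, ?_⟩
      have h1 : Q = ⊥ := by
        apply eq_bot_of_isPGroup_of_not_dvd_card hQ.isPGroup
        intro h
        exact hd (h.trans (Subgroup.card_dvd_of_le hQ.le))
      rw [h1]
      exact bot_le
  · rw [Subgroup.card_map_of_injective (MulAut.conj g).injective]

/-- a nilpotent subgroup of `M` all of whose prime divisors have rank one in `M` is cyclic. -/
theorem isCyclic_of_isNilpotent_of_pRankLE_one (hodd : Odd (Nat.card G)) {K M : Subgroup G}
    (hKM : K ≤ M) (hn : Group.IsNilpotent ↥K)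
    (hr : ∀ p : ℕ, p.Prime → p ∣ Nat.card K → PRankLE p 1 ↥M) : IsCyclic ↥K := by
  apply isCyclic_of_isNilpotent_of_isZGroup hn
  constructor
  intro p hp P
  have : Fact p.Prime := ⟨hp⟩
  by_cases hd : p ∣ Nat.card K
  · have hp2 : p ≠ 2 := by
      rintro rfl
      have h2 : 2 ∣ Nat.card G := hd.trans (Subgroup.card_subgroup_dvd_card K)
      exact (Nat.not_even_iff_odd.mpr hodd) (even_iff_two_dvd.mpr h2)
    have h1 : IsCyclic ↥((P : Subgroup ↥K).map K.subtype) :=
      isCyclic_of_pRankLE_one hp2 (hr p hp hd) ((Subgroup.map_subtype_le _).trans hKM)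
        (P.2.map K.subtype)
    exact ((P : Subgroup ↥K).equivMapOfInjective K.subtype K.subtype_injective).isCyclic.mpr h1
  · have h1 : Nat.card (P : Subgroup ↥K) = 1 := by
      rw [P.card_eq_multiplicity, Nat.factorization_eq_zero_of_not_dvd hd, pow_zero]
    have : Subsingleton ↥(P : Subgroup ↥K) := (Nat.card_eq_one_iff_unique.mp h1).1
    exact isCyclic_of_subsingleton

theorem IsSylowIn.card_eq {q : ℕ} [Fact q.Prime] {Q X : Subgroup G} (h : IsSylowIn q Q X) :
    Nat.card Q = q ^ (Nat.card X).factorization q := by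
  have h2 := h.toSylow.card_eq_multiplicity
  rw [h.coe_toSylow, card_subgroupOf_of_le h.le] at h2
  exact h2

/-- a maximal `q`-subgroup of `K` is one of `X ≥ K` when `q` does not divide `|X : K|`. -/
theorem IsSylowIn.of_not_dvd_relIndex {q : ℕ} [Fact q.Prime] {Q K X : Subgroup G}
    (h : IsSylowIn q Q K) (hKX : K ≤ X) (hnd : ¬ q ∣ K.relIndex X) : IsSylowIn q Q X := by
  obtain ⟨Q', hQ', hQQ'⟩ := exists_isSylowIn_ge (h.le.trans hKX) h.isPGroup
  have h1 : Nat.card Q' = Nat.card Q := by
    rw [hQ'.card_eq, h.card_eq, ← Cfsg.Agent.Lib.Helper12.card_mul_relIndex_eq hKX,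
      Nat.factorization_mul Nat.card_pos.ne' (fun h0 => hnd (by rw [h0]; exact dvd_zero q)),
      Finsupp.add_apply, Nat.factorization_eq_zero_of_not_dvd hnd, add_zero]
  have h2 : Q = Q' := Subgroup.eq_of_le_of_card_ge hQQ' h1.le
  rw [h2]
  exact hQ'

omit [Finite G] in
theorem commutator_self_le (E : Subgroup G) : ⁅E, E⁆ ≤ E := by
  rw [← Subgroup.map_subtype_commutator E]
  exact Subgroup.map_subtype_le _

end NilpotentSylow

end Cfsg.Agent.Lib.Helper10.BG
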