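import Mathlib
import Cfsg.Prelude
import Cfsg.Agent.Lib.Helper10.BGTwelve
import Cfsg.Agent.Lib.Helper9.BGTenB
import Cfsg.Agent.S1350
import Cfsg.Agent.S1404
import Cfsg.Agent.S1445
import Cfsg.Agent.S1449
import Cfsg.Agent.S1451
import Cfsg.Agent.Lib.Helper10.XRepChief
import Cfsg.Agent.Lib.Helper1.Coprime

/-!
# Bender--Glauberman, Sections 11 and 12: auxiliary facts

* `exists_mem_sigma`, `sigmaCore_ne_bot`: `σ(M)` is nonempty and `M_σ ≠ 1`.
* `mem_sigma_or_tau2_of_normalizer_le`, `ne_conj_of_normalizer_le`: Lemma 12.2 (a), (b).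
* `no_normal_elementary_sq`: a prime `r ∉ σ(M)` has no normal elementary abelian subgroup of
  order `r ^ 2` in `M`.
* `commutator_centralizes_of_fpf`: a coprime action lemma.
-/

set_option autoImplicit false
open Cfsg
open scoped commutatorElement Pointwise

namespace Cfsg.Agent.Lib.Helper10.BG

variable {G : Type*} [Group G] [Finite G]

/-- `σ(M)` is nonempty for a maximal subgroup `M`. -/
theorem exists_mem_sigma (hG : IsMinSimpleOddOrder G) {M : Subgroup G} (hM : IsCoatom M) :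
    ∃ p, p ∈ sigma M := by
  by_cases hα : (alpha M).Nonempty
  · obtain ⟨p, hp⟩ := hα
    exact ⟨p, alpha_subset_sigma hG hM hp⟩
  have hr : RankLE 2 ↥M := fun q hq => alpha_rank M q hq (fun h => hα ⟨q, h⟩)
  have hsolv : Group.IsSolvable ↥M := isSolvable_of_ne_top hG hM.1
  have hodd : Odd (Nat.card ↥M) := odd_card_subgroup hG M
  have hM1 : M ≠ ⊥ := ne_bot_of_isCoatom hG hM
  have hcard1 : Nat.card ↥M ≠ 1 := by
    intro h
    exact hM1 (Subgroup.card_eq_one.mp h)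
  have hne : (Nat.card ↥M).primeFactors.Nonempty := by
    rw [Nat.nonempty_primeFactors]
    have : 0 < Nat.card ↥M := Nat.card_pos
    omega
  obtain ⟨q₀, hq₀⟩ : ∃ q₀, q₀ = (Nat.card ↥M).primeFactors.max' hne := ⟨_, rfl⟩
  have hq₀mem : q₀ ∈ (Nat.card ↥M).primeFactors := hq₀ ▸ Finset.max'_mem _ hne
  have hq₀p : q₀.Prime := Nat.prime_of_mem_primeFactors hq₀mem
  have hq₀d : q₀ ∣ Nat.card ↥M := Nat.dvd_of_mem_primeFactors hq₀mem
  have hmax : ∀ r : ℕ, r.Prime → r ∣ Nat.card ↥M → r ≤ q₀ := by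
    intro r hr hrd
    rw [hq₀]
    exact Finset.le_max' _ _ (Nat.mem_primeFactors.mpr ⟨hr, hrd, Nat.card_pos.ne'⟩)
  have : Fact q₀.Prime := ⟨hq₀p⟩
  obtain ⟨N, hNchar, hN1, hN2⟩ := (Cfsg.Agent.S1451.result hodd (Or.inl hr)).2.2 (q₀ - 1)
  have hq₀pos : 0 < q₀ := hq₀p.pos
  have hNp : IsPGroup q₀ ↥N := by
    apply IsPGroup.of_card (n := (Nat.card ↥N).primeFactorsList.length)
    apply Nat.eq_prime_pow_of_unique_prime_dvd Nat.card_pos.ne'
    intro d hd hdN
    have h1 : q₀ - 1 < d := (hN1 d hd hdN).2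
    have h2 : d ≤ q₀ := hmax d hd (hdN.trans (Subgroup.card_subgroup_dvd_card N))
    omega
  have hNidx : ¬ q₀ ∣ N.index := hN2 q₀ hq₀p ⟨hq₀p, by omega⟩
  have hNn : N.Normal := inferInstance
  refine ⟨q₀, hq₀p, hq₀d, hNp.toSylow hNidx, ?_⟩
  have hcoe : ((hNp.toSylow hNidx : Sylow q₀ ↥M) : Subgroup ↥M) = N := rfl
  rw [hcoe]
  have hK1 : N.map M.subtype ≠ ⊥ := by
    intro h
    have h1 : N = ⊥ := by
      rw [Subgroup.map_eq_bot_iff_of_injective _ M.subtype_injective] at h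
      exact h
    apply hNidx
    rw [h1, Subgroup.index_bot]
    exact hq₀d
  have hKM : N.map M.subtype ≤ M := Subgroup.map_subtype_le N
  have hMK : M ≤ Subgroup.normalizer ((N.map M.subtype : Subgroup G) : Set G) := by
    intro m hm
    rw [Subgroup.mem_normalizer_iff]
    intro x
    constructor
    · rintro ⟨y, hy, rfl⟩
      exact ⟨⟨m, hm⟩ * y * ⟨m, hm⟩⁻¹, hNn.conj_mem y hy ⟨m, hm⟩, rfl⟩
    · rintro ⟨y, hy, hyx⟩
      refine ⟨⟨m, hm⟩⁻¹ * y * ⟨m, hm⟩, ?_, ?_⟩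
      · have := hNn.conj_mem y hy ⟨m, hm⟩⁻¹
        simpa using this
      · have h3 : (M.subtype y : G) = m * x * m⁻¹ := hyx
        simp only [map_mul, map_inv, Subgroup.subtype_apply] at h3 ⊢
        rw [h3]
        group
  exact (normalizer_eq_of_isCoatom' hG hM hK1 hKM hMK).le

/-- `M_σ ≠ 1` for a maximal subgroup `M`. -/
theorem sigmaCore_ne_bot (hG : IsMinSimpleOddOrder G) {M : Subgroup G} (hM : IsCoatom M) :
    sigmaCore M ≠ ⊥ := by
  obtain ⟨p, hp⟩ := exists_mem_sigma hG hM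
  intro h
  have h1 := (Cfsg.Agent.S1350.result hG M hM).1.2.2 p hp.1 hp
  rw [h, Subgroup.relIndex_bot_left] at h1
  exact h1 hp.2.1

/-- B & G, Lemma 12.2 (a): if the normalizer of a nontrivial `p`-subgroup lies in the maximal
subgroup `M`, then `p ∈ σ(M)` or `p ∈ τ₂(M)`. -/
theorem mem_sigma_or_tau2_of_normalizer_le (hG : IsMinSimpleOddOrder G) {M : Subgroup G}
    (hM : IsCoatom M) {p : ℕ} [Fact p.Prime] {X : Subgroup G} (hXp : IsPGroup p X) (hX1 : X ≠ ⊥)
    (hN : Subgroup.normalizer (X : Set G) ≤ M) : p ∈ sigma M ∨ p ∈ tau2 M := by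
  by_cases hp : p ∈ sigma M
  · exact Or.inl hp
  right
  have hpp : p.Prime := Fact.out
  have hXM : X ≤ M := Subgroup.le_normalizer.trans hN
  have hr2 : PRankLE p 2 ↥M := alpha_rank M p hpp (fun h => hp (alpha_subset_sigma hG hM h))
  refine ⟨hpp, hp, hr2, ?_⟩
  intro hr1
  obtain ⟨P, hP, hXP⟩ := exists_isSylowIn_ge hXM hXp
  have hpM : p ∣ Nat.card M :=
    (dvd_card_of_pgroup_ne_bot hXp hX1).trans (Subgroup.card_dvd_of_le hXM)
  have hp2 : p ≠ 2 := prime_ne_two_of_pgroup hG hXp hX1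
  have hcyc : IsCyclic P := isCyclic_of_pRankLE_one hp2 hr1 hP.le hP.isPGroup
  obtain ⟨g, hgN, hgM⟩ := Cfsg.Agent.Lib.Helper9.BG10.exists_normalizer_not_mem hp hpM hP
  apply hgM
  apply hN
  apply mem_normalizer_of_map_conj_eq
  apply Cfsg.Agent.Lib.Helper10.eq_of_card_eq_of_le_isCyclic P
  · rintro _ ⟨x, hx, rfl⟩
    exact conj_mem_of_mem_normalizer hgN (hXP hx)
  · exact hXP
  · exact Subgroup.card_map_of_injective (MulAut.conj g).injective

/-- B & G, Lemma 12.2 (b): if `p ∈ σ(M)`, `X ≠ 1` is a `p`-subgroup of `M` and `N_G(X)` lies in a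
maximal subgroup `H ≠ M`, then `H` is not conjugate to `M`. -/
theorem ne_conj_of_normalizer_le (hG : IsMinSimpleOddOrder G) {M H : Subgroup G}
    (hM : IsCoatom M) (hH : IsCoatom H) {p : ℕ} [Fact p.Prime] (hp : p ∈ sigma M)
    {X : Subgroup G} (hXp : IsPGroup p X) (hX1 : X ≠ ⊥) (hXM : X ≤ M)
    (hN : Subgroup.normalizer (X : Set G) ≤ H) (hHM : H ≠ M) (g : G) :
    H ≠ M.map (MulAut.conj g).toMonoidHom := by
  intro hconj
  have hXH : X ≤ H := Subgroup.le_normalizer.trans hN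
  have h1 : X.map (MulAut.conj g⁻¹).toMonoidHom ≤ M := by
    rintro _ ⟨x, hx, rfl⟩
    have hxH : x ∈ H := hXH hx
    rw [hconj] at hxH
    obtain ⟨y, hy, hyx⟩ := hxH
    have h2 : x = g * y * g⁻¹ := hyx.symm
    show g⁻¹ * x * g⁻¹⁻¹ ∈ M
    rw [h2]
    have e : g⁻¹ * (g * y * g⁻¹) * g⁻¹⁻¹ = y := by group
    rw [e]
    exact hy
  obtain ⟨m, hm, c, hc, hgmc⟩ := (Cfsg.Agent.S1404.result hG M hM p hp X hXp hX1 hXM).1 g⁻¹ h1
  have hg : g = c⁻¹ * m⁻¹ := by
    have : g = (g⁻¹)⁻¹ := (inv_inv g).symm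
    rw [this, hgmc]
    group
  have hcN : c ∈ Subgroup.normalizer (X : Set G) :=
    Subgroup.centralizer_le_normalizer (X : Set G) hc
  have hcH : c ∈ H := hN hcN
  have hcM : c ∈ M := by
    rw [hconj] at hcH
    obtain ⟨y, hy, hyc⟩ := hcH
    have h2 : c = g * y * g⁻¹ := hyc.symm
    rw [hg] at h2
    have h3 : c = m⁻¹ * y * m := by
      have e : c = c * (c⁻¹ * m⁻¹ * y * (c⁻¹ * m⁻¹)⁻¹) * c⁻¹ := by
        rw [← h2]
        group
      rw [e]
      group
    rw [h3]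
    exact mul_mem (mul_mem (inv_mem hm) hy) hm
  have hle : H ≤ M := by
    intro h hh
    rw [hconj] at hh
    obtain ⟨y, hy, hyh⟩ := hh
    have h2 : h = g * y * g⁻¹ := hyh.symm
    rw [h2, hg]
    have e : c⁻¹ * m⁻¹ * y * (c⁻¹ * m⁻¹)⁻¹ = c⁻¹ * (m⁻¹ * y * m) * c := by group
    rw [e]
    exact mul_mem (mul_mem (inv_mem hcM) (mul_mem (mul_mem (inv_mem hm) hy) hm)) hcM
  exact hM.1 (hH.2 M (lt_of_le_of_ne hle hHM))

/-- Lemma X: if `r ∉ σ(M)` then `M` has no normal elementary abelian subgroup of order `r ^ 2`. -/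
theorem no_normal_elementary_sq (hG : IsMinSimpleOddOrder G) {M : Subgroup G} (hM : IsCoatom M)
    {r : ℕ} [Fact r.Prime] (hr : r ∉ sigma M) {B : Subgroup G} (hBM : B ≤ M)
    (hMB : M ≤ Subgroup.normalizer (B : Set G)) (hBe : IsElementaryAbelian r B)
    (hBcard : Nat.card B = r ^ 2) : False := by
  have hrp : r.Prime := Fact.out
  have hB1 : B ≠ ⊥ := by
    intro h
    rw [h, Subgroup.card_bot] at hBcard
    have : 1 < r ^ 2 := Nat.one_lt_pow (by norm_num) hrp.one_lt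
    omega
  have hBp : IsPGroup r B := IsPGroup.of_card hBcard
  have hr2 : r ≠ 2 := prime_ne_two_of_pgroup hG hBp hB1
  have hrB : r ∣ Nat.card B := by
    rw [hBcard]
    exact dvd_pow_self r (by norm_num)
  have hrM : r ∣ Nat.card M := hrB.trans (Subgroup.card_dvd_of_le hBM)
  have hmax : ∀ B' : Subgroup G, IsElementaryAbelian r B' → B ≤ B' → B' = B :=
    fun B' hB' hBB' =>
      Cfsg.Agent.Lib.Helper9.BG10.elementary_sq_maximal hG hM hr hBM hBe hBcard hB' hBB'
  obtain ⟨P, hP, hBP⟩ := exists_isSylowIn_ge hBM hBp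
  obtain ⟨g, hgN, hgM⟩ := Cfsg.Agent.Lib.Helper9.BG10.exists_normalizer_not_mem hr hrM hP
  obtain ⟨Z, hZ⟩ : ∃ Z, Z = B ⊓ Subgroup.centralizer (P : Set G) := ⟨_, rfl⟩
  -- central elements of order `r` of `P` lie in `B`
  have hkey : ∀ x ∈ Subgroup.centralizer (P : Set G), x ^ r = 1 → x ∈ B := by
    intro x hxc hxr
    have h1 : IsElementaryAbelian r (B ⊔ Subgroup.zpowers x) := by
      apply isElementaryAbelian_sup_zpowers hBe hxr
      intro b hb
      exact Subgroup.mem_centralizer_iff.mp hxc b (hBP hb)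
    have h2 := hmax _ h1 le_sup_left
    rw [← h2]
    exact (le_sup_right : Subgroup.zpowers x ≤ B ⊔ Subgroup.zpowers x) (Subgroup.mem_zpowers x)
  have hNPZ : Subgroup.normalizer (P : Set G) ≤ Subgroup.normalizer (Z : Set G) := by
    apply le_normalizer_of_conj_mem
    intro n hn z hz
    rw [hZ] at hz ⊢
    obtain ⟨hzB, hzc⟩ := Subgroup.mem_inf.mp hz
    have h2 : n * z * n⁻¹ ∈ Subgroup.centralizer (P : Set G) := by
      rw [Subgroup.mem_centralizer_iff]
      intro y hy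
      have hy' : n⁻¹ * y * n ∈ P := conj_mem_of_mem_normalizer' hn hy
      have h3 := Subgroup.mem_centralizer_iff.mp hzc _ hy'
      calc y * (n * z * n⁻¹) = n * ((n⁻¹ * y * n) * z) * n⁻¹ := by group
        _ = n * (z * (n⁻¹ * y * n)) * n⁻¹ := by rw [h3]
        _ = n * z * n⁻¹ * y := by group
    have h3 : (n * z * n⁻¹) ^ r = 1 := by
      rw [conj_pow, hBe.2 z hzB]
      group
    exact Subgroup.mem_inf.mpr ⟨hkey _ h2 h3, h2⟩
  -- it suffices that `Z ≠ 1` is normalized by `M`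
  suffices h : Z ≠ ⊥ ∧ M ≤ Subgroup.normalizer (Z : Set G) by
    have hZM : Z ≤ M := by
      rw [hZ]
      exact inf_le_left.trans hBM
    have h1 := normalizer_eq_of_isCoatom' hG hM h.1 hZM h.2
    rw [h1] at hNPZ
    exact hgM (hNPZ hgN)
  by_cases hZB : Z = B
  · rw [hZB]
    exact ⟨hB1, hMB⟩
  -- the derived group of `M` acts on `B` as an `r`-group
  have hModd : Odd (Nat.card M) := odd_card_subgroup hG M
  have hMs : Group.IsSolvable M := isSolvable_of_ne_top hG hM.1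
  have hrk : PRankLE r 2 ↥B := by
    intro A _ _
    calc Nat.card A ≤ Nat.card ↥B := Subgroup.card_le_card_group A
      _ = r ^ 2 := hBcard
  have hcomm := Cfsg.Agent.Lib.Helper10.rank_two_commutator_pgroup hr2 B M hBp hrk hMB hMs hModd
  let ψ : ↥M →* MulAut ↥B := Cfsg.Agent.Lib.Helper10.conjActHom B M hMB
  have hψ : ∀ (m : ↥M) (b : ↥B), ((ψ m b : ↥B) : G) = m * b * (m : G)⁻¹ := fun m b => rfl
  obtain ⟨S₁, hS₁⟩ : ∃ S₁, S₁ = (P.subgroupOf M).map ψ := ⟨_, rfl⟩
  obtain ⟨S₂, hS₂⟩ : ∃ S₂, S₂ = ((⁅M, M⁆).subgroupOf M).map ψ := ⟨_, rfl⟩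
  have hS₁p : IsPGroup r S₁ := by
    rw [hS₁]
    exact (hP.isPGroup.comap_subtype).map ψ
  have hS₂p : IsPGroup r S₂ := by
    rw [hS₂]
    rintro ⟨y, hy⟩
    obtain ⟨m, hm, rfl⟩ := hy
    obtain ⟨k, hk⟩ := hcomm (m : G) (Subgroup.mem_subgroupOf.mp hm)
    refine ⟨k, ?_⟩
    apply Subtype.ext
    rw [Subgroup.coe_pow, Subgroup.coe_one, ← map_pow]
    ext b
    rw [hψ]
    have h1 := Subgroup.mem_centralizer_iff.mp hk (b : G) b.2
    simp only [Subgroup.coe_pow, MulAut.one_apply]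
    rw [← h1]
    group
  have hnorm : S₁ ≤ Subgroup.normalizer (S₂ : Set (MulAut ↥B)) := by
    apply le_normalizer_of_conj_mem
    intro n hn x hx
    rw [hS₁] at hn
    rw [hS₂] at hx ⊢
    obtain ⟨a, -, rfl⟩ := hn
    obtain ⟨c, hc, rfl⟩ := hx
    refine ⟨a * c * a⁻¹, ?_, by simp⟩
    have hc' : (c : G) ∈ ⁅M, M⁆ := Subgroup.mem_subgroupOf.mp hc
    apply Subgroup.mem_subgroupOf.mpr
    exact conj_mem_of_mem_normalizer (le_normalizer_commutator_self M a.2) hc'
  have hSp : IsPGroup r ↥(S₁ ⊔ S₂) := hS₁p.to_sup_of_normal_right' hS₂p hnorm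
  obtain ⟨b, hbfix, hb1⟩ := hSp.exists_fixed_point_of_prime_dvd_card_of_fixed_point ↥B hrB
    (a := (1 : ↥B)) (by
      intro s
      exact smul_one s)
  have hbS : ∀ m : ↥M, ψ m ∈ S₁ ⊔ S₂ → (m : G) * b = b * m := by
    intro m hm
    have h2 := MulAction.mem_fixedPoints.mp hbfix ⟨_, hm⟩
    have h3 : ((ψ m b : ↥B) : G) = b := congrArg Subtype.val h2
    rw [hψ] at h3
    calc (m : G) * b = (m * b * (m : G)⁻¹) * m := by group
      _ = b * m := by rw [h3]
  have hb_P : ∀ x ∈ P, x * (b : G) = b * x := by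
    intro x hx
    exact hbS ⟨x, hP.le hx⟩ (Subgroup.mem_sup_left (by
      rw [hS₁]
      exact ⟨⟨x, hP.le hx⟩, Subgroup.mem_subgroupOf.mpr hx, rfl⟩))
  have hb_C : ∀ c ∈ ⁅M, M⁆, c * (b : G) = b * c := by
    intro c hc
    have hcM : c ∈ M := Subgroup.commutator_le_self M hc
    exact hbS ⟨c, hcM⟩ (Subgroup.mem_sup_right (by
      rw [hS₂]
      exact ⟨⟨c, hcM⟩, Subgroup.mem_subgroupOf.mpr hc, rfl⟩))
  have hb1' : (b : G) ≠ 1 := by
    intro h
    apply hb1
    apply Subtype.ext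
    rw [Subgroup.coe_one, h]
  have hbZ : (b : G) ∈ Z := by
    rw [hZ]
    refine Subgroup.mem_inf.mpr ⟨b.2, ?_⟩
    rw [Subgroup.mem_centralizer_iff]
    exact hb_P
  have hZ1 : Z ≠ ⊥ := by
    intro h
    rw [h, Subgroup.mem_bot] at hbZ
    exact hb1' hbZ
  have hZleB : Z ≤ B := by
    rw [hZ]
    exact inf_le_left
  -- `Z` has order `r`
  have hZcard : Nat.card Z = r := by
    have h1 : Nat.card Z ∣ r ^ 2 := hBcard ▸ Subgroup.card_dvd_of_le hZleB
    obtain ⟨k, hk2, hk⟩ := (Nat.dvd_prime_pow hrp).mp h1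
    have hk0 : k ≠ 0 := by
      rintro rfl
      rw [pow_zero] at hk
      exact hZ1 (Subgroup.card_eq_one.mp hk)
    have hk2' : k ≠ 2 := by
      rintro rfl
      apply hZB
      exact Subgroup.eq_of_le_of_card_ge hZleB (by rw [hk, hBcard])
    have hk1 : k = 1 := by omega
    rw [hk, hk1, pow_one]
  have hZC : Z ≤ Subgroup.centralizer ((⁅M, M⁆ : Subgroup G) : Set G) := by
    obtain ⟨F, hF⟩ : ∃ F, F = Z ⊓ Subgroup.centralizer ((⁅M, M⁆ : Subgroup G) : Set G) :=
      ⟨_, rfl⟩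
    have hFZ : F ≤ Z := by
      rw [hF]
      exact inf_le_left
    have hbF : (b : G) ∈ F := by
      rw [hF]
      refine Subgroup.mem_inf.mpr ⟨hbZ, ?_⟩
      rw [Subgroup.mem_centralizer_iff]
      exact hb_C
    have hF1 : Nat.card F ≠ 1 := by
      intro h
      have h1 := Subgroup.card_eq_one.mp h
      rw [h1, Subgroup.mem_bot] at hbF
      exact hb1' hbF
    have hFd : Nat.card F ∣ r := hZcard ▸ Subgroup.card_dvd_of_le hFZ
    have hFr : Nat.card F = r := by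
      rcases (Nat.dvd_prime hrp).mp hFd with h | h
      · exact absurd h hF1
      · exact h
    have hFeq : F = Z := Subgroup.eq_of_le_of_card_ge hFZ (by rw [hFr, hZcard])
    rw [← hFeq, hF]
    exact inf_le_right
  refine ⟨hZ1, ?_⟩
  apply le_normalizer_of_conj_mem
  intro m hm z hz
  have hzB : z ∈ B := hZleB hz
  have hzc : z ∈ Subgroup.centralizer (P : Set G) := by
    rw [hZ] at hz
    exact (Subgroup.mem_inf.mp hz).2
  rw [hZ]
  refine Subgroup.mem_inf.mpr ⟨conj_mem_of_mem_normalizer (hMB hm) hzB, ?_⟩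
  rw [Subgroup.mem_centralizer_iff]
  intro x hx
  have hc : ⁅x⁻¹, m⁻¹⁆ ∈ ⁅M, M⁆ :=
    Subgroup.commutator_mem_commutator (inv_mem (hP.le hx)) (inv_mem hm)
  have h1 : x * z = z * x := Subgroup.mem_centralizer_iff.mp hzc x hx
  have h2 : ⁅x⁻¹, m⁻¹⁆ * z = z * ⁅x⁻¹, m⁻¹⁆ := Subgroup.mem_centralizer_iff.mp (hZC hz) _ hc
  have h3 : m⁻¹ * x * m = x * ⁅x⁻¹, m⁻¹⁆ := by
    rw [commutatorElement_def]
    group
  have h4 : (m⁻¹ * x * m) * z = z * (m⁻¹ * x * m) := by
    rw [h3, mul_assoc, h2, ← mul_assoc, h1, mul_assoc]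
  calc x * (m * z * m⁻¹) = m * ((m⁻¹ * x * m) * z) * m⁻¹ := by group
    _ = m * (z * (m⁻¹ * x * m)) * m⁻¹ := by rw [h4]
    _ = m * z * m⁻¹ * x := by group

section CoprimeFpf

/-- internal form of the coprime action lemma: `Q ≤ K` normal subgroups of a solvable group `Y` of
odd order, `Q` nilpotent, `x` of prime order `p ∤ |K|` acting fixed-point-freely on `Q`, `R ≤ K` an
`x`-invariant subgroup of order prime to `|Q|`.  Then every `[k, x]`, `k ∈ R`, centralizes `Q`. -/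
theorem commutator_centralizes_of_fpf_aux {Y : Type*} [Group Y] [Finite Y] [Group.IsSolvable Y]
    (hodd : Odd (Nat.card Y))
    (K Q : Subgroup Y) [K.Normal] [Q.Normal] (hQK : Q ≤ K) (hQn : Group.IsNilpotent ↥Q)
    {p : ℕ} (hp : p.Prime) (hpK : ¬ p ∣ Nat.card K) (x : Y) (hxp : x ^ p = 1)
    (hfix : ∀ q ∈ Q, x * q = q * x → q = 1)
    (R : Subgroup Y) (hRK : R ≤ K) (hcop : (Nat.card R).Coprime (Nat.card Q))
    (hxR : x ∈ Subgroup.normalizer (R : Set Y)) :
    ∀ k ∈ R, ⁅k, x⁆ ∈ Subgroup.centralizer (Q : Set Y) := by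
  classical
  obtain ⟨D, hD⟩ : ∃ D, D = Subgroup.closure {c : Y | ∃ k ∈ R, c = ⁅k, x⁆} := ⟨_, rfl⟩
  have hDR : D ≤ R := by
    rw [hD, Subgroup.closure_le]
    rintro _ ⟨k, hk, rfl⟩
    have e : ⁅k, x⁆ = k * (x * k⁻¹ * x⁻¹) := by
      rw [commutatorElement_def]
      group
    rw [SetLike.mem_coe, e]
    exact mul_mem hk (conj_mem_of_mem_normalizer hxR (inv_mem hk))
  -- chief factors below `Q` are centralized by `D`
  have hstep1 : ∀ U V : Subgroup Y, U.Normal → V.Normal → V < U → U ≤ Q →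
      (∀ W : Subgroup Y, W.Normal → V ≤ W → W ≤ U → W = V ∨ W = U) → ⁅U, D⁆ ≤ V := by
    intro U V hUn hVn hVU hUQ hchief
    have hUK : U ≤ K := hUQ.trans hQK
    have hUnil : Group.IsNilpotent U := Cfsg.Agent.Lib.Helper10.BG.isNilpotent_of_le hUQ hQn
    have hfpf : ∀ u ∈ U, u⁻¹ * (x * u * x⁻¹) ∈ V → u ∈ V := by
      intro u hu h
      have hcopU : (orderOf x).Coprime (Nat.card U) := by
        have h1 : orderOf x ∣ p := orderOf_dvd_of_pow_eq_one hxp
        have h2 : ¬ p ∣ Nat.card U := fun h3 => hpK (h3.trans (Subgroup.card_dvd_of_le hUK))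
        exact Nat.Coprime.coprime_dvd_left h1 ((Nat.Prime.coprime_iff_not_dvd hp).mpr h2)
      obtain ⟨v, hv, hc⟩ := Cfsg.Agent.S1445.fixed_coset x U V hVU.le hcopU u hu h
      have h1 : u * v = 1 := hfix _ (hUQ (mul_mem hu (hVU.le hv))) hc
      have h3 : u = v⁻¹ := eq_inv_of_mul_eq_one_left h1
      rw [h3]
      exact inv_mem hv
    have hcc := Cfsg.Agent.Lib.Helper10.XRep.chief_centralize inferInstance hodd K hp hpK x hxp
      U V hVU hUK hUnil hchief hfpf
    have hall : ∀ d ∈ D, ∀ u ∈ U, ⁅u, d⁆ ∈ V := by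
      intro d hd
      rw [hD] at hd
      refine Subgroup.closure_induction (p := fun d _ => ∀ u ∈ U, ⁅u, d⁆ ∈ V) ?_ ?_ ?_ ?_ hd
      · rintro _ ⟨k, hk, rfl⟩ u hu
        have h1 := hcc k (hRK hk) u hu
        simp only [commutatorElement_def]
        exact h1
      · intro u _
        rw [commutatorElement_one_right]
        exact one_mem V
      · intro d₁ d₂ _ _ h1 h2 u hu
        have e : ⁅u, d₁ * d₂⁆ = ⁅u, d₁⁆ * (d₁ * ⁅u, d₂⁆ * d₁⁻¹) := by
          simp only [commutatorElement_def]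
          group
        rw [e]
        exact mul_mem (h1 u hu) (hVn.conj_mem _ (h2 u hu) d₁)
      · intro d₁ _ h1 u hu
        have e : ⁅u, d₁⁻¹⁆ = d₁⁻¹ * ⁅u, d₁⁆⁻¹ * d₁⁻¹⁻¹ := by
          simp only [commutatorElement_def]
          group
        rw [e]
        exact hVn.conj_mem _ (inv_mem (h1 u hu)) d₁⁻¹
    rw [Subgroup.commutator_le]
    intro u hu d hd
    exact hall d hd u hu
  -- induction along a chief series
  have hind : ∀ n : ℕ, ∀ U : Subgroup Y, U.Normal → U ≤ Q → Nat.card U = n → ⁅U, D⁆ = ⊥ := by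
    intro n
    induction n using Nat.strong_induction_on with
    | _ n ih =>
      intro U hUn hUQ hcard
      by_cases hU1 : U = ⊥
      · rw [hU1]
        exact Subgroup.commutator_bot_left D
      obtain ⟨V, -, hVmax⟩ := Finite.exists_le_maximal
        (p := fun V : Subgroup Y => V.Normal ∧ V < U) (a := ⊥)
        ⟨inferInstance, bot_lt_iff_ne_bot.mpr hU1⟩
      have hVn : V.Normal := hVmax.prop.1
      have hVU : V < U := hVmax.prop.2
      have hchief : ∀ W : Subgroup Y, W.Normal → V ≤ W → W ≤ U → W = V ∨ W = U := by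
        intro W hWn hVW hWU
        by_cases hWeq : W = U
        · exact Or.inr hWeq
        · left
          exact le_antisymm (hVmax.le_of_ge ⟨hWn, lt_of_le_of_ne hWU hWeq⟩ hVW) hVW
      have h1 : ⁅U, D⁆ ≤ V := hstep1 U V hUn hVn hVU hUQ hchief
      have hlt : Nat.card V < n := by
        rw [← hcard]
        by_contra hcon
        rw [not_lt] at hcon
        exact hVU.ne (Subgroup.eq_of_le_of_card_ge hVU.le hcon)
      have h2 : ⁅V, D⁆ = ⊥ := ih (Nat.card V) hlt V hVn (hVU.le.trans hUQ) rfl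
      have hact : Cfsg.Agent.Lib.Helper1.CoprimeAct D U := by
        refine ⟨?_, ?_, Or.inl inferInstance⟩
        · rw [Subgroup.normalizer_eq_top]
          exact le_top
        · exact Nat.Coprime.coprime_dvd_left (Subgroup.card_dvd_of_le hDR)
            (Nat.Coprime.coprime_dvd_right (Subgroup.card_dvd_of_le hUQ) hcop)
      rw [← hact.commutator_commutator_eq, eq_bot_iff, ← h2]
      exact Subgroup.commutator_mono h1 le_rfl
  have hfin := hind (Nat.card Q) Q inferInstance le_rfl rfl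
  intro k hk
  have hkD : ⁅k, x⁆ ∈ D := by
    rw [hD]
    exact Subgroup.subset_closure ⟨k, hk, rfl⟩
  rw [Subgroup.commutator_eq_bot_iff_le_centralizer] at hfin
  rw [Subgroup.mem_centralizer_iff]
  intro q hq
  exact (Subgroup.mem_centralizer_iff.mp (hfin hq) _ hkD).symm

/-- Lemma (1a): `Q` nilpotent, `R` and `a` inside a solvable subgroup `Y` of odd order of a finite
group, `a ^ p = 1` for a prime `p`, `R` and `a` normalize `Q`, `a` normalizes `R`, the orders of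
`R` and `Q` are coprime and prime to `p`, and `C_Q(a) = 1`.  Then `[R, a]` centralizes `Q`. -/
theorem commutator_centralizes_of_fpf {X : Type*} [Group X] [Finite X] {Y Q R : Subgroup X}
    {a : X} {p : ℕ} (hYs : Group.IsSolvable ↥Y) (hYodd : Odd (Nat.card ↥Y))
    (hQY : Q ≤ Y) (hRY : R ≤ Y) (haY : a ∈ Y)
    (hQn : Group.IsNilpotent ↥Q) (hp : p.Prime) (hap : a ^ p = 1)
    (hRQ : R ≤ Subgroup.normalizer (Q : Set X)) (haQ : a ∈ Subgroup.normalizer (Q : Set X))
    (haR : a ∈ Subgroup.normalizer (R : Set X))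
    (hcop : (Nat.card R).Coprime (Nat.card Q)) (hpQ : ¬ p ∣ Nat.card Q) (hpR : ¬ p ∣ Nat.card R)
    (hfix : ∀ x ∈ Q, a * x = x * a → x = 1) :
    ∀ r ∈ R, ⁅r, a⁆ ∈ Subgroup.centralizer (Q : Set X) := by
  obtain ⟨K, hK⟩ : ∃ K, K = R ⊔ Q := ⟨_, rfl⟩
  obtain ⟨W, hW⟩ : ∃ W, W = Subgroup.zpowers a ⊔ K := ⟨_, rfl⟩
  have hQK : Q ≤ K := hK ▸ le_sup_right
  have hRK : R ≤ K := hK ▸ le_sup_left
  have hKW : K ≤ W := hW ▸ le_sup_right
  have haW : a ∈ W := by
    rw [hW]
    exact Subgroup.mem_sup_left (Subgroup.mem_zpowers a)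
  have hWY : W ≤ Y := by
    rw [hW, hK]
    exact sup_le (Subgroup.zpowers_le.mpr haY) (sup_le hRY hQY)
  have hWs : Group.IsSolvable ↥W :=
    Group.isSolvable_of_isSolvable_injective (Subgroup.inclusion_injective hWY)
  have hWodd : Odd (Nat.card ↥W) := hYodd.of_dvd_nat (Subgroup.card_dvd_of_le hWY)
  have haK : Subgroup.zpowers a ≤ Subgroup.normalizer (K : Set X) := by
    rw [hK]
    exact le_normalizer_sup (Subgroup.zpowers_le.mpr haR) (Subgroup.zpowers_le.mpr haQ)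
  have hWQ : W ≤ Subgroup.normalizer (Q : Set X) := by
    rw [hW, hK]
    exact sup_le (Subgroup.zpowers_le.mpr haQ) (sup_le hRQ Subgroup.le_normalizer)
  have hWK : W ≤ Subgroup.normalizer (K : Set X) := by
    rw [hW]
    exact sup_le haK Subgroup.le_normalizer
  have hKn : (K.subgroupOf W).Normal := Subgroup.normal_subgroupOf_of_le_normalizer hWK
  have hQn' : (Q.subgroupOf W).Normal := Subgroup.normal_subgroupOf_of_le_normalizer hWQ
  have hQW : Q ≤ W := hQK.trans hKW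
  have hRW : R ≤ W := hRK.trans hKW
  have hQnil : Group.IsNilpotent ↥(Q.subgroupOf W) :=
    Group.nilpotent_of_mulEquiv (Subgroup.subgroupOfEquivOfLe hQW).symm
  have hact : Cfsg.Agent.Lib.Helper1.CoprimeAct R Q :=
    ⟨hRQ, hcop, Or.inl (Group.isSolvable_of_isSolvable_injective (Subgroup.inclusion_injective hRY))⟩
  have hKcard : Nat.card K = Nat.card Q * Nat.card R := by
    have h1 := hact.complement.card_mul_card
    rw [hact.card_subgroupOf_left, hact.card_subgroupOf_right] at h1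
    rw [hK]
    exact h1.symm
  have hpK : ¬ p ∣ Nat.card (K.subgroupOf W) := by
    rw [card_subgroupOf_of_le hKW, hKcard]
    intro h
    rcases (Nat.Prime.dvd_mul hp).mp h with h | h
    · exact hpQ h
    · exact hpR h
  have key := commutator_centralizes_of_fpf_aux (Y := ↥W) hWodd (K.subgroupOf W)
    (Q.subgroupOf W) (fun y hy => hQK hy) hQnil hp hpK ⟨a, haW⟩
    (by
      apply Subtype.ext
      rw [Subgroup.coe_pow, Subgroup.coe_one]
      exact hap)
    (by
      intro q hq hc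
      apply Subtype.ext
      rw [Subgroup.coe_one]
      exact hfix (q : X) hq (congrArg Subtype.val hc))
    (R.subgroupOf W) (fun y hy => hRK hy)
    (by
      rw [card_subgroupOf_of_le hRW, card_subgroupOf_of_le hQW]
      exact hcop)
    (by
      rw [Subgroup.mem_normalizer_iff]
      intro y
      have h1 := Subgroup.mem_normalizer_iff.mp haR (y : X)
      exact h1)
  intro r hr
  have h1 := key ⟨r, hRW hr⟩ hr
  rw [Subgroup.mem_centralizer_iff] at h1 ⊢
  intro q hq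
  exact congrArg Subtype.val (h1 ⟨q, hQW hq⟩ hq)

end CoprimeFpf

end Cfsg.Agent.Lib.Helper10.BG
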