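import Mathlib
import Cfsg.Prelude
import Cfsg.Agent.Lib.Helper10.BGEleven
import Cfsg.Agent.Lib.Helper9.BGExc3
import Cfsg.Agent.Lib.Helper12.PiCore
import Cfsg.Agent.S1414

/-!
# Bender--Glauberman, Lemma 12.3

`M ≠ H` maximal, `A ≤ M` elementary abelian of order `p ^ 2`, `A₀ ≤ A` of order `p` with
`N_G(A₀) ≤ H`.  Then `A` centralizes `M_σ ∩ H` if `p ∉ σ(M)`, and `A` centralizes `M_α ∩ H` if
`p ∉ α(M)`.  The statement takes Theorem 11.7 for `H` as a hypothesis.
-/

set_option autoImplicit false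
open Cfsg
open scoped commutatorElement Pointwise
open Cfsg.Agent.Lib.Helper9.BGExc
open Cfsg.Agent.Lib.Helper1 (CoprimeAct)

namespace Cfsg.Agent.Lib.Helper10.BG

variable {G : Type*} [Group G]

/-- a subgroup of `N A` of order prime to `|A|` lies in the normal subgroup `N`. -/
theorem le_of_le_sup_of_coprime [Finite G] {N A Y : Subgroup G}
    (hAN : A ≤ Subgroup.normalizer (N : Set G)) (hY : Y ≤ N ⊔ A)
    (hcop : (Nat.card Y).Coprime (Nat.card A)) : Y ≤ N := by
  have hn : (N.subgroupOf (A ⊔ N)).Normal := Subgroup.normal_subgroupOf_sup_of_le_normalizer hAN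
  intro y hy
  obtain ⟨n, hn', a, ha, rfl⟩ := exists_mul_of_mem_sup_of_le_normalizer hAN (hY hy)
  suffices h : a ∈ N from mul_mem hn' h
  have ha' : a ∈ A ⊔ N := Subgroup.mem_sup_left ha
  have hn'' : n ∈ A ⊔ N := Subgroup.mem_sup_right hn'
  have h1 : (QuotientGroup.mk' (N.subgroupOf (A ⊔ N)) ⟨a, ha'⟩) ^ Nat.card A = 1 := by
    rw [← map_pow]
    have h2 : (⟨a, ha'⟩ : ↥(A ⊔ N)) ^ Nat.card A = 1 := by
      apply Subtype.ext
      rw [Subgroup.coe_pow, Subgroup.coe_one]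
      have h3 : (⟨a, ha⟩ : A) ^ Nat.card A = 1 := pow_card_eq_one'
      exact congrArg Subtype.val h3
    rw [h2, map_one]
  have h2 : (QuotientGroup.mk' (N.subgroupOf (A ⊔ N)) ⟨a, ha'⟩) ^ Nat.card Y = 1 := by
    have h3 : QuotientGroup.mk' (N.subgroupOf (A ⊔ N)) ⟨a, ha'⟩ =
        QuotientGroup.mk' (N.subgroupOf (A ⊔ N)) (⟨n, hn''⟩ * ⟨a, ha'⟩) := by
      rw [map_mul]
      have h4 : QuotientGroup.mk' (N.subgroupOf (A ⊔ N)) ⟨n, hn''⟩ = 1 := by
        rw [QuotientGroup.mk'_apply, QuotientGroup.eq_one_iff]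
        exact Subgroup.mem_subgroupOf.mpr hn'
      rw [h4, one_mul]
    rw [h3, ← map_pow]
    have h5 : ((⟨n, hn''⟩ : ↥(A ⊔ N)) * ⟨a, ha'⟩) ^ Nat.card Y = 1 := by
      apply Subtype.ext
      rw [Subgroup.coe_pow, Subgroup.coe_one]
      have h6 : (⟨n * a, hy⟩ : Y) ^ Nat.card Y = 1 := pow_card_eq_one'
      exact congrArg Subtype.val h6
    rw [h5, map_one]
  have h3 : QuotientGroup.mk' (N.subgroupOf (A ⊔ N)) ⟨a, ha'⟩ = 1 := by
    have h4 := orderOf_dvd_of_pow_eq_one h1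
    have h5 := orderOf_dvd_of_pow_eq_one h2
    exact orderOf_eq_one_iff.mp (Nat.eq_one_of_dvd_coprimes hcop h5 h4)
  rw [QuotientGroup.mk'_apply, QuotientGroup.eq_one_iff] at h3
  exact Subgroup.mem_subgroupOf.mp h3

theorem piCore_mono_set {X : Type*} [Group X] {π ρ : Set ℕ} (h : π ⊆ ρ) :
    piCore π X ≤ piCore ρ X := by
  unfold piCore
  apply sSup_le_sSup
  rintro N ⟨hN, hN2⟩
  exact ⟨hN, fun p hp hd => h (hN2 p hp hd)⟩

variable [Finite G]

theorem alphaCore_le_sigmaCore (hG : IsMinSimpleOddOrder G) {M : Subgroup G} (hM : IsCoatom M) :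
    alphaCore M ≤ sigmaCore M :=
  Subgroup.map_mono (piCore_mono_set (alpha_subset_sigma hG hM))

omit [Finite G] in
theorem alphaCore_le (M : Subgroup G) : alphaCore M ≤ M := by
  unfold alphaCore
  exact Subgroup.map_subtype_le _

theorem mem_alpha_of_dvd_card_alphaCore {M : Subgroup G} {q : ℕ} (hq : q.Prime)
    (hd : q ∣ Nat.card (alphaCore M)) : q ∈ alpha M := by
  unfold alphaCore at hd
  rw [Subgroup.card_map_of_injective M.subtype_injective] at hd
  exact Cfsg.Agent.Lib.Helper12.piCore_isPiNat (alpha M) q hq hd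

theorem coprime_card_alphaCore {M : Subgroup G} {p : ℕ} (hp : p.Prime) (hpα : p ∉ alpha M) :
    (Nat.card (alphaCore M)).Coprime p := by
  rw [Nat.coprime_comm, Nat.Prime.coprime_iff_not_dvd hp]
  exact fun hd => hpα (mem_alpha_of_dvd_card_alphaCore hp hd)

/-- the defining property of `σ(M)` in terms of `SigmaProp`. -/
theorem mem_sigma_of_sigmaProp {M : Subgroup G} {p : ℕ} [Fact p.Prime] (h : SigmaProp p M)
    (hpM : p ∣ Nat.card M) : p ∈ sigma M := by
  obtain ⟨T, hT⟩ := exists_isSylowIn p M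
  refine ⟨Fact.out, hpM, hT.toSylow, ?_⟩
  have h1 : ((hT.toSylow : Sylow p ↥M) : Subgroup M).map M.subtype = T := by
    rw [hT.coe_toSylow, Subgroup.subgroupOf_map_subtype]
    exact inf_eq_left.mpr hT.le
  rw [h1]
  exact h.2 T hT

/-- `σ` is invariant under conjugation. -/
theorem mem_sigma_cj {M : Subgroup G} (hM : IsCoatom M) {p : ℕ} [Fact p.Prime]
    (hp : p ∈ sigma M) (g : G) : p ∈ sigma (cj g M) := by
  apply mem_sigma_of_sigmaProp ((sigmaProp_of_mem_sigma hM hp).map_conj g)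
  rw [card_cj]
  exact hp.2.1

/-- if `q ∈ α(M) ∩ σ(H)` then `H` is conjugate to `M`. -/
theorem exists_conj_of_mem_alpha_of_mem_sigma (hG : IsMinSimpleOddOrder G) {M H : Subgroup G}
    (hM : IsCoatom M) (hH : IsCoatom H) {q : ℕ} [Fact q.Prime] (hqα : q ∈ alpha M)
    (hqσ : q ∈ sigma H) : ∃ g : G, H = cj g M := by
  have hq : q.Prime := Fact.out
  have hqσM : q ∈ sigma M := alpha_subset_sigma hG hM hqα
  obtain ⟨S, hS⟩ := exists_isSylowIn q M
  obtain ⟨S', hS'⟩ := exists_isSylowIn q H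
  have hST : IsSylowIn q S ⊤ := (sigmaProp_of_mem_sigma hM hqσM).isSylowIn_top hS
  have hS'T : IsSylowIn q S' ⊤ := (sigmaProp_of_mem_sigma hH hqσ).isSylowIn_top hS'
  have hrS : ¬ PRankLE q 2 ↥S := not_pRankLE_sylow_of_not_pRankLE hS hqα.2
  have hSne : S ≠ ⊤ := ne_top_of_le_isCoatom hM hS.le
  have huniq : InUniqueMaximal S := inUniqueMaximal_of_not_pRankLE hG hq hSne hrS
  obtain ⟨x, -, hx⟩ := hST.exists_conj hS'T
  -- `S' = cj x S ≤ H`, so `S ≤ cj x⁻¹ H`
  refine ⟨x, ?_⟩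
  have h1 : S ≤ cj x⁻¹ H := by
    rw [← cj_le_iff]
    have h0 : cj x S = S' := hx.symm
    rw [h0]
    exact hS'.le
  obtain ⟨L, hL, hLuniq⟩ := huniq
  have h2 : cj x⁻¹ H = L := hLuniq _ ⟨isCoatom_map_conj x⁻¹ hH, h1⟩
  have h3 : M = L := hLuniq _ ⟨hM, hS.le⟩
  have h4 : cj x⁻¹ H = M := h2.trans h3.symm
  rw [← h4, cj_cj_inv]

section Lemma123

variable {M H A₀ A : Subgroup G} {p : ℕ} [Fact p.Prime]

omit [Finite G] [Fact p.Prime] in
/-- `A ≤ H` in the situation of Lemma 12.3. -/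
theorem le_of_normalizer_le_of_elementary (hA₀A : A₀ ≤ A) (hAe : IsElementaryAbelian p A)
    (hN : Subgroup.normalizer (A₀ : Set G) ≤ H) : A ≤ H := by
  have h1 : A ≤ Subgroup.centralizer (A : Set G) :=
    Subgroup.le_centralizer_iff_isMulCommutative.mpr hAe.1
  exact ((h1.trans (Subgroup.centralizer_le hA₀A)).trans
    (Subgroup.centralizer_le_normalizer _)).trans hN

/-- the common part of Lemma 12.3: for a normal `p'`-subgroup `N` of `M`,
`[N ∩ H, A] ≤ N ∩ H_σ`. -/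
theorem commutator_inf_le_sigmaCore (hG : IsMinSimpleOddOrder G)
    (hM : IsCoatom M) (hH : IsCoatom H) (hA₀A : A₀ ≤ A) (hAM : A ≤ M)
    (hA₀ : Nat.card A₀ = p) (hAcard : Nat.card A = p ^ 2) (hAe : IsElementaryAbelian p A)
    (hN : Subgroup.normalizer (A₀ : Set G) ≤ H)
    (h117 : Exc H p A₀ A →
      H ≤ Subgroup.normalizer ((sigmaCore H ⊔ A : Subgroup G) : Set G))
    {N : Subgroup G} (hMN : M ≤ Subgroup.normalizer (N : Set G))
    (hNp : (Nat.card N).Coprime p) :
    ⁅N ⊓ H, A⁆ ≤ N ⊓ sigmaCore H := by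
  have hpp : p.Prime := Fact.out
  have hAH : A ≤ H := le_of_normalizer_le_of_elementary hA₀A hAe hN
  have hAp : IsPGroup p A := IsPGroup.of_card hAcard
  have hA₀p : IsPGroup p A₀ := hAp.to_le hA₀A
  have hA₀1 : A₀ ≠ ⊥ := ne_bot_of_card_prime hA₀
  have hAD : A ≤ Subgroup.normalizer ((N ⊓ H : Subgroup G) : Set G) :=
    le_normalizer_inf (hAM.trans hMN) (hAH.trans Subgroup.le_normalizer)
  have h1 : ⁅N ⊓ H, A⁆ ≤ N ⊓ H := Cfsg.Agent.Lib.Helper1.commutator_le_of_le_normalizer hAD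
  refine le_inf (h1.trans inf_le_left) ?_
  rcases mem_sigma_or_tau2_of_normalizer_le hG hH hA₀p hA₀1 hN with hσ | hτ
  · have hAσ : A ≤ sigmaCore H := pgroup_le_sigmaCore hG hH hσ hAp hAH
    rw [Subgroup.commutator_le]
    intro d hd a ha
    have hdH : d ∈ H := (Subgroup.mem_inf.mp hd).2
    have e : ⁅d, a⁆ = (d * a * d⁻¹) * a⁻¹ := by
      rw [commutatorElement_def]
    rw [e]
    exact mul_mem (conj_mem_of_mem_normalizer (le_normalizer_sigmaCore H hdH) (hAσ ha))
      (inv_mem (hAσ ha))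
  · have hExc : Exc H p A₀ A := ⟨hH, hτ.2.1, hA₀A, hAH, hA₀, hAcard, hAe, hN⟩
    have hnorm := h117 hExc
    have h2 : ⁅N ⊓ H, A⁆ ≤ sigmaCore H ⊔ A := by
      rw [Subgroup.commutator_le]
      intro d hd a ha
      have hdH : d ∈ H := (Subgroup.mem_inf.mp hd).2
      have haS : a ∈ sigmaCore H ⊔ A := Subgroup.mem_sup_right ha
      have e : ⁅d, a⁆ = (d * a * d⁻¹) * a⁻¹ := by
        rw [commutatorElement_def]
      rw [e]
      exact mul_mem (conj_mem_of_mem_normalizer (hnorm hdH) haS) (inv_mem haS)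
    apply le_of_le_sup_of_coprime (hAH.trans (le_normalizer_sigmaCore H)) h2
    rw [hAcard]
    apply Nat.Coprime.pow_right
    exact Nat.Coprime.coprime_dvd_left (Subgroup.card_dvd_of_le (h1.trans inf_le_left)) hNp

/-- B & G, Lemma 12.3, given Theorem 11.7 for `H` as a hypothesis. -/
theorem lemma_12_3 (hG : IsMinSimpleOddOrder G)
    (hM : IsCoatom M) (hH : IsCoatom H) (hMH : M ≠ H) (hA₀A : A₀ ≤ A) (hAM : A ≤ M)
    (hA₀ : Nat.card A₀ = p) (hAcard : Nat.card A = p ^ 2) (hAe : IsElementaryAbelian p A)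
    (hN : Subgroup.normalizer (A₀ : Set G) ≤ H)
    (h117 : Exc H p A₀ A →
      H ≤ Subgroup.normalizer ((sigmaCore H ⊔ A : Subgroup G) : Set G)) :
    (p ∉ sigma M → A ≤ Subgroup.centralizer ((sigmaCore M ⊓ H : Subgroup G) : Set G)) ∧
    (p ∉ alpha M → A ≤ Subgroup.centralizer ((alphaCore M ⊓ H : Subgroup G) : Set G)) := by
  have hpp : p.Prime := Fact.out
  have hAH : A ≤ H := le_of_normalizer_le_of_elementary hA₀A hAe hN
  have hAp : IsPGroup p A := IsPGroup.of_card hAcard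
  have hA₀p : IsPGroup p A₀ := hAp.to_le hA₀A
  have hA₀1 : A₀ ≠ ⊥ := ne_bot_of_card_prime hA₀
  have hcase := mem_sigma_or_tau2_of_normalizer_le hG hH hA₀p hA₀1 hN
  -- in the `τ₂(H)` case `M_σ ∩ H_σ = 1`
  have hE4 : p ∈ tau2 H → sigmaCore M ⊓ sigmaCore H = ⊥ := by
    intro hτ
    have hExc : Exc H p A₀ A := ⟨hH, hτ.2.1, hA₀A, hAH, hA₀, hAcard, hAe, hN⟩
    by_contra hne
    apply hMH
    apply hExc.E4 hG hM hAM
    rw [inf_comm]
    exact hne
  have hcent : ∀ D : Subgroup G, ⁅D, A⁆ = ⊥ → A ≤ Subgroup.centralizer (D : Set G) := by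
    intro D hD
    rw [Subgroup.commutator_comm] at hD
    exact Subgroup.commutator_eq_bot_iff_le_centralizer.mp hD
  constructor
  · -- part (a)
    intro hpσM
    have hNp : (Nat.card (sigmaCore M)).Coprime p := coprime_card_sigmaCore hG hM hpp hpσM
    have hcomm := commutator_inf_le_sigmaCore hG hM hH hA₀A hAM hA₀ hAcard hAe hN h117
      (le_normalizer_sigmaCore M) hNp
    apply hcent
    rcases hcase with hσ | hτ
    · -- `p ∈ σ(H)`
      obtain ⟨D, hD⟩ : ∃ D, D = sigmaCore M ⊓ H := ⟨_, rfl⟩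
      rw [← hD] at hcomm ⊢
      have hDM : D ≤ sigmaCore M := hD ▸ inf_le_left
      have hAD : A ≤ Subgroup.normalizer (D : Set G) := by
        rw [hD]
        exact le_normalizer_inf (hAM.trans (le_normalizer_sigmaCore M))
          (hAH.trans Subgroup.le_normalizer)
      have hAσ : A ≤ sigmaCore H := pgroup_le_sigmaCore hG hH hσ hAp hAH
      have hAsolv : Group.IsSolvable A :=
        isSolvable_of_ne_top hG (ne_top_of_le_isCoatom hM hAM)
      have hact : CoprimeAct A D := by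
        refine ⟨hAD, ?_, Or.inl hAsolv⟩
        rw [hAcard]
        apply Nat.Coprime.pow_left
        exact (Nat.Coprime.coprime_dvd_left (Subgroup.card_dvd_of_le hDM) hNp).symm
      obtain ⟨X₁, hX₁⟩ : ∃ X₁, X₁ = ⁅D, A⁆ := ⟨_, rfl⟩
      rw [← hX₁] at hcomm ⊢
      have hX₁D : X₁ ≤ D := hX₁ ▸ Cfsg.Agent.Lib.Helper1.commutator_le_of_le_normalizer hAD
      have hAX₁ : A ≤ Subgroup.normalizer (X₁ : Set G) :=
        hX₁ ▸ Cfsg.Agent.Lib.Helper1.le_normalizer_commutator_right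
      have hact₁ : CoprimeAct A X₁ := hact.mono hX₁D hAX₁
      have hX₁eq : ⁅X₁, A⁆ = X₁ := by
        rw [hX₁]
        exact hact.commutator_commutator_eq
      suffices hle : X₁ ≤ Subgroup.centralizer (A : Set G) by
        rw [← hX₁eq]
        exact Subgroup.commutator_eq_bot_iff_le_centralizer.mpr hle
      apply le_of_forall_sylow_le
      intro q hq
      have : Fact q.Prime := ⟨hq⟩
      obtain ⟨Q₁, hQ₁, hAQ₁⟩ := coprime_exists_isSylowIn hact₁ q
      refine ⟨Q₁, hQ₁, ?_⟩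
      by_cases hQ₁1 : Q₁ = ⊥
      · rw [hQ₁1]
        exact bot_le
      have hqX₁ : q ∣ Nat.card X₁ :=
        (dvd_card_of_pgroup_ne_bot hQ₁.isPGroup hQ₁1).trans (Subgroup.card_dvd_of_le hQ₁.le)
      have hqσM : q ∈ sigma M := mem_sigma_of_dvd_card_sigmaCore hG hM hq
        (hqX₁.trans (Subgroup.card_dvd_of_le (hcomm.trans inf_le_left)))
      have hqσH : q ∈ sigma H := mem_sigma_of_dvd_card_sigmaCore hG hH hq
        (hqX₁.trans (Subgroup.card_dvd_of_le (hcomm.trans inf_le_right)))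
      have hqp : p ≠ q := by
        rintro rfl
        exact hpσM hqσM
      by_cases hqβ : q ∈ beta H
      · exfalso
        obtain ⟨g, hg⟩ := exists_conj_of_mem_alpha_of_mem_sigma hG hH hM hqβ.1 hqσM
        apply hpσM
        rw [hg]
        exact mem_sigma_cj hH hσ g
      · have hcompl := ((Cfsg.Agent.S1414.result hG H hH).2.2.2.2 q hq hqσH.2.1 hqβ).2.1
        have hAT : A ≤ ppCoreOf q (sigmaCore H) :=
          pgroup_le_ppCoreOf_of_hasNormalPComplement hqp hcompl hAσ hAp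
        have hQ₁σ : Q₁ ≤ sigmaCore H := hQ₁.le.trans (hcomm.trans inf_le_right)
        have h1 : ⁅Q₁, A⁆ ≤ ppCoreOf q (sigmaCore H) := by
          rw [Subgroup.commutator_le]
          intro x hx a ha
          have e : ⁅x, a⁆ = (x * a * x⁻¹) * a⁻¹ := by
            rw [commutatorElement_def]
          rw [e]
          exact mul_mem (conj_mem_of_mem_normalizer
            (le_normalizer_ppCoreOf q (sigmaCore H) (hQ₁σ hx)) (hAT ha)) (inv_mem (hAT ha))
        have h2 : ⁅Q₁, A⁆ ≤ Q₁ := Cfsg.Agent.Lib.Helper1.commutator_le_of_le_normalizer hAQ₁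
        have h3 : ⁅Q₁, A⁆ = ⊥ := by
          apply eq_bot_of_isPGroup_of_not_dvd_card (hQ₁.isPGroup.to_le h2)
          intro hd
          have h4 := (coprime_card_ppCoreOf q (sigmaCore H))
          have h5 : q ∣ Nat.card (ppCoreOf q (sigmaCore H)) :=
            hd.trans (Subgroup.card_dvd_of_le h1)
          exact hq.one_lt.ne' (Nat.eq_one_of_dvd_coprimes h4 h5 (dvd_refl q))
        exact Subgroup.commutator_eq_bot_iff_le_centralizer.mp h3
    · rw [eq_bot_iff, ← hE4 hτ]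
      exact hcomm
  · -- part (b)
    intro hpαM
    have hNp : (Nat.card (alphaCore M)).Coprime p := coprime_card_alphaCore hpp hpαM
    have hcomm := commutator_inf_le_sigmaCore hG hM hH hA₀A hAM hA₀ hAcard hAe hN h117
      (le_normalizer_alphaCore M) hNp
    apply hcent
    rw [eq_bot_iff]
    refine hcomm.trans ?_
    rcases hcase with hσ | hτ
    · by_contra hne
      have hne' : alphaCore M ⊓ sigmaCore H ≠ ⊥ := fun h => hne (h ▸ le_rfl)
      have hcard1 : Nat.card (alphaCore M ⊓ sigmaCore H : Subgroup G) ≠ 1 :=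
        fun h => hne' (Subgroup.card_eq_one.mp h)
      obtain ⟨q, hq, hqd⟩ := Nat.exists_prime_and_dvd hcard1
      have : Fact q.Prime := ⟨hq⟩
      have hqα : q ∈ alpha M := mem_alpha_of_dvd_card_alphaCore hq
        (hqd.trans (Subgroup.card_dvd_of_le inf_le_left))
      have hqσH : q ∈ sigma H := mem_sigma_of_dvd_card_sigmaCore hG hH hq
        (hqd.trans (Subgroup.card_dvd_of_le inf_le_right))
      obtain ⟨g, hg⟩ := exists_conj_of_mem_alpha_of_mem_sigma hG hM hH hqα hqσH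
      by_cases hpσM : p ∈ sigma M
      · exact ne_conj_of_normalizer_le hG hM hH hpσM hA₀p hA₀1 (hA₀A.trans hAM) hN
          (Ne.symm hMH) g hg
      · apply hpσM
        have h1 : M = cj g⁻¹ H := by
          rw [hg, cj_inv_cj]
        rw [h1]
        exact mem_sigma_cj hH hσ g⁻¹
    · rw [← hE4 hτ]
      exact inf_le_inf_right _ (alphaCore_le_sigmaCore hG hM)

end Lemma123

end Cfsg.Agent.Lib.Helper10.BG
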