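import Mathlib
import Cfsg.Prelude.Def_Transfer
import Cfsg.Prelude.Def_PLocal
import Cfsg.Prelude.Def_CaseTheorems
import Cfsg.Agent.S1453
import Cfsg.Agent.Lib.Helper1.Basic
import Cfsg.Agent.Lib.Helper1.ClassTwo
import Cfsg.Agent.Lib.Helper1.Extraspecial
import Cfsg.Agent.Lib.Helper2.CyclicIndexP
import Cfsg.Agent.Lib.Helper10.PGroup
import Cfsg.Agent.Lib.Helper10.UniqueOrderP
import Cfsg.Agent.Lib.Helper10.MetaCrit
import Cfsg.Agent.Lib.Helper10.MetaAut
import Cfsg.Agent.Lib.Helper10.Rank2Omega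

/-!
`p`-groups `P` (`p` odd) in which the elements of order dividing `p` form a nonabelian subgroup
`S` of order `p ^ 3`: either `P = S C_P(S)` with `C_P(S)` cyclic, or `P` has a proper
characteristic subgroup `T` such that every automorphism of odd order acts trivially on `P / T`.
-/

set_option autoImplicit false

open scoped commutatorElement

namespace Cfsg.Agent.Lib.Helper10

universe u

/-! ### commutator identities -/

theorem comm_mul_left_eq {P : Type*} [Group P] (g h y : P) :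
    ⁅g * h, y⁆ = (g * ⁅h, y⁆ * g⁻¹) * ⁅g, y⁆ := by
  simp only [commutatorElement_def]; group

theorem comm_mul_right_eq {P : Type*} [Group P] (x u v : P) :
    ⁅x, u * v⁆ = ⁅x, u⁆ * (u * ⁅x, v⁆ * u⁻¹) := by
  simp only [commutatorElement_def]; group

theorem conj_eq_of_commute {P : Type*} [Group P] {g c : P} (h : g * c = c * g) :
    g * c * g⁻¹ = c := by
  rw [h, mul_inv_cancel_right]

theorem conj_eq_of_mem_center {P : Type*} [Group P] {c : P} (hc : c ∈ Subgroup.center P) (g : P) :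
    g * c * g⁻¹ = c :=
  conj_eq_of_commute ((Subgroup.mem_center_iff.mp hc) g)

theorem comm_eq_one_of_mem_center_left {P : Type*} [Group P] {c : P}
    (hc : c ∈ Subgroup.center P) (g : P) : ⁅c, g⁆ = 1 := by
  rw [commutatorElement_eq_one_iff_mul_comm]
  exact ((Subgroup.mem_center_iff.mp hc) g).symm

theorem comm_eq_one_of_mem_center_right {P : Type*} [Group P] {c : P}
    (hc : c ∈ Subgroup.center P) (g : P) : ⁅g, c⁆ = 1 := by
  rw [commutatorElement_eq_one_iff_mul_comm]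
  exact (Subgroup.mem_center_iff.mp hc) g

/-- `⁅x, y ^ n⁆ = ⁅x, y⁆ ^ n` when `y` commutes with `⁅x, y⁆` -/
theorem comm_pow_right_of_commute {P : Type*} [Group P] {x y : P}
    (h : y * ⁅x, y⁆ = ⁅x, y⁆ * y) (n : ℕ) : ⁅x, y ^ n⁆ = ⁅x, y⁆ ^ n := by
  induction n with
  | zero => simp
  | succ n ih =>
    rw [pow_succ, comm_mul_right_eq, ih]
    have h1 : y ^ n * ⁅x, y⁆ * (y ^ n)⁻¹ = ⁅x, y⁆ := by
      apply conj_eq_of_commute
      have h2 : Commute y ⁅x, y⁆ := h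
      exact (h2.pow_left n).eq
    rw [h1, pow_succ]

/-- `⁅x ^ n, y⁆ = ⁅x, y⁆ ^ n` when `x` commutes with `⁅x, y⁆` -/
theorem comm_pow_left_of_commute {P : Type*} [Group P] {x y : P}
    (h : x * ⁅x, y⁆ = ⁅x, y⁆ * x) (n : ℕ) : ⁅x ^ n, y⁆ = ⁅x, y⁆ ^ n := by
  induction n with
  | zero => simp
  | succ n ih =>
    rw [pow_succ, comm_mul_left_eq]
    have h1 : x ^ n * ⁅x, y⁆ * (x ^ n)⁻¹ = ⁅x, y⁆ := by
      apply conj_eq_of_commute
      have h2 : Commute x ⁅x, y⁆ := h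
      exact (h2.pow_left n).eq
    rw [h1, ih, pow_succ']

/-- a subgroup strictly between `A` and `C`, where `|C| = p |A|`, cannot exist -/
theorem eq_of_lt_of_le_of_card {R : Type*} [Group R] [Finite R] {p : ℕ} [Fact p.Prime]
    (hR : IsPGroup p R) {A B C : Subgroup R} (hAB : A < B) (hBC : B ≤ C)
    (hcard : Nat.card C = p * Nat.card A) : B = C := by
  apply Subgroup.eq_of_le_of_card_ge hBC
  rw [hcard]
  exact card_mul_le_of_lt hR hAB

/-- an element of a group of prime order is a natural power of any nontrivial element -/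
theorem exists_nat_pow_eq_of_card_prime {P : Type*} [Group P] [Finite P] {p : ℕ} [Fact p.Prime]
    (H : Subgroup P) (hH : Nat.card H = p) {c x : P} (hc : c ∈ H) (hc1 : c ≠ 1) (hx : x ∈ H) :
    ∃ n : ℕ, c ^ n = x :=
  exists_nat_pow_of_mem_zpowers (mem_zpowers_of_card_prime H hH hc hc1 hx)

/-- a `p`-group of order at most `p ^ 2` is commutative -/
theorem commute_of_card_le_sq {R : Type*} [Group R] [Finite R] {p : ℕ} [Fact p.Prime]
    (hR : IsPGroup p R) (hcard : Nat.card R ≤ p ^ 2) (x y : R) : x * y = y * x := by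
  have h1 := commutator_le_of_index_le_sq hR ⊥ (by rw [Subgroup.index_bot]; exact hcard)
  have h2 : ⁅x, y⁆ ∈ (⊥ : Subgroup R) := h1 (comm_mem_commutator x y)
  rw [Subgroup.mem_bot, commutatorElement_eq_one_iff_mul_comm] at h2
  exact h2

theorem commute_of_card_le_sq' {R : Type*} [Group R] [Finite R] {p : ℕ} [Fact p.Prime]
    (hR : IsPGroup p R) (H : Subgroup R) (hcard : Nat.card H ≤ p ^ 2) {x y : R} (hx : x ∈ H)
    (hy : y ∈ H) : x * y = y * x := by
  have h1 := commute_of_card_le_sq (hR.to_subgroup H) hcard ⟨x, hx⟩ ⟨y, hy⟩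
  exact congrArg Subtype.val h1

/-! ### the configuration -/

/-- `S` is the set of elements of order dividing `p`, it has order `p ^ 3` and is not abelian -/
structure OmegaCube {P : Type*} [Group P] (p : ℕ) (S : Subgroup P) : Prop where
  mem_iff : ∀ x : P, x ∈ S ↔ x ^ p = 1
  card_eq : Nat.card S = p ^ 3
  nonab : ∃ a ∈ S, ∃ b ∈ S, a * b ≠ b * a

/-- the centre of the subgroup `S` as a subgroup of the ambient group -/
def zS {P : Type*} [Group P] (S : Subgroup P) : Subgroup P :=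
  S ⊓ Subgroup.centralizer (S : Set P)

theorem mem_zS {P : Type*} [Group P] (S : Subgroup P) (x : P) :
    x ∈ zS S ↔ x ∈ S ∧ ∀ s ∈ S, s * x = x * s := by
  unfold zS
  rw [Subgroup.mem_inf, Subgroup.mem_centralizer_iff]
  rfl

instance zS_characteristic {P : Type*} [Group P] (S : Subgroup P) [hS : S.Characteristic] :
    (zS S).Characteristic := by
  apply characteristic_of_forall_mem
  intro α x hx
  rw [mem_zS] at hx ⊢
  refine ⟨(char_mem_iff S α x).mpr hx.1, fun s hs => ?_⟩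
  have h1 := hx.2 (α.symm s) ((char_mem_iff S α.symm s).mpr hs)
  have h2 := congrArg α h1
  simpa using h2

instance centralizer_characteristic' {P : Type*} [Group P] (S : Subgroup P)
    [hS : S.Characteristic] : (Subgroup.centralizer (S : Set P)).Characteristic := by
  apply characteristic_of_forall_mem
  intro α x hx
  rw [Subgroup.mem_centralizer_iff] at hx ⊢
  intro s hs
  have h1 := hx (α.symm s) ((char_mem_iff S α.symm s).mpr hs)
  have h2 := congrArg α h1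
  simpa using h2

theorem OmegaCube.characteristic {P : Type*} [Group P] {p : ℕ} {S : Subgroup P}
    (h : OmegaCube p S) : S.Characteristic := by
  apply characteristic_of_forall_mem
  intro α x hx
  rw [h.mem_iff] at hx ⊢
  rw [← map_pow, hx, map_one]

theorem OmegaCube.pow_eq_one {P : Type*} [Group P] {p : ℕ} {S : Subgroup P}
    (h : OmegaCube p S) {x : P} (hx : x ∈ S) : x ^ p = 1 := (h.mem_iff x).mp hx

theorem OmegaCube.ne_bot {P : Type*} [Group P] {p : ℕ} [Fact p.Prime] {S : Subgroup P}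
    (h : OmegaCube p S) : S ≠ ⊥ := by
  have hpp : p.Prime := Fact.out
  intro hbot
  have h1 := h.card_eq
  rw [hbot, Subgroup.card_bot] at h1
  have h2 := Nat.one_lt_pow (n := 3) (by norm_num) hpp.one_lt
  omega

theorem zS_le {P : Type*} [Group P] (S : Subgroup P) : zS S ≤ S := inf_le_left

theorem zS_le_centralizer {P : Type*} [Group P] (S : Subgroup P) :
    zS S ≤ Subgroup.centralizer (S : Set P) := inf_le_right

/-- a subgroup of `S` containing two noncommuting elements is `S` -/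
theorem OmegaCube.eq_of_noncomm {P : Type*} [Group P] [Finite P] {p : ℕ} [Fact p.Prime]
    {S : Subgroup P} (h : OmegaCube p S) (hP : IsPGroup p P) (H : Subgroup P) (hHS : H ≤ S)
    {a b : P} (ha : a ∈ H) (hb : b ∈ H) (hab : a * b ≠ b * a) : H = S := by
  have hpp : p.Prime := Fact.out
  by_contra hne
  have hlt : H < S := lt_of_le_of_ne hHS hne
  have h1 := card_mul_le_of_lt hP hlt
  rw [h.card_eq] at h1
  have h2 : Nat.card H ≤ p ^ 2 := by
    have h3 : p * Nat.card H ≤ p * p ^ 2 := by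
      calc p * Nat.card H ≤ p ^ 3 := h1
        _ = p * p ^ 2 := by ring
    exact Nat.le_of_mul_le_mul_left h3 hpp.pos
  exact hab (commute_of_card_le_sq' hP H h2 ha hb)

/-- the centre of `S` has order `p` -/
theorem OmegaCube.card_zS {P : Type*} [Group P] [Finite P] {p : ℕ} [Fact p.Prime]
    {S : Subgroup P} (h : OmegaCube p S) (hP : IsPGroup p P) : Nat.card (zS S) = p := by
  have hpp : p.Prime := Fact.out
  haveI := h.characteristic
  obtain ⟨a, ha, b, hb, hab⟩ := h.nonab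
  have hne : zS S ≠ ⊥ := by
    have h1 := normal_inf_center_ne_bot hP S h.ne_bot
    intro hbot
    apply h1
    rw [eq_bot_iff, ← hbot]
    intro x hx
    obtain ⟨hxS, hxc⟩ := Subgroup.mem_inf.mp hx
    rw [mem_zS]
    exact ⟨hxS, fun s _ => (Subgroup.mem_center_iff.mp hxc) s⟩
  have hlt : zS S < S := by
    refine lt_of_le_of_ne (zS_le S) ?_
    intro heq
    have h1 : b ∈ zS S := by rw [heq]; exact hb
    exact hab (((mem_zS S b).mp h1).2 a ha)
  obtain ⟨k, hk⟩ := (hP.to_subgroup (zS S)).exists_card_eq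
  have hk0 : k ≠ 0 := by
    rintro rfl
    rw [pow_zero] at hk
    exact hne (Subgroup.card_eq_one.mp hk)
  have hk3 : k < 3 := by
    have h1 := Cfsg.Agent.Lib.Helper1.card_lt_of_lt hlt
    rw [hk, h.card_eq] at h1
    exact (Nat.pow_lt_pow_iff_right hpp.one_lt).mp h1
  rcases (by omega : k = 1 ∨ k = 2) with rfl | rfl
  · rw [pow_one] at hk
    exact hk
  · exfalso
    -- pick `a ∉ zS`; then `⟨a⟩ zS = S` is abelian
    obtain ⟨c, hcS, hcZ⟩ := SetLike.exists_of_lt hlt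
    have hlt2 : zS S < Subgroup.zpowers c ⊔ zS S := by
      refine lt_of_le_of_ne le_sup_right ?_
      intro heq
      apply hcZ
      rw [heq]
      exact le_sup_left (a := Subgroup.zpowers c) (Subgroup.mem_zpowers c)
    have hle2 : Subgroup.zpowers c ⊔ zS S ≤ S :=
      sup_le (Subgroup.zpowers_le.mpr hcS) (zS_le S)
    have heq := eq_of_lt_of_le_of_card hP hlt2 hle2 (by rw [h.card_eq, hk]; ring)
    have hform : ∀ s ∈ S, ∃ n : ℤ, ∃ z ∈ zS S, s = c ^ n * z := by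
      intro s hs
      rw [← heq] at hs
      obtain ⟨y, hy, z, hz, rfl⟩ := Subgroup.mem_sup_of_normal_right.mp hs
      obtain ⟨n, rfl⟩ := Subgroup.mem_zpowers_iff.mp hy
      exact ⟨n, z, hz, rfl⟩
    obtain ⟨n, z, hz, rfl⟩ := hform a ha
    obtain ⟨n', z', hz', rfl⟩ := hform b hb
    apply hab
    have hzc : ∀ w ∈ zS S, ∀ m : ℤ, c ^ m * w = w * c ^ m := fun w hw m =>
      ((mem_zS S w).mp hw).2 _ (zpow_mem hcS m)
    have hzz : z * z' = z' * z := ((mem_zS S z').mp hz').2 z ((mem_zS S z).mp hz).1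
    calc c ^ n * z * (c ^ n' * z') = c ^ n * (z * c ^ n') * z' := by group
      _ = c ^ n * (c ^ n' * z) * z' := by rw [hzc z hz n']
      _ = (c ^ n * c ^ n') * (z * z') := by group
      _ = (c ^ n' * c ^ n) * (z' * z) := by rw [hzz, ← zpow_add, ← zpow_add, add_comm]
      _ = c ^ n' * (c ^ n * z') * z := by group
      _ = c ^ n' * (z' * c ^ n) * z := by rw [hzc z' hz' n]
      _ = c ^ n' * z' * (c ^ n * z) := by group

/-- the centre of `S` is central in the whole group -/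
theorem OmegaCube.zS_le_center {P : Type*} [Group P] [Finite P] {p : ℕ} [Fact p.Prime]
    {S : Subgroup P} (h : OmegaCube p S) (hP : IsPGroup p P) : zS S ≤ Subgroup.center P := by
  haveI := h.characteristic
  exact Cfsg.Agent.Lib.Helper1.le_center_of_normal_of_card_prime hP (zS S) (h.card_zS hP)

/-- commutators of elements of `S` lie in the centre of `S` -/
theorem OmegaCube.comm_mem_zS {P : Type*} [Group P] [Finite P] {p : ℕ} [Fact p.Prime]
    {S : Subgroup P} (h : OmegaCube p S) (hP : IsPGroup p P) {a b : P} (ha : a ∈ S)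
    (hb : b ∈ S) : ⁅a, b⁆ ∈ zS S := by
  have hpp : p.Prime := Fact.out
  haveI := h.characteristic
  haveI : ((zS S).subgroupOf S).Normal := Subgroup.Normal.subgroupOf inferInstance S
  have hidx : ((zS S).subgroupOf S).index ≤ p ^ 2 := by
    have h1 := Subgroup.relIndex_mul_relIndex (H := ⊥) (K := zS S) (L := S) bot_le (zS_le S)
    rw [Subgroup.relIndex_bot_left, Subgroup.relIndex_bot_left, h.card_zS hP, h.card_eq] at h1
    have h2 : (zS S).relIndex S = p ^ 2 := by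
      apply Nat.eq_of_mul_eq_mul_left hpp.pos
      rw [h1]; ring
    exact h2.le
  have h1 := commutator_le_of_index_le_sq (hP.to_subgroup S) ((zS S).subgroupOf S) hidx
  have h2 := h1 (comm_mem_commutator (⟨a, ha⟩ : S) ⟨b, hb⟩)
  rw [Subgroup.mem_subgroupOf] at h2
  have h3 : ((⁅(⟨a, ha⟩ : S), ⟨b, hb⟩⁆ : S) : P) = ⁅a, b⁆ := by
    simp [commutatorElement_def]
  rw [h3] at h2
  exact h2

/-- the centralizer of `S` is cyclic -/
theorem OmegaCube.isCyclic_centralizer {P : Type*} [Group P] [Finite P] {p : ℕ} [Fact p.Prime]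
    {S : Subgroup P} (h : OmegaCube p S) (hp : p ≠ 2) (hP : IsPGroup p P) :
    IsCyclic (Subgroup.centralizer (S : Set P)) := by
  have hu : UniqueOrderP p ↥(Subgroup.centralizer (S : Set P)) := by
    intro x y hx hx1 hy
    have hxS : (x : P) ∈ zS S := by
      refine Subgroup.mem_inf.mpr ⟨(h.mem_iff _).mpr ?_, x.2⟩
      have := congrArg Subtype.val hx
      simpa using this
    have hyS : (y : P) ∈ zS S := by
      refine Subgroup.mem_inf.mpr ⟨(h.mem_iff _).mpr ?_, y.2⟩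
      have := congrArg Subtype.val hy
      simpa using this
    have hx1' : (x : P) ≠ 1 := fun hh => hx1 (Subtype.ext hh)
    have h1 := mem_zpowers_of_card_prime (zS S) (h.card_zS hP) hxS hx1' hyS
    obtain ⟨n, hn⟩ := Subgroup.mem_zpowers_iff.mp h1
    exact Subgroup.mem_zpowers_iff.mpr ⟨n, Subtype.ext (by simpa using hn)⟩
  rcases isCyclic_or_quaternion_of_uniqueOrderP (hP.to_subgroup _) hu with h1 | ⟨h1, -⟩
  · exact h1
  · exact absurd h1 hp

/-- the derived subgroup of `S` is its centre -/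
theorem OmegaCube.commutator_eq {P : Type*} [Group P] [Finite P] {p : ℕ} [Fact p.Prime]
    {S : Subgroup P} (h : OmegaCube p S) (hP : IsPGroup p P) : ⁅S, S⁆ = zS S := by
  apply le_antisymm
  · rw [Subgroup.commutator_le]
    intro a ha b hb
    exact h.comm_mem_zS hP ha hb
  · obtain ⟨a, ha, b, hb, hab⟩ := h.nonab
    have h1 : ⁅a, b⁆ ≠ 1 := by
      rw [Ne, commutatorElement_eq_one_iff_mul_comm]
      exact hab
    intro x hx
    have h2 := mem_zpowers_of_card_prime (zS S) (h.card_zS hP) (h.comm_mem_zS hP ha hb) h1 hx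
    exact (Subgroup.zpowers_le.mpr (Subgroup.commutator_mem_commutator ha hb)) h2

/-- the elements of order dividing `p` of the centralizer of `S` form the centre of `S` -/
theorem OmegaCube.closure_eq {P : Type*} [Group P] {p : ℕ} {S : Subgroup P} (h : OmegaCube p S) :
    Subgroup.closure {x : P | x ∈ Subgroup.centralizer (S : Set P) ∧ x ^ p = 1} = zS S := by
  have hset : {x : P | x ∈ Subgroup.centralizer (S : Set P) ∧ x ^ p = 1} = ((zS S : Subgroup P) : Set P) := by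
    ext x
    simp only [Set.mem_ofPred_eq, SetLike.mem_coe]
    unfold zS
    rw [Subgroup.mem_inf, h.mem_iff]
    exact and_comm
  rw [hset, Subgroup.closure_eq]

/-- `S` has exponent `p` -/
theorem OmegaCube.exponent_eq {P : Type*} [Group P] {p : ℕ} [Fact p.Prime] {S : Subgroup P}
    (h : OmegaCube p S) : Monoid.exponent S = p := by
  have hpp : p.Prime := Fact.out
  have h1 : Monoid.exponent S ∣ p := by
    apply Monoid.exponent_dvd_of_forall_pow_eq_one
    intro x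
    exact Subtype.ext (by simpa using h.pow_eq_one x.2)
  rcases (Nat.dvd_prime hpp).mp h1 with h2 | h2
  · exfalso
    rw [Monoid.exp_eq_one_iff] at h2
    apply h.ne_bot
    rw [Subgroup.eq_bot_iff_forall]
    intro x hx
    have := Subsingleton.elim (⟨x, hx⟩ : S) 1
    exact congrArg Subtype.val this
  · exact h2

/-! ### Case A: the whole group acts trivially on `S / Z(S)` -/

/-- an element acting trivially on `S / Z(S)` lies in `S C(S)` -/
theorem OmegaCube.mem_sup_centralizer {P : Type*} [Group P] [Finite P] {p : ℕ} [Fact p.Prime]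
    {S : Subgroup P} (h : OmegaCube p S) (hP : IsPGroup p P) (r : P)
    (hr : ∀ s ∈ S, ⁅s, r⁆ ∈ zS S) : r ∈ S ⊔ Subgroup.centralizer (S : Set P) := by
  have hpp : p.Prime := Fact.out
  obtain ⟨a, ha, b, hb, hab⟩ := h.nonab
  have hZc := h.zS_le_center hP
  have hZp : ∀ z ∈ zS S, z ^ p = 1 := fun z hz => h.pow_eq_one (zS_le S hz)
  have hz0 : ⁅a, b⁆ ≠ 1 := by
    rw [Ne, commutatorElement_eq_one_iff_mul_comm]; exact hab
  have hw0 : ⁅b, a⁆ ≠ 1 := by
    rw [Ne, commutatorElement_eq_one_iff_mul_comm]; exact fun hh => hab hh.symm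
  have hz0Z : ⁅a, b⁆ ∈ zS S := h.comm_mem_zS hP ha hb
  have hw0Z : ⁅b, a⁆ ∈ zS S := h.comm_mem_zS hP hb ha
  -- general step: correcting `r` by a power of `y` to commute with `x`
  have hstep : ∀ x ∈ S, ∀ y ∈ S, ⁅x, y⁆ ≠ 1 → ∀ r' : P, (∀ s ∈ S, ⁅s, r'⁆ ∈ zS S) →
      ∃ j : ℕ, ⁅x, r' * y ^ j⁆ = 1 ∧ ∀ s ∈ S, ⁅s, r' * y ^ j⁆ ∈ zS S := by
    intro x hx y hy hxy r' hr'
    have hxyZ : ⁅x, y⁆ ∈ zS S := h.comm_mem_zS hP hx hy
    obtain ⟨i, hi⟩ := exists_nat_pow_eq_of_card_prime (zS S) (h.card_zS hP) hxyZ hxy (hr' x hx)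
    refine ⟨(p - 1) * i, ?_, ?_⟩
    · rw [comm_mul_right_eq, comm_pow_right_of_commute
        ((Subgroup.mem_center_iff.mp (hZc hxyZ)) y),
        conj_eq_of_mem_center (hZc (pow_mem hxyZ _)), ← hi, ← pow_add]
      have h1 : i + (p - 1) * i = p * i := by
        have : p - 1 + 1 = p := Nat.sub_add_cancel hpp.one_le
        calc i + (p - 1) * i = (p - 1 + 1) * i := by ring
          _ = p * i := by rw [this]
      rw [h1, pow_mul, hZp _ hxyZ, one_pow]
    · intro s hs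
      rw [comm_mul_right_eq]
      have h2 : ⁅s, y ^ ((p - 1) * i)⁆ ∈ zS S := h.comm_mem_zS hP hs (pow_mem hy _)
      rw [conj_eq_of_mem_center (hZc h2)]
      exact mul_mem (hr' s hs) h2
  obtain ⟨j, hj1, hj2⟩ := hstep a ha b hb hz0 r hr
  obtain ⟨j', hj'1, hj'2⟩ := hstep b hb a ha hw0 (r * b ^ j) hj2
  have ha2 : ⁅a, r * b ^ j * a ^ j'⁆ = 1 := by
    rw [comm_mul_right_eq, hj1, one_mul]
    have h1 : ⁅a, a ^ j'⁆ = 1 := by
      rw [commutatorElement_eq_one_iff_mul_comm]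
      exact ((Commute.refl a).pow_right j').eq
    rw [h1, mul_one, mul_inv_cancel]
  obtain ⟨r2, hr2⟩ : ∃ r2 : P, r2 = r * b ^ j * a ^ j' := ⟨_, rfl⟩
  rw [← hr2] at ha2 hj'1
  have hH : S ⊓ Subgroup.centralizer ({r2} : Set P) = S := by
    apply h.eq_of_noncomm hP _ inf_le_left (a := a) (b := b) _ _ hab
    · refine Subgroup.mem_inf.mpr ⟨ha, ?_⟩
      rw [Subgroup.mem_centralizer_iff]
      intro x hx
      rw [Set.mem_singleton_iff] at hx
      rw [hx]
      exact ((commutatorElement_eq_one_iff_mul_comm).mp ha2).symm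
    · refine Subgroup.mem_inf.mpr ⟨hb, ?_⟩
      rw [Subgroup.mem_centralizer_iff]
      intro x hx
      rw [Set.mem_singleton_iff] at hx
      rw [hx]
      exact ((commutatorElement_eq_one_iff_mul_comm).mp hj'1).symm
  have hr2C : r2 ∈ Subgroup.centralizer (S : Set P) := by
    rw [Subgroup.mem_centralizer_iff]
    intro s hs
    have h1 : s ∈ S ⊓ Subgroup.centralizer ({r2} : Set P) := by rw [hH]; exact hs
    have h2 := (Subgroup.mem_inf.mp h1).2
    rw [Subgroup.mem_centralizer_iff] at h2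
    exact (h2 r2 (Set.mem_singleton r2)).symm
  have hr' : r = r2 * ((a ^ j')⁻¹ * (b ^ j)⁻¹) := by rw [hr2]; group
  rw [hr', sup_comm]
  exact Subgroup.mul_mem_sup hr2C (mul_mem (inv_mem (pow_mem ha _)) (inv_mem (pow_mem hb _)))

/-! ### Case B: the action on `S / Z(S)` is not trivial -/

/-- `L` is a characteristic subgroup of order `p ^ 2` between `Z(S)` and `S`, with
`[S, P] ≤ L` and `[L, P] ≤ Z(S)` -/
structure SecondCenter {P : Type*} [Group P] (p : ℕ) (S L : Subgroup P) : Prop where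
  Lchar : L.Characteristic
  zS_le : zS S ≤ L
  L_le : L ≤ S
  cardL : Nat.card L = p ^ 2
  commSL : ∀ s ∈ S, ∀ r : P, ⁅s, r⁆ ∈ L
  commLZ : ∀ l ∈ L, ∀ r : P, ⁅l, r⁆ ∈ zS S

theorem OmegaCube.exists_secondCenter {P : Type u} [Group P] [Finite P] {p : ℕ} [Fact p.Prime]
    {S : Subgroup P} (h : OmegaCube p S) (hP : IsPGroup p P)
    (hB : ∃ r : P, ∃ s ∈ S, ⁅s, r⁆ ∉ zS S) : ∃ L : Subgroup P, SecondCenter p S L := by
  have hpp : p.Prime := Fact.out
  haveI := h.characteristic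
  have hZc := h.zS_le_center hP
  have hSn : ∀ s ∈ S, ∀ r : P, ⁅s, r⁆ ∈ S := by
    intro s hs r
    have h1 : ⁅s, r⁆ = s * (r * s⁻¹ * r⁻¹) := by rw [commutatorElement_def]; group
    rw [h1]
    exact mul_mem hs ((inferInstance : S.Normal).conj_mem _ (inv_mem hs) r)
  have hcenS : ∀ x ∈ Subgroup.center P, x ∈ S → x ∈ zS S := by
    intro x hxc hxS
    rw [mem_zS]
    exact ⟨hxS, fun s _ => (Subgroup.mem_center_iff.mp hxc) s⟩
  have hmem2 : ∀ x : P, x ∈ Subgroup.upperCentralSeries P 2 ↔ ∀ y : P, ⁅x, y⁆ ∈ Subgroup.center P := by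
    intro x
    rw [show (2 : ℕ) = 1 + 1 from rfl, Subgroup.mem_upperCentralSeries_succ_iff,
      Subgroup.upperCentralSeries_one]
  have hmem3 : ∀ x : P, x ∈ Subgroup.upperCentralSeries P 3 ↔
      ∀ y : P, ⁅x, y⁆ ∈ Subgroup.upperCentralSeries P 2 := by
    intro x
    rw [show (3 : ℕ) = 2 + 1 from rfl, Subgroup.mem_upperCentralSeries_succ_iff]
  have hS3 : S ≤ Subgroup.upperCentralSeries P 3 :=
    Cfsg.Agent.S1453.normal_le_upperCentralSeries (p := p) 3 hP S h.card_eq.le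
  obtain ⟨L, hL⟩ : ∃ L : Subgroup P, L = S ⊓ Subgroup.upperCentralSeries P 2 := ⟨_, rfl⟩
  have hLchar : L.Characteristic := by rw [hL]; infer_instance
  haveI := hLchar
  have hLS : L ≤ S := by rw [hL]; exact inf_le_left
  have hcommLZ : ∀ l ∈ L, ∀ r : P, ⁅l, r⁆ ∈ zS S := by
    intro l hl r
    rw [hL] at hl
    obtain ⟨hlS, hl2⟩ := Subgroup.mem_inf.mp hl
    exact hcenS _ ((hmem2 l).mp hl2 r) (hSn l hlS r)
  have hcommSL : ∀ s ∈ S, ∀ r : P, ⁅s, r⁆ ∈ L := by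
    intro s hs r
    rw [hL]
    exact Subgroup.mem_inf.mpr ⟨hSn s hs r, (hmem3 s).mp (hS3 hs) r⟩
  have hZL : zS S ≤ L := by
    intro z hz
    rw [hL]
    refine Subgroup.mem_inf.mpr ⟨zS_le S hz, ?_⟩
    have h1 : Subgroup.upperCentralSeries P 1 ≤ Subgroup.upperCentralSeries P 2 :=
      Subgroup.upperCentralSeries_mono P (by norm_num)
    apply h1
    rw [Subgroup.upperCentralSeries_one]
    exact hZc hz
  have hLneS : L ≠ S := by
    intro heq
    obtain ⟨r, s, hs, hsr⟩ := hB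
    exact hsr (hcommLZ s (heq ▸ hs) r)
  have hLneZ : zS S ≠ L := by
    intro heq
    have hex : ∃ y ∈ S, y ∉ zS S := by
      obtain ⟨r, s, hs, hsr⟩ := hB
      refine ⟨s, hs, fun hsZ => hsr ?_⟩
      rw [comm_eq_one_of_mem_center_left (hZc hsZ)]
      exact one_mem _
    obtain ⟨y, hyS, hyZ, hyc⟩ := exists_central_mod_of_normal hP S (zS S) hex
    apply hyZ
    rw [heq, hL]
    refine Subgroup.mem_inf.mpr ⟨hyS, (hmem2 y).mpr fun g => hZc (hyc g)⟩
  refine ⟨L, hLchar, hZL, hLS, ?_, hcommSL, hcommLZ⟩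
  have h1 := card_mul_le_of_lt hP (lt_of_le_of_ne hZL hLneZ)
  have h2 := card_mul_le_of_lt hP (lt_of_le_of_ne hLS hLneS)
  rw [h.card_zS hP] at h1
  rw [h.card_eq] at h2
  apply le_antisymm
  · have h3 : p * Nat.card L ≤ p * p ^ 2 := by
      calc p * Nat.card L ≤ p ^ 3 := h2
        _ = p * p ^ 2 := by ring
    exact Nat.le_of_mul_le_mul_left h3 hpp.pos
  · calc p ^ 2 = p * p := by ring
      _ ≤ Nat.card L := h1

/-- for a central subgroup `Z`, the elements `x` with `⁅x, w⁆ ∈ Z` form a subgroup -/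
def cmSub {P : Type*} [Group P] (Z : Subgroup P) (hZ : Z ≤ Subgroup.center P) (w : P) :
    Subgroup P where
  carrier := {x | ⁅x, w⁆ ∈ Z}
  mul_mem' := by
    intro x y hx hy
    show ⁅x * y, w⁆ ∈ Z
    rw [comm_mul_left_eq, conj_eq_of_mem_center (hZ hy)]
    exact mul_mem hy hx
  one_mem' := by
    show ⁅(1 : P), w⁆ ∈ Z
    rw [commutatorElement_one_left]
    exact one_mem _
  inv_mem' := by
    intro x hx
    show ⁅x⁻¹, w⁆ ∈ Z
    have h1 : ⁅x⁻¹, w⁆ = x⁻¹ * (⁅x, w⁆)⁻¹ * (x⁻¹)⁻¹ := by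
      rw [commutatorElement_def, commutatorElement_def]; group
    rw [h1, conj_eq_of_mem_center (hZ (inv_mem hx))]
    exact inv_mem hx

theorem mem_cmSub {P : Type*} [Group P] (Z : Subgroup P) (hZ : Z ≤ Subgroup.center P) (w x : P) :
    x ∈ cmSub Z hZ w ↔ ⁅x, w⁆ ∈ Z := Iff.rfl

theorem comm_mem_symm {P : Type*} [Group P] (Z : Subgroup P) {x y : P} (h : ⁅x, y⁆ ∈ Z) :
    ⁅y, x⁆ ∈ Z := by
  rw [← commutatorElement_inv]
  exact inv_mem h

section SecondCenterSection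

variable {P : Type*} [Group P] [Finite P] {p : ℕ} [Fact p.Prime] {S L : Subgroup P}

theorem SecondCenter.L_comm (hL : SecondCenter p S L) (hP : IsPGroup p P) {l l' : P}
    (hl : l ∈ L) (hl' : l' ∈ L) : l * l' = l' * l :=
  commute_of_card_le_sq' hP L hL.cardL.le hl hl'

theorem SecondCenter.L_le_centralizer (hL : SecondCenter p S L) (hP : IsPGroup p P) :
    L ≤ Subgroup.centralizer (L : Set P) := by
  intro l hl
  rw [Subgroup.mem_centralizer_iff]
  intro l' hl'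
  exact hL.L_comm hP hl' hl

theorem SecondCenter.centralizer_le (hL : SecondCenter p S L) :
    Subgroup.centralizer (S : Set P) ≤ Subgroup.centralizer (L : Set P) :=
  Subgroup.centralizer_le hL.L_le

theorem SecondCenter.conj_eq (_hL : SecondCenter p S L) {t l : P}
    (ht : t ∈ Subgroup.centralizer (L : Set P)) (hl : l ∈ L) : t * l * t⁻¹ = l := by
  rw [Subgroup.mem_centralizer_iff] at ht
  exact conj_eq_of_commute (ht l hl).symm

theorem SecondCenter.comm_eq_one (_hL : SecondCenter p S L) {t l : P}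
    (ht : t ∈ Subgroup.centralizer (L : Set P)) (hl : l ∈ L) : ⁅l, t⁆ = 1 := by
  rw [Subgroup.mem_centralizer_iff] at ht
  rw [commutatorElement_eq_one_iff_mul_comm]
  exact ht l hl

/-- `S` does not centralize `L` -/
theorem SecondCenter.not_le (hL : SecondCenter p S L) (h : OmegaCube p S) (hP : IsPGroup p P) :
    ¬ S ≤ Subgroup.centralizer (L : Set P) := by
  have hpp : p.Prime := Fact.out
  intro hle
  have h1 : L ≤ zS S := by
    intro l hl
    rw [mem_zS]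
    refine ⟨hL.L_le hl, fun s hs => ?_⟩
    have h2 := hle hs
    rw [Subgroup.mem_centralizer_iff] at h2
    exact (h2 l hl).symm
  have h2 := Subgroup.card_le_of_le h1
  rw [hL.cardL, h.card_zS hP] at h2
  have h3 : p < p ^ 2 := by
    have := hpp.one_lt
    nlinarith
  omega

/-- `S C(L)` is the whole group -/
theorem SecondCenter.sup_eq_top (hL : SecondCenter p S L) (h : OmegaCube p S)
    (hP : IsPGroup p P) : S ⊔ Subgroup.centralizer (L : Set P) = ⊤ := by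
  haveI := hL.Lchar
  have hgood := goodEpSq_of_normal hP L
    ⟨⟨⟨fun a b => Subtype.ext (hL.L_comm hP a.2 b.2)⟩⟩, fun a ha => h.pow_eq_one (hL.L_le ha)⟩
    hL.cardL
  have h1 := hgood.2.2.2 ⊤
  rw [Subgroup.card_top, top_inf_eq] at h1
  have hlt : Subgroup.centralizer (L : Set P) < S ⊔ Subgroup.centralizer (L : Set P) := by
    refine lt_of_le_of_ne le_sup_right ?_
    intro heq
    apply hL.not_le h hP
    rw [heq]
    exact le_sup_left
  have h2 := card_mul_le_of_lt hP hlt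
  apply Subgroup.eq_of_le_of_card_ge le_top
  rw [Subgroup.card_top]
  exact h1.trans h2

/-- the second centre is `S ∩ C(L)` -/
theorem SecondCenter.inf_eq (hL : SecondCenter p S L) (h : OmegaCube p S)
    (hP : IsPGroup p P) : S ⊓ Subgroup.centralizer (L : Set P) = L := by
  by_contra hne
  have hlt : L < S ⊓ Subgroup.centralizer (L : Set P) :=
    lt_of_le_of_ne (le_inf hL.L_le (hL.L_le_centralizer hP)) (Ne.symm hne)
  have h1 := eq_of_lt_of_le_of_card hP hlt inf_le_left (by rw [h.card_eq, hL.cardL]; ring)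
  apply hL.not_le h hP
  rw [← h1]
  exact inf_le_right

/-- there are `s0 ∈ S` and `t0 ∈ C(L)` with `⁅s0, t0⁆ ∉ Z(S)` -/
theorem SecondCenter.exists_pair (hL : SecondCenter p S L) (h : OmegaCube p S)
    (hP : IsPGroup p P) (hB : ∃ r : P, ∃ s ∈ S, ⁅s, r⁆ ∉ zS S) :
    ∃ s0 ∈ S, ∃ t0 ∈ Subgroup.centralizer (L : Set P), ⁅s0, t0⁆ ∉ zS S := by
  haveI := h.characteristic
  obtain ⟨r, s, hs, hsr⟩ := hB
  have hr : r ∈ S ⊔ Subgroup.centralizer (L : Set P) := by
    rw [hL.sup_eq_top h hP]; exact Subgroup.mem_top r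
  obtain ⟨s', hs', t, ht, rfl⟩ := Subgroup.mem_sup_of_normal_left.mp hr
  refine ⟨s, hs, t, ht, fun hst => hsr ?_⟩
  rw [comm_mul_right_eq, conj_eq_of_mem_center (h.zS_le_center hP hst)]
  exact mul_mem (h.comm_mem_zS hP hs hs') hst

end SecondCenterSection

/-- the data of Case B: a second centre `L`, an element `s0` of `S` and an element `t0` of
`T = C(L)` with `⁅s0, t0⁆ ∉ Z(S)` -/
structure CaseB {P : Type*} [Group P] (p : ℕ) (S L : Subgroup P) (s0 t0 : P) : Prop where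
  hp2 : p ≠ 2
  pgroup : IsPGroup p P
  cube : OmegaCube p S
  sc : SecondCenter p S L
  hs0 : s0 ∈ S
  ht0 : t0 ∈ Subgroup.centralizer (L : Set P)
  hl0 : ⁅s0, t0⁆ ∉ zS S

section CaseBSection

variable {P : Type*} [Group P] [Finite P] {p : ℕ} [Fact p.Prime] {S L : Subgroup P} {s0 t0 : P}

theorem CaseB.zS_center (hB : CaseB p S L s0 t0) : zS S ≤ Subgroup.center P :=
  hB.cube.zS_le_center hB.pgroup

theorem CaseB.zS_pow (hB : CaseB p S L s0 t0) {z : P} (hz : z ∈ zS S) : z ^ p = 1 :=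
  hB.cube.pow_eq_one (zS_le S hz)

theorem CaseB.L_pow (hB : CaseB p S L s0 t0) {l : P} (hl : l ∈ L) : l ^ p = 1 :=
  hB.cube.pow_eq_one (hB.sc.L_le hl)

theorem CaseB.l0_mem (hB : CaseB p S L s0 t0) : ⁅s0, t0⁆ ∈ L := hB.sc.commSL s0 hB.hs0 t0

theorem CaseB.s0_not_mem (hB : CaseB p S L s0 t0) : s0 ∉ L :=
  fun h => hB.hl0 (hB.sc.commLZ s0 h t0)

/-- every element of `S` is `s0 ^ n * l` -/
theorem CaseB.S_form (hB : CaseB p S L s0 t0) {s : P} (hs : s ∈ S) :
    ∃ n : ℕ, ∃ l ∈ L, s = s0 ^ n * l := by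
  haveI := hB.sc.Lchar
  have hlt : L < Subgroup.zpowers s0 ⊔ L := by
    refine lt_of_le_of_ne le_sup_right ?_
    intro heq
    apply hB.s0_not_mem
    rw [heq]
    exact le_sup_left (a := Subgroup.zpowers s0) (Subgroup.mem_zpowers s0)
  have hle : Subgroup.zpowers s0 ⊔ L ≤ S := sup_le (Subgroup.zpowers_le.mpr hB.hs0) hB.sc.L_le
  have heq := eq_of_lt_of_le_of_card hB.pgroup hlt hle
    (by rw [hB.cube.card_eq, hB.sc.cardL]; ring)
  rw [← heq] at hs
  obtain ⟨y, hy, l, hl, rfl⟩ := Subgroup.mem_sup_of_normal_right.mp hs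
  obtain ⟨n, rfl⟩ := exists_nat_pow_of_mem_zpowers hy
  exact ⟨n, l, hl, rfl⟩

/-- every element of `L` is `⁅s0, t0⁆ ^ n * z` -/
theorem CaseB.L_form (hB : CaseB p S L s0 t0) {l : P} (hl : l ∈ L) :
    ∃ n : ℕ, ∃ z ∈ zS S, l = ⁅s0, t0⁆ ^ n * z := by
  haveI := hB.cube.characteristic
  have hlt : zS S < Subgroup.zpowers ⁅s0, t0⁆ ⊔ zS S := by
    refine lt_of_le_of_ne le_sup_right ?_
    intro heq
    apply hB.hl0
    rw [heq]
    exact le_sup_left (a := Subgroup.zpowers ⁅s0, t0⁆) (Subgroup.mem_zpowers _)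
  have hle : Subgroup.zpowers ⁅s0, t0⁆ ⊔ zS S ≤ L :=
    sup_le (Subgroup.zpowers_le.mpr hB.l0_mem) hB.sc.zS_le
  have heq := eq_of_lt_of_le_of_card hB.pgroup hlt hle
    (by rw [hB.sc.cardL, hB.cube.card_zS hB.pgroup]; ring)
  rw [← heq] at hl
  obtain ⟨y, hy, z, hz, rfl⟩ := Subgroup.mem_sup_of_normal_right.mp hl
  obtain ⟨n, rfl⟩ := exists_nat_pow_of_mem_zpowers hy
  exact ⟨n, z, hz, rfl⟩

/-- some element of `L` does not commute with `s0` -/
theorem CaseB.exists_l1 (hB : CaseB p S L s0 t0) : ∃ l1 ∈ L, ⁅s0, l1⁆ ≠ 1 := by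
  by_contra hall
  push Not at hall
  apply hB.s0_not_mem
  apply hB.sc.zS_le
  rw [mem_zS]
  refine ⟨hB.hs0, fun s hs => ?_⟩
  obtain ⟨n, l, hl, rfl⟩ := hB.S_form hs
  have h1 : s0 * l = l * s0 := (commutatorElement_eq_one_iff_mul_comm).mp (hall l hl)
  calc s0 ^ n * l * s0 = s0 ^ n * (l * s0) := by group
    _ = s0 ^ n * (s0 * l) := by rw [h1]
    _ = s0 * (s0 ^ n * l) := by rw [← mul_assoc, ← pow_succ, pow_succ', mul_assoc]

/-- an element of `L` outside `Z(S)` does not commute with `s0` -/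
theorem CaseB.comm_s0_ne_one (hB : CaseB p S L s0 t0) {l : P} (hl : l ∈ L) (hlZ : l ∉ zS S) :
    ⁅l, s0⁆ ≠ 1 := by
  intro h1
  apply hlZ
  rw [mem_zS]
  refine ⟨hB.sc.L_le hl, fun s hs => ?_⟩
  obtain ⟨n, l', hl', rfl⟩ := hB.S_form hs
  have h2 : l * s0 = s0 * l := (commutatorElement_eq_one_iff_mul_comm).mp h1
  have h3 : l * s0 ^ n = s0 ^ n * l := by
    have : Commute l s0 := h2
    exact (this.pow_right n).eq
  have h4 : l' * l = l * l' := hB.sc.L_comm hB.pgroup hl' hl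
  calc s0 ^ n * l' * l = s0 ^ n * (l' * l) := by group
    _ = s0 ^ n * (l * l') := by rw [h4]
    _ = (s0 ^ n * l) * l' := by group
    _ = (l * s0 ^ n) * l' := by rw [h3]
    _ = l * (s0 ^ n * l') := by group

/-- for `s ∈ S`, the map `t ↦ ⁅s, t⁆` is multiplicative on `T = C(L)` -/
theorem CaseB.comm_T_mul (hB : CaseB p S L s0 t0) {s t : P} (hs : s ∈ S)
    (ht : t ∈ Subgroup.centralizer (L : Set P)) (t' : P) : ⁅s, t * t'⁆ = ⁅s, t⁆ * ⁅s, t'⁆ := by
  rw [comm_mul_right_eq, hB.sc.conj_eq ht (hB.sc.commSL s hs t')]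

/-- the homomorphism `t ↦ ⁅s, t⁆` on `T` -/
def CaseB.commHom (hB : CaseB p S L s0 t0) (s : P) (hs : s ∈ S) :
    ↥(Subgroup.centralizer (L : Set P)) →* P :=
  MonoidHom.mk' (fun t => ⁅s, (t : P)⁆) (fun t t' => by
    simp only [Subgroup.coe_mul]
    exact hB.comm_T_mul hs t.2 t')

theorem CaseB.commHom_apply (hB : CaseB p S L s0 t0) (s : P) (hs : s ∈ S)
    (t : ↥(Subgroup.centralizer (L : Set P))) : hB.commHom s hs t = ⁅s, (t : P)⁆ := rfl

theorem CaseB.comm_T_pow (hB : CaseB p S L s0 t0) {s t : P} (hs : s ∈ S)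
    (ht : t ∈ Subgroup.centralizer (L : Set P)) (n : ℕ) : ⁅s, t ^ n⁆ = ⁅s, t⁆ ^ n := by
  have h1 := map_pow (hB.commHom s hs) ⟨t, ht⟩ n
  rw [hB.commHom_apply, hB.commHom_apply] at h1
  simpa using h1

theorem CaseB.comm_T_inv (hB : CaseB p S L s0 t0) {s t : P} (hs : s ∈ S)
    (ht : t ∈ Subgroup.centralizer (L : Set P)) : ⁅s, t⁻¹⁆ = (⁅s, t⁆)⁻¹ := by
  have h1 := map_inv (hB.commHom s hs) ⟨t, ht⟩
  rw [hB.commHom_apply, hB.commHom_apply] at h1
  simpa using h1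

/-- the kernel of `t ↦ ⁅s0, t⁆` on `T` is `C(S)` -/
theorem CaseB.mem_C_of_comm (hB : CaseB p S L s0 t0) {t : P}
    (ht : t ∈ Subgroup.centralizer (L : Set P)) (h : ⁅s0, t⁆ = 1) :
    t ∈ Subgroup.centralizer (S : Set P) := by
  rw [Subgroup.mem_centralizer_iff]
  intro s hs
  obtain ⟨n, l, hl, rfl⟩ := hB.S_form hs
  have h2 : s0 * t = t * s0 := (commutatorElement_eq_one_iff_mul_comm).mp h
  have h3 : s0 ^ n * t = t * s0 ^ n := by
    have : Commute s0 t := h2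
    exact (this.pow_left n).eq
  have h4 : l * t = t * l := by
    rw [Subgroup.mem_centralizer_iff] at ht
    exact ht l hl
  calc s0 ^ n * l * t = s0 ^ n * (l * t) := by group
    _ = s0 ^ n * (t * l) := by rw [h4]
    _ = (s0 ^ n * t) * l := by group
    _ = (t * s0 ^ n) * l := by rw [h3]
    _ = t * (s0 ^ n * l) := by group

theorem CaseB.comm_C_eq_one (_hB : CaseB p S L s0 t0) {s c : P} (hs : s ∈ S)
    (hc : c ∈ Subgroup.centralizer (S : Set P)) : ⁅s, c⁆ = 1 := by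
  rw [Subgroup.mem_centralizer_iff] at hc
  rw [commutatorElement_eq_one_iff_mul_comm]
  exact hc s hs

/-- every element of `T` is `l * t0 ^ i * c` -/
theorem CaseB.T_form (hB : CaseB p S L s0 t0) {t : P}
    (ht : t ∈ Subgroup.centralizer (L : Set P)) :
    ∃ i : ℕ, ∃ l ∈ L, ∃ c ∈ Subgroup.centralizer (S : Set P), t = l * t0 ^ i * c := by
  obtain ⟨l1, hl1, hl1ne⟩ := hB.exists_l1
  have hl1Z : ⁅s0, l1⁆ ∈ zS S := comm_mem_symm _ (hB.sc.commLZ l1 hl1 s0)
  obtain ⟨i, z, hz, hx⟩ := hB.L_form (hB.sc.commSL s0 hB.hs0 t)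
  obtain ⟨j, hj⟩ := exists_nat_pow_eq_of_card_prime (zS S) (hB.cube.card_zS hB.pgroup) hl1Z
    hl1ne hz
  have hl1T : l1 ∈ Subgroup.centralizer (L : Set P) := hB.sc.L_le_centralizer hB.pgroup hl1
  have hu : ⁅s0, l1 ^ j * t0 ^ i⁆ = ⁅s0, t⁆ := by
    rw [hB.comm_T_mul hB.hs0 (pow_mem hl1T j), hB.comm_T_pow hB.hs0 hl1T,
      hB.comm_T_pow hB.hs0 hB.ht0, hj, hx]
    exact hB.sc.L_comm hB.pgroup (hB.sc.zS_le hz) (pow_mem hB.l0_mem i)
  have huT : l1 ^ j * t0 ^ i ∈ Subgroup.centralizer (L : Set P) :=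
    mul_mem (pow_mem hl1T j) (pow_mem hB.ht0 i)
  refine ⟨i, l1 ^ j, pow_mem hl1 j, (l1 ^ j * t0 ^ i)⁻¹ * t, ?_, by group⟩
  apply hB.mem_C_of_comm (mul_mem (inv_mem huT) ht)
  rw [hB.comm_T_mul hB.hs0 (inv_mem huT), hB.comm_T_inv hB.hs0 huT, hu, inv_mul_cancel]

/-- `p`-th powers of elements of `T` centralize `S` -/
theorem CaseB.pow_p_mem_C (hB : CaseB p S L s0 t0) {t : P}
    (ht : t ∈ Subgroup.centralizer (L : Set P)) : t ^ p ∈ Subgroup.centralizer (S : Set P) := by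
  apply hB.mem_C_of_comm (pow_mem ht p)
  rw [hB.comm_T_pow hB.hs0 ht, hB.L_pow (hB.sc.commSL s0 hB.hs0 t)]

/-- a generator of the cyclic group `C(S)`: every element is a natural power of it -/
theorem CaseB.exists_generator (hB : CaseB p S L s0 t0) :
    ∃ g ∈ Subgroup.centralizer (S : Set P),
      ∀ x ∈ Subgroup.centralizer (S : Set P), ∃ j : ℕ, g ^ j = x := by
  have hCcyc := hB.cube.isCyclic_centralizer hB.hp2 hB.pgroup
  obtain ⟨⟨g, hgC⟩, hg⟩ := hCcyc.exists_generator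
  refine ⟨g, hgC, fun x hx => ?_⟩
  have h1 := hg ⟨x, hx⟩
  obtain ⟨k, hk⟩ := Subgroup.mem_zpowers_iff.mp h1
  have h2 : x ∈ Subgroup.zpowers g :=
    Subgroup.mem_zpowers_iff.mpr ⟨k, by simpa using congrArg Subtype.val hk⟩
  exact exists_nat_pow_of_mem_zpowers h2

/-- `[T, C(S)] ≤ Z(S)` -/
theorem CaseB.comm_T_C (hB : CaseB p S L s0 t0) {t c : P}
    (ht : t ∈ Subgroup.centralizer (L : Set P)) (hc : c ∈ Subgroup.centralizer (S : Set P)) :
    ⁅t, c⁆ ∈ zS S := by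
  have hpp : p.Prime := Fact.out
  haveI := hB.cube.characteristic
  have hCn : (Subgroup.centralizer (S : Set P)).Normal := inferInstance
  obtain ⟨g, hgC, hgen⟩ := hB.exists_generator
  obtain ⟨r, hr⟩ := hgen (t * g * t⁻¹) (hCn.conj_mem g hgC t)
  obtain ⟨j, rfl⟩ := hgen c hc
  have hconj : t * g ^ j * t⁻¹ = g ^ (r * j) := by
    rw [← conj_pow, ← hr, ← pow_mul]
  have hform : ⁅t, g ^ j⁆ = g ^ (r * j) * (g ^ j)⁻¹ := by
    rw [commutatorElement_def, hconj]
  have hmemC : ⁅t, g ^ j⁆ ∈ Subgroup.centralizer (S : Set P) := by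
    rw [hform]
    exact mul_mem (pow_mem hgC _) (inv_mem (pow_mem hgC _))
  refine Subgroup.mem_inf.mpr ⟨(hB.cube.mem_iff _).mpr ?_, hmemC⟩
  obtain ⟨k, hk⟩ := (IsPGroup.iff_orderOf.1 hB.pgroup) g
  rcases Nat.eq_zero_or_pos k with hk0 | hkpos
  · rw [hk0, pow_zero, orderOf_eq_one_iff] at hk
    rw [hk, one_pow, commutatorElement_one_right, one_pow]
  obtain ⟨m', rfl⟩ := Nat.exists_eq_succ_of_ne_zero (Nat.pos_iff_ne_zero.mp hkpos)
  -- `r ^ p ≡ 1`
  have h1 := conj_pow_eq_pow_pow hr.symm p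
  have htp := hB.pow_p_mem_C ht
  obtain ⟨i, hi⟩ := hgen (t ^ p) htp
  have h2 : t ^ p * g * (t ^ p)⁻¹ = g := by
    apply conj_eq_of_commute
    rw [← hi]
    exact (Commute.pow_self g i).eq
  rw [h2] at h1
  have h3 : g ^ (r ^ p) = g ^ 1 := by rw [pow_one]; exact h1.symm
  rw [pow_eq_pow_iff_modEq, hk] at h3
  have h4 := Cfsg.Agent.Lib.Helper2.CyclicIndexP.modEq_one_of_pow_modEq_one hpp hB.hp2 m' r h3
  have h5 : r * j * p ≡ j * p [MOD p ^ (m' + 1)] := by
    have h6 := (Nat.ModEq.mul_right' p h4).mul_left j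
    rw [one_mul, ← pow_succ] at h6
    have h7 : r * j * p = j * (r * p) := by ring
    rw [h7]
    exact h6
  have h8 : g ^ (r * j * p) = g ^ (j * p) := by
    rw [pow_eq_pow_iff_modEq, hk]
    exact h5
  rw [hform]
  have hcomm : Commute (g ^ (r * j)) ((g ^ j)⁻¹) :=
    ((Commute.refl g).pow_pow _ _).inv_right
  rw [hcomm.mul_pow, inv_pow, ← pow_mul, ← pow_mul, h8, mul_inv_cancel]

/-- `T' ≤ Z(S)` -/
theorem CaseB.comm_T_T (hB : CaseB p S L s0 t0) {t t' : P}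
    (ht : t ∈ Subgroup.centralizer (L : Set P)) (ht' : t' ∈ Subgroup.centralizer (L : Set P)) :
    ⁅t, t'⁆ ∈ zS S := by
  have hZ := hB.zS_center
  have h0 : ∀ u ∈ Subgroup.centralizer (L : Set P), ⁅u, t0⁆ ∈ zS S := by
    intro u hu
    obtain ⟨i, l, hl, c, hc, rfl⟩ := hB.T_form hu
    rw [← mem_cmSub (zS S) hZ t0]
    refine mul_mem (mul_mem ?_ (pow_mem ?_ i)) ?_
    · rw [mem_cmSub, hB.sc.comm_eq_one hB.ht0 hl]; exact one_mem _
    · rw [mem_cmSub, commutatorElement_self]; exact one_mem _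
    · rw [mem_cmSub]; exact comm_mem_symm _ (hB.comm_T_C hB.ht0 hc)
  obtain ⟨i, l, hl, c, hc, rfl⟩ := hB.T_form ht
  rw [← mem_cmSub (zS S) hZ t']
  refine mul_mem (mul_mem ?_ (pow_mem ?_ i)) ?_
  · rw [mem_cmSub, hB.sc.comm_eq_one ht' hl]; exact one_mem _
  · rw [mem_cmSub]; exact comm_mem_symm _ (h0 t' ht')
  · rw [mem_cmSub]; exact comm_mem_symm _ (hB.comm_T_C ht' hc)

/-- `n`-th powers are multiplicative on `T` when `p ∣ n.choose 2` -/
theorem CaseB.mul_pow_T (hB : CaseB p S L s0 t0) {t t' : P}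
    (ht : t ∈ Subgroup.centralizer (L : Set P)) (ht' : t' ∈ Subgroup.centralizer (L : Set P))
    (n : ℕ) (hn : p ∣ n.choose 2) : (t * t') ^ n = t ^ n * t' ^ n := by
  have hc := hB.comm_T_T ht' ht
  have hcen := hB.zS_center hc
  have h1 := Cfsg.Agent.Lib.Helper1.mul_pow_of_commutator_central (x := t) (y := t')
    ((Subgroup.mem_center_iff.mp hcen) t).symm ((Subgroup.mem_center_iff.mp hcen) t').symm n
  obtain ⟨k, hk⟩ := hn
  rw [h1, hk, pow_mul, hB.zS_pow hc, one_pow, mul_one]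

theorem CaseB.m_ne_zero (hB : CaseB p S L s0 t0) {m : ℕ}
    (hm : Nat.card (Subgroup.centralizer (S : Set P)) = p ^ m) : m ≠ 0 := by
  have hpp : p.Prime := Fact.out
  rintro rfl
  rw [pow_zero] at hm
  have h1 := Subgroup.card_eq_one.mp hm
  have h2 : zS S ≤ ⊥ := by rw [← h1]; exact zS_le_centralizer S
  have h3 := Subgroup.card_le_of_le h2
  rw [hB.cube.card_zS hB.pgroup, Subgroup.card_bot] at h3
  have := hpp.one_lt
  omega

/-- `t ^ (p ^ m) ∈ Z(S)` for `t ∈ T`, where `|C(S)| = p ^ m` -/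
theorem CaseB.pow_mem_zS (hB : CaseB p S L s0 t0) {m : ℕ}
    (hm : Nat.card (Subgroup.centralizer (S : Set P)) = p ^ m) {t : P}
    (ht : t ∈ Subgroup.centralizer (L : Set P)) : t ^ (p ^ m) ∈ zS S := by
  obtain ⟨m', rfl⟩ := Nat.exists_eq_succ_of_ne_zero (hB.m_ne_zero hm)
  have hc := hB.pow_p_mem_C ht
  have h1 : t ^ (p ^ (m' + 1)) = (t ^ p) ^ (p ^ m') := by rw [pow_succ', pow_mul]
  rw [h1]
  refine Subgroup.mem_inf.mpr ⟨(hB.cube.mem_iff _).mpr ?_, pow_mem hc _⟩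
  rw [← pow_mul, ← pow_succ, ← hm]
  exact pow_card_subgroup_eq_one _ hc

theorem CaseB.dvd_choose (hB : CaseB p S L s0 t0) {m : ℕ}
    (hm : Nat.card (Subgroup.centralizer (S : Set P)) = p ^ m) : p ∣ (p ^ m).choose 2 := by
  have hpp : p.Prime := Fact.out
  apply hpp.dvd_choose_pow (by norm_num)
  intro h2
  have h3 : p ∣ 2 := by
    rw [h2]
    exact dvd_pow_self p (hB.m_ne_zero hm)
  exact hB.hp2 ((Nat.prime_dvd_prime_iff_eq hpp Nat.prime_two).mp h3)

/-- `t ↦ t ^ (p ^ m)` is multiplicative on `T` -/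
theorem CaseB.psi_mul (hB : CaseB p S L s0 t0) {m : ℕ}
    (hm : Nat.card (Subgroup.centralizer (S : Set P)) = p ^ m) {t t' : P}
    (ht : t ∈ Subgroup.centralizer (L : Set P)) (ht' : t' ∈ Subgroup.centralizer (L : Set P)) :
    (t * t') ^ (p ^ m) = t ^ (p ^ m) * t' ^ (p ^ m) :=
  hB.mul_pow_T ht ht' _ (hB.dvd_choose hm)

/-- `t0 ^ (p ^ m) ≠ 1` -/
theorem CaseB.psi_t0_ne_one (hB : CaseB p S L s0 t0) {m : ℕ}
    (hm : Nat.card (Subgroup.centralizer (S : Set P)) = p ^ m) : t0 ^ (p ^ m) ≠ 1 := by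
  have hpp : p.Prime := Fact.out
  intro h1
  obtain ⟨m', rfl⟩ := Nat.exists_eq_succ_of_ne_zero (hB.m_ne_zero hm)
  have hCcyc := hB.cube.isCyclic_centralizer hB.hp2 hB.pgroup
  obtain ⟨⟨g, hgC⟩, hg⟩ := hCcyc.exists_generator
  have hog : orderOf g = p ^ (m' + 1) := by
    have h2 := orderOf_eq_card_of_forall_mem_zpowers hg
    rw [hm, Subgroup.orderOf_mk] at h2
    exact h2
  have hogp : orderOf (g ^ p) = p ^ m' := by
    rw [orderOf_pow_of_dvd hpp.ne_zero (by rw [hog, pow_succ]; exact dvd_mul_left _ _), hog,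
      pow_succ, Nat.mul_div_cancel _ hpp.pos]
  have hc0 := hB.pow_p_mem_C hB.ht0
  have h2 : (t0 ^ p) ^ (p ^ m') = 1 := by
    rw [← pow_mul, ← pow_succ']; exact h1
  have h3 : orderOf (t0 ^ p) ∣ orderOf (g ^ p) := by
    rw [hogp]; exact orderOf_dvd_of_pow_eq_one h2
  have h4 := mem_zpowers_of_orderOf_dvd' _ hCcyc hc0 (pow_mem hgC p) h3
  obtain ⟨j, hj⟩ := exists_nat_pow_of_mem_zpowers h4
  have hcC : g ^ j ∈ Subgroup.centralizer (S : Set P) := pow_mem hgC j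
  have hcT : g ^ j ∈ Subgroup.centralizer (L : Set P) := hB.sc.centralizer_le hcC
  have hcp : (g ^ j) ^ p = t0 ^ p := by
    rw [← hj, ← pow_mul, ← pow_mul, mul_comm]
  have hp3 : 2 < p := by
    have := hpp.two_le
    have := hB.hp2
    omega
  have h5 : (t0 * (g ^ j)⁻¹) ^ p = 1 := by
    rw [hB.mul_pow_T hB.ht0 (inv_mem hcT) p (hpp.dvd_choose_self (by norm_num) hp3), inv_pow,
      hcp, mul_inv_cancel]
  have h6 : t0 * (g ^ j)⁻¹ ∈ L := by
    rw [← hB.sc.inf_eq hB.cube hB.pgroup]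
    exact Subgroup.mem_inf.mpr ⟨(hB.cube.mem_iff _).mpr h5, mul_mem hB.ht0 (inv_mem hcT)⟩
  apply hB.hl0
  have h7 : t0 = (t0 * (g ^ j)⁻¹) * g ^ j := by group
  rw [h7, hB.comm_T_mul hB.hs0 (hB.sc.L_le_centralizer hB.pgroup h6),
    hB.comm_C_eq_one hB.hs0 hcC, mul_one]
  exact comm_mem_symm _ (hB.sc.commLZ _ h6 s0)

/-- the kernel of `t ↦ t ^ (p ^ m)` on `T` is `L C(S)` -/
theorem CaseB.psi_ker (hB : CaseB p S L s0 t0) {m : ℕ}
    (hm : Nat.card (Subgroup.centralizer (S : Set P)) = p ^ m) {t : P}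
    (ht : t ∈ Subgroup.centralizer (L : Set P)) (h : t ^ (p ^ m) = 1) :
    ∃ l ∈ L, ∃ c ∈ Subgroup.centralizer (S : Set P), t = l * c := by
  have hpp : p.Prime := Fact.out
  obtain ⟨i, l, hl, c, hc, rfl⟩ := hB.T_form ht
  have hlT := hB.sc.L_le_centralizer hB.pgroup hl
  have hcT := hB.sc.centralizer_le hc
  have h1 : l ^ (p ^ m) = 1 := by
    obtain ⟨m', rfl⟩ := Nat.exists_eq_succ_of_ne_zero (hB.m_ne_zero hm)
    rw [pow_succ', pow_mul, hB.L_pow hl, one_pow]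
  have h2 : c ^ (p ^ m) = 1 := by
    rw [← hm]; exact pow_card_subgroup_eq_one _ hc
  rw [hB.psi_mul hm (mul_mem hlT (pow_mem hB.ht0 i)) hcT,
    hB.psi_mul hm hlT (pow_mem hB.ht0 i), h1, h2, one_mul, mul_one, ← pow_mul, mul_comm,
    pow_mul] at h
  have h3 : orderOf (t0 ^ (p ^ m)) = p :=
    orderOf_eq_prime (hB.zS_pow (hB.pow_mem_zS hm hB.ht0)) (hB.psi_t0_ne_one hm)
  have h4 : p ∣ i := by
    rw [← h3]; exact orderOf_dvd_of_pow_eq_one h
  obtain ⟨k, rfl⟩ := h4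
  refine ⟨l, hl, t0 ^ (p * k) * c, mul_mem ?_ hc, by group⟩
  rw [pow_mul]
  exact pow_mem (hB.pow_p_mem_C hB.ht0) k

/-- `⁅l * l', r⁆ = ⁅l, r⁆ * ⁅l', r⁆` for `l, l' ∈ L` -/
theorem CaseB.comm_L_mul_left (hB : CaseB p S L s0 t0) {l l' : P} (_hl : l ∈ L) (hl' : l' ∈ L)
    (r : P) : ⁅l * l', r⁆ = ⁅l, r⁆ * ⁅l', r⁆ := by
  have h1 := hB.zS_center (hB.sc.commLZ l' hl' r)
  rw [comm_mul_left_eq, conj_eq_of_mem_center h1]
  exact ((Subgroup.mem_center_iff.mp h1) _).symm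

theorem CaseB.comm_L_mul_right (hB : CaseB p S L s0 t0) {l : P} (hl : l ∈ L) (r r' : P) :
    ⁅l, r * r'⁆ = ⁅l, r⁆ * ⁅l, r'⁆ := by
  rw [comm_mul_right_eq, conj_eq_of_mem_center (hB.zS_center (hB.sc.commLZ l hl r'))]

theorem CaseB.comm_L_pow_left (hB : CaseB p S L s0 t0) {l : P} (hl : l ∈ L) (n : ℕ) (r : P) :
    ⁅l ^ n, r⁆ = ⁅l, r⁆ ^ n := by
  induction n with
  | zero => simp
  | succ n ih => rw [pow_succ, hB.comm_L_mul_left (pow_mem hl n) hl, ih, pow_succ]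

theorem CaseB.comm_L_pow_right (hB : CaseB p S L s0 t0) {l : P} (hl : l ∈ L) (r : P) (n : ℕ) :
    ⁅l, r ^ n⁆ = ⁅l, r⁆ ^ n := by
  induction n with
  | zero => simp
  | succ n ih => rw [pow_succ, hB.comm_L_mul_right hl, ih, pow_succ]

/-- the form `t ↦ ⁅⁅s0, t⁆, s0⁆` on `T` is a power of `t ↦ t ^ (p ^ m)` -/
theorem CaseB.exists_k (hB : CaseB p S L s0 t0) {m : ℕ}
    (hm : Nat.card (Subgroup.centralizer (S : Set P)) = p ^ m) :
    ∃ k : ℕ, ∀ t ∈ Subgroup.centralizer (L : Set P), ⁅⁅s0, t⁆, s0⁆ = (t ^ (p ^ m)) ^ k := by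
  obtain ⟨f, hf⟩ : ∃ f : ↥(Subgroup.centralizer (L : Set P)) →* P,
      ∀ t, f t = (t : P) ^ (p ^ m) :=
    ⟨MonoidHom.mk' (fun t => (t : P) ^ (p ^ m)) (fun t t' => by
      simp only [Subgroup.coe_mul]; exact hB.psi_mul hm t.2 t'.2), fun _ => rfl⟩
  obtain ⟨g, hg⟩ : ∃ g : ↥(Subgroup.centralizer (L : Set P)) →* P,
      ∀ t, g t = ⁅⁅s0, (t : P)⁆, s0⁆ :=
    ⟨MonoidHom.mk' (fun t => ⁅⁅s0, (t : P)⁆, s0⁆) (fun t t' => by
      simp only [Subgroup.coe_mul]
      rw [hB.comm_T_mul hB.hs0 t.2, hB.comm_L_mul_left (hB.sc.commSL s0 hB.hs0 _)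
        (hB.sc.commSL s0 hB.hs0 _)]), fun _ => rfl⟩
  have hc : t0 ^ (p ^ m) ∈ zS S := hB.pow_mem_zS hm hB.ht0
  have hc1 := hB.psi_t0_ne_one hm
  have hcard := hB.cube.card_zS hB.pgroup
  obtain ⟨k, hk⟩ := exists_pow_of_ker_le f g (t0 ^ (p ^ m)) ⟨t0, hB.ht0⟩ (hf _)
    (fun t => by
      rw [hf]
      exact mem_zpowers_of_card_prime (zS S) hcard hc hc1 (hB.pow_mem_zS hm t.2))
    (by
      rw [hg]
      exact mem_zpowers_of_card_prime (zS S) hcard hc hc1 (hB.sc.commLZ _ hB.l0_mem s0))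
    (by
      intro t ht
      rw [MonoidHom.mem_ker, hf] at ht
      rw [MonoidHom.mem_ker, hg]
      obtain ⟨l, hl, c, hc', hlc⟩ := hB.psi_ker hm t.2 ht
      rw [hlc, hB.comm_T_mul hB.hs0 (hB.sc.L_le_centralizer hB.pgroup hl),
        hB.comm_C_eq_one hB.hs0 hc', mul_one]
      exact comm_eq_one_of_mem_center_left
        (hB.zS_center (comm_mem_symm _ (hB.sc.commLZ l hl s0))) s0)
  refine ⟨k, fun t ht => ?_⟩
  have h1 := hk ⟨t, ht⟩
  rw [hg, hf] at h1
  exact h1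

theorem CaseB.comm_pow_s0 (hB : CaseB p S L s0 t0) {t : P}
    (_ht : t ∈ Subgroup.centralizer (L : Set P)) (n : ℕ) :
    ∃ z ∈ zS S, ⁅s0 ^ n, t⁆ = ⁅s0, t⁆ ^ n * z := by
  induction n with
  | zero => exact ⟨1, one_mem _, by simp⟩
  | succ n ih =>
    obtain ⟨z, hz, hzn⟩ := ih
    have hx := hB.sc.commSL s0 hB.hs0 t
    obtain ⟨x, hxdef⟩ : ∃ x : P, x = ⁅s0, t⁆ := ⟨_, rfl⟩
    rw [← hxdef] at hx hzn ⊢
    have h1 : s0 ^ n * x * (s0 ^ n)⁻¹ = ⁅s0 ^ n, x⁆ * x := by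
      rw [commutatorElement_def (s0 ^ n)]; group
    have h2 : ⁅s0 ^ n, x⁆ ∈ zS S := comm_mem_symm _ (hB.sc.commLZ _ hx (s0 ^ n))
    refine ⟨⁅s0 ^ n, x⁆ * z, mul_mem h2 hz, ?_⟩
    have h3 := Subgroup.mem_center_iff.mp (hB.zS_center h2)
    obtain ⟨w, hwdef⟩ : ∃ w : P, w = ⁅s0 ^ n, x⁆ := ⟨_, rfl⟩
    rw [← hwdef] at h1 h3 ⊢
    rw [pow_succ, comm_mul_left_eq, ← hxdef, h1, hzn]
    calc w * x * (x ^ n * z) = (w * x) * (x ^ n * z) := by group
      _ = (x * w) * (x ^ n * z) := by rw [h3 x]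
      _ = x * (w * x ^ n) * z := by group
      _ = x * (x ^ n * w) * z := by rw [← h3 (x ^ n)]
      _ = x ^ (n + 1) * (w * z) := by rw [pow_succ']; group

/-- bilinearity of the form -/
theorem CaseB.bilin (hB : CaseB p S L s0 t0) {t : P}
    (ht : t ∈ Subgroup.centralizer (L : Set P)) (n n' : ℕ) {l l' : P} (hl : l ∈ L)
    (hl' : l' ∈ L) : ⁅⁅s0 ^ n * l, t⁆, s0 ^ n' * l'⁆ = ⁅⁅s0, t⁆, s0⁆ ^ (n * n') := by
  obtain ⟨z, hz, hzn⟩ := hB.comm_pow_s0 ht n
  have hx := hB.sc.commSL s0 hB.hs0 t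
  have h1 : ⁅s0 ^ n * l, t⁆ = ⁅s0, t⁆ ^ n * z := by
    rw [comm_mul_left_eq, hB.sc.comm_eq_one ht hl, mul_one, mul_inv_cancel, one_mul, hzn]
  rw [h1, hB.comm_L_mul_left (pow_mem hx n) (hB.sc.zS_le hz),
    comm_eq_one_of_mem_center_left (hB.zS_center hz), mul_one,
    hB.comm_L_mul_right (pow_mem hx n),
    (commutatorElement_eq_one_iff_mul_comm.mpr (hB.sc.L_comm hB.pgroup (pow_mem hx n) hl')),
    mul_one, hB.comm_L_pow_right (pow_mem hx n), hB.comm_L_pow_left hx, ← pow_mul]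

/-- an automorphism acts on `S / L` by a scalar of square one -/
theorem CaseB.sq_modEq (hB : CaseB p S L s0 t0) {m : ℕ}
    (hm : Nat.card (Subgroup.centralizer (S : Set P)) = p ^ m) (α : P ≃* P) (n : ℕ) {l : P}
    (hl : l ∈ L) (hα : α s0 = s0 ^ n * l) : n * n ≡ 1 [MOD p] := by
  haveI := hB.sc.Lchar
  haveI := hB.cube.characteristic
  obtain ⟨k, hk⟩ := hB.exists_k hm
  have hαT : α t0 ∈ Subgroup.centralizer (L : Set P) :=
    (char_mem_iff (Subgroup.centralizer (L : Set P)) α t0).mpr hB.ht0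
  have hb1 : ⁅⁅s0, t0⁆, s0⁆ ≠ 1 := hB.comm_s0_ne_one hB.l0_mem hB.hl0
  have hbZ : ⁅⁅s0, t0⁆, s0⁆ ∈ zS S := hB.sc.commLZ _ hB.l0_mem s0
  have hαb : α ⁅⁅s0, t0⁆, s0⁆ = (α ⁅⁅s0, t0⁆, s0⁆) ^ (n * n) := by
    calc α ⁅⁅s0, t0⁆, s0⁆ = ⁅⁅α s0, α t0⁆, α s0⁆ := by
          rw [map_commutatorElement, map_commutatorElement]
      _ = ⁅⁅s0, α t0⁆, s0⁆ ^ (n * n) := by rw [hα, hB.bilin hαT n n hl hl]
      _ = (((α t0) ^ (p ^ m)) ^ k) ^ (n * n) := by rw [hk _ hαT]
      _ = (α ((t0 ^ (p ^ m)) ^ k)) ^ (n * n) := by rw [map_pow, map_pow]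
      _ = (α ⁅⁅s0, t0⁆, s0⁆) ^ (n * n) := by rw [← hk t0 hB.ht0]
  have hord : orderOf (α ⁅⁅s0, t0⁆, s0⁆) = p := by
    apply orderOf_eq_prime
    · rw [← map_pow, hB.zS_pow hbZ, map_one]
    · intro h1
      apply hb1
      have h2 : α ⁅⁅s0, t0⁆, s0⁆ = α 1 := by rw [h1, map_one]
      exact α.injective h2
  have h3 : (α ⁅⁅s0, t0⁆, s0⁆) ^ (n * n) = (α ⁅⁅s0, t0⁆, s0⁆) ^ 1 := by
    rw [pow_one]; exact hαb.symm
  rw [pow_eq_pow_iff_modEq, hord] at h3
  exact h3

/-- the square of an automorphism acts trivially on `S / L` -/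
theorem CaseB.sq_mem_L (hB : CaseB p S L s0 t0) {m : ℕ}
    (hm : Nat.card (Subgroup.centralizer (S : Set P)) = p ^ m) (α : P ≃* P) {s : P}
    (hs : s ∈ S) : α (α s) * s⁻¹ ∈ L := by
  haveI := hB.sc.Lchar
  haveI := hB.cube.characteristic
  have hαs0 : α s0 ∈ S := (char_mem_iff S α s0).mpr hB.hs0
  obtain ⟨n, l, hl, hα⟩ := hB.S_form hαs0
  have hsq := hB.sq_modEq hm α n hl hα
  obtain ⟨π, hπ⟩ : ∃ π : P →* P ⧸ L, π = QuotientGroup.mk' L := ⟨_, rfl⟩
  have hπL : ∀ x ∈ L, π x = 1 := fun x hx => by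
    rw [hπ]; exact (QuotientGroup.eq_one_iff x).mpr hx
  have hαL : ∀ x ∈ L, α x ∈ L := fun x hx => (char_mem_iff L α x).mpr hx
  have e1 : α (α s0) = (s0 ^ n * l) ^ n * α l := by rw [hα, map_mul, map_pow, hα]
  have hπ0 : π (α (α s0)) = π s0 := by
    rw [e1]
    simp only [map_mul, map_pow]
    rw [hπL l hl, hπL (α l) (hαL l hl), mul_one, mul_one, ← pow_mul]
    have h1 : π s0 ^ (n * n) = π s0 ^ 1 := by
      rw [pow_eq_pow_iff_modEq]
      apply hsq.of_dvd
      apply orderOf_dvd_of_pow_eq_one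
      rw [← map_pow, hB.cube.pow_eq_one hB.hs0, map_one]
    rw [h1, pow_one]
  obtain ⟨j, l', hl', rfl⟩ := hB.S_form hs
  have h2 : π (α (α (s0 ^ j * l')) * (s0 ^ j * l')⁻¹) = 1 := by
    simp only [map_mul, map_pow, map_inv]
    rw [hπ0, hπL l' hl', hπL (α (α l')) (hαL _ (hαL l' hl'))]
    simp
  rw [hπ] at h2
  exact (QuotientGroup.eq_one_iff _).mp h2

/-- the square of an automorphism acts trivially on `P / T` -/
theorem CaseB.sq_mem_T (hB : CaseB p S L s0 t0) {m : ℕ}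
    (hm : Nat.card (Subgroup.centralizer (S : Set P)) = p ^ m) (α : P ≃* P) (x : P) :
    α (α x) * x⁻¹ ∈ Subgroup.centralizer (L : Set P) := by
  haveI := hB.sc.Lchar
  haveI := hB.cube.characteristic
  have hx : x ∈ S ⊔ Subgroup.centralizer (L : Set P) := by
    rw [hB.sc.sup_eq_top hB.cube hB.pgroup]; exact Subgroup.mem_top x
  obtain ⟨s, hs, t, ht, rfl⟩ := Subgroup.mem_sup_of_normal_left.mp hx
  have h1 := hB.sc.L_le_centralizer hB.pgroup (hB.sq_mem_L hm α hs)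
  have h2 : α (α t) * t⁻¹ ∈ Subgroup.centralizer (L : Set P) :=
    mul_mem ((char_mem_iff _ α _).mpr ((char_mem_iff _ α t).mpr ht)) (inv_mem ht)
  have hTn : (Subgroup.centralizer (L : Set P)).Normal := inferInstance
  have h3 : α (α (s * t)) * (s * t)⁻¹ = (α (α s) * s⁻¹) * (s * (α (α t) * t⁻¹) * s⁻¹) := by
    rw [map_mul, map_mul]; group
  rw [h3]
  exact mul_mem h1 (hTn.conj_mem _ h2 s)

/-- an automorphism of odd order acts trivially on `P / T` -/
theorem CaseB.mem_T_of_odd (hB : CaseB p S L s0 t0) {m : ℕ}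
    (hm : Nat.card (Subgroup.centralizer (S : Set P)) = p ^ m) (α : MulAut P)
    (hodd : Odd (orderOf α)) (x : P) : α x * x⁻¹ ∈ Subgroup.centralizer (L : Set P) := by
  haveI := hB.sc.Lchar
  obtain ⟨K, hK⟩ : ∃ K : Subgroup (MulAut P),
      ∀ β : MulAut P, β ∈ K ↔ ∀ y : P, β y * y⁻¹ ∈ Subgroup.centralizer (L : Set P) :=
    ⟨{ carrier := {β | ∀ y : P, β y * y⁻¹ ∈ Subgroup.centralizer (L : Set P)}
       mul_mem' := by
        intro β γ hβ hγ y
        have h1 : (β * γ) y * y⁻¹ = (β (γ y) * (γ y)⁻¹) * (γ y * y⁻¹) := by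
          rw [MulAut.mul_apply]; group
        rw [h1]
        exact mul_mem (hβ (γ y)) (hγ y)
       one_mem' := by
        intro y
        rw [MulAut.one_apply, mul_inv_cancel]
        exact one_mem _
       inv_mem' := by
        intro β hβ y
        have h1 := hβ (β⁻¹ y)
        rw [MulAut.apply_inv_self] at h1
        have h2 : β⁻¹ y * y⁻¹ = (y * (β⁻¹ y)⁻¹)⁻¹ := by group
        rw [h2]
        exact inv_mem h1 }, fun β => Iff.rfl⟩
  have h1 : α * α ∈ K := by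
    rw [hK]
    intro y
    rw [MulAut.mul_apply]
    exact hB.sq_mem_T hm α y
  obtain ⟨k, hk⟩ := hodd
  have h2 : (α * α) ^ (k + 1) = α := by
    rw [← pow_two, ← pow_mul]
    have h3 : 2 * (k + 1) = orderOf α + 1 := by omega
    rw [h3, pow_succ, pow_orderOf_eq_one, one_mul]
  have h4 : α ∈ K := by
    rw [← h2]; exact pow_mem h1 (k + 1)
  exact (hK α).mp h4 x

end CaseBSection

/-- **Case B**: if `P` does not act trivially on `S / Z(S)`, some proper characteristic subgroup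
`T` of `P` has the property that all automorphisms of odd order act trivially on `P / T`. -/
theorem OmegaCube.exists_char_of_noncentral {P : Type u} [Group P] [Finite P] {p : ℕ}
    [Fact p.Prime] {S : Subgroup P} (h : OmegaCube p S) (hp : p ≠ 2) (hP : IsPGroup p P)
    (hB : ∃ r : P, ∃ s ∈ S, ⁅s, r⁆ ∉ zS S) :
    ∃ T : Subgroup P, T.Characteristic ∧ T ≠ ⊤ ∧
      ∀ α : MulAut P, Odd (orderOf α) → ∀ x : P, α x * x⁻¹ ∈ T := by
  obtain ⟨L, hL⟩ := h.exists_secondCenter hP hB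
  obtain ⟨s0, hs0, t0, ht0, hl0⟩ := hL.exists_pair h hP hB
  have hcB : CaseB p S L s0 t0 := ⟨hp, hP, h, hL, hs0, ht0, hl0⟩
  obtain ⟨m, hm⟩ := (hP.to_subgroup (Subgroup.centralizer (S : Set P))).exists_card_eq
  haveI := hL.Lchar
  refine ⟨Subgroup.centralizer (L : Set P), inferInstance, ?_,
    fun α hodd x => hcB.mem_T_of_odd hm α hodd x⟩
  intro htop
  apply hL.not_le h hP
  rw [htop]
  exact le_top

end Cfsg.Agent.Lib.Helper10
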