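import Mathlib
import Cfsg.Prelude.Def_Transfer
import Cfsg.Prelude.Def_PLocal
import Cfsg.Prelude.Def_CaseTheorems
import Cfsg.Agent.S1453
import Cfsg.Agent.Lib.Helper1.Basic
import Cfsg.Agent.Lib.Helper1.ClassThree
import Cfsg.Agent.Lib.Helper1.Frattini
import Cfsg.Agent.Lib.Helper1.Extraspecial
import Cfsg.Agent.Lib.Helper2.NormalEpSqOdd
import Cfsg.Agent.Lib.Helper9.Rank
import Cfsg.Agent.Lib.Helper10.PGroup
import Cfsg.Agent.Lib.Helper10.NormalEpSq
import Cfsg.Agent.Lib.Helper10.NormalEpCube
import Cfsg.Agent.Lib.Helper10.MetaCrit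

/-!
`p`-groups of rank at most two, `p > 3`: the elements of order dividing `p` form a subgroup of
order at most `p ^ 3`.
-/

set_option autoImplicit false

open scoped commutatorElement

namespace Cfsg.Agent.Lib.Helper10

universe u

/-- every normal elementary abelian subgroup of order `p ^ 2` of a `p`-group is "good": every
subgroup `Y` satisfies `|Y| ≤ p |C_Y(E)|`. -/
theorem goodEpSq_of_normal {P : Type*} [Group P] [Finite P] {p : ℕ} [Fact p.Prime]
    (hP : IsPGroup p P) (E : Subgroup P) [hEn : E.Normal] (hE : Cfsg.IsElementaryAbelian p E)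
    (hcard : Nat.card E = p ^ 2) : GoodEpSq p E := by
  have hpp : p.Prime := Fact.out
  have hEne : E ≠ ⊥ := by
    intro h
    rw [h, Subgroup.card_bot] at hcard
    have h1 := Nat.one_lt_pow (n := 2) (by norm_num) hpp.one_lt
    omega
  have h1 := normal_inf_center_ne_bot hP E hEne
  obtain ⟨⟨z, hz⟩, hz1'⟩ := Subgroup.ne_bot_iff_exists_ne_one.mp h1
  have hz1 : z ≠ 1 := fun h => hz1' (Subtype.ext h)
  obtain ⟨hzE, hzc⟩ := Subgroup.mem_inf.mp hz
  have hzp : z ^ p = 1 := hE.2 z hzE
  haveI hZn : (Subgroup.zpowers z).Normal := by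
    constructor
    intro w hw g
    have hwc : w ∈ Subgroup.center P := (Subgroup.zpowers_le.mpr hzc) hw
    have h2 := (Subgroup.mem_center_iff.mp hwc) g
    have h3 : g * w * g⁻¹ = w := by rw [h2]; group
    rw [h3]; exact hw
  have hcz : Nat.card (Subgroup.zpowers z) = p := by
    rw [Nat.card_zpowers]; exact orderOf_eq_prime hzp hz1
  have hex : ∃ y ∈ E, y ∉ Subgroup.zpowers z := by
    by_contra hall
    push Not at hall
    have hle : E ≤ Subgroup.zpowers z := hall
    have h4 := Subgroup.card_le_of_le hle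
    rw [hcard, hcz] at h4
    have h5 : p < p ^ 2 := by
      have := hpp.one_lt
      nlinarith
    omega
  obtain ⟨y, hyE, hyz, hyc⟩ := exists_central_mod_of_normal hP E (Subgroup.zpowers z) hex
  have hyp : y ^ p = 1 := hE.2 y hyE
  have hgood := goodEpSq_of_central_mod hP z y hzc hzp hz1 hyp hyz (by
    intro g
    have h3 := hyc g
    have h4 : g * y * g⁻¹ * y⁻¹ = (⁅y, g⁆)⁻¹ := by rw [commutatorElement_def]; group
    rw [h4]; exact inv_mem h3)
  have heq : Subgroup.zpowers z ⊔ Subgroup.zpowers y = E := by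
    apply Subgroup.eq_of_le_of_card_ge
    · exact sup_le (Subgroup.zpowers_le.mpr hzE) (Subgroup.zpowers_le.mpr hyE)
    · rw [hcard, hgood.2.2.1]
  rw [heq] at hgood
  exact hgood

/-- a `p`-group of exponent `p` and rank at most two has order at most `p ^ 3` -/
theorem card_le_cube_of_pow_eq_one {P : Type*} [Group P] [Finite P] {p : ℕ} [Fact p.Prime]
    (hP : IsPGroup p P) (hrk : Cfsg.PRankLE p 2 P) (hexp : ∀ x : P, x ^ p = 1) :
    Nat.card P ≤ p ^ 3 := by
  have hpp : p.Prime := Fact.out
  obtain ⟨B, hBn, hBc, hBmax⟩ := exists_maximal_normal_abelian P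
  haveI := hBn
  have hcent := centralizer_le_of_maximal_normal_abelian hP B hBc hBmax
  have hBcard : Nat.card B ≤ p ^ 2 := hrk B hBc (fun a _ => hexp a)
  obtain ⟨j, hj⟩ := (hP.to_subgroup B).exists_card_eq
  have hj2 : j ≤ 2 := by
    rw [hj] at hBcard
    exact (Nat.pow_le_pow_iff_right hpp.one_lt).mp hBcard
  rcases Nat.lt_or_ge j 2 with hlt | hge
  · have hBcen : B ≤ Subgroup.center P := by
      interval_cases j
      · rw [pow_zero] at hj
        rw [Subgroup.card_eq_one.mp hj]
        exact bot_le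
      · rw [pow_one] at hj
        exact Cfsg.Agent.Lib.Helper1.le_center_of_normal_of_card_prime hP B hj
    have htop : Subgroup.centralizer (B : Set P) = ⊤ := by
      rw [eq_top_iff]
      intro x _
      rw [Subgroup.mem_centralizer_iff]
      intro b hb
      exact ((Subgroup.mem_center_iff.mp (hBcen hb)) x).symm
    rw [htop] at hcent
    have h1 : Nat.card P ≤ Nat.card B := by
      rw [← Subgroup.card_top (G := P)]
      exact Subgroup.card_le_of_le hcent
    calc Nat.card P ≤ Nat.card B := h1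
      _ ≤ p ^ 2 := hBcard
      _ ≤ p ^ 3 := Nat.pow_le_pow_right hpp.pos (by norm_num)
  · have hj' : j = 2 := by omega
    rw [hj'] at hj
    have hgood := goodEpSq_of_normal hP B ⟨hBc, fun a _ => hexp a⟩ hj
    have h1 := hgood.2.2.2 ⊤
    rw [Subgroup.card_top] at h1
    have h2 : Nat.card ↥(⊤ ⊓ Subgroup.centralizer (B : Set P)) ≤ Nat.card B :=
      Subgroup.card_le_of_le (inf_le_right.trans hcent)
    calc Nat.card P ≤ p * Nat.card ↥(⊤ ⊓ Subgroup.centralizer (B : Set P)) := h1
      _ ≤ p * p ^ 2 := Nat.mul_le_mul_left p (h2.trans hj.le)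
      _ = p ^ 3 := by ring

/-- a `p`-group of order at most `p ^ 4` has class at most three -/
theorem class_le_three_of_card_le {P : Type u} [Group P] [Finite P] {p : ℕ} [Fact p.Prime]
    (hP : IsPGroup p P) (hcard : Nat.card P ≤ p ^ 4) :
    ⁅⁅commutator P, (⊤ : Subgroup P)⁆, (⊤ : Subgroup P)⁆ = ⊥ := by
  have hpp : p.Prime := Fact.out
  have hZ2 : commutator P ≤ Subgroup.upperCentralSeries P 2 := by
    obtain ⟨k, hk⟩ := hP.exists_card_eq
    have hk4 : k ≤ 4 := by
      rw [hk] at hcard
      exact (Nat.pow_le_pow_iff_right hpp.one_lt).mp hcard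
    rcases Nat.lt_or_ge k 3 with hlt | hge
    · have hidx : (⊥ : Subgroup P).index ≤ p ^ 2 := by
        rw [Subgroup.index_bot, hk]
        exact Nat.pow_le_pow_right hpp.pos (by omega)
      have h1 := commutator_le_of_index_le_sq hP ⊥ hidx
      exact h1.trans bot_le
    · obtain ⟨N, hNn, -, hNc⟩ := Cfsg.Agent.Lib.Helper2.NormalEpSq.exists_normal_le_card_pow' hP k ⊤
        (by rw [Subgroup.card_top]; exact hk) (k - 2) (by omega)
      haveI := hNn
      have hidx : N.index ≤ p ^ 2 := by
        have h1 := Subgroup.card_mul_index N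
        rw [hNc, hk] at h1
        have h2 : p ^ (k - 2) * p ^ 2 = p ^ k := by
          rw [← pow_add]
          congr 1
          omega
        have h3 : N.index = p ^ 2 :=
          Nat.eq_of_mul_eq_mul_left (pow_pos hpp.pos _) (h1.trans h2.symm)
        exact h3.le
      have h4 := commutator_le_of_index_le_sq hP N hidx
      have h5 : N ≤ Subgroup.upperCentralSeries P 2 :=
        Cfsg.Agent.S1453.normal_le_upperCentralSeries (p := p) 2 hP N (by
          rw [hNc]
          exact Nat.pow_le_pow_right hpp.pos (by omega))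
      exact h4.trans h5
  have hle : ⁅commutator P, (⊤ : Subgroup P)⁆ ≤ Subgroup.center P := by
    rw [Subgroup.commutator_le]
    intro c hc h _
    have h6 := hZ2 hc
    rw [show (2 : ℕ) = 1 + 1 from rfl, Subgroup.mem_upperCentralSeries_succ_iff] at h6
    have h7 := h6 h
    rw [Subgroup.upperCentralSeries_one] at h7
    exact h7
  rw [eq_bot_iff, Subgroup.commutator_le]
  intro x hx g _
  rw [Subgroup.mem_bot, commutatorElement_eq_one_iff_mul_comm]
  exact ((Subgroup.mem_center_iff.mp (hle hx)) g).symm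

theorem mul_pow_eq_one_of_rank_two_aux {p : ℕ} [Fact p.Prime] (hp : 3 < p) :
    ∀ (n : ℕ) (P : Type u) [Group P] [Finite P], Nat.card P ≤ n → IsPGroup p P →
      Cfsg.PRankLE p 2 P → ∀ x y : P, x ^ p = 1 → y ^ p = 1 → (x * y) ^ p = 1 := by
  have hpp : p.Prime := Fact.out
  intro n
  induction n with
  | zero =>
    intro P _ _ hcard
    exfalso
    have h1 := Nat.card_pos (α := P)
    omega
  | succ n ih =>
    intro P _ _ hcard hP hrk x y hx hy
    by_cases hgen : Subgroup.closure ({x, y} : Set P) = ⊤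
    swap
    · obtain ⟨H, hH⟩ : ∃ H : Subgroup P, H = Subgroup.closure ({x, y} : Set P) := ⟨_, rfl⟩
      have hxH : x ∈ H := hH ▸ Subgroup.subset_closure (by simp)
      have hyH : y ∈ H := hH ▸ Subgroup.subset_closure (by simp)
      have hne : H ≠ ⊤ := hH ▸ hgen
      have hHcard : Nat.card H ≤ n := by
        have h1 := Cfsg.Agent.Lib.Helper1.card_subgroup_lt_of_ne_top hne
        omega
      have h1 := ih ↥H hHcard (hP.to_subgroup H)
        (Cfsg.Agent.Lib.Helper9.pRankLE_of_injective H.subtype (Subgroup.subtype_injective H) hrk)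
        ⟨x, hxH⟩ ⟨y, hyH⟩ (Subtype.ext (by simpa using hx)) (Subtype.ext (by simpa using hy))
      have h2 := congrArg Subtype.val h1
      simpa using h2
    by_cases hxtop : Subgroup.zpowers x = ⊤
    · have hcomm : Commute x y := by
        have hy' : y ∈ Subgroup.zpowers x := by rw [hxtop]; exact Subgroup.mem_top y
        obtain ⟨k, rfl⟩ := Subgroup.mem_zpowers_iff.mp hy'
        exact (Commute.refl x).zpow_right k
      rw [hcomm.mul_pow, hx, hy, one_mul]
    obtain ⟨M, hMco, hxM⟩ := (eq_top_or_exists_le_coatom (Subgroup.zpowers x)).resolve_left hxtop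
    haveI hMn : M.Normal := Cfsg.Agent.Lib.Helper1.IsPGroup.normal_of_isCoatom hP hMco
    have hMne : M ≠ ⊤ := hMco.1
    have hMcard : Nat.card M ≤ n := by
      have h1 := Cfsg.Agent.Lib.Helper1.card_subgroup_lt_of_ne_top hMne
      omega
    have hMmul : ∀ a ∈ M, ∀ b ∈ M, a ^ p = 1 → b ^ p = 1 → (a * b) ^ p = 1 := by
      intro a ha b hb hap hbp
      have h1 := ih ↥M hMcard (hP.to_subgroup M)
        (Cfsg.Agent.Lib.Helper9.pRankLE_of_injective M.subtype (Subgroup.subtype_injective M) hrk)
        ⟨a, ha⟩ ⟨b, hb⟩ (Subtype.ext (by simpa using hap)) (Subtype.ext (by simpa using hbp))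
      have h2 := congrArg Subtype.val h1
      simpa using h2
    let N : Subgroup P :=
      { carrier := {z | z ∈ M ∧ z ^ p = 1}
        mul_mem' := by
          rintro a b ⟨ha, hap⟩ ⟨hb, hbp⟩
          exact ⟨mul_mem ha hb, hMmul a ha b hb hap hbp⟩
        one_mem' := ⟨one_mem _, one_pow _⟩
        inv_mem' := by
          rintro a ⟨ha, hap⟩
          exact ⟨inv_mem ha, by rw [inv_pow, hap, inv_one]⟩ }
    have hNmem : ∀ z, z ∈ N ↔ z ∈ M ∧ z ^ p = 1 := fun z => Iff.rfl
    haveI hNn : N.Normal := ⟨fun z hz g => by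
      rw [hNmem] at hz ⊢
      exact ⟨hMn.conj_mem z hz.1 g, by rw [conj_pow, hz.2, mul_one, mul_inv_cancel]⟩⟩
    have hNcard : Nat.card N ≤ p ^ 3 := by
      apply card_le_cube_of_pow_eq_one (hP.to_subgroup N)
        (Cfsg.Agent.Lib.Helper9.pRankLE_of_injective N.subtype (Subgroup.subtype_injective N) hrk)
      intro z
      exact Subtype.ext (by simpa using ((hNmem z.1).mp z.2).2)
    have hxN : x ∈ N := (hNmem x).mpr ⟨hxM (Subgroup.mem_zpowers x), hx⟩
    have hidx : N.index ≤ p := by
      have hgen' : Subgroup.zpowers (QuotientGroup.mk' N y) = ⊤ := by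
        rw [eq_top_iff, ← Subgroup.map_top_of_surjective (QuotientGroup.mk' N)
          (QuotientGroup.mk'_surjective N), ← hgen, MonoidHom.map_closure, Subgroup.closure_le]
        rintro _ ⟨w, hw, rfl⟩
        rcases hw with hw | hw
        · have h1 : QuotientGroup.mk' N w = 1 := by
            rw [hw]; exact (QuotientGroup.eq_one_iff x).mpr hxN
          rw [SetLike.mem_coe, h1]
          exact one_mem _
        · rw [Set.mem_singleton_iff] at hw
          rw [hw]
          exact Subgroup.mem_zpowers _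
      rw [Subgroup.index_eq_card, ← Subgroup.card_top (G := P ⧸ N), ← hgen', Nat.card_zpowers]
      apply Nat.le_of_dvd hpp.pos
      apply orderOf_dvd_of_pow_eq_one
      rw [← map_pow, hy, map_one]
    have hcard4 : Nat.card P ≤ p ^ 4 := by
      have h1 := Subgroup.card_mul_index N
      calc Nat.card P = Nat.card N * N.index := h1.symm
        _ ≤ p ^ 3 * p := Nat.mul_le_mul hNcard hidx
        _ = p ^ 4 := by ring
    have h4 := class_le_three_of_card_le hP hcard4
    have hp2 : p ∣ p.choose 2 := hpp.dvd_choose_self (by norm_num) (by omega)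
    have hp3 : p ∣ p.choose 3 := hpp.dvd_choose_self (by norm_num) (by omega)
    have hps := Cfsg.Agent.Lib.Helper1.ClassThree.prime_dvd_sum_sq hpp hp
    exact Cfsg.Agent.Lib.Helper1.ClassThree.mul_pow_eq_one h4 hp2 hp3 hps hx hy

/-- In a `p`-group of rank at most two, `p > 3`, the product of two elements of order dividing `p`
has order dividing `p`. -/
theorem mul_pow_eq_one_of_rank_two {p : ℕ} [Fact p.Prime] (hp : 3 < p) {P : Type u} [Group P]
    [Finite P] (hP : IsPGroup p P) (hrk : Cfsg.PRankLE p 2 P) (x y : P) (hx : x ^ p = 1)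
    (hy : y ^ p = 1) : (x * y) ^ p = 1 :=
  mul_pow_eq_one_of_rank_two_aux hp (Nat.card P) P le_rfl hP hrk x y hx hy

/-- the subgroup of the elements of order dividing `p`, given that they are closed under products -/
def omegaSet {P : Type*} [Group P] (p : ℕ)
    (hmul : ∀ x y : P, x ^ p = 1 → y ^ p = 1 → (x * y) ^ p = 1) : Subgroup P where
  carrier := {z | z ^ p = 1}
  mul_mem' := fun ha hb => hmul _ _ ha hb
  one_mem' := one_pow _
  inv_mem' := by
    intro a ha
    show a⁻¹ ^ p = 1
    rw [inv_pow, show a ^ p = 1 from ha, inv_one]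

theorem mem_omegaSet {P : Type*} [Group P] (p : ℕ)
    (hmul : ∀ x y : P, x ^ p = 1 → y ^ p = 1 → (x * y) ^ p = 1) (z : P) :
    z ∈ omegaSet p hmul ↔ z ^ p = 1 := Iff.rfl

theorem omegaSet_eq_omegaOne {P : Type*} [Group P] (p : ℕ)
    (hmul : ∀ x y : P, x ^ p = 1 → y ^ p = 1 → (x * y) ^ p = 1) :
    omegaSet p hmul = Cfsg.omegaOne p (⊤ : Subgroup P) := by
  apply le_antisymm
  · intro z hz
    exact Subgroup.subset_closure ⟨Subgroup.mem_top z, hz⟩
  · unfold Cfsg.omegaOne
    rw [Subgroup.closure_le]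
    rintro z ⟨-, hz⟩
    exact hz

theorem card_omegaSet_le {P : Type*} [Group P] [Finite P] {p : ℕ} [Fact p.Prime]
    (hP : IsPGroup p P) (hrk : Cfsg.PRankLE p 2 P)
    (hmul : ∀ x y : P, x ^ p = 1 → y ^ p = 1 → (x * y) ^ p = 1) :
    Nat.card (omegaSet p hmul) ≤ p ^ 3 := by
  apply card_le_cube_of_pow_eq_one (hP.to_subgroup _)
    (Cfsg.Agent.Lib.Helper9.pRankLE_of_injective (omegaSet p hmul).subtype
      (Subgroup.subtype_injective _) hrk)
  intro z
  exact Subtype.ext (by simpa using (mem_omegaSet p hmul z.1).mp z.2)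

end Cfsg.Agent.Lib.Helper10
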