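import Mathlib
import Cfsg.Prelude
import Cfsg.Agent.Lib.Helper10.BGTwelveB
import Cfsg.Agent.Lib.Helper29.BGExcPG
import Cfsg.Agent.Lib.Helper1.NoncyclicAbelian
import Cfsg.Agent.Lib.Helper10.PStableOdd
import Cfsg.Agent.Lib.Helper10.OmegaCentralize

/-!
# Bender--Glauberman, Proposition 12.4: auxiliary lemmas

Automorphisms of groups of prime order, `Ω₁(Z(S))`, coprime generation by an elementary abelian
group of order `p ^ 2`.
-/

set_option autoImplicit false
open Cfsg
open scoped commutatorElement Pointwise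
open Cfsg.Agent.Lib.Helper9.BGExc
open Cfsg.Agent.Lib.Helper29.BGExc (omegaZ mem_omegaZ omegaZ_le omegaZ_ne_bot)
open Cfsg.Agent.Lib.Helper1 (CoprimeAct)

namespace Cfsg.Agent.Lib.Helper10.BG

variable {G : Type*} [Group G]

section PrimeOrder

/-- an element acting trivially under the conjugation homomorphism centralizes. -/
theorem mem_centralizer_of_conjActHom_eq_one {X L : Subgroup G}
    (hL : L ≤ Subgroup.normalizer (X : Set G)) {a : ↥L}
    (h : Cfsg.Agent.Lib.Helper10.conjActHom X L hL a = 1) :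
    (a : G) ∈ Subgroup.centralizer (X : Set G) := by
  rw [Subgroup.mem_centralizer_iff]
  intro x hx
  have h1 : Cfsg.Agent.Lib.Helper10.conjActHom X L hL a ⟨x, hx⟩ = ⟨x, hx⟩ := by
    rw [h]
    rfl
  have h2 := congrArg Subtype.val h1
  rw [Cfsg.Agent.Lib.Helper10.conjActHom_apply] at h2
  have h3 : (a : G) * x * (a : G)⁻¹ = x := h2
  calc x * (a : G) = ((a : G) * x * (a : G)⁻¹) * a := by rw [h3]
    _ = a * x := by group

/-- the automorphism group of a group of prime order is cyclic. -/
theorem isCyclic_mulAut_of_card_prime {X : Type*} [Group X] [Finite X] {s : ℕ} [Fact s.Prime]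
    (h : Nat.card X = s) : IsCyclic (MulAut X) := by
  have hc : IsCyclic X := isCyclic_of_prime_card h
  have h1 : IsCyclic (ZMod (Nat.card X))ˣ := by
    rw [h]
    infer_instance
  exact isCyclic_of_injective (IsCyclic.mulAutMulEquiv X).toMonoidHom
    (IsCyclic.mulAutMulEquiv X).injective

variable [Finite G]

/-- an element of order prime to `s - 1` normalizing a subgroup of prime order `s`
centralizes it. -/
theorem mem_centralizer_of_coprime_pred {X : Subgroup G} {s : ℕ} [Fact s.Prime]
    (hX : Nat.card X = s) {a : G} (ha : a ∈ Subgroup.normalizer (X : Set G)) {n : ℕ}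
    (han : a ^ n = 1) (hn : n.Coprime (s - 1)) : a ∈ Subgroup.centralizer (X : Set G) := by
  have hs : s.Prime := Fact.out
  have hL : Subgroup.zpowers a ≤ Subgroup.normalizer (X : Set G) := Subgroup.zpowers_le.mpr ha
  obtain ⟨α, hα⟩ : ∃ α : MulAut ↥X, α = Cfsg.Agent.Lib.Helper10.conjActHom X (Subgroup.zpowers a) hL
    ⟨a, Subgroup.mem_zpowers a⟩ := ⟨_, rfl⟩
  have hc : IsCyclic ↥X := isCyclic_of_prime_card hX
  have h1 : α ^ n = 1 := by
    rw [hα, ← map_pow]
    have : (⟨a, Subgroup.mem_zpowers a⟩ : ↥(Subgroup.zpowers a)) ^ n = 1 := by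
      apply Subtype.ext
      rw [Subgroup.coe_pow, Subgroup.coe_one]
      exact han
    rw [this, map_one]
  have h2 : α ^ (s - 1) = 1 := by
    have h3 : Nat.card (MulAut ↥X) = s - 1 := by
      rw [IsCyclic.card_mulAut, hX, Nat.totient_prime hs]
    rw [← h3]
    exact pow_card_eq_one'
  have h3 : α = 1 := by
    have h4 := orderOf_dvd_of_pow_eq_one h1
    have h5 := orderOf_dvd_of_pow_eq_one h2
    exact orderOf_eq_one_iff.mp (Nat.eq_one_of_dvd_coprimes hn h4 h5)
  exact mem_centralizer_of_conjActHom_eq_one hL (hα ▸ h3)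

/-- a `p`-element normalizing a subgroup of order `p` centralizes it. -/
theorem mem_centralizer_of_pow_prime {X : Subgroup G} {p : ℕ} [Fact p.Prime]
    (hX : Nat.card X = p) {a : G} (ha : a ∈ Subgroup.normalizer (X : Set G))
    (hap : a ^ p = 1) : a ∈ Subgroup.centralizer (X : Set G) := by
  have hp : p.Prime := Fact.out
  apply mem_centralizer_of_coprime_pred hX ha hap
  rw [Nat.Prime.coprime_iff_not_dvd hp]
  intro hd
  have := Nat.le_of_dvd (by have := hp.two_le; omega) hd
  have := hp.two_le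
  omega

/-- if an element of prime order `p` normalizes but does not centralize a subgroup of prime
order `s`, then `p < s`. -/
theorem lt_of_not_mem_centralizer {X : Subgroup G} {s p : ℕ} [Fact s.Prime] (hp : p.Prime)
    (hX : Nat.card X = s) {a : G} (ha : a ∈ Subgroup.normalizer (X : Set G))
    (hap : a ^ p = 1) (hac : a ∉ Subgroup.centralizer (X : Set G)) : p < s := by
  have hs : s.Prime := Fact.out
  by_contra hlt
  apply hac
  apply mem_centralizer_of_coprime_pred hX ha hap
  rw [Nat.Prime.coprime_iff_not_dvd hp]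
  intro hd
  have h2 := hs.two_le
  have := Nat.le_of_dvd (by omega) hd
  omega

/-- a noncyclic group normalizing a subgroup of prime order has a nontrivial element
centralizing it. -/
theorem exists_ne_one_mem_centralizer_of_not_isCyclic {X A : Subgroup G} {s : ℕ} [Fact s.Prime]
    (hX : Nat.card X = s) (hAX : A ≤ Subgroup.normalizer (X : Set G)) (hA : ¬ IsCyclic ↥A) :
    ∃ a ∈ A, a ≠ 1 ∧ a ∈ Subgroup.centralizer (X : Set G) := by
  have hc : IsCyclic (MulAut ↥X) := isCyclic_mulAut_of_card_prime hX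
  have hninj : ¬ Function.Injective (Cfsg.Agent.Lib.Helper10.conjActHom X A hAX) := by
    intro hinj
    exact hA (isCyclic_of_injective _ hinj)
  rw [injective_iff_map_eq_one] at hninj
  push Not at hninj
  obtain ⟨a, ha1, hane⟩ := hninj
  refine ⟨a, a.2, ?_, mem_centralizer_of_conjActHom_eq_one hAX ha1⟩
  intro h
  apply hane
  exact Subtype.ext h

end PrimeOrder

section ElementarySq

variable [Finite G] {p : ℕ} [Fact p.Prime] {A : Subgroup G}

omit [Finite G] in
/-- an elementary abelian group of order `p ^ 2` is not cyclic. -/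
theorem not_isCyclic_of_elementary_sq (hAe : IsElementaryAbelian p A)
    (hAcard : Nat.card A = p ^ 2) : ¬ IsCyclic ↥A := by
  have hp : p.Prime := Fact.out
  intro hc
  obtain ⟨g, hg⟩ := hc.exists_generator
  have h1 : orderOf g = Nat.card ↥A := orderOf_eq_card_of_forall_mem_zpowers hg
  have h2 : g ^ p = 1 := by
    apply Subtype.ext
    rw [Subgroup.coe_pow, Subgroup.coe_one]
    exact hAe.2 g g.2
  have h3 : orderOf g ∣ p := orderOf_dvd_of_pow_eq_one h2
  rw [h1, hAcard] at h3
  have h4 := Nat.le_of_dvd hp.pos h3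
  have h5 : p * 2 ≤ p * p := Nat.mul_le_mul_left p hp.two_le
  have h6 : 0 < p := hp.pos
  nlinarith [sq p]

omit [Finite G] in
/-- a nontrivial element of an elementary abelian `p`-group generates a subgroup of order `p`. -/
theorem card_zpowers_of_elementary (hAe : IsElementaryAbelian p A) {a : G} (ha : a ∈ A)
    (ha1 : a ≠ 1) : Nat.card (Subgroup.zpowers a) = p := by
  have hp : p.Prime := Fact.out
  rw [Nat.card_zpowers]
  have h1 : orderOf a ∣ p := orderOf_dvd_of_pow_eq_one (hAe.2 a ha)
  rcases (Nat.dvd_prime hp).mp h1 with h | h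
  · exact absurd (orderOf_eq_one_iff.mp h) ha1
  · exact h

/-- coprime generation: a subgroup `K` normalized by an elementary abelian group `A` of order
`p ^ 2`, with `p ∤ |K|`, lies in any subgroup containing all `C_K(a)`, `a ∈ A - 1`. -/
theorem le_of_forall_inf_centralizer_le {K T : Subgroup G} (hAe : IsElementaryAbelian p A)
    (hAcard : Nat.card A = p ^ 2) (hAK : A ≤ Subgroup.normalizer (K : Set G))
    (hcop : (Nat.card K).Coprime p)
    (h : ∀ a ∈ A, a ≠ 1 → K ⊓ Subgroup.centralizer {a} ≤ T) : K ≤ T := by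
  have hc : IsMulCommutative ↥A := hAe.1
  have hcop' : (Nat.card A).Coprime (Nat.card K) := by
    rw [hAcard]
    exact Nat.Coprime.pow_left 2 hcop.symm
  have h1 := Cfsg.Agent.Lib.Helper1.iSup_inf_centralizer_eq_of_not_isCyclic A K
    (not_isCyclic_of_elementary_sq hAe hAcard) hAK hcop'
  rw [← h1]
  exact iSup₂_le fun a ha => h a ha.1 ha.2

end ElementarySq

section OmegaZ

/-- `Ω₁(Z(S))` is normalized by the normalizer of `S`. -/
theorem normalizer_le_normalizer_omegaZ (p : ℕ) (S : Subgroup G) :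
    Subgroup.normalizer (S : Set G) ≤ Subgroup.normalizer ((omegaZ p S : Subgroup G) : Set G) := by
  apply le_normalizer_of_conj_mem
  intro n hn z hz
  obtain ⟨hzS, hzc, hzp⟩ := mem_omegaZ.mp hz
  refine mem_omegaZ.mpr ⟨conj_mem_of_mem_normalizer hn hzS, ?_, ?_⟩
  · intro s hs
    have hs' : n⁻¹ * s * n ∈ S := conj_mem_of_mem_normalizer' hn hs
    have h3 := hzc _ hs'
    calc s * (n * z * n⁻¹) = n * ((n⁻¹ * s * n) * z) * n⁻¹ := by group
      _ = n * (z * (n⁻¹ * s * n)) * n⁻¹ := by rw [h3]
      _ = n * z * n⁻¹ * s := by group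
  · rw [conj_pow, hzp]
    group

/-- `Ω₁(Z(S))` is elementary abelian. -/
theorem isElementaryAbelian_omegaZ (p : ℕ) (S : Subgroup G) :
    IsElementaryAbelian p (omegaZ p S) := by
  refine ⟨⟨⟨?_⟩⟩, fun a ha => (mem_omegaZ.mp ha).2.2⟩
  rintro ⟨a, ha⟩ ⟨b, hb⟩
  apply Subtype.ext
  show a * b = b * a
  exact (mem_omegaZ.mp hb).2.1 a (mem_omegaZ.mp ha).1

/-- in an abelian group every element of order dividing `p` lies in `Ω₁(Z(S))`. -/
theorem mem_omegaZ_of_comm {p : ℕ} {S : Subgroup G} (hS : ∀ x ∈ S, ∀ y ∈ S, x * y = y * x)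
    {z : G} (hz : z ∈ S) (hzp : z ^ p = 1) : z ∈ omegaZ p S :=
  mem_omegaZ.mpr ⟨hz, fun s hs => hS s hs z hz, hzp⟩

variable [Finite G]

omit [Finite G] in
/-- an elementary abelian subgroup of `X` has order at most `p ^ k` if `X` has `p`-rank at most
`k`. -/
theorem card_le_of_pRankLE {p k : ℕ} {B X : Subgroup G} (hBX : B ≤ X)
    (hBe : IsElementaryAbelian p B) (h : PRankLE p k ↥X) : Nat.card B ≤ p ^ k := by
  by_contra hlt
  rw [not_le] at hlt
  exact not_pRankLE_of_le hBX hBe hlt h

/-- a nontrivial normal elementary abelian `r`-subgroup of `M` has order `r` if `r ∉ σ(M)`. -/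
theorem card_eq_prime_of_normal_elementary (hG : IsMinSimpleOddOrder G) {M : Subgroup G}
    (hM : IsCoatom M) {r : ℕ} [Fact r.Prime] (hr : r ∉ sigma M) {Z : Subgroup G} (hZM : Z ≤ M)
    (hMZ : M ≤ Subgroup.normalizer (Z : Set G)) (hZe : IsElementaryAbelian r Z) (hZ1 : Z ≠ ⊥) :
    Nat.card Z = r := by
  have hrp : r.Prime := Fact.out
  have hr2 : PRankLE r 2 ↥M := alpha_rank M r hrp (fun h => hr (alpha_subset_sigma hG hM h))
  have hle : Nat.card Z ≤ r ^ 2 := card_le_of_pRankLE hZM hZe hr2
  have hZp : IsPGroup r Z := Cfsg.Agent.Lib.Lead.BGTrans.isPGroup_of_pow_eq_one hZe.2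
  obtain ⟨k, hk⟩ := hZp.exists_card_eq
  have hk0 : k ≠ 0 := by
    rintro rfl
    rw [pow_zero] at hk
    exact hZ1 (Subgroup.card_eq_one.mp hk)
  have hk2 : k ≤ 2 := by
    rw [hk] at hle
    exact (Nat.pow_le_pow_iff_right hrp.one_lt).mp hle
  have hk2' : k ≠ 2 := by
    rintro rfl
    exact no_normal_elementary_sq hG hM hr hZM hMZ hZe hk
  have hk1 : k = 1 := by omega
  rw [hk, hk1, pow_one]

omit [Finite G] in
/-- a normal `q`-subgroup of `X` lies in every maximal `q`-subgroup of `X`. -/
theorem le_isSylowIn_of_le_normalizer {q : ℕ} [Fact q.Prime] {X S N : Subgroup G}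
    (hS : IsSylowIn q S X) (hNX : N ≤ X) (hN : IsPGroup q N)
    (hXN : X ≤ Subgroup.normalizer (N : Set G)) : N ≤ S := by
  have h1 : IsPGroup q ↥(N ⊔ S) := hN.to_sup_of_normal_left' hS.isPGroup (hS.le.trans hXN)
  have h2 := hS.eq_of_le (sup_le hNX hS.le) h1 le_sup_right
  rw [← h2]
  exact le_sup_left

end OmegaZ

end Cfsg.Agent.Lib.Helper10.BG
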