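import Mathlib
import Cfsg.Prelude
import Cfsg.Agent.Lib.Helper10.BGTwelveC
import Cfsg.Agent.Lib.Helper9.BGHallFus
import Cfsg.Agent.S1403
import Cfsg.Agent.S1405
import Cfsg.Agent.S1406

/-!
# Bender--Glauberman, Proposition 12.4 and Theorem 12.5 (e)

The results of Section 11 on exceptional maximal subgroups enter as the hypothesis `Sec11 G`.
-/

set_option autoImplicit false
open Cfsg
open scoped commutatorElement Pointwise
open Cfsg.Agent.Lib.Helper9.BGExc
open Cfsg.Agent.Lib.Helper29.BGExc (omegaZ mem_omegaZ omegaZ_le omegaZ_ne_bot)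
open Cfsg.Agent.Lib.Helper1 (CoprimeAct)

namespace Cfsg.Agent.Lib.Helper10.BG

variable {G : Type*} [Group G]

/-- the results of B & G, Section 11, on exceptional maximal subgroups: the Sylow subgroups are
abelian (11.4), `C_{M_σ}(A) = 1` (11.5) and `M_σ A ⊴ M` (11.7). -/
structure Sec11 (G : Type*) [Group G] : Prop where
  abelian : ∀ {M : Subgroup G} {s : ℕ} [Fact s.Prime] {B₀ B : Subgroup G}, Exc M s B₀ B →
    ∀ P : Subgroup G, IsSylowIn s P M → ∀ x ∈ P, ∀ y ∈ P, x * y = y * x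
  regular : ∀ {M : Subgroup G} {s : ℕ} [Fact s.Prime] {B₀ B : Subgroup G}, Exc M s B₀ B →
    sigmaCore M ⊓ Subgroup.centralizer (B : Set G) = ⊥
  normal : ∀ {M : Subgroup G} {s : ℕ} [Fact s.Prime] {B₀ B : Subgroup G}, Exc M s B₀ B →
    M ≤ Subgroup.normalizer ((sigmaCore M ⊔ B : Subgroup G) : Set G)

/-- hypothesis (H) in the proof of Proposition 12.4: every subgroup of order `p` of `A` has its
normalizer in a maximal subgroup other than `M`. -/
def HypH (M A : Subgroup G) (p : ℕ) : Prop :=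
  ∀ Y : Subgroup G, Y ≤ A → Nat.card Y = p →
    ∃ L : Subgroup G, IsCoatom L ∧ L ≠ M ∧ Subgroup.normalizer (Y : Set G) ≤ L

/-- Theorem 12.5 (e) for the prime `s`. -/
def Thm125e (G : Type*) [Group G] (s : ℕ) : Prop :=
  ∀ (M B₀ B L : Subgroup G), Exc M s B₀ B → IsCoatom L → L ≠ M → B ≤ L → sigmaCore M ⊓ L = ⊥

/-- the statement of Proposition 12.4 for the prime `p`. -/
def Prop124 (G : Type*) [Group G] (p : ℕ) : Prop :=
  ∀ (M A : Subgroup G), IsCoatom M → A ≤ M → IsElementaryAbelian p A → Nat.card A = p ^ 2 →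
    Subgroup.centralizer (A : Set G) ≤ M ∧
      ((∀ A₀ : Subgroup G, A₀ ≤ A → Nat.card A₀ = p →
          ¬ (Subgroup.normalizer (A₀ : Set G) ≤ M ∧
            ∀ L : Subgroup G, IsCoatom L → Subgroup.normalizer (A₀ : Set G) ≤ L → L = M)) →
        p ∈ sigma M ∧ alphaCore M = ⊥ ∧ Group.IsNilpotent (sigmaCore M))

theorem mem_centralizer_bot (a : G) : a ∈ Subgroup.centralizer (((⊥ : Subgroup G) : Set G)) := by
  rw [Subgroup.mem_centralizer_iff]
  intro x hx
  have hx1 : x = 1 := Subgroup.mem_bot.mp hx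
  rw [hx1, one_mul, mul_one]

variable [Finite G]

section Step1

variable {M A : Subgroup G} {p : ℕ} [Fact p.Prime]

/-- Proposition 12.4, Step 1: under (H), `p ∈ σ(M)`. -/
theorem mem_sigma_of_hypH (hG : IsMinSimpleOddOrder G) (h11 : Sec11 G)
    (hM : IsCoatom M) (hAM : A ≤ M) (hAe : IsElementaryAbelian p A)
    (hAcard : Nat.card A = p ^ 2) (hH : HypH M A p)
    (hIH : ∀ s : ℕ, s.Prime → p < s → Thm125e G s) : p ∈ sigma M := by
  by_contra hpσ
  have hpp : p.Prime := Fact.out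
  have hmaxEA : MaxEA p A := ⟨hAe, fun B hB hAB =>
    Cfsg.Agent.Lib.Helper9.BG10.elementary_sq_maximal hG hM hpσ hAM hAe hAcard hB hAB⟩
  have hAp : IsPGroup p A := IsPGroup.of_card hAcard
  have hA1 : A ≠ ⊥ := by
    intro h
    rw [h, Subgroup.card_bot] at hAcard
    have : 1 < p ^ 2 := Nat.one_lt_pow (by norm_num) hpp.one_lt
    omega
  have hMσ1 : sigmaCore M ≠ ⊥ := sigmaCore_ne_bot hG hM
  have hMσp : (Nat.card (sigmaCore M)).Coprime p := coprime_card_sigmaCore hG hM hpp hpσ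
  have hAMσ : A ≤ Subgroup.normalizer (sigmaCore M : Set G) :=
    hAM.trans (le_normalizer_sigmaCore M)
  -- `A` centralizes `M_σ`
  have hcent : sigmaCore M ≤ Subgroup.centralizer (A : Set G) := by
    apply le_of_forall_inf_centralizer_le hAe hAcard hAMσ hMσp
    intro a ha ha1
    obtain ⟨L, hL, hLM, hNL⟩ := hH _ (Subgroup.zpowers_le.mpr ha)
      (card_zpowers_of_elementary hAe ha ha1)
    have h123 := (lemma_12_3 hG hM hL (Ne.symm hLM) (Subgroup.zpowers_le.mpr ha) hAM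
      (card_zpowers_of_elementary hAe ha ha1) hAcard hAe hNL (fun h => h11.normal h)).1 hpσ
    intro x hx
    have hxL : x ∈ L := by
      apply hNL
      apply Subgroup.centralizer_le_normalizer
      rw [centralizer_zpowers]
      exact (Subgroup.mem_inf.mp hx).2
    have hxD : x ∈ sigmaCore M ⊓ L := Subgroup.mem_inf.mpr ⟨(Subgroup.mem_inf.mp hx).1, hxL⟩
    exact le_centralizer_symm h123 hxD
  have hAcentMσ : A ≤ Subgroup.centralizer (sigmaCore M : Set G) := le_centralizer_symm hcent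
  obtain ⟨C, hC⟩ : ∃ C, C = M ⊓ Subgroup.centralizer (sigmaCore M : Set G) := ⟨_, rfl⟩
  have hCM : C ≤ M := hC ▸ inf_le_left
  have hCcent : C ≤ Subgroup.centralizer (sigmaCore M : Set G) := hC ▸ inf_le_right
  have hAC : A ≤ C := hC ▸ le_inf hAM hAcentMσ
  have hMC : M ≤ Subgroup.normalizer (C : Set G) := by
    rw [hC]
    exact le_normalizer_inf Subgroup.le_normalizer
      (le_normalizer_centralizer (le_normalizer_sigmaCore M))
  have hCtop : C ≠ ⊤ := ne_top_of_le_isCoatom hM hCM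
  have hCsolv : Group.IsSolvable C := isSolvable_of_ne_top hG hCtop
  by_cases hV : pCoreOf p C = ⊥
  swap
  · -- case (i): `O_p(C) ≠ 1`
    obtain ⟨V, hVdef⟩ : ∃ V, V = pCoreOf p C := ⟨_, rfl⟩
    rw [← hVdef] at hV
    have hVp : IsPGroup p V := hVdef ▸ isPGroup_pCoreOf p C
    have hVM : V ≤ M := hVdef ▸ (pCoreOf_le p C).trans hCM
    have hMV : M ≤ Subgroup.normalizer (V : Set G) :=
      hVdef ▸ hMC.trans (normalizer_le_normalizer_pCoreOf p C)
    obtain ⟨Z, hZdef⟩ : ∃ Z, Z = omegaZ p V := ⟨_, rfl⟩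
    have hZ1 : Z ≠ ⊥ := hZdef ▸ omegaZ_ne_bot hVp hV
    have hZe : IsElementaryAbelian p Z := hZdef ▸ isElementaryAbelian_omegaZ p V
    have hZM : Z ≤ M := hZdef ▸ (omegaZ_le p V).trans hVM
    have hMZ : M ≤ Subgroup.normalizer (Z : Set G) :=
      hZdef ▸ hMV.trans (normalizer_le_normalizer_omegaZ p V)
    have hZcard : Nat.card Z = p :=
      card_eq_prime_of_normal_elementary hG hM hpσ hZM hMZ hZe hZ1
    have hZA : Z ≤ A := by
      intro z hz
      apply hmaxEA.mem_of_mem_centralizer _ (hZe.2 z hz)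
      rw [Subgroup.mem_centralizer_iff]
      intro a ha
      have h1 : a ∈ Subgroup.centralizer (Z : Set G) :=
        mem_centralizer_of_pow_prime hZcard (hMZ (hAM ha)) (hAe.2 a ha)
      exact (Subgroup.mem_centralizer_iff.mp h1 z hz).symm
    obtain ⟨L, hL, hLM, hNL⟩ := hH Z hZA hZcard
    have hNZ : Subgroup.normalizer (Z : Set G) = M :=
      normalizer_eq_of_isCoatom' hG hM hZ1 hZM hMZ
    rw [hNZ] at hNL
    exact hLM (eq_of_isCoatom_of_le hM hL hNL)
  -- case (ii): `O_p(C) = 1`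
  have hex : ∃ s : ℕ, s.Prime ∧ ¬ A ≤ Subgroup.centralizer (pCoreOf s C : Set G) := by
    by_contra hcon
    push Not at hcon
    have h1 : A ≤ Subgroup.centralizer (fittingOf C : Set G) := by
      intro a ha
      rw [fittingOf_eq_iSup, mem_centralizer_iSup_iff]
      intro q
      exact hcon q q.2 ha
    have h2 : A ≤ fittingOf C := fun a ha =>
      inf_centralizer_fittingOf_le C hCsolv (Subgroup.mem_inf.mpr ⟨hAC ha, h1 ha⟩)
    have h3 : A ≤ pCoreOf p C := pgroup_le_pCoreOf_of_le_fittingOf hpp h2 hAp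
    rw [hV] at h3
    exact hA1 (le_bot_iff.mp h3)
  obtain ⟨s, hs, hsA⟩ := hex
  have : Fact s.Prime := ⟨hs⟩
  obtain ⟨Vs, hVsdef⟩ : ∃ Vs, Vs = pCoreOf s C := ⟨_, rfl⟩
  rw [← hVsdef] at hsA
  have hVs1 : Vs ≠ ⊥ := by
    intro h
    apply hsA
    rw [h]
    exact fun a _ => mem_centralizer_bot a
  have hsp : s ≠ p := by
    rintro rfl
    exact hVs1 (hVsdef.trans hV)
  have hVsp : IsPGroup s Vs := hVsdef ▸ isPGroup_pCoreOf s C
  have hVsC : Vs ≤ C := hVsdef ▸ pCoreOf_le s C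
  have hVsM : Vs ≤ M := hVsC.trans hCM
  have hMVs : M ≤ Subgroup.normalizer (Vs : Set G) :=
    hVsdef ▸ hMC.trans (normalizer_le_normalizer_pCoreOf s C)
  have hsσ : s ∉ sigma M := by
    intro hsσ
    apply hsA
    have h1 : Vs ≤ sigmaCore M := pgroup_le_sigmaCore hG hM hsσ hVsp hVsM
    exact hAcentMσ.trans (Subgroup.centralizer_le h1)
  have hs2 : s ≠ 2 := prime_ne_two_of_pgroup hG hVsp hVs1
  -- the subgroup `B₀ = Ω₁(Z(V_s))`
  obtain ⟨B₀, hB₀def⟩ : ∃ B₀, B₀ = omegaZ s Vs := ⟨_, rfl⟩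
  have hB₀1 : B₀ ≠ ⊥ := hB₀def ▸ omegaZ_ne_bot hVsp hVs1
  have hB₀e : IsElementaryAbelian s B₀ := hB₀def ▸ isElementaryAbelian_omegaZ s Vs
  have hB₀Vs : B₀ ≤ Vs := hB₀def ▸ omegaZ_le s Vs
  have hB₀M : B₀ ≤ M := hB₀Vs.trans hVsM
  have hMB₀ : M ≤ Subgroup.normalizer (B₀ : Set G) :=
    hB₀def ▸ hMVs.trans (normalizer_le_normalizer_omegaZ s Vs)
  have hB₀card : Nat.card B₀ = s :=
    card_eq_prime_of_normal_elementary hG hM hsσ hB₀M hMB₀ hB₀e hB₀1
  have hNB₀ : Subgroup.normalizer (B₀ : Set G) = M :=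
    normalizer_eq_of_isCoatom' hG hM hB₀1 hB₀M hMB₀
  obtain ⟨-, -, B, hBe, hBcard, hB₀B⟩ :=
    Cfsg.Agent.Lib.Helper9.BG10.lemma_10_6 hG hM hsσ hB₀card hNB₀.le
  have hBM : B ≤ M := le_of_normalizer_le_of_elementary hB₀B hBe hNB₀.le
  have hExc : Exc M s B₀ B := ⟨hM, hsσ, hB₀B, hBM, hB₀card, hBcard, hBe, hNB₀.le⟩
  -- `V_s` is abelian
  obtain ⟨P, hP, hVsP⟩ := exists_isSylowIn_ge hVsM hVsp
  have hVscomm : ∀ x ∈ Vs, ∀ y ∈ Vs, x * y = y * x := fun x hx y hy =>
    h11.abelian hExc P hP x (hVsP hx) y (hVsP hy)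
  -- `A` does not centralize `B₀`
  have hAB₀ : ¬ A ≤ Subgroup.centralizer (B₀ : Set G) := by
    intro hcon
    apply hsA
    apply Cfsg.Agent.Lib.Helper10.le_centralizer_of_centralizes_order_p s hs2 A Vs ?_ hVsp
      (hAM.trans hMVs) ?_
    · rw [hAcard]
      exact Nat.Coprime.pow_left 2 ((Nat.coprime_primes hpp hs).mpr (Ne.symm hsp))
    · intro x hx hxo a ha
      have hxB₀ : x ∈ B₀ := by
        rw [hB₀def]
        exact mem_omegaZ_of_comm hVscomm hx (hxo ▸ pow_orderOf_eq_one x)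
      exact (Subgroup.mem_centralizer_iff.mp (hcon ha) x hxB₀).symm
  obtain ⟨a₀, ha₀, ha₀c⟩ := SetLike.not_le_iff_exists.mp hAB₀
  have hps : p < s :=
    lt_of_not_mem_centralizer hpp hB₀card (hMB₀ (hAM ha₀)) (hAe.2 a₀ ha₀) ha₀c
  -- a subgroup `Y` of order `p` of `A` centralizing `B₀`
  obtain ⟨a₁, ha₁, ha₁1, ha₁c⟩ := exists_ne_one_mem_centralizer_of_not_isCyclic hB₀card
    (hAM.trans hMB₀) (not_isCyclic_of_elementary_sq hAe hAcard)
  obtain ⟨Y, hYdef⟩ : ∃ Y, Y = Subgroup.zpowers a₁ := ⟨_, rfl⟩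
  have hYA : Y ≤ A := hYdef ▸ Subgroup.zpowers_le.mpr ha₁
  have hYM : Y ≤ M := hYA.trans hAM
  have hYcard : Nat.card Y = p := hYdef ▸ card_zpowers_of_elementary hAe ha₁ ha₁1
  have hYB₀ : Y ≤ Subgroup.centralizer (B₀ : Set G) := hYdef ▸ Subgroup.zpowers_le.mpr ha₁c
  have hYMσ : Y ≤ Subgroup.centralizer (sigmaCore M : Set G) := hYA.trans hAcentMσ
  obtain ⟨L, hL, hLM, hNL⟩ := hH Y hYA hYcard
  have hCYL : Subgroup.centralizer (Y : Set G) ≤ L :=
    (Subgroup.centralizer_le_normalizer _).trans hNL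
  have hMσL : sigmaCore M ≤ L := (le_centralizer_symm hYMσ).trans hCYL
  -- a `Y`-invariant conjugate `B'` of `B` in `M_σ B`
  obtain ⟨K, hKdef⟩ : ∃ K, K = B ⊔ sigmaCore M := ⟨_, rfl⟩
  have hMK : M ≤ Subgroup.normalizer (K : Set G) := by
    rw [hKdef, sup_comm]
    exact h11.normal hExc
  have hKM : K ≤ M := hKdef ▸ sup_le hBM (sigmaCore_le M)
  have hMσs : (Nat.card (sigmaCore M)).Coprime s := coprime_card_sigmaCore hG hM hs hsσ
  have hactB : CoprimeAct B (sigmaCore M) :=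
    hExc.coprimeAct hG (hBM.trans (le_normalizer_sigmaCore M)) hMσs
  have hKcard : Nat.card K = Nat.card (sigmaCore M) * s ^ 2 := by
    have h1 := hactB.complement.card_mul_card
    rw [hactB.card_subgroupOf_left, hactB.card_subgroupOf_right, hBcard] at h1
    rw [hKdef]
    exact h1.symm
  have hps' : p.Coprime s := (Nat.coprime_primes hpp hs).mpr (Ne.symm hsp)
  have hYsolv : Group.IsSolvable Y := isSolvable_of_ne_top hG (ne_top_of_le_isCoatom hM hYM)
  have hactY : CoprimeAct Y K := by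
    refine ⟨hYM.trans hMK, ?_, Or.inl hYsolv⟩
    rw [hYcard, hKcard]
    exact Nat.Coprime.mul_right hMσp.symm (Nat.Coprime.pow_right 2 hps')
  have hBp : IsPGroup s B := IsPGroup.of_card hBcard
  have hBsyl : IsSylowIn s B K := by
    apply isSylowIn_of_card_ge (hKdef ▸ le_sup_left) hBp
    intro Q hQK hQ _
    obtain ⟨j, hj⟩ := hQ.exists_card_eq
    have h1 : s ^ j ∣ Nat.card (sigmaCore M) * s ^ 2 := by
      rw [← hj, ← hKcard]
      exact Subgroup.card_dvd_of_le hQK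
    have h2 : s ^ j ∣ s ^ 2 := (Nat.Coprime.pow_left j hMσs.symm).dvd_of_dvd_mul_left h1
    rw [hj, hBcard]
    exact Nat.le_of_dvd (pow_pos hs.pos 2) h2
  obtain ⟨B', hB', hYB'⟩ := coprime_exists_isSylowIn hactY s
  obtain ⟨x, hxK, hx⟩ := hBsyl.exists_conj hB'
  have hxM : x ∈ M := hKM hxK
  have hB'e : IsElementaryAbelian s B' := hx ▸ isElementaryAbelian_map _ hBe
  have hB'card : Nat.card B' = s ^ 2 := by
    rw [hx, Subgroup.card_map_of_injective (MulAut.conj x).injective, hBcard]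
  have hB₀B' : B₀ ≤ B' := by
    have h1 : cj x B₀ = B₀ := cj_eq_self_of_mem_normalizer (hMB₀ hxM)
    rw [← h1, hx]
    exact cj_mono x hB₀B
  have hB'M : B' ≤ M := hB'.le.trans hKM
  have hExc' : Exc M s B₀ B' := ⟨hM, hsσ, hB₀B', hB'M, hB₀card, hB'card, hB'e, hNB₀.le⟩
  -- `[B', Y] ≤ B₀`
  obtain ⟨B₁, hB₁def⟩ : ∃ B₁, B₁ = B' ⊓ Subgroup.centralizer (sigmaCore M : Set G) := ⟨_, rfl⟩
  have hcomm1 : ⁅B', Y⁆ ≤ B₁ := by
    rw [hB₁def]
    refine le_inf (Cfsg.Agent.Lib.Helper1.commutator_le_of_le_normalizer hYB') ?_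
    rw [Subgroup.commutator_le]
    intro b hb y hy
    have e : ⁅b, y⁆ = (b * y * b⁻¹) * y⁻¹ := by
      rw [commutatorElement_def]
    rw [e]
    exact mul_mem (conj_mem_of_mem_normalizer
      (le_normalizer_centralizer (le_normalizer_sigmaCore M) (hB'M hb)) (hYMσ hy))
      (inv_mem (hYMσ hy))
  have hB₁B' : B₁ ≤ B' := hB₁def ▸ inf_le_left
  have hB₁ne : B₁ ≠ B' := by
    intro h
    have h1 : B' ≤ Subgroup.centralizer (sigmaCore M : Set G) := by
      rw [← h, hB₁def]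
      exact inf_le_right
    have h2 : sigmaCore M ≤ sigmaCore M ⊓ Subgroup.centralizer (B' : Set G) :=
      le_inf le_rfl (le_centralizer_symm h1)
    rw [h11.regular hExc'] at h2
    exact hMσ1 (le_bot_iff.mp h2)
  have hB₀B₁ : B₀ ≤ B₁ := by
    rw [hB₁def]
    exact le_inf hB₀B' ((hB₀Vs.trans hVsC).trans hCcent)
  have hB₁eq : B₀ = B₁ := by
    apply Subgroup.eq_of_le_of_card_ge hB₀B₁
    have h1 : Nat.card B₁ ∣ s ^ 2 := hB'card ▸ Subgroup.card_dvd_of_le hB₁B'
    obtain ⟨k, hk2, hk⟩ := (Nat.dvd_prime_pow hs).mp h1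
    have hk2' : k ≠ 2 := by
      rintro rfl
      exact hB₁ne (Subgroup.eq_of_le_of_card_ge hB₁B' (by rw [hk, hB'card]))
    have hk1 : k ≤ 1 := by omega
    rw [hk, hB₀card]
    calc s ^ k ≤ s ^ 1 := Nat.pow_le_pow_right hs.pos hk1
      _ = s := pow_one s
  have hactY' : CoprimeAct Y B' := by
    refine ⟨hYB', ?_, Or.inl hYsolv⟩
    rw [hYcard, hB'card]
    exact Nat.Coprime.pow_right 2 hps'
  have hcomm2 : ⁅⁅B', Y⁆, Y⁆ = ⊥ := by
    apply Subgroup.commutator_eq_bot_iff_le_centralizer.mpr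
    refine hcomm1.trans ?_
    rw [← hB₁eq]
    exact le_centralizer_symm hYB₀
  have hcomm3 : ⁅B', Y⁆ = ⊥ := by
    rw [← hactY'.commutator_commutator_eq]
    exact hcomm2
  have hB'L : B' ≤ L :=
    (Subgroup.commutator_eq_bot_iff_le_centralizer.mp hcomm3).trans hCYL
  have hfinal := hIH s hs hps M B₀ B' L hExc' hL hLM hB'L
  rw [inf_eq_left.mpr hMσL] at hfinal
  exact hMσ1 hfinal

end Step1

section Step2

variable {M A : Subgroup G} {p : ℕ} [Fact p.Prime]

omit [Finite G] in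
theorem ne_bot_of_card_sq (hAcard : Nat.card A = p ^ 2) : A ≠ ⊥ := by
  have hpp : p.Prime := Fact.out
  intro h
  rw [h, Subgroup.card_bot] at hAcard
  have : 1 < p ^ 2 := Nat.one_lt_pow (by norm_num) hpp.one_lt
  omega

omit [Finite G] in
/-- under (H) there is a maximal subgroup `L ≠ M` containing `A` and `C_G(A)`. -/
theorem exists_coatom_of_hypH (hAe : IsElementaryAbelian p A) (hAcard : Nat.card A = p ^ 2)
    (hH : HypH M A p) :
    ∃ L : Subgroup G, IsCoatom L ∧ L ≠ M ∧ A ≤ L ∧ Subgroup.centralizer (A : Set G) ≤ L := by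
  obtain ⟨a, ha, ha1⟩ := exists_ne_one_of_ne_bot (ne_bot_of_card_sq hAcard)
  obtain ⟨L, hL, hLM, hNL⟩ := hH _ (Subgroup.zpowers_le.mpr ha)
    (card_zpowers_of_elementary hAe ha ha1)
  refine ⟨L, hL, hLM, le_of_normalizer_le_of_elementary (Subgroup.zpowers_le.mpr ha) hAe hNL, ?_⟩
  exact ((Subgroup.centralizer_le (Subgroup.zpowers_le.mpr ha)).trans
    (Subgroup.centralizer_le_normalizer _)).trans hNL

/-- Proposition 12.4, Step 2, first half: under (H), `p ∉ α(M)`. -/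
theorem not_mem_alpha_of_hypH (hG : IsMinSimpleOddOrder G)
    (hM : IsCoatom M) (hAM : A ≤ M) (hAe : IsElementaryAbelian p A)
    (hAcard : Nat.card A = p ^ 2) (hH : HypH M A p) : p ∉ alpha M := by
  intro hpα
  have hpp : p.Prime := Fact.out
  obtain ⟨L, hL, hLM, hAL, hCAL⟩ := exists_coatom_of_hypH hAe hAcard hH
  have hAp : IsPGroup p A := IsPGroup.of_card hAcard
  have hA1 : A ≠ ⊥ := ne_bot_of_card_sq hAcard
  obtain ⟨P, hP, hAP⟩ := exists_isSylowIn_ge hAM hAp
  have hrP : ¬ PRankLE p 2 ↥P := not_pRankLE_sylow_of_not_pRankLE hP hpα.2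
  have hPtop : P ≠ ⊤ := ne_top_of_le_isCoatom hM hP.le
  have hPU : InUniqueMaximal P := inUniqueMaximal_of_not_pRankLE hG hpp hPtop hrP
  obtain ⟨M', hM', hPM', huniq⟩ := inUniqueMaximal_exists hPU
  have hMM' : M = M' := huniq M hM hP.le
  have hP1 : P ≠ ⊥ := fun h => hA1 (le_bot_iff.mp (h ▸ hAP))
  obtain ⟨Z, hZdef⟩ : ∃ Z, Z = omegaZ p P := ⟨_, rfl⟩
  have hZ1 : Z ≠ ⊥ := hZdef ▸ omegaZ_ne_bot hP.isPGroup hP1
  by_cases hZA : Z ≤ A
  · obtain ⟨z, hz, hz1⟩ := exists_ne_one_of_ne_bot hZ1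
    have hzA := hZA hz
    obtain ⟨L', hL', hL'M, hNL'⟩ := hH _ (Subgroup.zpowers_le.mpr hzA)
      (card_zpowers_of_elementary hAe hzA hz1)
    have hz' := mem_omegaZ.mp (hZdef ▸ hz)
    have hPL' : P ≤ L' := by
      intro x hx
      apply hNL'
      apply Subgroup.centralizer_le_normalizer
      rw [centralizer_zpowers, Subgroup.mem_centralizer_iff]
      intro h hh
      rw [Set.mem_singleton_iff] at hh
      rw [hh]
      exact (hz'.2.1 x hx).symm
    exact hL'M ((huniq L' hL' hPL').trans hMM'.symm)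
  · obtain ⟨z, hz, hzA⟩ := SetLike.not_le_iff_exists.mp hZA
    have hz' := mem_omegaZ.mp (hZdef ▸ hz)
    have hEe : IsElementaryAbelian p (A ⊔ Subgroup.zpowers z) :=
      isElementaryAbelian_sup_zpowers hAe hz'.2.2 (fun b hb => hz'.2.1 b (hAP hb))
    have hEc : A ⊔ Subgroup.zpowers z ≤ Subgroup.centralizer (A : Set G) := by
      have h1 : A ⊔ Subgroup.zpowers z ≤
          Subgroup.centralizer ((A ⊔ Subgroup.zpowers z : Subgroup G) : Set G) :=
        Subgroup.le_centralizer_iff_isMulCommutative.mpr hEe.1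
      exact h1.trans (Subgroup.centralizer_le
        (le_sup_left : A ≤ A ⊔ Subgroup.zpowers z))
    have hlt : p ^ 2 < Nat.card ↥(A ⊔ Subgroup.zpowers z) := by
      rw [← hAcard]
      apply card_lt_of_le_of_ne le_sup_left
      intro h
      apply hzA
      rw [h]
      exact Subgroup.mem_sup_right (Subgroup.mem_zpowers z)
    have hr : ¬ RankLE 2 ↥(Subgroup.centralizer (A : Set G)) :=
      fun h => not_pRankLE_of_le hEc hEe hlt (h p hpp)
    have hr1 : ¬ RankLE 1 ↥A := by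
      intro h
      refine not_pRankLE_of_le le_rfl hAe ?_ (h p hpp)
      rw [hAcard]
      exact Nat.pow_lt_pow_right hpp.one_lt (by norm_num)
    have hAU := Cfsg.Agent.S1403.result hG A (ne_top_of_le_isCoatom hM hAM) hr1 (Or.inr hr)
    obtain ⟨M'', hM'', hAM'', huniq'⟩ := inUniqueMaximal_exists hAU
    exact hLM ((huniq' L hL hAL).trans (huniq' M hM hAM).symm)

/-- Proposition 12.4, Step 2: under (H), `M_α = 1`. -/
theorem alphaCore_eq_bot_of_hypH (hG : IsMinSimpleOddOrder G) (h11 : Sec11 G)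
    (hM : IsCoatom M) (hAM : A ≤ M) (hAe : IsElementaryAbelian p A)
    (hAcard : Nat.card A = p ^ 2) (hH : HypH M A p) : alphaCore M = ⊥ := by
  have hpp : p.Prime := Fact.out
  have hpα : p ∉ alpha M := not_mem_alpha_of_hypH hG hM hAM hAe hAcard hH
  obtain ⟨L, hL, hLM, hAL, hCAL⟩ := exists_coatom_of_hypH hAe hAcard hH
  have hcent : alphaCore M ≤ Subgroup.centralizer (A : Set G) := by
    apply le_of_forall_inf_centralizer_le hAe hAcard (hAM.trans (le_normalizer_alphaCore M))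
      (coprime_card_alphaCore hpp hpα)
    intro a ha ha1
    obtain ⟨L', hL', hL'M, hNL'⟩ := hH _ (Subgroup.zpowers_le.mpr ha)
      (card_zpowers_of_elementary hAe ha ha1)
    have h123 := (lemma_12_3 hG hM hL' (Ne.symm hL'M) (Subgroup.zpowers_le.mpr ha) hAM
      (card_zpowers_of_elementary hAe ha ha1) hAcard hAe hNL' (fun h => h11.normal h)).2 hpα
    intro x hx
    have hxL : x ∈ L' := by
      apply hNL'
      apply Subgroup.centralizer_le_normalizer
      rw [centralizer_zpowers]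
      exact (Subgroup.mem_inf.mp hx).2
    have hxD : x ∈ alphaCore M ⊓ L' := Subgroup.mem_inf.mpr ⟨(Subgroup.mem_inf.mp hx).1, hxL⟩
    exact le_centralizer_symm h123 hxD
  by_contra hne
  have hcard1 : Nat.card (alphaCore M) ≠ 1 := fun h => hne (Subgroup.card_eq_one.mp h)
  obtain ⟨q, hq, hqd⟩ := Nat.exists_prime_and_dvd hcard1
  have : Fact q.Prime := ⟨hq⟩
  have hqα : q ∈ alpha M := mem_alpha_of_dvd_card_alphaCore hq hqd
  have hr3 : ¬ PRankLE q 2 ↥(alphaCore M) := not_pRankLE_alphaCore hG hM hqα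
  obtain ⟨V, hVα, hVe, hVcard⟩ := Cfsg.Agent.S1400.exists_elementary_of_not_pRankLE hr3
  have hr : ¬ RankLE 1 ↥(alphaCore M ⊓ Subgroup.centralizer (A : Set G)) := by
    intro h
    refine not_pRankLE_of_le (le_inf hVα (hVα.trans hcent)) hVe ?_ (h q hq)
    refine lt_trans ?_ hVcard
    exact Nat.pow_lt_pow_right hq.one_lt (by norm_num)
  have hXα : ∀ q' : ℕ, q'.Prime → q' ∣ Nat.card A → q' ∉ alpha M := by
    intro q' hq' hd
    rw [hAcard] at hd
    have h1 : q' = p := (Nat.prime_dvd_prime_iff_eq hq' hpp).mp (hq'.dvd_of_dvd_pow hd)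
    rw [h1]
    exact hpα
  have hU := Cfsg.Agent.S1406.result hG M hM A hAM hXα hr
  obtain ⟨M', hM', hXM', huniq⟩ := inUniqueMaximal_exists hU
  have h1 : M = M' := huniq M hM inf_le_left
  have h2 : L = M' := huniq L hL (inf_le_right.trans hCAL)
  exact hLM (h2.trans h1.symm)

/-- Proposition 12.4, Step 3: if `M_α = 1` then `M_σ` is nilpotent. -/
theorem isNilpotent_sigmaCore_of_alphaCore_eq_bot (hG : IsMinSimpleOddOrder G)
    (hM : IsCoatom M) (hα : alphaCore M = ⊥) : Group.IsNilpotent (sigmaCore M) := by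
  have hempty : ∀ q : ℕ, q ∉ alpha M := by
    intro q hqα
    have hq := hqα.1
    have h1 := (Cfsg.Agent.S1405.result hG M hM).1.2.2 q hq hqα
    rw [hα, Subgroup.relIndex_bot_left] at h1
    exact h1 (alpha_subset_sigma hG hM hqα).2.1
  have hr : RankLE 2 ↥M := fun q hq => alpha_rank M q hq (hempty q)
  have hsolv : Group.IsSolvable ↥M := isSolvable_of_ne_top hG hM.1
  have hnil : Group.IsNilpotent ↥(commutator ↥M) :=
    (Cfsg.Agent.S1451.result (odd_card_subgroup hG M) (Or.inl hr)).1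
  have hnil' : Group.IsNilpotent ↥⁅M, M⁆ := isNilpotent_commutator_subgroup hnil
  refine Cfsg.Agent.Lib.Helper10.BG.isNilpotent_of_le ?_ hnil'
  apply le_of_forall_sylow_le
  intro q hq
  have : Fact q.Prime := ⟨hq⟩
  obtain ⟨Q, hQ⟩ := exists_isSylowIn q (sigmaCore M)
  refine ⟨Q, hQ, ?_⟩
  by_cases hQ1 : Q = ⊥
  · rw [hQ1]
    exact bot_le
  have hqσ : q ∈ sigma M := mem_sigma_of_dvd_card_sigmaCore hG hM hq
    ((dvd_card_of_pgroup_ne_bot hQ.isPGroup hQ1).trans (Subgroup.card_dvd_of_le hQ.le))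
  exact sylow_le_commutator_of_sigmaProp hG (sigmaProp_of_mem_sigma hM hqσ)
    (isSylowIn_of_sigmaCore hG hM hqσ hQ).1

/-- Proposition 12.4 (a) under (H). -/
theorem centralizer_le_of_hypH (hG : IsMinSimpleOddOrder G)
    (hM : IsCoatom M) (hAM : A ≤ M) (hAe : IsElementaryAbelian p A)
    (hAcard : Nat.card A = p ^ 2) (hH : HypH M A p) (hpσ : p ∈ sigma M) (hpα : p ∉ alpha M)
    (hnil : Group.IsNilpotent (sigmaCore M)) : Subgroup.centralizer (A : Set G) ≤ M := by
  have hpp : p.Prime := Fact.out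
  have hAp : IsPGroup p A := IsPGroup.of_card hAcard
  have hA1 : A ≠ ⊥ := ne_bot_of_card_sq hAcard
  have hAσ : A ≤ sigmaCore M := pgroup_le_sigmaCore hG hM hpσ hAp hAM
  obtain ⟨P, hPdef⟩ : ∃ P, P = pCoreOf p (sigmaCore M) := ⟨_, rfl⟩
  have hAP : A ≤ P :=
    hPdef ▸ Cfsg.Agent.Lib.Helper9.BG10.pgroup_le_pCoreOf_of_nilpotent hnil hpp hAσ hAp
  have hPp : IsPGroup p P := hPdef ▸ isPGroup_pCoreOf p _
  have hPM : P ≤ M := hPdef ▸ (pCoreOf_le p _).trans (sigmaCore_le M)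
  have hMP : M ≤ Subgroup.normalizer (P : Set G) :=
    hPdef ▸ (le_normalizer_sigmaCore M).trans (normalizer_le_normalizer_pCoreOf p _)
  have hP1 : P ≠ ⊥ := fun h => hA1 (le_bot_iff.mp (h ▸ hAP))
  obtain ⟨Z, hZdef⟩ : ∃ Z, Z = omegaZ p P := ⟨_, rfl⟩
  have hZ1 : Z ≠ ⊥ := hZdef ▸ omegaZ_ne_bot hPp hP1
  have hZM : Z ≤ M := hZdef ▸ (omegaZ_le p P).trans hPM
  have hMZ : M ≤ Subgroup.normalizer (Z : Set G) :=
    hZdef ▸ hMP.trans (normalizer_le_normalizer_omegaZ p P)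
  have hr2 : PRankLE p 2 ↥M := alpha_rank M p hpp hpα
  have hZA : Z ≤ A := by
    intro z hz
    have hz' := mem_omegaZ.mp (hZdef ▸ hz)
    have hEe := isElementaryAbelian_sup_zpowers hAe hz'.2.2 (fun b hb => hz'.2.1 b (hAP hb))
    have hEM : A ⊔ Subgroup.zpowers z ≤ M := sup_le hAM (Subgroup.zpowers_le.mpr (hZM hz))
    have hle := card_le_of_pRankLE hEM hEe hr2
    have heq : A = A ⊔ Subgroup.zpowers z :=
      Subgroup.eq_of_le_of_card_ge le_sup_left (by rw [hAcard]; exact hle)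
    rw [heq]
    exact Subgroup.mem_sup_right (Subgroup.mem_zpowers z)
  have hNZ : Subgroup.normalizer (Z : Set G) = M :=
    normalizer_eq_of_isCoatom' hG hM hZ1 hZM hMZ
  have hZcard : Nat.card Z ≠ p := by
    intro h
    obtain ⟨L, hL, hLM, hNL⟩ := hH Z hZA h
    rw [hNZ] at hNL
    exact hLM (eq_of_isCoatom_of_le hM hL hNL)
  have hZeq : Z = A := by
    apply Subgroup.eq_of_le_of_card_ge hZA
    have h1 : Nat.card Z ∣ p ^ 2 := hAcard ▸ Subgroup.card_dvd_of_le hZA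
    obtain ⟨k, hk2, hk⟩ := (Nat.dvd_prime_pow hpp).mp h1
    have hk0 : k ≠ 0 := by
      rintro rfl
      rw [pow_zero] at hk
      exact hZ1 (Subgroup.card_eq_one.mp hk)
    have hk1 : k ≠ 1 := by
      rintro rfl
      rw [pow_one] at hk
      exact hZcard hk
    have hk2' : k = 2 := by omega
    rw [hAcard, hk, hk2']
  rw [← hZeq]
  exact centralizer_le_of_isCoatom hG hM hZ1 hZM hMZ

end Step2

section Main

/-- Proposition 12.4 for the prime `p`, given Theorem 12.5 (e) for the larger primes. -/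
theorem prop124_of_thm125e (hG : IsMinSimpleOddOrder G) (h11 : Sec11 G) {p : ℕ} [Fact p.Prime]
    (hIH : ∀ s : ℕ, s.Prime → p < s → Thm125e G s) : Prop124 G p := by
  intro M A hM hAM hAe hAcard
  by_cases hH' : ∀ A₀ : Subgroup G, A₀ ≤ A → Nat.card A₀ = p →
      ¬ (Subgroup.normalizer (A₀ : Set G) ≤ M ∧
        ∀ L : Subgroup G, IsCoatom L → Subgroup.normalizer (A₀ : Set G) ≤ L → L = M)
  · have hH : HypH M A p := by
      intro Y hYA hYcard
      have hY1 : Y ≠ ⊥ := ne_bot_of_card_prime hYcard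
      have hYtop : Y ≠ ⊤ := ne_top_of_le_isCoatom hM (hYA.trans hAM)
      have hNtop : Subgroup.normalizer (Y : Set G) ≠ ⊤ :=
        Cfsg.Agent.Lib.Lead.BGTrans.normalizer_ne_top hG.2 hY1 hYtop
      obtain ⟨L₀, hL₀, hNL₀⟩ := exists_isCoatom_ge hNtop
      by_cases hL₀M : L₀ = M
      · have h1 := hH' Y hYA hYcard
        rw [not_and] at h1
        have h2 := h1 (hL₀M ▸ hNL₀)
        push Not at h2
        obtain ⟨L, hL, hNL, hLM⟩ := h2
        exact ⟨L, hL, hLM, hNL⟩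
      · exact ⟨L₀, hL₀, hL₀M, hNL₀⟩
    have hpσ : p ∈ sigma M := mem_sigma_of_hypH hG h11 hM hAM hAe hAcard hH hIH
    have hpα : p ∉ alpha M := not_mem_alpha_of_hypH hG hM hAM hAe hAcard hH
    have hα : alphaCore M = ⊥ := alphaCore_eq_bot_of_hypH hG h11 hM hAM hAe hAcard hH
    have hnil := isNilpotent_sigmaCore_of_alphaCore_eq_bot hG hM hα
    exact ⟨centralizer_le_of_hypH hG hM hAM hAe hAcard hH hpσ hpα hnil,
      fun _ => ⟨hpσ, hα, hnil⟩⟩
  · have hH'' := hH'
    push Not at hH''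
    obtain ⟨A₀, hA₀A, hA₀card, hNA₀, huniq⟩ := hH''
    refine ⟨?_, fun h => absurd ⟨hNA₀, huniq⟩ (h A₀ hA₀A hA₀card)⟩
    exact ((Subgroup.centralizer_le hA₀A).trans (Subgroup.centralizer_le_normalizer _)).trans hNA₀

/-- Theorem 12.5 (e) for the prime `s`, given Proposition 12.4 for `s`. -/
theorem thm125e_of_prop124 (hG : IsMinSimpleOddOrder G) (h11 : Sec11 G) {s : ℕ} [Fact s.Prime]
    (h124 : Prop124 G s) : Thm125e G s := by
  intro M B₀ B L hExc hL hLM hBL
  have hs : s.Prime := Fact.out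
  have hM := hExc.coatom
  have hBM := hExc.le
  have hBp : IsPGroup s B := hExc.isPGroup
  have hE4 : sigmaCore M ⊓ sigmaCore L = ⊥ := by
    by_contra hne
    exact hLM (hExc.E4 hG hL hBL hne)
  have hMσs : (Nat.card (sigmaCore M)).Coprime s := coprime_card_sigmaCore hG hM hs hExc.notσ
  have hBD : B ≤ Subgroup.normalizer ((sigmaCore M ⊓ L : Subgroup G) : Set G) :=
    le_normalizer_inf (hBM.trans (le_normalizer_sigmaCore M)) (hBL.trans Subgroup.le_normalizer)
  have h1 : ⁅sigmaCore M ⊓ L, B⁆ ≤ sigmaCore M ⊓ L :=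
    Cfsg.Agent.Lib.Helper1.commutator_le_of_le_normalizer hBD
  have h2 : ⁅sigmaCore M ⊓ L, B⁆ ≤ sigmaCore L := by
    by_cases hsσL : s ∈ sigma L
    · have hBσ : B ≤ sigmaCore L := pgroup_le_sigmaCore hG hL hsσL hBp hBL
      rw [Subgroup.commutator_le]
      intro d hd b hb
      have hdL : d ∈ L := (Subgroup.mem_inf.mp hd).2
      have e : ⁅d, b⁆ = (d * b * d⁻¹) * b⁻¹ := by
        rw [commutatorElement_def]
      rw [e]
      exact mul_mem (conj_mem_of_mem_normalizer (le_normalizer_sigmaCore L hdL) (hBσ hb))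
        (inv_mem (hBσ hb))
    · have h3 := (h124 L B hL hBL hExc.elem hExc.card).2
      have h4 : ¬ ∀ A₀ : Subgroup G, A₀ ≤ B → Nat.card A₀ = s →
          ¬ (Subgroup.normalizer (A₀ : Set G) ≤ L ∧
            ∀ L' : Subgroup G, IsCoatom L' → Subgroup.normalizer (A₀ : Set G) ≤ L' → L' = L) :=
        fun h => hsσL (h3 h).1
      push Not at h4
      obtain ⟨A₀, hA₀B, hA₀card, hNA₀, -⟩ := h4
      have hExcL : Exc L s A₀ B :=
        ⟨hL, hsσL, hA₀B, hBL, hA₀card, hExc.card, hExc.elem, hNA₀⟩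
      have hnorm := h11.normal hExcL
      have h5 : ⁅sigmaCore M ⊓ L, B⁆ ≤ sigmaCore L ⊔ B := by
        rw [Subgroup.commutator_le]
        intro d hd b hb
        have hdL : d ∈ L := (Subgroup.mem_inf.mp hd).2
        have hbS : b ∈ sigmaCore L ⊔ B := Subgroup.mem_sup_right hb
        have e : ⁅d, b⁆ = (d * b * d⁻¹) * b⁻¹ := by
          rw [commutatorElement_def]
        rw [e]
        exact mul_mem (conj_mem_of_mem_normalizer (hnorm hdL) hbS) (inv_mem hbS)
      apply le_of_le_sup_of_coprime (hBL.trans (le_normalizer_sigmaCore L)) h5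
      rw [hExc.card]
      apply Nat.Coprime.pow_right
      exact Nat.Coprime.coprime_dvd_left (Subgroup.card_dvd_of_le (h1.trans inf_le_left)) hMσs
  have h3 : ⁅sigmaCore M ⊓ L, B⁆ = ⊥ := by
    rw [eq_bot_iff, ← hE4]
    exact le_inf (h1.trans inf_le_left) h2
  have h4 : sigmaCore M ⊓ L ≤ Subgroup.centralizer (B : Set G) :=
    Subgroup.commutator_eq_bot_iff_le_centralizer.mp h3
  rw [eq_bot_iff, ← h11.regular hExc]
  exact le_inf inf_le_left h4

/-- Proposition 12.4 for all primes, by downward induction. -/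
theorem prop124_aux (hG : IsMinSimpleOddOrder G) (h11 : Sec11 G) :
    ∀ (n p : ℕ), p.Prime → Nat.card G + 1 - p ≤ n → Prop124 G p := by
  intro n
  induction n with
  | zero =>
    intro p hp hle M A hM hAM hAe hAcard
    exfalso
    have h1 : Nat.card A ≤ Nat.card G := Subgroup.card_le_card_group A
    have h2 : p ≤ p ^ 2 := by nlinarith [hp.two_le]
    rw [hAcard] at h1
    omega
  | succ n ih =>
    intro p hp hle
    have : Fact p.Prime := ⟨hp⟩
    apply prop124_of_thm125e hG h11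
    intro s hs hps
    have : Fact s.Prime := ⟨hs⟩
    apply thm125e_of_prop124 hG h11
    apply ih s hs
    omega

/-- **Bender--Glauberman, Proposition 12.4**, given the results of Section 11. -/
theorem prop124 (hG : IsMinSimpleOddOrder G) (h11 : Sec11 G) (p : ℕ) [Fact p.Prime] :
    Prop124 G p :=
  prop124_aux hG h11 _ p Fact.out le_rfl

/-- **Bender--Glauberman, Theorem 12.5 (e)**, given the results of Section 11. -/
theorem thm125e (hG : IsMinSimpleOddOrder G) (h11 : Sec11 G) (s : ℕ) [Fact s.Prime] :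
    Thm125e G s :=
  thm125e_of_prop124 hG h11 (prop124 hG h11 s)

end Main

end Cfsg.Agent.Lib.Helper10.BG
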