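import Mathlib
import Cfsg.Prelude
import Cfsg.Agent.Lib.Helper10.BGTwelveD
import Cfsg.Agent.Lib.Helper9.BGExc13
import Cfsg.Agent.Lib.Helper29.BGExcCfg

/-!
# Bender--Glauberman, Proposition 12.4: discharge of the Section 11 hypotheses

`Sec11 G` holds in a minimal simple group of odd order, by helper9's `thm114`, `thm117_of`,
`Exc.centralizer_regular` and helper29's `cfg_false`.
-/

set_option autoImplicit false
open Cfsg
open Cfsg.Agent.Lib.Helper9.BGExc

namespace Cfsg.Agent.Lib.Helper10.BG

variable {G : Type*} [Group G] [Finite G]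

/-- Theorem 11.7 in a minimal simple group of odd order. -/
theorem thm117 (hG : IsMinSimpleOddOrder G) : Thm117 G := by
  apply thm117_of hG
  intro M A₀ A B₀ B Pr p r hp hr h
  have : Fact p.Prime := ⟨hp⟩
  have : Fact r.Prime := ⟨hr⟩
  exact Cfsg.Agent.Lib.Helper29.BGExcCfg.cfg_false hG (thm114 hG) h

/-- the results of Section 11 hold in a minimal simple group of odd order. -/
theorem sec11 (hG : IsMinSimpleOddOrder G) : Sec11 G where
  abelian := fun {M s _ B₀ B} h P hP => thm114 hG M s B₀ B P Fact.out h hP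
  regular := fun h => h.centralizer_regular hG (thm114 hG)
  normal := fun {M s _ B₀ B} h => thm117 hG M s B₀ B Fact.out h

/-- **Bender--Glauberman, Proposition 12.4.** -/
theorem prop_12_4 (hG : IsMinSimpleOddOrder G) (p : ℕ) [Fact p.Prime] :
    Cfsg.Agent.Lib.Helper10.BG.Prop124 G p :=
  prop124 hG (sec11 hG) p

/-- **Bender--Glauberman, Theorem 12.5 (e)** in the form for exceptional configurations. -/
theorem thm_12_5_e (hG : IsMinSimpleOddOrder G) (s : ℕ) [Fact s.Prime] :
    Cfsg.Agent.Lib.Helper10.BG.Thm125e G s :=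
  thm125e hG (sec11 hG) s

end Cfsg.Agent.Lib.Helper10.BG
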