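import Mathlib
import Cfsg.Prelude
import Cfsg.Agent.Lib.Helper10.BGTwelveE
import Cfsg.Agent.S1404
import Cfsg.Agent.S1416

/-!
# Bender--Glauberman, Lemma 12.15 (a)--(c)

For `q ∈ σ(M)`, a nontrivial `q`-subgroup `X` of `M` and a maximal subgroup `M* ≠ M` containing
`N_G(X)`: a Sylow `q`-subgroup `S ≥ X` of `M ∩ M*` has `N_G(S) ≤ M` and is a Sylow `q`-subgroup
of `M*`.
-/

set_option autoImplicit false
open Cfsg

namespace Cfsg.Agent.Lib.Helper10.BG

variable {G : Type*} [Group G] [Finite G]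

theorem IsSylowIn.not_dvd_relIndex {q : ℕ} [Fact q.Prime] {Q X : Subgroup G}
    (h : IsSylowIn q Q X) : ¬ q ∣ Q.relIndex X := by
  have h1 := h.toSylow.not_dvd_index
  rw [h.coe_toSylow] at h1
  exact h1

/-- a noncyclic `p`-subgroup, `p` odd, contains an elementary abelian subgroup of order
exactly `p ^ 2`. -/
theorem exists_elementary_sq_of_not_isCyclic {p : ℕ} [Fact p.Prime] (hp2 : p ≠ 2)
    {S : Subgroup G} (hS : IsPGroup p S) (hnc : ¬ IsCyclic S) :
    ∃ A : Subgroup G, A ≤ S ∧ IsElementaryAbelian p A ∧ Nat.card A = p ^ 2 := by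
  have hpp : p.Prime := Fact.out
  have h1 : ¬ PRankLE p 1 ↥S := not_pRankLE_one_of_not_isCyclic hp2 hS hnc
  obtain ⟨V, hVS, hVe, hVcard⟩ := Cfsg.Agent.S1400.exists_elementary_of_not_pRankLE h1
  have hVp : IsPGroup p V := hS.to_le hVS
  obtain ⟨k, hk⟩ := hVp.exists_card_eq
  have hk2 : 2 ≤ k := by
    by_contra hcon
    push Not at hcon
    have h2 : p ^ k ≤ p ^ 1 := Nat.pow_le_pow_right hpp.pos (by omega)
    rw [hk] at hVcard
    omega
  have hdvd : p ^ 2 ∣ Nat.card V := by rw [hk]; exact pow_dvd_pow p hk2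
  obtain ⟨K, hK⟩ := Sylow.exists_subgroup_card_pow_prime p hdvd
  refine ⟨K.map V.subtype, (Subgroup.map_subtype_le K).trans hVS,
    Cfsg.Agent.S1400.isElementaryAbelian_of_le hVe (Subgroup.map_subtype_le K), ?_⟩
  rw [Subgroup.card_map_of_injective V.subtype_injective, hK]

/-- **Bender--Glauberman, Lemma 12.15 (b), (c)**. -/
theorem lemma_12_15 (hG : IsMinSimpleOddOrder G) {M Mstar : Subgroup G} (hM : IsCoatom M)
    {q : ℕ} [Fact q.Prime] (hq : q ∈ sigma M) {X S : Subgroup G}
    (hXq : IsPGroup q X) (hX1 : X ≠ ⊥) (hNX : Subgroup.normalizer (X : Set G) ≤ Mstar)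
    (hS : IsSylowIn q S (M ⊓ Mstar)) (hXS : X ≤ S) :
    Subgroup.normalizer (S : Set G) ≤ M ∧ IsSylowIn q S Mstar := by
  have hSM : S ≤ M := hS.le.trans inf_le_left
  have hSMs : S ≤ Mstar := hS.le.trans inf_le_right
  have hSq : IsPGroup q S := hS.isPGroup
  have hS1 : S ≠ ⊥ := fun h => hX1 (le_bot_iff.mp (h ▸ hXS))
  have hq2 : q ≠ 2 := prime_ne_two_of_pgroup hG hSq hS1
  have hσ : SigmaProp q M := sigmaProp_of_mem_sigma hM hq
  have hb : Subgroup.normalizer (S : Set G) ≤ M := by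
    by_cases hc : IsCyclic S
    · -- `X` is characteristic in `S`
      haveI := hc
      have h1 : Subgroup.normalizer (S : Set G) ≤ Subgroup.normalizer (X : Set G) := by
        intro n hn
        apply mem_normalizer_of_map_conj_eq
        have h2 : X.map (MulAut.conj n).toMonoidHom ≤ S := by
          rintro _ ⟨x, hx, rfl⟩
          exact conj_mem_of_mem_normalizer hn (hXS hx)
        exact Cfsg.Agent.Lib.Helper10.eq_of_card_eq_of_le_isCyclic S _ _ h2 hXS
          (Subgroup.card_map_of_injective (MulAut.conj n).injective)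
      have h3 : IsSylowIn q S M := by
        apply IsSylowIn.of_normalizer_le hSM hSq
        intro x hxM hxN hxp
        have hxMs : x ∈ Mstar := hNX (h1 hxN)
        have h4 := hS.eq_of_le (sup_le hS.le (Subgroup.zpowers_le.mpr ⟨hxM, hxMs⟩)) hxp
          le_sup_left
        rw [← h4]
        exact Subgroup.mem_sup_right (Subgroup.mem_zpowers x)
      exact hσ.2 S h3
    · obtain ⟨A, hAS, hAe, hAcard⟩ := exists_elementary_sq_of_not_isCyclic hq2 hSq hc
      have h1 : Subgroup.centralizer (A : Set G) ≤ M :=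
        (Cfsg.Agent.S1416.result hG M hM q A ⟨hAS.trans hSM, hAe, hAcard⟩).1
      have h2 : Subgroup.centralizer (S : Set G) ≤ M := (Subgroup.centralizer_le hAS).trans h1
      have h3 := (Cfsg.Agent.S1404.result hG M hM q hq S hSq hS1 hSM).2
      rw [h3]
      exact sup_le inf_le_left h2
  refine ⟨hb, ?_⟩
  apply IsSylowIn.of_normalizer_le hSMs hSq
  intro x hxMs hxN hxp
  have h4 := hS.eq_of_le (sup_le hS.le (Subgroup.zpowers_le.mpr ⟨hb hxN, hxMs⟩)) hxp le_sup_left
  rw [← h4]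
  exact Subgroup.mem_sup_right (Subgroup.mem_zpowers x)

end Cfsg.Agent.Lib.Helper10.BG
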