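import Mathlib
import Cfsg.Prelude
import Cfsg.Agent.Lib.Helper10.BGTwelveF
import Cfsg.Agent.Lib.Helper1.Hall
import Cfsg.Agent.Lib.Helper9.BGHallFus
import Cfsg.Agent.Lib.Helper9.Signalizer
import Cfsg.Agent.S1414
import Cfsg.Agent.S1417

/-!
# Bender--Glauberman, Lemma 12.15 (d), (f) and Corollary 12.16 (a)

Every nontrivial `σ(M)`-subgroup of `G` is conjugate to a subgroup of `M_σ`.
-/

set_option autoImplicit false
open Cfsg
open Cfsg.Agent.Lib.Helper9.BGExc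
open scoped Pointwise

namespace Cfsg.Agent.Lib.Helper10.BG

variable {G : Type*} [Group G] [Finite G]

/-- Hall dominance inside a solvable subgroup `L`. -/
theorem hall_le_conj_in {L H K : Subgroup G} (hLs : Group.IsSolvable L) (hHL : H ≤ L)
    (hKL : K ≤ L) (hcop : (Nat.card H).Coprime (H.relIndex L))
    (hK : (Nat.card K).Coprime (H.relIndex L)) :
    ∃ g ∈ L, K.map (MulAut.conj g).toMonoidHom ≤ H := by
  haveI := hLs
  have hcard : Nat.card L = Nat.card H * H.relIndex L :=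
    (Cfsg.Agent.Lib.Helper12.card_mul_relIndex_eq hHL).symm
  have e1 : Nat.card (H.subgroupOf L) = Nat.card H :=
    Nat.card_congr (Subgroup.subgroupOfEquivOfLe hHL).toEquiv
  have e2 : Nat.card (K.subgroupOf L) = Nat.card K :=
    Nat.card_congr (Subgroup.subgroupOfEquivOfLe hKL).toEquiv
  obtain ⟨g, hg⟩ := Cfsg.Agent.Lib.Helper1.hall_le_conj (G := L) _ _ hcard hcop
    (H.subgroupOf L) (K.subgroupOf L) e1 (by rw [e2]; exact hK)
  refine ⟨((g⁻¹ : L) : G), (g⁻¹).2, ?_⟩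
  rintro _ ⟨x, hx, rfl⟩
  have h1 : (⟨x, hKL hx⟩ : L) ∈ MulAut.conj g • H.subgroupOf L :=
    hg (Subgroup.mem_subgroupOf.mpr hx)
  rw [Subgroup.mem_pointwise_smul_iff_inv_smul_mem] at h1
  have h2 : ((MulAut.conj g)⁻¹ • (⟨x, hKL hx⟩ : L) : L) = g⁻¹ * ⟨x, hKL hx⟩ * g := by
    rw [MulAut.smul_def, MulAut.conj_inv_apply]
  rw [h2, Subgroup.mem_subgroupOf] at h1
  simpa [MulAut.conj_apply] using h1

/-- if `L = C M₀` with `C` a normal `r'`-subgroup, a Sylow `r`-subgroup of `M₀` is one of `L`. -/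
theorem isSylowIn_of_le_sup {L C M₀ R : Subgroup G} {r : ℕ} [Fact r.Prime]
    (hn : M₀ ≤ Subgroup.normalizer (C : Set G)) (hL : L ≤ C ⊔ M₀) (hM₀L : M₀ ≤ L)
    (hr : ¬ r ∣ Nat.card C) (hR : IsSylowIn r R M₀) : IsSylowIn r R L := by
  have hrp : r.Prime := Fact.out
  apply isSylowIn_of_card_ge (hR.le.trans hM₀L) hR.isPGroup
  intro Q hQL hQ _
  obtain ⟨k, hk⟩ := hQ.exists_card_eq
  have h1 : Nat.card Q ∣ Nat.card C * Nat.card M₀ :=
    ((Subgroup.card_dvd_of_le hQL).trans (Subgroup.card_dvd_of_le hL)).trans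
      (Cfsg.Agent.Lib.Helper9.card_sup_dvd_of_le_normalizer hn)
  have h2 : (Nat.card Q).Coprime (Nat.card C) := by
    rw [hk]
    exact Nat.Coprime.pow_left k ((Nat.Prime.coprime_iff_not_dvd hrp).mpr hr)
  have h3 : Nat.card Q ∣ Nat.card M₀ := h2.dvd_of_dvd_mul_left h1
  rw [hk] at h3 ⊢
  rw [hR.card_eq]
  exact Nat.pow_le_pow_right hrp.pos
    ((Nat.Prime.pow_dvd_iff_le_factorization hrp Nat.card_pos.ne').mp h3)

/-- a Hall `π`-subgroup and a Hall `π'`-subgroup of `X` generate `X`. -/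
theorem le_sup_of_hall {X B H : Subgroup G} {π : Set ℕ} (hBX : B ≤ X) (hHX : H ≤ X)
    (hB : ∀ p : ℕ, p.Prime → p ∣ Nat.card B → p ∈ π)
    (hBi : ∀ p : ℕ, p.Prime → p ∈ π → ¬ p ∣ B.relIndex X)
    (hH : ∀ p : ℕ, p.Prime → p ∣ Nat.card H → p ∉ π)
    (hHi : ∀ p : ℕ, p.Prime → p ∉ π → ¬ p ∣ H.relIndex X) : X ≤ B ⊔ H := by
  have e1 : Nat.card B * B.relIndex X = Nat.card X :=
    Cfsg.Agent.Lib.Helper12.card_mul_relIndex_eq hBX
  have e2 : Nat.card H * H.relIndex X = Nat.card X :=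
    Cfsg.Agent.Lib.Helper12.card_mul_relIndex_eq hHX
  have c1 : (Nat.card B).Coprime (Nat.card H) :=
    Nat.coprime_of_dvd (fun k hk hk1 hk2 => hH k hk hk2 (hB k hk hk1))
  have c2 : (H.relIndex X).Coprime (B.relIndex X) := by
    apply Nat.coprime_of_dvd
    intro k hk hk1 hk2
    by_cases hkπ : k ∈ π
    · exact hBi k hk hkπ hk2
    · exact hHi k hk hkπ hk1
  have hj : H.relIndex X ∣ Nat.card B :=
    c2.dvd_of_dvd_mul_right (Dvd.intro_left (Nat.card H) (e2.trans e1.symm))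
  have d1 : Nat.card B * Nat.card H ∣ Nat.card (B ⊔ H : Subgroup G) :=
    c1.mul_dvd_of_dvd_of_dvd (Subgroup.card_dvd_of_le le_sup_left)
      (Subgroup.card_dvd_of_le le_sup_right)
  have d2 : Nat.card X ≤ Nat.card (B ⊔ H : Subgroup G) := by
    calc Nat.card X = Nat.card H * H.relIndex X := e2.symm
      _ ≤ Nat.card H * Nat.card B :=
          Nat.mul_le_mul_left _ (Nat.le_of_dvd Nat.card_pos hj)
      _ = Nat.card B * Nat.card H := mul_comm _ _
      _ ≤ Nat.card (B ⊔ H : Subgroup G) := Nat.le_of_dvd Nat.card_pos d1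
  exact (Subgroup.eq_of_le_of_card_ge (sup_le hBX hHX) d2).ge

/-- a `σ(M)`-subgroup of `M` lies in `M_σ`. -/
theorem le_sigmaCore_of_sigma_group (hG : IsMinSimpleOddOrder G) {M Z : Subgroup G}
    (hM : IsCoatom M) (hZM : Z ≤ M)
    (hZ : ∀ p : ℕ, p.Prime → p ∣ Nat.card Z → p ∈ sigma M) : Z ≤ sigmaCore M := by
  apply le_of_forall_sylow_le
  intro r hr
  haveI : Fact r.Prime := ⟨hr⟩
  obtain ⟨Q, hQ⟩ := exists_isSylowIn r Z
  refine ⟨Q, hQ, ?_⟩
  by_cases hd : r ∣ Nat.card Z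
  · exact pgroup_le_sigmaCore hG hM (hZ r hr hd) hQ.isPGroup (hQ.le.trans hZM)
  · have h1 : Q = ⊥ := eq_bot_of_isPGroup_of_not_dvd_card hQ.isPGroup
      (fun h => hd (h.trans (Subgroup.card_dvd_of_le hQ.le)))
    rw [h1]
    exact bot_le

/-- an elementary abelian subgroup of order exactly `p ^ 2` in a `p`-subgroup of rank at least
two. -/
theorem exists_elementary_sq_of_not_pRankLE_one {p : ℕ} [Fact p.Prime] {S : Subgroup G}
    (hS : IsPGroup p S) (h1 : ¬ PRankLE p 1 ↥S) :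
    ∃ A : Subgroup G, A ≤ S ∧ IsElementaryAbelian p A ∧ Nat.card A = p ^ 2 := by
  have hpp : p.Prime := Fact.out
  obtain ⟨V, hVS, hVe, hVcard⟩ := Cfsg.Agent.S1400.exists_elementary_of_not_pRankLE h1
  have hVp : IsPGroup p V := hS.to_le hVS
  obtain ⟨k, hk⟩ := hVp.exists_card_eq
  have hk2 : 2 ≤ k := by
    by_contra hcon
    push Not at hcon
    have h2 : p ^ k ≤ p ^ 1 := Nat.pow_le_pow_right hpp.pos (by omega)
    rw [hk] at hVcard
    omega
  have hdvd : p ^ 2 ∣ Nat.card V := by rw [hk]; exact pow_dvd_pow p hk2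
  obtain ⟨K, hK⟩ := Sylow.exists_subgroup_card_pow_prime p hdvd
  refine ⟨K.map V.subtype, (Subgroup.map_subtype_le K).trans hVS,
    Cfsg.Agent.S1400.isElementaryAbelian_of_le hVe (Subgroup.map_subtype_le K), ?_⟩
  rw [Subgroup.card_map_of_injective V.subtype_injective, hK]

/-- **Lemma 12.15 (d)**, first form: for `q ∈ σ(L) \ β(L)` some Sylow `q`-subgroup `Q` of `L`
has `L = L_β N_L(Q)`. -/
theorem le_beta_sup_normalizer_aux (hG : IsMinSimpleOddOrder G) {L : Subgroup G}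
    (hL : IsCoatom L) {q : ℕ} [Fact q.Prime] (hqσ : q ∈ sigma L) (hqβ : q ∉ beta L) :
    ∃ Q : Subgroup G, IsSylowIn q Q L ∧ ∀ l ∈ L, ∃ b ∈ piCoreOf (beta L) L,
      ∃ n ∈ L ⊓ Subgroup.normalizer (Q : Set G), l = b * n := by
  have hqp : q.Prime := Fact.out
  obtain ⟨hβHall, -, -, ⟨H, hH, hHnil⟩, -⟩ := Cfsg.Agent.S1414.result hG L hL
  have hβn : L ≤ Subgroup.normalizer (piCoreOf (beta L) L : Set G) := by
    unfold piCoreOf
    exact le_normalizer_map_subtype_of_normal (piCore (beta L) ↥L)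
  have hβσ : piCoreOf (beta L) L ≤ sigmaCore L :=
    Subgroup.map_mono (piCore_mono_set (fun p hp => alpha_subset_sigma hG hL hp.1))
  obtain ⟨Q, hQ⟩ := exists_isSylowIn q H
  have hQσ : IsSylowIn q Q (sigmaCore L) :=
    hQ.of_not_dvd_relIndex hH.1 (hH.2.2 q hqp ⟨hqp, hqβ⟩)
  have hQL : IsSylowIn q Q L := (isSylowIn_of_sigmaCore hG hL hqσ hQσ).1
  have hQeq : Q = pCoreOf q H :=
    (Cfsg.Agent.Lib.Helper9.BG10.isSylowIn_pCoreOf hHnil hqp).eq_of_le hQ.le hQ.isPGroup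
      hQ.pCoreOf_le
  have hHQ : H ≤ Subgroup.normalizer (Q : Set G) := by
    rw [hQeq]
    exact le_normalizer_pCoreOf q H
  have hσsup : sigmaCore L ≤ piCoreOf (beta L) L ⊔ H := by
    apply le_sup_of_hall (π := beta L) hβσ hH.1 hβHall.2.1
    · intro p hp hpβ hd
      apply hβHall.2.2 p hp hpβ
      rw [← Subgroup.relIndex_mul_relIndex _ _ _ hβσ (sigmaCore_le L)]
      exact Dvd.dvd.mul_right hd _
    · intro p hp hd
      exact (hH.2.1 p hp hd).2
    · intro p hp hpβ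
      exact hH.2.2 p hp ⟨hp, hpβ⟩
  refine ⟨Q, hQL, ?_⟩
  intro l hl
  have h1 : IsSylowIn q (Q.map (MulAut.conj l).toMonoidHom) (sigmaCore L) :=
    hQσ.map_conj (le_normalizer_sigmaCore L hl)
  obtain ⟨x, hx, hxQ⟩ := hQσ.exists_conj h1
  obtain ⟨b, hb, h, hh, rfl⟩ := exists_mul_of_mem_sup_of_le_normalizer
    ((hH.1.trans (sigmaCore_le L)).trans hβn) (hσsup hx)
  have h2 : Q.map (MulAut.conj h).toMonoidHom = Q :=
    Cfsg.Agent.Lib.Helper10.map_conj_eq_of_mem_normalizer Q h (hHQ hh)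
  have h3 : Q.map (MulAut.conj l).toMonoidHom = Q.map (MulAut.conj b).toMonoidHom := by
    rw [hxQ, ← map_conj_map_conj, h2]
  have hbL : b ∈ L := (hβσ.trans (sigmaCore_le L)) hb
  refine ⟨b, hb, b⁻¹ * l, ⟨L.mul_mem (L.inv_mem hbL) hl, ?_⟩, by group⟩
  apply mem_normalizer_of_map_conj_eq
  rw [← map_conj_map_conj, h3, map_conj_map_conj, inv_mul_cancel, map_conj_one]

/-- **Lemma 12.15 (d)**: for `q ∈ σ(L) \ β(L)` and any Sylow `q`-subgroup `S` of `L`,
`L = L_β N_L(S)`. -/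
theorem le_beta_sup_normalizer (hG : IsMinSimpleOddOrder G) {L S : Subgroup G}
    (hL : IsCoatom L) {q : ℕ} [Fact q.Prime] (hqσ : q ∈ sigma L) (hqβ : q ∉ beta L)
    (hS : IsSylowIn q S L) :
    L ≤ piCoreOf (beta L) L ⊔ (L ⊓ Subgroup.normalizer (S : Set G)) := by
  obtain ⟨Q, hQ, h⟩ := le_beta_sup_normalizer_aux hG hL hqσ hqβ
  have hβn : L ≤ Subgroup.normalizer (piCoreOf (beta L) L : Set G) := by
    unfold piCoreOf
    exact le_normalizer_map_subtype_of_normal (piCore (beta L) ↥L)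
  obtain ⟨y, hyL, hy⟩ := hQ.exists_conj hS
  intro l hl
  obtain ⟨b, hb, n, hn, e⟩ := h (y⁻¹ * l * y) (L.mul_mem (L.mul_mem (L.inv_mem hyL) hl) hyL)
  have e' : l = (y * b * y⁻¹) * (y * n * y⁻¹) := by
    have : l = y * (y⁻¹ * l * y) * y⁻¹ := by group
    rw [this, e]
    group
  rw [e']
  apply Subgroup.mul_mem
  · exact Subgroup.mem_sup_left (conj_mem_of_mem_normalizer (hβn hyL) hb)
  · apply Subgroup.mem_sup_right
    refine ⟨L.mul_mem (L.mul_mem hyL hn.1) (L.inv_mem hyL), ?_⟩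
    rw [hy]
    apply mem_normalizer_map_conj
    have : y⁻¹ * (y * n * y⁻¹) * y = n := by group
    rw [this]
    exact hn.2

/-- **Lemma 12.15 (f)**: the case `q ∈ τ₂(L)`. -/
theorem le_sigmaCore_sup_of_tau2 (hG : IsMinSimpleOddOrder G) {M L A : Subgroup G}
    (hM : IsCoatom M) (hL : IsCoatom L) {q : ℕ} [Fact q.Prime] (hq : q ∈ sigma M)
    (hqτ : q ∈ tau2 L) (hAM : A ≤ M) (hAL : A ≤ L) (hAe : IsElementaryAbelian q A)
    (hAcard : Nat.card A = q ^ 2) :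
    Group.IsNilpotent (sigmaCore L) ∧ L ≤ sigmaCore L ⊔ (M ⊓ L) := by
  have hqp : q.Prime := Fact.out
  obtain ⟨hnil, -, hc, -, -, -⟩ := Cfsg.Agent.S1417.result hG L hL q hqτ A ⟨hAL, hAe, hAcard⟩
  have hAq : IsPGroup q A := IsPGroup.of_card hAcard
  have hA1 : A ≠ ⊥ := ne_bot_of_card_sq hAcard
  have hNA : Subgroup.normalizer (A : Set G) ≤ M := by
    rw [(Cfsg.Agent.S1404.result hG M hM q hq A hAq hA1 hAM).2]
    exact sup_le inf_le_left (Cfsg.Agent.S1416.result hG M hM q A ⟨hAM, hAe, hAcard⟩).1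
  have hcop : (Nat.card (sigmaCore L)).Coprime q := coprime_card_sigmaCore hG hL hqp hqτ.2.1
  have hAS : IsSylowIn q A (sigmaCore L ⊔ A) := by
    apply isSylowIn_of_card_ge le_sup_right hAq
    intro Q hQ hQq _
    obtain ⟨k, hk⟩ := hQq.exists_card_eq
    have h1 : Nat.card Q ∣ Nat.card (sigmaCore L) * Nat.card A :=
      (Subgroup.card_dvd_of_le hQ).trans
        (Cfsg.Agent.Lib.Helper9.card_sup_dvd_of_le_normalizer
          (hAL.trans (le_normalizer_sigmaCore L)))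
    have h2 : (Nat.card Q).Coprime (Nat.card (sigmaCore L)) := by
      rw [hk]
      exact Nat.Coprime.pow_left k hcop.symm
    exact Nat.le_of_dvd Nat.card_pos (h2.dvd_of_dvd_mul_left h1)
  refine ⟨hnil, fun x hx => ?_⟩
  obtain ⟨c, hc', n, hn, rfl⟩ := frattini (sup_le (sigmaCore_le L) hAL) hc hAS hx
  exact Subgroup.mul_mem _ (sup_le_sup_left (le_inf hAM hAL) _ hc')
    (Subgroup.mem_sup_right ⟨hNA hn.2, hn.1⟩)

/-- if `L_σ` is nilpotent and `L` is not conjugate to `M`, then `σ(M)` and `σ(L)` are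
disjoint. -/
theorem not_dvd_card_sigmaCore_of_nilpotent (hG : IsMinSimpleOddOrder G) {M L : Subgroup G}
    (hM : IsCoatom M) (hL : IsCoatom L) (hnil : Group.IsNilpotent (sigmaCore L))
    (hnc : ∀ g : G, L ≠ M.map (MulAut.conj g).toMonoidHom) {r : ℕ} (hr : r.Prime)
    (hrM : r ∈ sigma M) : ¬ r ∣ Nat.card (sigmaCore L) := by
  intro hd
  haveI : Fact r.Prime := ⟨hr⟩
  have hrL : r ∈ sigma L := mem_sigma_of_dvd_card_sigmaCore hG hL hr hd
  have hR : IsSylowIn r (pCoreOf r (sigmaCore L)) (sigmaCore L) :=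
    Cfsg.Agent.Lib.Helper9.BG10.isSylowIn_pCoreOf hnil hr
  obtain ⟨hRL, hRtop⟩ := isSylowIn_of_sigmaCore hG hL hrL hR
  have hR1 : pCoreOf r (sigmaCore L) ≠ ⊥ := hR.ne_bot_of_dvd hd
  have hLN : L ≤ Subgroup.normalizer (pCoreOf r (sigmaCore L) : Set G) :=
    (le_normalizer_sigmaCore L).trans (normalizer_le_normalizer_pCoreOf r (sigmaCore L))
  have hN : Subgroup.normalizer (pCoreOf r (sigmaCore L) : Set G) = L :=
    normalizer_eq_of_isCoatom' hG hL hR1 hRL.le hLN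
  have hσ := sigmaProp_of_mem_sigma hM hrM
  obtain ⟨T, hT⟩ := exists_isSylowIn r M
  have hTtop := hσ.isSylowIn_top hT
  obtain ⟨x, -, hx⟩ := hTtop.exists_conj hRtop
  have h1 : L ≤ M.map (MulAut.conj x).toMonoidHom := by
    intro n hn
    have hn' : n ∈ Subgroup.normalizer (pCoreOf r (sigmaCore L) : Set G) := by rw [hN]; exact hn
    rw [hx] at hn'
    have h2 := hσ.2 T hT (conj_mem_normalizer_of_mem_normalizer_map_conj hn')
    refine ⟨x⁻¹ * n * x, h2, ?_⟩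
    simp [mul_assoc]
  exact hnc x (eq_of_isCoatom_of_le hL (isCoatom_map_conj x hM) h1).symm

/-- if `L` is not conjugate to `M`, then `σ(M)` and `β(L)` are disjoint. -/
theorem not_mem_beta_of_not_conj (hG : IsMinSimpleOddOrder G) {M L : Subgroup G}
    (hM : IsCoatom M) (hL : IsCoatom L)
    (hnc : ∀ g : G, L ≠ M.map (MulAut.conj g).toMonoidHom) {r : ℕ} (hr : r.Prime)
    (hrM : r ∈ sigma M) : r ∉ beta L := by
  intro hβ
  haveI : Fact r.Prime := ⟨hr⟩
  have hrL : r ∈ sigma L := alpha_subset_sigma hG hL hβ.1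
  obtain ⟨R, hR⟩ := exists_isSylowIn r L
  have hRtop := (sigmaProp_of_mem_sigma hL hrL).isSylowIn_top hR
  have hrank : ¬ PRankLE r 2 ↥R := not_pRankLE_sylow_of_not_pRankLE hR hβ.1.2
  have hU := inUniqueMaximal_of_not_pRankLE hG hr (ne_top_of_le_isCoatom hL hR.le) hrank
  have hσ := sigmaProp_of_mem_sigma hM hrM
  obtain ⟨T, hT⟩ := exists_isSylowIn r M
  have hTtop := hσ.isSylowIn_top hT
  obtain ⟨x, -, hx⟩ := hTtop.exists_conj hRtop
  have h1 : R ≤ M.map (MulAut.conj x).toMonoidHom := by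
    rw [hx]
    exact Subgroup.map_mono hT.le
  exact hnc x (hU.unique ⟨hL, hR.le⟩ ⟨isCoatom_map_conj x hM, h1⟩)

/-- the core of Corollary 12.16 (a). -/
theorem sigma_subgroup_conj_aux (hG : IsMinSimpleOddOrder G) {M : Subgroup G} (hM : IsCoatom M)
    {q : ℕ} [Fact q.Prime] (hq : q ∈ sigma M) {N Y : Subgroup G} (hNq : IsPGroup q N)
    (hN1 : N ≠ ⊥) (hNM : N ≤ M) (hYN : Y ≤ Subgroup.normalizer (N : Set G))
    (hY : ∀ p : ℕ, p.Prime → p ∣ Nat.card Y → p ∈ sigma M) :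
    ∃ g : G, Y.map (MulAut.conj g).toMonoidHom ≤ sigmaCore M := by
  have hqp : q.Prime := Fact.out
  have hNtop : N ≠ ⊤ := ne_top_of_le_isCoatom hM hNM
  have hNN : Subgroup.normalizer (N : Set G) ≠ ⊤ :=
    Cfsg.Agent.Lib.Lead.BGTrans.normalizer_ne_top hG.2 hN1 hNtop
  obtain ⟨L, hL, hNL⟩ := exists_isCoatom_ge hNN
  have hYL : Y ≤ L := hYN.trans hNL
  by_cases hLM : L = M
  · refine ⟨1, ?_⟩
    rw [map_conj_one]
    exact le_sigmaCore_of_sigma_group hG hM (hLM ▸ hYL) hY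
  obtain ⟨S, hS, hNS⟩ := exists_isSylowIn_ge (le_inf hNM (Subgroup.le_normalizer.trans hNL)) hNq
  obtain ⟨hNSM, hSL⟩ := lemma_12_15 hG hM hq hNq hN1 hNL hS hNS
  have hnc : ∀ g : G, L ≠ M.map (MulAut.conj g).toMonoidHom :=
    fun g => ne_conj_of_normalizer_le hG hM hL hq hNq hN1 hNM hNL hLM g
  obtain ⟨C, hCn, hLC, hCr⟩ : ∃ C : Subgroup G, (M ⊓ L) ≤ Subgroup.normalizer (C : Set G) ∧
      L ≤ C ⊔ (M ⊓ L) ∧ ∀ r : ℕ, r.Prime → r ∈ sigma M → ¬ r ∣ Nat.card C := by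
    by_cases hqL : q ∈ sigma L
    · have hqβ : q ∉ beta L := by
        intro hβ
        have hrS : ¬ PRankLE q 2 ↥S := not_pRankLE_sylow_of_not_pRankLE hSL hβ.1.2
        have hU := inUniqueMaximal_of_not_pRankLE hG hqp (ne_top_of_le_isCoatom hL hSL.le) hrS
        exact hLM (hU.unique ⟨hL, hSL.le⟩ ⟨hM, hS.le.trans inf_le_left⟩)
      have hβHall := (Cfsg.Agent.S1414.result hG L hL).1
      refine ⟨piCoreOf (beta L) L, ?_, ?_, ?_⟩
      · refine inf_le_right.trans ?_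
        unfold piCoreOf
        exact le_normalizer_map_subtype_of_normal (piCore (beta L) ↥L)
      · exact (le_beta_sup_normalizer hG hL hqL hqβ hSL).trans
          (sup_le_sup_left (le_inf (inf_le_right.trans hNSM) inf_le_left) _)
      · intro r hr hrM hd
        exact not_mem_beta_of_not_conj hG hM hL hnc hr hrM (hβHall.2.1 r hr hd)
    · have hqτ : q ∈ tau2 L :=
        (mem_sigma_or_tau2_of_normalizer_le hG hL hNq hN1 hNL).resolve_left hqL
      have hrS : ¬ PRankLE q 1 ↥S := not_pRankLE_sylow_of_not_pRankLE hSL hqτ.2.2.2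
      obtain ⟨A, hAS, hAe, hAcard⟩ := exists_elementary_sq_of_not_pRankLE_one hS.isPGroup hrS
      obtain ⟨hnil, hsup⟩ := le_sigmaCore_sup_of_tau2 hG hM hL hq hqτ
        (hAS.trans (hS.le.trans inf_le_left)) (hAS.trans hSL.le) hAe hAcard
      refine ⟨sigmaCore L, inf_le_right.trans (le_normalizer_sigmaCore L), hsup, ?_⟩
      intro r hr hrM
      exact not_dvd_card_sigmaCore_of_nilpotent hG hM hL hnil hnc hr hrM
  have hDn : ∀ r : ℕ, r.Prime → r ∈ sigma M → ¬ r ∣ (sigmaCore M ⊓ L).relIndex L := by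
    intro r hr hrσ hd
    haveI : Fact r.Prime := ⟨hr⟩
    obtain ⟨R, hR⟩ := exists_isSylowIn r (M ⊓ L)
    have hRL : IsSylowIn r R L := isSylowIn_of_le_sup hCn hLC inf_le_right (hCr r hr hrσ) hR
    have hRD : R ≤ sigmaCore M ⊓ L :=
      le_inf (pgroup_le_sigmaCore hG hM hrσ hR.isPGroup (hR.le.trans inf_le_left))
        (hR.le.trans inf_le_right)
    exact hRL.not_dvd_relIndex (hd.trans (Subgroup.relIndex_dvd_of_le_left L hRD))
  have hcopD : (Nat.card (sigmaCore M ⊓ L : Subgroup G)).Coprime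
      ((sigmaCore M ⊓ L).relIndex L) :=
    Nat.coprime_of_dvd (fun k hk hk1 hk2 => hDn k hk
      (mem_sigma_of_dvd_card_sigmaCore hG hM hk
        (hk1.trans (Subgroup.card_dvd_of_le inf_le_left))) hk2)
  have hcopY : (Nat.card Y).Coprime ((sigmaCore M ⊓ L).relIndex L) :=
    Nat.coprime_of_dvd (fun k hk hk1 hk2 => hDn k hk (hY k hk hk1) hk2)
  obtain ⟨g, -, hg⟩ := hall_le_conj_in (isSolvable_of_ne_top hG hL.1) inf_le_right hYL
    hcopD hcopY
  exact ⟨g, hg.trans inf_le_left⟩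

/-- **Bender--Glauberman, Corollary 12.16 (a)**: every nontrivial `σ(M)`-subgroup of `G` is
conjugate to a subgroup of `M_σ`. -/
theorem sigma_subgroup_conj (hG : IsMinSimpleOddOrder G) {M Y : Subgroup G} (hM : IsCoatom M)
    (hY1 : Y ≠ ⊥) (hY : ∀ p : ℕ, p.Prime → p ∣ Nat.card Y → p ∈ sigma M) :
    ∃ g : G, Y.map (MulAut.conj g).toMonoidHom ≤ sigmaCore M := by
  -- `Y` is a proper subgroup
  have hYtop : Y ≠ ⊤ := by
    rintro rfl
    have h1 : M.index ≠ 1 := fun h => hM.1 (Subgroup.index_eq_one.mp h)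
    obtain ⟨r, hr, hrd⟩ := Nat.exists_prime_and_dvd h1
    haveI : Fact r.Prime := ⟨hr⟩
    have h2 : r ∣ Nat.card (⊤ : Subgroup G) := by
      rw [Subgroup.card_top]
      exact hrd.trans (Subgroup.index_dvd_card M)
    exact not_dvd_index_of_mem_sigma hM (hY r hr h2) hrd
  have hYs : Group.IsSolvable Y := isSolvable_of_ne_top hG hYtop
  have hF : fittingOf Y ≠ ⊥ := fittingOf_ne_bot hYs hY1
  have hcard : Nat.card (fittingOf Y) ≠ 1 := fun h => hF (Subgroup.card_eq_one.mp h)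
  obtain ⟨q, hq, hqd⟩ := Nat.exists_prime_and_dvd hcard
  haveI : Fact q.Prime := ⟨hq⟩
  have hN1 : pCoreOf q Y ≠ ⊥ := pCoreOf_ne_bot_of_dvd_card (le_refl _) hq hqd
  have hqσ : q ∈ sigma M :=
    hY q hq (hqd.trans (Subgroup.card_dvd_of_le (fittingOf_le Y)))
  have hσ := sigmaProp_of_mem_sigma hM hqσ
  obtain ⟨T, hT⟩ := exists_isSylowIn q M
  have hTtop := hσ.isSylowIn_top hT
  obtain ⟨T', hT', hNT'⟩ := exists_isSylowIn_ge (le_top : pCoreOf q Y ≤ ⊤) (isPGroup_pCoreOf q Y)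
  obtain ⟨x, -, hx⟩ := hTtop.exists_conj hT'
  -- conjugate by `x⁻¹`
  have hNM : (pCoreOf q Y).map (MulAut.conj x⁻¹).toMonoidHom ≤ M := by
    have h1 : (pCoreOf q Y).map (MulAut.conj x⁻¹).toMonoidHom ≤
        T'.map (MulAut.conj x⁻¹).toMonoidHom := Subgroup.map_mono hNT'
    rw [hx, map_conj_inv_map_conj] at h1
    exact h1.trans hT.le
  have hN1' : (pCoreOf q Y).map (MulAut.conj x⁻¹).toMonoidHom ≠ ⊥ := by
    intro h
    apply hN1
    rw [← map_conj_map_conj_inv x (pCoreOf q Y), h, Subgroup.map_bot]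
  have hYN : Y.map (MulAut.conj x⁻¹).toMonoidHom ≤ Subgroup.normalizer
      (((pCoreOf q Y).map (MulAut.conj x⁻¹).toMonoidHom : Subgroup G) : Set G) := by
    rintro _ ⟨y, hy, rfl⟩
    apply mem_normalizer_map_conj
    have : x⁻¹⁻¹ * ((MulAut.conj x⁻¹).toMonoidHom y) * x⁻¹ = y := by
      simp [mul_assoc]
    rw [this]
    exact le_normalizer_pCoreOf q Y hy
  have hY' : ∀ p : ℕ, p.Prime → p ∣ Nat.card (Y.map (MulAut.conj x⁻¹).toMonoidHom) →
      p ∈ sigma M := by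
    intro p hp hd
    rw [Subgroup.card_map_of_injective (MulAut.conj x⁻¹).injective] at hd
    exact hY p hp hd
  obtain ⟨g, hg⟩ := sigma_subgroup_conj_aux hG hM hqσ ((isPGroup_pCoreOf q Y).map _) hN1' hNM
    hYN hY'
  refine ⟨g * x⁻¹, ?_⟩
  rw [← map_conj_map_conj]
  exact hg

end Cfsg.Agent.Lib.Helper10.BG
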