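import Mathlib
import Cfsg.Prelude
import Cfsg.Agent.Lib.Helper10.BGTwelveG
import Cfsg.Agent.Lib.Helper9.BGExc7
import Cfsg.Agent.S1418

/-!
# Bender--Glauberman, Section 13: prime action (Corollary 13.3 (a))

A cyclic Sylow subgroup `S` of a complement `E` of `M_σ` acts on `M_σ` in a prime manner.
The proof goes through a maximal subgroup `H` with `p ∈ σ(H)` containing `C_{M_σ}(X) S`,
`X = Ω₁(S)`, and the nilpotent Hall `β(H)'`-subgroup of `H_σ`.
-/

set_option autoImplicit false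
open Cfsg
open Cfsg.Agent.Lib.Helper9.BGExc

namespace Cfsg.Agent.Lib.Helper10.BG

variable {G : Type*} [Group G] [Finite G]

omit [Finite G] in
/-- a finite cyclic group has `p`-rank at most one. -/
theorem pRankLE_one_of_isCyclic {p : ℕ} (hp : p.Prime) {T : Type*} [Group T] [Finite T]
    (hT : IsCyclic T) : PRankLE p 1 T := by
  intro B _ hBp
  haveI := hT
  haveI : IsCyclic B := Subgroup.isCyclic B
  have h1 : Monoid.exponent B ∣ p := Monoid.exponent_dvd_of_forall_pow_eq_one (fun b => by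
    apply Subtype.ext
    rw [Subgroup.coe_pow, Subgroup.coe_one]
    exact hBp b b.2)
  rw [IsCyclic.exponent_eq_card] at h1
  rw [pow_one]
  exact Nat.le_of_dvd hp.pos h1

/-- maximal subgroups with different `σ` are not conjugate. -/
theorem ne_conj_of_mem_sigma_of_not_mem {M H : Subgroup G} (hH : IsCoatom H) {p : ℕ}
    [Fact p.Prime] (hpH : p ∈ sigma H) (hpM : p ∉ sigma M) (g : G) :
    H ≠ M.map (MulAut.conj g).toMonoidHom := by
  intro hHg
  apply hpM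
  have h1 : SigmaProp p H := sigmaProp_of_mem_sigma hH hpH
  rw [hHg] at h1
  have h2 := h1.map_conj g⁻¹
  rw [map_conj_inv_map_conj] at h2
  apply mem_sigma_of_sigmaProp h2
  have h3 : Nat.card H = Nat.card M := by
    rw [hHg]
    exact Subgroup.card_map_of_injective (MulAut.conj g).injective
  rw [← h3]
  exact hpH.2.1

/-- **Lemma P**: if `p ∈ σ(H)`, `H` is not conjugate to `M`, `S ≤ H` is a `p`-subgroup and
`Y ≤ H` is an `S`-invariant `σ(M)`-subgroup of order prime to `p`, then `S` centralizes `Y`. -/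
theorem commutator_eq_bot_of_mem_sigma (hG : IsMinSimpleOddOrder G) {M H S Y : Subgroup G}
    (hM : IsCoatom M) (hH : IsCoatom H)
    (hnc : ∀ g : G, H ≠ M.map (MulAut.conj g).toMonoidHom)
    {p : ℕ} [Fact p.Prime] (hpH : p ∈ sigma H) (hSp : IsPGroup p S) (hSH : S ≤ H)
    (hYH : Y ≤ H) (hSY : S ≤ Subgroup.normalizer (Y : Set G))
    (hY : ∀ r : ℕ, r.Prime → r ∣ Nat.card Y → r ∈ sigma M) (hpY : ¬ p ∣ Nat.card Y) :
    ⁅Y, S⁆ = ⊥ := by
  have hpp : p.Prime := Fact.out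
  obtain ⟨W, hWdef⟩ : ∃ W : Subgroup G, W = ⁅Y, S⁆ := ⟨_, rfl⟩
  rw [← hWdef]
  have hWY : W ≤ Y := by
    rw [hWdef]
    exact Cfsg.Agent.Lib.Helper1.commutator_le_of_le_normalizer hSY
  have hcopSY : (Nat.card S).Coprime (Nat.card Y) := by
    obtain ⟨k, hk⟩ := hSp.exists_card_eq
    rw [hk]
    exact Nat.Coprime.pow_left k ((Nat.Prime.coprime_iff_not_dvd hpp).mpr hpY)
  have hact : Cfsg.Agent.Lib.Helper1.CoprimeAct S Y :=
    ⟨hSY, hcopSY, Or.inl (isSolvable_of_ne_top hG (ne_top_of_le_isCoatom hH hSH))⟩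
  have hWW : ⁅W, S⁆ = W := by
    rw [hWdef]
    exact hact.commutator_commutator_eq
  have hSσ : S ≤ sigmaCore H := pgroup_le_sigmaCore hG hH hpH hSp hSH
  have hWH : W ≤ H := hWY.trans hYH
  have hWβ : ∀ r : ℕ, r.Prime → r ∣ Nat.card W → r ∉ beta H := fun r hr hd =>
    not_mem_beta_of_not_conj hG hM hH hnc hr
      (hY r hr (hd.trans (Subgroup.card_dvd_of_le hWY)))
  have hpW : ¬ p ∣ Nat.card W := fun h => hpY (h.trans (Subgroup.card_dvd_of_le hWY))
  obtain ⟨hβHall, -, -, ⟨Hn, hHn, hnil⟩, -⟩ := Cfsg.Agent.S1414.result hG H hH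
  have hβn : H ≤ Subgroup.normalizer (piCoreOf (beta H) H : Set G) := by
    unfold piCoreOf
    exact le_normalizer_map_subtype_of_normal (piCore (beta H) ↥H)
  by_cases hpβ : p ∈ beta H
  · have hSβ : S ≤ piCoreOf (beta H) H :=
      pgroup_le_of_not_dvd_relIndex hβn (hβHall.2.2 p hpp hpβ) hSp hSH
    have hWβ' : W ≤ piCoreOf (beta H) H := by
      rw [← hWW, Subgroup.commutator_le]
      intro w hw s hs
      have h1 : w * s * w⁻¹ ∈ piCoreOf (beta H) H :=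
        conj_mem_of_mem_normalizer (hβn (hWH hw)) (hSβ hs)
      rw [commutatorElement_def]
      exact mul_mem h1 (inv_mem (hSβ hs))
    by_contra hne
    have hcard : Nat.card W ≠ 1 := fun h => hne (Subgroup.card_eq_one.mp h)
    obtain ⟨r, hr, hrd⟩ := Nat.exists_prime_and_dvd hcard
    exact hWβ r hr hrd (hβHall.2.1 r hr (hrd.trans (Subgroup.card_dvd_of_le hWβ')))
  · -- `W S` lies in a nilpotent Hall subgroup of `H_σ`
    have hSW : S ≤ Subgroup.normalizer (W : Set G) := by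
      rw [hWdef]
      exact Cfsg.Agent.Lib.Helper1.le_normalizer_commutator_right
    have hWσ : W ≤ sigmaCore H := by
      rw [hWdef, Subgroup.commutator_le]
      intro y hy s hs
      have h1 : y * s * y⁻¹ ∈ sigmaCore H :=
        conj_mem_of_mem_normalizer (le_normalizer_sigmaCore H (hYH hy)) (hSσ hs)
      rw [commutatorElement_def]
      exact mul_mem h1 (inv_mem (hSσ hs))
    have hKσ : W ⊔ S ≤ sigmaCore H := sup_le hWσ hSσ
    have hKcard : Nat.card (W ⊔ S : Subgroup G) ∣ Nat.card W * Nat.card S :=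
      Cfsg.Agent.Lib.Helper9.card_sup_dvd_of_le_normalizer hSW
    have hKβ : ∀ r : ℕ, r.Prime → r ∣ Nat.card (W ⊔ S : Subgroup G) → r ∉ beta H := by
      intro r hr hd
      rcases (Nat.Prime.dvd_mul hr).mp (hd.trans hKcard) with h | h
      · exact hWβ r hr h
      · obtain ⟨k, hk⟩ := hSp.exists_card_eq
        rw [hk] at h
        have : r = p := (Nat.prime_dvd_prime_iff_eq hr hpp).mp (hr.dvd_of_dvd_pow h)
        rw [this]
        exact hpβ
    have c1 : (Nat.card Hn).Coprime (Hn.relIndex (sigmaCore H)) :=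
      Nat.coprime_of_dvd (fun k hk hk1 hk2 => hHn.2.2 k hk (hHn.2.1 k hk hk1) hk2)
    have c2 : (Nat.card (W ⊔ S : Subgroup G)).Coprime (Hn.relIndex (sigmaCore H)) :=
      Nat.coprime_of_dvd (fun k hk hk1 hk2 => hHn.2.2 k hk ⟨hk, hKβ k hk hk1⟩ hk2)
    obtain ⟨g, -, hg⟩ := hall_le_conj_in
      (isSolvable_of_ne_top hG (ne_top_of_le_isCoatom hH (sigmaCore_le H))) hHn.1 hKσ c1 c2
    have hKnil' : Group.IsNilpotent ((W ⊔ S).map (MulAut.conj g).toMonoidHom) :=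
      isNilpotent_of_le hg hnil
    have hKnil : Group.IsNilpotent (W ⊔ S : Subgroup G) := by
      haveI := hKnil'
      exact Group.nilpotent_of_mulEquiv
        (Subgroup.equivMapOfInjective (W ⊔ S) (MulAut.conj g).toMonoidHom
          (MulAut.conj g).injective).symm
    have hS1 : S ≤ pCoreOf p (W ⊔ S) :=
      Cfsg.Agent.Lib.Helper9.BG10.pgroup_le_pCoreOf_of_nilpotent hKnil hpp le_sup_right hSp
    have hW1 : W ≤ ppCoreOf p (W ⊔ S) :=
      le_ppCoreOf le_sup_left (sup_le Subgroup.le_normalizer hSW)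
        ((Nat.Prime.coprime_iff_not_dvd hpp).mpr hpW).symm
    have h1 : W ≤ ⁅ppCoreOf p (W ⊔ S), pCoreOf p (W ⊔ S)⁆ :=
      calc W = ⁅W, S⁆ := hWW.symm
        _ ≤ ⁅ppCoreOf p (W ⊔ S), pCoreOf p (W ⊔ S)⁆ := Subgroup.commutator_mono hW1 hS1
    have h2 : ⁅ppCoreOf p (W ⊔ S), pCoreOf p (W ⊔ S)⁆ ≤ ppCoreOf p (W ⊔ S) :=
      Cfsg.Agent.Lib.Helper1.commutator_le_of_le_normalizer
        ((pCoreOf_le p _).trans (le_normalizer_ppCoreOf p _))
    have h3 : ⁅ppCoreOf p (W ⊔ S), pCoreOf p (W ⊔ S)⁆ ≤ pCoreOf p (W ⊔ S) := by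
      rw [Subgroup.commutator_comm]
      exact Cfsg.Agent.Lib.Helper1.commutator_le_of_le_normalizer
        ((ppCoreOf_le p _).trans (le_normalizer_pCoreOf p _))
    have h4 : ppCoreOf p (W ⊔ S) ⊓ pCoreOf p (W ⊔ S) = ⊥ := by
      apply inf_eq_bot_of_coprime
      obtain ⟨k, hk⟩ := (isPGroup_pCoreOf p (W ⊔ S)).exists_card_eq
      rw [hk]
      exact Nat.Coprime.pow_right k (coprime_card_ppCoreOf p (W ⊔ S))
    rw [eq_bot_iff, ← h4]
    exact le_inf (h1.trans h2) (h1.trans h3)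

/-- **Lemma Q**: for `p ∉ σ(M)` with `M` of `p`-rank at most one and `X` of order `p`, every
subgroup of `N_G(X)` whose primes lie in `σ(M) ∪ {p}` is contained in a maximal subgroup `H`
with `p ∈ σ(H)`. -/
theorem exists_coatom_mem_sigma_ge (hG : IsMinSimpleOddOrder G) {M : Subgroup G}
    (hM : IsCoatom M) {p : ℕ} [Fact p.Prime] {T X K₀ : Subgroup G}
    (hT : IsSylowIn p T M) (hTc : IsCyclic T) (hX : Nat.card X = p)
    (hK₀ : K₀ ≤ Subgroup.normalizer (X : Set G))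
    (hK₀π : ∀ r : ℕ, r.Prime → r ∣ Nat.card K₀ → r ∈ sigma M ∨ r = p) :
    ∃ H : Subgroup G, IsCoatom H ∧ p ∈ sigma H ∧ K₀ ≤ H := by
  have hpp : p.Prime := Fact.out
  have hXp : IsPGroup p X := IsPGroup.of_card (n := 1) (by rw [hX, pow_one])
  have hX1 : X ≠ ⊥ := ne_bot_of_card_prime hX
  have hXtop : X ≠ ⊤ := by
    intro h
    apply hG.2.2.1
    have h1 : Nat.card G = p := by rw [← Subgroup.card_top (G := G), ← h, hX]
    haveI : IsCyclic G := isCyclic_of_prime_card h1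
    exact IsCyclic.isMulCommutative
  have hNX : Subgroup.normalizer (X : Set G) ≠ ⊤ :=
    Cfsg.Agent.Lib.Lead.BGTrans.normalizer_ne_top hG.2 hX1 hXtop
  obtain ⟨H₁, hH₁, hNH₁⟩ := exists_isCoatom_ge hNX
  rcases mem_sigma_or_tau2_of_normalizer_le hG hH₁ hXp hX1 hNH₁ with hσ | hτ
  · exact ⟨H₁, hH₁, hσ, hK₀.trans hNH₁⟩
  -- the case `p ∈ τ₂(H₁)`
  have hnc : ∀ g : G, H₁ ≠ M.map (MulAut.conj g).toMonoidHom := by
    intro g hg
    have h1 : IsSylowIn p (T.map (MulAut.conj g).toMonoidHom) H₁ := by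
      rw [hg]
      exact hT.map_conj_gen g
    have h2 : ¬ PRankLE p 1 ↥(T.map (MulAut.conj g).toMonoidHom) :=
      not_pRankLE_sylow_of_not_pRankLE h1 hτ.2.2.2
    have h3 : IsCyclic ↥(T.map (MulAut.conj g).toMonoidHom) :=
      (MulEquiv.isCyclic (Subgroup.equivMapOfInjective T (MulAut.conj g).toMonoidHom
        (MulAut.conj g).injective)).mp hTc
    exact h2 (pRankLE_one_of_isCyclic hpp h3)
  obtain ⟨A₀, hA₀H, hA₀e, hA₀c⟩ :=
    Cfsg.Agent.Lib.Helper9.BG10.exists_elementary_sq hτ.2.2.1 hτ.2.2.2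
  have hnil : Group.IsNilpotent (sigmaCore H₁) :=
    (Cfsg.Agent.S1417.result hG H₁ hH₁ p hτ A₀ ⟨hA₀H, hA₀e, hA₀c⟩).1
  have hpσ : ¬ p ∣ Nat.card (sigmaCore H₁) := fun h =>
    hτ.2.1 (mem_sigma_of_dvd_card_sigmaCore hG hH₁ hpp h)
  have hcop : (Nat.card K₀).Coprime (Nat.card (sigmaCore H₁)) := by
    apply Nat.coprime_of_dvd
    intro k hk hk1 hk2
    rcases hK₀π k hk hk1 with h | h
    · exact not_dvd_card_sigmaCore_of_nilpotent hG hM hH₁ hnil hnc hk h hk2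
    · rw [h] at hk2
      exact hpσ hk2
  obtain ⟨E₁, hE₁, hKE₁⟩ := exists_isComplIn_sigmaCore_ge hG hH₁ (hK₀.trans hNH₁) hcop
  obtain ⟨T₁, hT₁⟩ := exists_isSylowIn p E₁
  have hT₁H : IsSylowIn p T₁ H₁ := by
    apply isSylowIn_of_le_sup (hE₁.1.trans (le_normalizer_sigmaCore H₁)) _ hE₁.1 hpσ hT₁
    intro m hm
    obtain ⟨a, ha, b, hb, rfl⟩ := hE₁.2.2.2 m hm
    have hn : a * b = (a * b * a⁻¹) * a := by group
    rw [hn]
    exact Subgroup.mul_mem _
      (Subgroup.mem_sup_left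
        (conj_mem_of_mem_normalizer (le_normalizer_sigmaCore H₁ (hE₁.1 ha)) hb))
      (Subgroup.mem_sup_right ha)
  have hrT₁ : ¬ PRankLE p 1 ↥T₁ := not_pRankLE_sylow_of_not_pRankLE hT₁H hτ.2.2.2
  obtain ⟨A₁, hA₁T, hA₁e, hA₁c⟩ := exists_elementary_sq_of_not_pRankLE_one hT₁.isPGroup hrT₁
  have hA₁E : A₁ ≤ E₁ := hA₁T.trans hT₁.le
  have h18 := Cfsg.Agent.S1418.result hG H₁ hH₁ E₁ hE₁ p hτ A₁ ⟨hA₁E, hA₁e, hA₁c⟩
  have hEN : E₁ ≤ Subgroup.normalizer (A₁ : Set G) := h18.1.1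
  have hA₁p : IsPGroup p A₁ := IsPGroup.of_card hA₁c
  have hA₁1 : A₁ ≠ ⊥ := ne_bot_of_card_sq hA₁c
  have hA₁top : A₁ ≠ ⊤ := ne_top_of_le_isCoatom hH₁ (hA₁E.trans hE₁.1)
  have hNA : Subgroup.normalizer (A₁ : Set G) ≠ ⊤ :=
    Cfsg.Agent.Lib.Lead.BGTrans.normalizer_ne_top hG.2 hA₁1 hA₁top
  obtain ⟨Hs, hHs, hNHs⟩ := exists_isCoatom_ge hNA
  refine ⟨Hs, hHs, ?_, (hKE₁.trans hEN).trans hNHs⟩
  rcases mem_sigma_or_tau2_of_normalizer_le hG hHs hA₁p hA₁1 hNHs with h | h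
  · exact h
  · exfalso
    have hA₁Hs : A₁ ≤ Hs := Subgroup.le_normalizer.trans hNHs
    have hcop' : (Nat.card A₁).Coprime (Nat.card (sigmaCore Hs)) := by
      rw [hA₁c]
      exact Nat.Coprime.pow_left 2 (coprime_card_sigmaCore hG hHs hpp h.2.1).symm
    obtain ⟨Es, hEs, hAEs⟩ := exists_isComplIn_sigmaCore_ge hG hHs hA₁Hs hcop'
    exact (Cfsg.Agent.S1418.result hG Hs hHs Es hEs p h A₁ ⟨hAEs, hA₁e, hA₁c⟩).2.1.2.2 hNHs

/-- **Bender--Glauberman, Corollary 13.3 (a)**, core form: for `p ∉ σ(M)`, `T` a cyclic Sylow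
`p`-subgroup of `M` and `X ≤ T` of order `p`, `T` centralizes `C_{M_σ}(X)`. -/
theorem sigmaCore_inf_centralizer_le_of_cyclic (hG : IsMinSimpleOddOrder G) {M : Subgroup G}
    (hM : IsCoatom M) {p : ℕ} [Fact p.Prime] (hpM : p ∉ sigma M) {T X : Subgroup G}
    (hT : IsSylowIn p T M) (hTc : IsCyclic T) (hX : Nat.card X = p) (hXT : X ≤ T) :
    sigmaCore M ⊓ Subgroup.centralizer (X : Set G) ≤ Subgroup.centralizer (T : Set G) := by
  have hpp : p.Prime := Fact.out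
  haveI : IsMulCommutative T := by
    haveI := hTc
    exact IsCyclic.isMulCommutative
  have hTX : T ≤ Subgroup.centralizer (X : Set G) := by
    intro t ht
    rw [Subgroup.mem_centralizer_iff]
    intro x hx
    have h1 : (⟨x, hXT hx⟩ : T) * ⟨t, ht⟩ = ⟨t, ht⟩ * ⟨x, hXT hx⟩ := mul_comm' _ _
    exact congrArg Subtype.val h1
  obtain ⟨Y₀, hY₀⟩ : ∃ Y₀ : Subgroup G,
      Y₀ = sigmaCore M ⊓ Subgroup.centralizer (X : Set G) := ⟨_, rfl⟩
  rw [← hY₀]
  have hTY : T ≤ Subgroup.normalizer (Y₀ : Set G) := by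
    rw [hY₀]
    exact le_normalizer_inf (hT.le.trans (le_normalizer_sigmaCore M))
      (le_normalizer_centralizer (hTX.trans (Subgroup.centralizer_le_normalizer _)))
  have hYπ : ∀ r : ℕ, r.Prime → r ∣ Nat.card Y₀ → r ∈ sigma M := by
    intro r hr hd
    rw [hY₀] at hd
    exact mem_sigma_of_dvd_card_sigmaCore hG hM hr
      (hd.trans (Subgroup.card_dvd_of_le inf_le_left))
  have hK₀ : Y₀ ⊔ T ≤ Subgroup.normalizer (X : Set G) := by
    apply sup_le
    · rw [hY₀]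
      exact inf_le_right.trans (Subgroup.centralizer_le_normalizer _)
    · exact hTX.trans (Subgroup.centralizer_le_normalizer _)
  have hK₀π : ∀ r : ℕ, r.Prime → r ∣ Nat.card (Y₀ ⊔ T : Subgroup G) → r ∈ sigma M ∨ r = p := by
    intro r hr hd
    have h1 := hd.trans (Cfsg.Agent.Lib.Helper9.card_sup_dvd_of_le_normalizer hTY)
    rcases (Nat.Prime.dvd_mul hr).mp h1 with h | h
    · exact Or.inl (hYπ r hr h)
    · obtain ⟨k, hk⟩ := hT.isPGroup.exists_card_eq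
      rw [hk] at h
      exact Or.inr ((Nat.prime_dvd_prime_iff_eq hr hpp).mp (hr.dvd_of_dvd_pow h))
  obtain ⟨H, hH, hpH, hKH⟩ := exists_coatom_mem_sigma_ge hG hM hT hTc hX hK₀ hK₀π
  have hnc := ne_conj_of_mem_sigma_of_not_mem (M := M) hH hpH hpM
  have hpY : ¬ p ∣ Nat.card Y₀ := fun h => hpM (hYπ p hpp h)
  have h1 := commutator_eq_bot_of_mem_sigma hG hM hH hnc hpH hT.isPGroup
    (le_sup_right.trans hKH) (le_sup_left.trans hKH) hTY hYπ hpY
  exact Subgroup.commutator_eq_bot_iff_le_centralizer.mp h1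

end Cfsg.Agent.Lib.Helper10.BG
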