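import Mathlib
import Cfsg.Agent.Lib.Helper29.BG13K2

/-!
B & G, Section 13, the configuration where a Hall `τ₃(M)`-subgroup `E₃` of a complement `E` of `M_σ`
does not act regularly on `M_σ` ("Case II" of the proof of Lemma 14.2 / Corollary 13.7):
if every subgroup of prime order of the Hall `τ₁(M)`-subgroup `E₁` centralizes `E₃`, then `E₁`
centralizes `C_{M_σ}(E₃)`, and `E` acts in a prime manner on `M_σ`.
-/

set_option autoImplicit false
set_option linter.unusedVariables false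
set_option linter.unusedSectionVars false
set_option linter.style.longLine false
set_option linter.unusedSimpArgs false

open Cfsg
open scoped commutatorElement
open Cfsg.Agent.Lib.Helper10.BG
open Cfsg.Agent.Lib.Helper10
open Cfsg.Agent.Lib.Helper9.BGExc
open Cfsg.Agent.Lib.Helper19.BG12
open Cfsg.Agent.Lib.Helper19.BGCompl
open Cfsg.Agent.Lib.Helper29.BG1212
open Cfsg.Agent.Lib.Helper29.BG13K
open Cfsg.Agent.Lib.Helper7.BG13

namespace Cfsg.Agent.Lib.Helper10.BG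

variable {G : Type*} [Group G] [Finite G]

/-- **Lemma A.** `R ≠ 1` an `r`-subgroup of `M`, `r ∈ τ₁(M) ∪ τ₃(M)`, `N_G(R) ≤ H`; `X ≤ M ∩ H` of
prime order `p ∉ σ(M)` not centralizing `M_σ ∩ H`.  Then `p ∈ τ₁(H)`, `r ∈ σ(H)`, and every
`p`-subgroup `P₁ ≥ X` of `H` centralizes `C_{H_σ}(X)`. -/
theorem centralizer_le_of_not_centralize (hG : IsMinSimpleOddOrder G) {M H R X P₁ : Subgroup G}
    (hM : IsCoatom M) (hH : IsCoatom H) {r p : ℕ} [Fact r.Prime] [Fact p.Prime]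
    (hr : r ∈ tau1 M ∨ r ∈ tau3 M) (hRr : IsPGroup r R) (hR1 : R ≠ ⊥)
    (hNR : Subgroup.normalizer (R : Set G) ≤ H)
    (hpσ : p ∉ sigma M) (hXMH : X ≤ M ⊓ H) (hX : Nat.card X = p)
    (hnc : ⁅sigmaCore M ⊓ H, X⁆ ≠ ⊥)
    (hP₁H : P₁ ≤ H) (hP₁ : IsPGroup p P₁) (hXP₁ : X ≤ P₁) :
    p ∈ tau1 H ∧ r ∈ sigma H ∧
      sigmaCore H ⊓ Subgroup.centralizer (X : Set G) ≤ Subgroup.centralizer (P₁ : Set G) := by
  have hpp : p.Prime := Fact.out
  obtain ⟨-, -, h2b, h2c⟩ := cor_13_2 hG hM hH hr hRr hR1 hNR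
  have hpτ : p ∈ tau1 H := by
    by_contra hcon
    apply hnc
    apply h2b X hXMH
    intro r' hr' hd
    rw [hX] at hd
    have h1 : r' = p := (Nat.prime_dvd_prime_iff_eq hr' hpp).mp hd
    rw [h1]
    exact ⟨hpσ, hcon⟩
  have hrσ : r ∈ sigma H := by
    apply (h2c _).1
    intro h
    apply hnc
    rw [eq_bot_iff, ← h]
    exact Subgroup.commutator_mono le_rfl hXMH
  refine ⟨hpτ, hrσ, ?_⟩
  obtain ⟨T, hT, hP₁T⟩ := exists_isSylowIn_ge hP₁H hP₁
  have hX1 : X ≠ ⊥ := by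
    intro h
    rw [h, Subgroup.card_bot] at hX
    exact hpp.one_lt.ne hX
  have hP₁1 : P₁ ≠ ⊥ := fun h => hX1 (le_bot_iff.mp (h ▸ hXP₁))
  have hp2 : p ≠ 2 := prime_ne_two_of_pgroup hG hP₁ hP₁1
  have hTc : IsCyclic T := isCyclic_of_pRankLE_one hp2 hpτ.2.2.2.2 hT.le hT.isPGroup
  exact (sigmaCore_inf_centralizer_le_of_cyclic hG hH hpτ.2.1 hT hTc hX (hXP₁.trans hP₁T)).trans
    (Subgroup.centralizer_le hP₁T)

/-- core step: a `p`-subgroup `P₁` of `E` whose subgroup `X` of order `p` centralizes `E₃` but not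
`C_{M_σ}(E₃)` centralizes `E₃`. -/
theorem le_centralizer_tau3_of_omega (hG : IsMinSimpleOddOrder G) {M E E₃ : Subgroup G}
    (hM : IsCoatom M) (hE : IsComplIn E (sigmaCore M) M) (hE₃ : IsPiHallOf (tau3 M) E₃ E)
    {p : ℕ} [Fact p.Prime] {P₁ X : Subgroup G} (hP₁E : P₁ ≤ E) (hP₁ : IsPGroup p P₁)
    (hXP₁ : X ≤ P₁) (hX : Nat.card X = p)
    (hXc : X ≤ Subgroup.centralizer (E₃ : Set G))
    (hnc : ¬ sigmaCore M ⊓ Subgroup.centralizer (E₃ : Set G) ≤ Subgroup.centralizer (X : Set G)) :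
    P₁ ≤ Subgroup.centralizer (E₃ : Set G) := by
  have hpp : p.Prime := Fact.out
  obtain ⟨-, -, h3⟩ := Cfsg.Agent.S1415.result hG M hM E hE
  obtain ⟨hcyc, -, hEn⟩ := h3 E₃ hE₃
  have hEM : E ≤ M := hE.1
  have hpσ : p ∉ sigma M := by
    apply compl_not_mem_sigma hG hM hE hpp
    rw [← hX]
    exact Subgroup.card_dvd_of_le (hXP₁.trans hP₁E)
  rw [Subgroup.le_centralizer_iff]
  apply le_of_forall_isSylowIn_le
  intro r hr
  haveI : Fact r.Prime := ⟨hr⟩
  obtain ⟨R₁, hR₁⟩ := exists_isSylowIn r E₃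
  refine ⟨R₁, hR₁, ?_⟩
  by_cases hR₁1 : R₁ = ⊥
  · rw [hR₁1]
    exact bot_le
  obtain ⟨R, hRR₁, hR⟩ := exists_le_card_prime hR₁1
  have hRr : Nat.card R = r := by
    have h1 : Nat.card R ∣ Nat.card R₁ := Subgroup.card_dvd_of_le hRR₁
    obtain ⟨k, hk⟩ := hR₁.isPGroup.exists_card_eq
    rw [hk] at h1
    exact (Nat.prime_dvd_prime_iff_eq hR hr).mp (hR.dvd_of_dvd_pow h1)
  have hRE₃ : R ≤ E₃ := hRR₁.trans hR₁.le
  have hr3 : r ∈ tau3 M := by
    apply hE₃.2.1 r hr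
    rw [← hRr]
    exact Subgroup.card_dvd_of_le hRE₃
  obtain ⟨H, hH, hNR⟩ := exists_coatom_normalizer_ge hG hR
  have hEH : E ≤ H := (le_normalizer_of_le_cyclic hEn hcyc hRE₃).trans hNR
  have hRp : IsPGroup r R := by
    have := isPGroup_of_card_prime hR
    rwa [hRr] at this
  have hR1 : R ≠ ⊥ := ne_bot_of_card_prime hRr
  have hDH : sigmaCore M ⊓ Subgroup.centralizer (E₃ : Set G) ≤ sigmaCore M ⊓ H := by
    apply le_inf inf_le_left
    refine inf_le_right.trans (le_trans ?_ hNR)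
    exact (Subgroup.centralizer_le hRE₃).trans (Subgroup.centralizer_le_normalizer _)
  have hncH : ⁅sigmaCore M ⊓ H, X⁆ ≠ ⊥ := by
    intro h
    apply hnc
    rw [← Subgroup.commutator_eq_bot_iff_le_centralizer]
    rw [eq_bot_iff, ← h]
    exact Subgroup.commutator_mono hDH le_rfl
  have hXE : X ≤ E := hXP₁.trans hP₁E
  obtain ⟨-, hrσ, hcen⟩ := centralizer_le_of_not_centralize hG hM hH (Or.inr hr3) hRp hR1 hNR hpσ
    (le_inf (hXE.trans hEM) (hXE.trans hEH)) hX hncH (hP₁E.trans hEH) hP₁ hXP₁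
  have hR₁H : R₁ ≤ sigmaCore H := by
    apply le_sigmaCore_of_sigma_group hG hH ((hR₁.le.trans hE₃.1).trans hEH)
    intro q hq hd
    obtain ⟨k, hk⟩ := hR₁.isPGroup.exists_card_eq
    rw [hk] at hd
    have h1 : q = r := (Nat.prime_dvd_prime_iff_eq hq hr).mp (hq.dvd_of_dvd_pow hd)
    rw [h1]
    exact hrσ
  have hR₁X : R₁ ≤ Subgroup.centralizer (X : Set G) := by
    rw [Subgroup.le_centralizer_iff]
    exact hXc.trans (Subgroup.centralizer_le hR₁.le)
  exact (le_inf hR₁H hR₁X).trans hcen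

/-- `τ₁(M)` and `τ₃(M)` are disjoint. -/
theorem not_mem_tau3_of_mem_tau1 {M : Subgroup G} {p : ℕ} (h : p ∈ tau1 M) : p ∉ tau3 M :=
  fun h3 => h.2.2.2.1 h3.2.2.1

/-- when `τ₂(M)` is empty, a complement `E` of `M_σ` is generated by its Hall `τ₃`- and
`τ₁`-subgroups. -/
theorem compl_le_tau3_sup_tau1 (hG : IsMinSimpleOddOrder G) {M E E₁ E₃ : Subgroup G}
    (hM : IsCoatom M) (hE : IsComplIn E (sigmaCore M) M)
    (hE₁ : IsPiHallOf (tau1 M) E₁ E) (hE₃ : IsPiHallOf (tau3 M) E₃ E)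
    (hτ₂ : ∀ q : ℕ, q ∉ tau2 M) : E ≤ E₃ ⊔ E₁ := by
  apply le_sup_of_hall (π := tau3 M) hE₃.1 hE₁.1 hE₃.2.1 hE₃.2.2
  · intro p hp hd
    exact not_mem_tau3_of_mem_tau1 (hE₁.2.1 p hp hd)
  · intro p hp hp3 hd
    have hdE : p ∣ Nat.card E := by
      rw [← Cfsg.Agent.Lib.Helper12.card_mul_relIndex_eq hE₁.1]
      exact hd.mul_left _
    rcases mem_tau_of_dvd_card hG hM hE hp hdE with h | h
    · rcases h with h | h
      · exact hE₁.2.2 p hp h hd
      · exact hp3 h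
    · exact hτ₂ p h

/-- **Case II, types (II-0) and (II-β)**: if `C_{M_σ}(E₃) ≠ 1`-type hypotheses hold in the form
"`τ₂(M) = ∅`, `E₃ ≠ 1` and every subgroup of prime order of `E₁` centralizes `E₃`", then every
subgroup of prime order of `E₁` centralizes `C_{M_σ}(E₃)`. -/
theorem tau3_centralizer_le_of_card_prime (hG : IsMinSimpleOddOrder G) {M E E₁ E₃ : Subgroup G}
    (hM : IsCoatom M) (hE : IsComplIn E (sigmaCore M) M)
    (hE₁ : IsPiHallOf (tau1 M) E₁ E) (hE₃ : IsPiHallOf (tau3 M) E₃ E)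
    (hτ₂ : ∀ q : ℕ, q ∉ tau2 M) (hE₃1 : E₃ ≠ ⊥)
    (hβ : ∀ X : Subgroup G, X ≤ E₁ → (Nat.card X).Prime →
      X ≤ Subgroup.centralizer (E₃ : Set G)) :
    ∀ X : Subgroup G, X ≤ E₁ → (Nat.card X).Prime →
      sigmaCore M ⊓ Subgroup.centralizer (E₃ : Set G) ≤ Subgroup.centralizer (X : Set G) := by
  intro X₀ hX₀E₁ hX₀ 
  by_contra hnc
  obtain ⟨-, -, h3⟩ := Cfsg.Agent.S1415.result hG M hM E hE
  obtain ⟨hcyc, hE₃E', hEn⟩ := h3 E₃ hE₃
  have hE₁ab := commute_of_tau1_group (M := M) (hE₁.1.trans hE.1) hE₁.2.1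
  -- no subgroup of prime order of `E₁` centralizes `D`
  have hall : ∀ X : Subgroup G, X ≤ E₁ → (Nat.card X).Prime →
      ¬ sigmaCore M ⊓ Subgroup.centralizer (E₃ : Set G) ≤ Subgroup.centralizer (X : Set G) := by
    intro X hXE₁ hX hc
    apply hnc
    have heq := tau1_centralizer_eq hG hM hE (hXE₁.trans hE₁.1) (hX₀E₁.trans hE₁.1)
      (hE₁.2.1 _ hX (Subgroup.card_dvd_of_le hXE₁)) (hE₁.2.1 _ hX₀ (Subgroup.card_dvd_of_le hX₀E₁))
      (fun a ha b hb => hE₁ab a (hXE₁ ha) b (hX₀E₁ hb))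
    have h1 : sigmaCore M ⊓ Subgroup.centralizer (E₃ : Set G) ≤
        sigmaCore M ⊓ Subgroup.centralizer (X : Set G) := le_inf inf_le_left hc
    rw [heq] at h1
    exact h1.trans inf_le_right
  -- hence `E₁` centralizes `E₃`
  have hE₁c : E₁ ≤ Subgroup.centralizer (E₃ : Set G) := by
    apply le_of_forall_isSylowIn_le
    intro p hp
    haveI : Fact p.Prime := ⟨hp⟩
    obtain ⟨T, hT⟩ := exists_isSylowIn p E₁
    refine ⟨T, hT, ?_⟩
    by_cases hT1 : T = ⊥
    · rw [hT1]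
      exact bot_le
    obtain ⟨X, hXT, hX⟩ := exists_le_card_prime hT1
    have hXp : Nat.card X = p := by
      have h1 : Nat.card X ∣ Nat.card T := Subgroup.card_dvd_of_le hXT
      obtain ⟨k, hk⟩ := hT.isPGroup.exists_card_eq
      rw [hk] at h1
      exact (Nat.prime_dvd_prime_iff_eq hX hp).mp (hX.dvd_of_dvd_pow h1)
    have hXE₁ : X ≤ E₁ := hXT.trans hT.le
    exact le_centralizer_tau3_of_omega hG hM hE hE₃ (hT.le.trans hE₁.1) hT.isPGroup hXT hXp
      (hβ X hXE₁ hX) (hall X hXE₁ hX)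
  -- so `E` is abelian and `E₃ ≤ E' = 1`
  have hE₃ab : ∀ a ∈ E₃, ∀ b ∈ E₃, a * b = b * a := by
    intro a ha b hb
    haveI := hcyc
    have h1 : (⟨a, ha⟩ : E₃) * ⟨b, hb⟩ = ⟨b, hb⟩ * ⟨a, ha⟩ :=
      (IsCyclic.commGroup (α := E₃)).mul_comm _ _
    exact congrArg Subtype.val h1
  have hEle := compl_le_tau3_sup_tau1 hG hM hE hE₁ hE₃ hτ₂
  have hE₃cen : E₃ ⊔ E₁ ≤ Subgroup.centralizer ((E₃ ⊔ E₁ : Subgroup G) : Set G) := by
    have h1 : E₃ ≤ Subgroup.centralizer ((E₃ ⊔ E₁ : Subgroup G) : Set G) := by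
      rw [Subgroup.le_centralizer_iff]
      apply sup_le
      · intro a ha
        rw [Subgroup.mem_centralizer_iff]
        intro b hb
        exact hE₃ab b hb a ha
      · exact hE₁c
    have h2 : E₁ ≤ Subgroup.centralizer ((E₃ ⊔ E₁ : Subgroup G) : Set G) := by
      rw [Subgroup.le_centralizer_iff]
      apply sup_le
      · rw [← Subgroup.le_centralizer_iff]
        exact hE₁c
      · intro a ha
        rw [Subgroup.mem_centralizer_iff]
        intro b hb
        exact hE₁ab b hb a ha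
    exact sup_le h1 h2
  have hEab : ⁅E, E⁆ = ⊥ := by
    rw [Subgroup.commutator_eq_bot_iff_le_centralizer]
    exact hEle.trans (hE₃cen.trans (Subgroup.centralizer_le hEle))
  apply hE₃1
  rw [eq_bot_iff, ← hEab]
  exact hE₃E'

/-- in the situation of `tau3_centralizer_le_of_card_prime`, all of `E` centralizes
`C_{M_σ}(E₃)`. -/
theorem tau3_centralizer_le_centralizer_compl (hG : IsMinSimpleOddOrder G)
    {M E E₁ E₃ : Subgroup G}
    (hM : IsCoatom M) (hE : IsComplIn E (sigmaCore M) M)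
    (hE₁ : IsPiHallOf (tau1 M) E₁ E) (hE₃ : IsPiHallOf (tau3 M) E₃ E)
    (hτ₂ : ∀ q : ℕ, q ∉ tau2 M) (hE₃1 : E₃ ≠ ⊥)
    (hβ : ∀ X : Subgroup G, X ≤ E₁ → (Nat.card X).Prime →
      X ≤ Subgroup.centralizer (E₃ : Set G)) :
    sigmaCore M ⊓ Subgroup.centralizer (E₃ : Set G) ≤ Subgroup.centralizer (E : Set G) := by
  have hB := tau3_centralizer_le_of_card_prime hG hM hE hE₁ hE₃ hτ₂ hE₃1 hβ
  have hEle := compl_le_tau3_sup_tau1 hG hM hE hE₁ hE₃ hτ₂
  refine le_trans ?_ (Subgroup.centralizer_le hEle)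
  rw [← Subgroup.le_centralizer_iff]
  apply sup_le
  · rw [Subgroup.le_centralizer_iff]
    exact inf_le_right
  · apply le_of_forall_isSylowIn_le
    intro p hp
    haveI : Fact p.Prime := ⟨hp⟩
    obtain ⟨T, hT⟩ := exists_isSylowIn p E₁
    refine ⟨T, hT, ?_⟩
    by_cases hT1 : T = ⊥
    · rw [hT1]
      exact bot_le
    obtain ⟨X, hXT, hX⟩ := exists_le_card_prime hT1
    have hXp : Nat.card X = p := by
      have h1 : Nat.card X ∣ Nat.card T := Subgroup.card_dvd_of_le hXT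
      obtain ⟨k, hk⟩ := hT.isPGroup.exists_card_eq
      rw [hk] at h1
      exact (Nat.prime_dvd_prime_iff_eq hX hp).mp (hX.dvd_of_dvd_pow h1)
    have hXE₁ : X ≤ E₁ := hXT.trans hT.le
    have hpτ : p ∈ tau1 M := by
      apply hE₁.2.1 p hp
      rw [← hXp]
      exact Subgroup.card_dvd_of_le hXE₁
    have hTE : IsSylowIn p T E := hT.of_not_dvd_relIndex hE₁.1 (hE₁.2.2 p hp hpτ)
    have hTM : IsSylowIn p T M := IsComplIn.isSylowIn hG hM hE hpτ.2.1 hTE
    have hp2 : p ≠ 2 := prime_ne_two_of_pgroup hG hT.isPGroup hT1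
    have hTc : IsCyclic T := isCyclic_of_pRankLE_one hp2 hpτ.2.2.2.2 hTM.le hT.isPGroup
    rw [Subgroup.le_centralizer_iff]
    refine le_trans (le_inf inf_le_left (hB X hXE₁ hX)) ?_
    exact sigmaCore_inf_centralizer_le_of_cyclic hG hM hpτ.2.1 hTM hTc hXp hXT

/-- **Corollary 13.7 in the case where the subgroups of prime order of `E₁` centralize `E₃`**:
every subgroup `T` of prime order of `E` is normal in `E` and `C_{M_σ}(T) ≤ C(E)`. -/
theorem card_prime_compl_of_tau3_nonregular (hG : IsMinSimpleOddOrder G)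
    {M E E₁ E₃ : Subgroup G}
    (hM : IsCoatom M) (hE : IsComplIn E (sigmaCore M) M)
    (hE₁ : IsPiHallOf (tau1 M) E₁ E) (hE₃ : IsPiHallOf (tau3 M) E₃ E)
    (hτ₂ : ∀ q : ℕ, q ∉ tau2 M) (hE₃1 : E₃ ≠ ⊥)
    (hβ : ∀ X : Subgroup G, X ≤ E₁ → (Nat.card X).Prime →
      X ≤ Subgroup.centralizer (E₃ : Set G))
    {T : Subgroup G} (hTE : T ≤ E) (hT : (Nat.card T).Prime) :
    sigmaCore M ⊓ Subgroup.centralizer (T : Set G) ≤ Subgroup.centralizer (E : Set G) ∧
      E ≤ Subgroup.normalizer (T : Set G) := by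
  have hD := tau3_centralizer_le_centralizer_compl hG hM hE hE₁ hE₃ hτ₂ hE₃1 hβ
  have hEle := compl_le_tau3_sup_tau1 hG hM hE hE₁ hE₃ hτ₂
  obtain ⟨-, -, h3⟩ := Cfsg.Agent.S1415.result hG M hM E hE
  obtain ⟨hcyc, hE₃E', hEn⟩ := h3 E₃ hE₃
  have hE₁ab := commute_of_tau1_group (M := M) (hE₁.1.trans hE.1) hE₁.2.1
  set t := Nat.card T with ht
  haveI : Fact t.Prime := ⟨hT⟩
  have hTp : IsPGroup t T := isPGroup_of_card_prime hT
  have htE : t ∣ Nat.card E := Subgroup.card_dvd_of_le hTE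
  obtain ⟨T', hT', hTT'⟩ := exists_isSylowIn_ge hTE hTp
  -- the `τ₃` case
  have case3 : T ≤ E₃ → sigmaCore M ⊓ Subgroup.centralizer (T : Set G) ≤
      Subgroup.centralizer (E : Set G) ∧ E ≤ Subgroup.normalizer (T : Set G) := by
    intro hTE₃
    refine ⟨?_, le_normalizer_of_le_cyclic hEn hcyc hTE₃⟩
    exact (le_inf inf_le_left (tau3_prime_action hG hM hE hE₃ hTE₃ hT)).trans hD
  rcases mem_tau_of_dvd_card hG hM hE hT htE with h | h
  · rcases h with h1 | h3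
    · -- `t ∈ τ₁(M)`
      obtain ⟨P, hP⟩ := exists_isSylowIn t E₁
      have hPE : IsSylowIn t P E := hP.of_not_dvd_relIndex hE₁.1 (hE₁.2.2 t hT h1)
      obtain ⟨x, hxE, hx⟩ := hPE.exists_conj hT'
      -- `T₀ = x⁻¹ T x ≤ P ≤ E₁`
      have hT₀P : T.map (MulAut.conj x⁻¹).toMonoidHom ≤ P := by
        rintro _ ⟨z, hz, rfl⟩
        have hz' : z ∈ T' := hTT' hz
        rw [hx] at hz'
        obtain ⟨w, hw, rfl⟩ := hz'
        have : (MulAut.conj x⁻¹).toMonoidHom ((MulAut.conj x).toMonoidHom w) = w := by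
          simp only [MulEquiv.coe_toMonoidHom, MulAut.conj_apply, inv_inv]
          group
        rw [this]
        exact hw
      have hT₀card : (Nat.card (T.map (MulAut.conj x⁻¹).toMonoidHom)).Prime := by
        rw [Subgroup.card_map_of_injective (MulAut.conj x⁻¹).injective]
        exact hT
      have hT₀E₁ : T.map (MulAut.conj x⁻¹).toMonoidHom ≤ E₁ := hT₀P.trans hP.le
      have hT₀c : T.map (MulAut.conj x⁻¹).toMonoidHom ≤ Subgroup.centralizer (E : Set G) := by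
        refine le_trans ?_ (Subgroup.centralizer_le hEle)
        rw [← Subgroup.le_centralizer_iff]
        apply sup_le
        · rw [Subgroup.le_centralizer_iff]
          exact hβ _ hT₀E₁ hT₀card
        · intro a ha
          rw [Subgroup.mem_centralizer_iff]
          intro b hb
          exact hE₁ab b (hT₀E₁ hb) a ha
      -- `T ≤ T₀`
      have hTT₀ : T ≤ T.map (MulAut.conj x⁻¹).toMonoidHom := by
        intro z hz
        have hw : (MulAut.conj x⁻¹).toMonoidHom z ∈ T.map (MulAut.conj x⁻¹).toMonoidHom :=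
          ⟨z, hz, rfl⟩
        have hcomm := (Subgroup.mem_centralizer_iff.mp (hT₀c hw)) x hxE
        have hzw : (MulAut.conj x⁻¹).toMonoidHom z = z := by
          have e1 : (MulAut.conj x⁻¹).toMonoidHom z = x⁻¹ * z * x := by
            simp only [MulEquiv.coe_toMonoidHom, MulAut.conj_apply, inv_inv]
          rw [e1] at hcomm ⊢
          -- hcomm : x * (x⁻¹ * z * x) = (x⁻¹ * z * x) * x
          have e2 : z * x = x⁻¹ * z * x * x := by
            rw [← hcomm]; group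
          have e3 : z = x⁻¹ * z * x := by
            have := mul_right_cancel e2
            exact this
          exact e3.symm
        rw [← hzw]
        exact hw
      have hTc : T ≤ Subgroup.centralizer (E : Set G) := hTT₀.trans hT₀c
      have hEcT : E ≤ Subgroup.centralizer (T : Set G) := by
        rw [Subgroup.le_centralizer_iff]
        exact hTc
      refine ⟨?_, hEcT.trans (Subgroup.centralizer_le_normalizer _)⟩
      -- S1428 with a subgroup of prime order of `E₃`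
      obtain ⟨R, hRE₃, hR⟩ := exists_le_card_prime hE₃1
      have h28 := Cfsg.Agent.S1428.result hG M hM E hE t h1 T hTE rfl R
        (le_inf (hRE₃.trans hE₃.1) ((hRE₃.trans hE₃.1).trans hEcT)) hR
      refine le_trans ?_ hD
      exact le_inf inf_le_left (h28.trans (tau3_prime_action hG hM hE hE₃ hRE₃ hR))
    · -- `t ∈ τ₃(M)`
      apply case3
      obtain ⟨Q, hQ⟩ := exists_isSylowIn t E₃
      have hQE : IsSylowIn t Q E := hQ.of_not_dvd_relIndex hE₃.1 (hE₃.2.2 t hT h3)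
      obtain ⟨x, hxE, hx⟩ := hQE.exists_conj hT'
      have hQn : E ≤ Subgroup.normalizer (Q : Set G) := le_normalizer_of_le_cyclic hEn hcyc hQ.le
      rw [map_conj_eq_of_mem_normalizer Q x (hQn hxE)] at hx
      rw [hx] at hTT'
      exact hTT'.trans hQ.le
  · exact absurd h (hτ₂ t)

/-- **prime action of `E`** in the same situation. -/
theorem prime_action_compl_of_tau3_nonregular (hG : IsMinSimpleOddOrder G)
    {M E E₁ E₃ : Subgroup G}
    (hM : IsCoatom M) (hE : IsComplIn E (sigmaCore M) M)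
    (hE₁ : IsPiHallOf (tau1 M) E₁ E) (hE₃ : IsPiHallOf (tau3 M) E₃ E)
    (hτ₂ : ∀ q : ℕ, q ∉ tau2 M) (hE₃1 : E₃ ≠ ⊥)
    (hβ : ∀ X : Subgroup G, X ≤ E₁ → (Nat.card X).Prime →
      X ≤ Subgroup.centralizer (E₃ : Set G)) :
    ∀ x ∈ E, x ≠ 1 → sigmaCore M ⊓ Subgroup.centralizer ({x} : Set G) =
      sigmaCore M ⊓ Subgroup.centralizer (E : Set G) := by
  intro x hx hx1
  have hz1 : Subgroup.zpowers x ≠ ⊥ := by
    intro h
    apply hx1
    have : x ∈ Subgroup.zpowers x := Subgroup.mem_zpowers x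
    rw [h, Subgroup.mem_bot] at this
    exact this
  obtain ⟨T, hTz, hT⟩ := exists_le_card_prime hz1
  have hzE : Subgroup.zpowers x ≤ E := Subgroup.zpowers_le.mpr hx
  apply le_antisymm
  · apply le_inf inf_le_left
    refine le_trans ?_ (card_prime_compl_of_tau3_nonregular hG hM hE hE₁ hE₃ hτ₂ hE₃1 hβ
      (hTz.trans hzE) hT).1
    apply inf_le_inf_left
    exact (centralizer_singleton_le_of_eq_zpowers rfl).trans (Subgroup.centralizer_le hTz)
  · apply inf_le_inf_left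
    apply Subgroup.centralizer_le
    intro y hy
    rw [Set.mem_singleton_iff] at hy
    rw [hy]
    exact hx

end Cfsg.Agent.Lib.Helper10.BG
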