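import Mathlib
import Cfsg.Agent.Lib.Helper10.BGCaseIIb
import Cfsg.Agent.Lib.Helper3.BG14F
import Cfsg.Agent.S3745

/-!
B & G, Lemma 14.2 (statement S1430) in "Case II": `κ(M)` meets `τ₃(M)`.  Then a complement `E` of
`M_σ` acts in a prime manner on `M_σ`, `κ(M)` is the set of primes of `E`, a Hall `κ(M)`-subgroup is a
complement of `M_σ`, and `U = 1`.  The two inputs not proved here are taken as hypotheses:
`C1 G` (B & G 14.2 (b), last claim: `X ≤ M*_σ`) and `NoAlpha G` (the "Frobenius" sub-case of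
Case II is impossible).
-/

set_option autoImplicit false
set_option linter.unusedVariables false
set_option linter.unusedSectionVars false
set_option linter.style.longLine false
set_option linter.unusedSimpArgs false

open Cfsg
open scoped commutatorElement
open Cfsg.Agent.Lib.Helper10.BG
open Cfsg.Agent.Lib.Helper10
open Cfsg.Agent.Lib.Helper9.BGExc
open Cfsg.Agent.Lib.Helper19.BG12
open Cfsg.Agent.Lib.Helper19.BGCompl
open Cfsg.Agent.Lib.Helper29.BG1212
open Cfsg.Agent.Lib.Helper29.BG13K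
open Cfsg.Agent.Lib.Helper7.BG13
open Cfsg.Agent.Lib.Helper3.BG14

namespace Cfsg.Agent.Lib.Helper10.BG

variable {G : Type*} [Group G] [Finite G]

/-- B & G 14.2 (b), last claim (= "C1"): a subgroup `X` of prime order `p ∈ τ₁(M) ∪ τ₃(M)` of `M`
with `C_{M_σ}(X) ≠ 1` lies in `M*_σ` for every maximal `M* ≥ N_G(X)`, i.e. `p ∈ σ(M*)`. -/
def C1 (G : Type*) [Group G] : Prop :=
  ∀ M Mstar X : Subgroup G, IsCoatom M → IsCoatom Mstar → ∀ p : ℕ, (p ∈ tau1 M ∨ p ∈ tau3 M) →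
    X ≤ M → Nat.card X = p → sigmaCore M ⊓ Subgroup.centralizer (X : Set G) ≠ ⊥ →
    Subgroup.normalizer (X : Set G) ≤ Mstar → p ∈ sigma Mstar

/-- the sub-case "(II-α)" of Case II is impossible: if `C_{M_σ}(E₃) ≠ 1` then every subgroup of
prime order of `E₁` centralizes `E₃`. -/
def NoAlpha (G : Type*) [Group G] : Prop :=
  ∀ M E E₁ E₃ : Subgroup G, IsCoatom M → IsComplIn E (sigmaCore M) M →
    IsPiHallOf (tau1 M) E₁ E → IsPiHallOf (tau3 M) E₃ E → E₃ ≠ ⊥ →
    sigmaCore M ⊓ Subgroup.centralizer (E₃ : Set G) ≠ ⊥ →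
    ∀ X : Subgroup G, X ≤ E₁ → (Nat.card X).Prime → X ≤ Subgroup.centralizer (E₃ : Set G)

/-- existence of Hall subgroups of a proper subgroup. -/
theorem exists_isPiHallOf (hG : IsMinSimpleOddOrder G) {E : Subgroup G} (hE : E ≠ ⊤) (π : Set ℕ) :
    ∃ H : Subgroup G, IsPiHallOf π H E := by
  have hsolv : Group.IsSolvable ↥E := isSolvable_of_ne_top hG hE
  have hcop : (Nat.card (⊥ : Subgroup G)).Coprime (Nat.card E) := by
    rw [Subgroup.card_bot]; exact Nat.coprime_one_left _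
  obtain ⟨H, hH, -⟩ := (Cfsg.Agent.S3745.result (⊥ : Subgroup G) E bot_le hcop hsolv π).1
  exact ⟨H, hH⟩

/-- the structure of a complement `E` in Case II. -/
theorem caseII_structure (hG : IsMinSimpleOddOrder G) (hNA : NoAlpha G) {M E : Subgroup G}
    (hM : IsCoatom M) (hE : IsComplIn E (sigmaCore M) M)
    (h3 : ∃ p, p ∈ kappa M ∧ p ∈ tau3 M) :
    (∀ q : ℕ, q ∉ tau2 M) ∧
    (∀ x ∈ E, x ≠ 1 → sigmaCore M ⊓ Subgroup.centralizer ({x} : Set G) =
      sigmaCore M ⊓ Subgroup.centralizer (E : Set G)) ∧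
    sigmaCore M ⊓ Subgroup.centralizer (E : Set G) ≠ ⊥ ∧
    ∀ T : Subgroup G, T ≤ E → (Nat.card T).Prime →
      sigmaCore M ⊓ Subgroup.centralizer (T : Set G) ≤ Subgroup.centralizer (E : Set G) ∧
        E ≤ Subgroup.normalizer (T : Set G) := by
  obtain ⟨p₀, hp₀κ, hp₀3⟩ := h3
  have hp₀ : p₀.Prime := hp₀κ.1
  haveI : Fact p₀.Prime := ⟨hp₀⟩
  have hEtop : E ≠ ⊤ := ne_top_of_le_isCoatom hM hE.1
  obtain ⟨E₁, hE₁⟩ := exists_isPiHallOf hG hEtop (tau1 M)
  obtain ⟨E₃, hE₃⟩ := exists_isPiHallOf hG hEtop (tau3 M)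
  -- a Sylow `p₀`-subgroup of `E₃` is one of `M`
  obtain ⟨T, hT⟩ := exists_isSylowIn p₀ E₃
  have hTE : IsSylowIn p₀ T E := hT.of_not_dvd_relIndex hE₃.1 (hE₃.2.2 p₀ hp₀ hp₀3)
  have hTM : IsSylowIn p₀ T M := IsComplIn.isSylowIn hG hM hE hp₀3.2.1 hTE
  obtain ⟨x, hxT, hx1, y, hy, hy1, hxy⟩ := kappa_witness hp₀κ hTM
  have hz1 : Subgroup.zpowers x ≠ ⊥ := by
    intro h
    apply hx1
    have : x ∈ Subgroup.zpowers x := Subgroup.mem_zpowers x
    rw [h, Subgroup.mem_bot] at this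
    exact this
  obtain ⟨X, hXz, hX⟩ := exists_le_card_prime hz1
  have hzT : Subgroup.zpowers x ≤ T := Subgroup.zpowers_le.mpr hxT
  have hXE₃ : X ≤ E₃ := (hXz.trans hzT).trans hT.le
  have hE₃1 : E₃ ≠ ⊥ := by
    intro h
    rw [h] at hXE₃
    have h1 : X = ⊥ := le_bot_iff.mp hXE₃
    rw [h1, Subgroup.card_bot] at hX
    exact Nat.not_prime_one hX
  have hyX : y ∈ sigmaCore M ⊓ Subgroup.centralizer (X : Set G) := by
    refine Subgroup.mem_inf.mpr ⟨hy, ?_⟩
    have h1 : y ∈ Subgroup.centralizer ({x} : Set G) := by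
      rw [Subgroup.mem_centralizer_singleton_iff]
      exact hxy.symm
    exact ((centralizer_singleton_le_of_eq_zpowers rfl).trans (Subgroup.centralizer_le hXz)) h1
  have hD : sigmaCore M ⊓ Subgroup.centralizer (E₃ : Set G) ≠ ⊥ := by
    intro h
    have h1 : y ∈ sigmaCore M ⊓ Subgroup.centralizer (E₃ : Set G) :=
      Subgroup.mem_inf.mpr ⟨hy, tau3_prime_action hG hM hE hE₃ hXE₃ hX hyX⟩
    rw [h, Subgroup.mem_bot] at h1
    exact hy1 h1
  have hτ₂ : ∀ q : ℕ, q ∉ tau2 M := not_mem_tau2_of_tau3_nonregular hG hM hE hE₃ hE₃1 hD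
  have hβ := hNA M E E₁ E₃ hM hE hE₁ hE₃ hE₃1 hD
  have hDE := tau3_centralizer_le_centralizer_compl hG hM hE hE₁ hE₃ hτ₂ hE₃1 hβ
  refine ⟨hτ₂, prime_action_compl_of_tau3_nonregular hG hM hE hE₁ hE₃ hτ₂ hE₃1 hβ, ?_,
    fun T hTE hT => card_prime_compl_of_tau3_nonregular hG hM hE hE₁ hE₃ hτ₂ hE₃1 hβ hTE hT⟩
  intro h
  apply hD
  rw [eq_bot_iff, ← h]
  exact le_inf inf_le_left hDE

/-- in Case II every prime divisor of `|E|` lies in `κ(M)`. -/
theorem mem_kappa_of_dvd_card_compl (hG : IsMinSimpleOddOrder G) {M E : Subgroup G}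
    (hM : IsCoatom M) (hE : IsComplIn E (sigmaCore M) M) (hτ₂ : ∀ q : ℕ, q ∉ tau2 M)
    (hY : sigmaCore M ⊓ Subgroup.centralizer (E : Set G) ≠ ⊥) {p : ℕ} (hp : p.Prime)
    (hd : p ∣ Nat.card E) : p ∈ kappa M := by
  haveI : Fact p.Prime := ⟨hp⟩
  have hpσ : p ∉ sigma M := compl_not_mem_sigma hG hM hE hp hd
  have hr1 : PRankLE p 1 ↥M := by
    rcases mem_tau_of_dvd_card hG hM hE hp hd with h | h
    · rcases h with h | h
      · exact h.2.2.2.2
      · exact h.2.2.2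
    · exact absurd h (hτ₂ p)
  obtain ⟨x, hx⟩ := exists_prime_orderOf_dvd_card' (G := E) p hd
  obtain ⟨y, hy1⟩ := (Subgroup.ne_bot_iff_exists_ne_one).mp hY
  have hy' : (y : G) ∈ sigmaCore M ⊓ Subgroup.centralizer (E : Set G) := y.2
  obtain ⟨hyσ, hyc⟩ := Subgroup.mem_inf.mp hy'
  have hy1' : (y : G) ≠ 1 := fun h => hy1 (Subtype.ext h)
  apply mem_kappa_of_commute hG hpσ hr1 (hE.1 x.2) (by rw [Subgroup.orderOf_coe]; exact hx)
    hyσ hy1'
  exact (Subgroup.mem_centralizer_iff.mp hyc (x : G) x.2)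

/-- **S1430 in Case II**. -/
theorem s1430_of_kappa_tau3 (hG : IsMinSimpleOddOrder G) (hC1 : C1 G) (hNA : NoAlpha G)
    {M K : Subgroup G} (hM : IsCoatom M) (hK : IsPiHallOf (kappa M) K M)
    (h3 : ∃ p, p ∈ kappa M ∧ p ∈ tau3 M) :
    (∀ k ∈ K, k ≠ 1 → Cfsg.sigmaCore M ⊓ Subgroup.centralizer ({k} : Set G) = (Cfsg.sigmaCore M ⊓ Subgroup.centralizer (K : Set G))) ∧
      (∃ U : Subgroup G, IsMulCommutative U ∧ Cfsg.IsPiHallOf {q | q.Prime ∧ q ∉ Cfsg.kappa M ∧ q ∉ Cfsg.sigma M} U M ∧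
        K ≤ Subgroup.normalizer (U : Set G) ∧ ∀ k ∈ K, k ≠ 1 → U ⊓ Subgroup.centralizer ({k} : Set G) = ⊥) ∧
      ∀ X : Subgroup G, X ≤ K → (Nat.card X).Prime →
        M ⊓ Subgroup.normalizer (X : Set G) = K ⊔ (Cfsg.sigmaCore M ⊓ Subgroup.centralizer (K : Set G)) ∧ M ⊓ Subgroup.normalizer (K : Set G) = K ⊔ (Cfsg.sigmaCore M ⊓ Subgroup.centralizer (K : Set G)) ∧
        ∀ Mstar : Subgroup G, IsCoatom Mstar → Subgroup.normalizer (X : Set G) ≤ Mstar → X ≤ Cfsg.sigmaCore Mstar := by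
  have hKσ : ∀ q : ℕ, q.Prime → q ∣ Nat.card K → q ∉ sigma M :=
    fun q hq hd => (hK.2.1 q hq hd).2.2.1
  obtain ⟨E, hE, hKE⟩ := exists_isComplIn_sigmaCore_ge hG hM hK.1
    (coprime_card_sigmaCore_of hG hM hKσ)
  obtain ⟨hτ₂, hpa, hY, hcp⟩ := caseII_structure hG hNA hM hE h3
  have hκ : ∀ p : ℕ, p.Prime → p ∣ Nat.card E → p ∈ kappa M :=
    fun p hp hd => mem_kappa_of_dvd_card_compl hG hM hE hτ₂ hY hp hd
  -- `K = E`
  have hEK : E ≤ K := by
    rw [← Subgroup.relIndex_eq_one]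
    by_contra hne
    obtain ⟨p, hp, hpd⟩ := Nat.exists_prime_and_dvd hne
    have hpE : p ∣ Nat.card E := by
      rw [← Cfsg.Agent.Lib.Helper12.card_mul_relIndex_eq hKE]
      exact hpd.mul_left _
    apply hK.2.2 p hp (hκ p hp hpE)
    rw [← Subgroup.relIndex_mul_relIndex K E M hKE hE.1]
    exact hpd.mul_right _
  have hKeq : K = E := le_antisymm hKE hEK
  subst hKeq
  have hMσn : M ≤ Subgroup.normalizer (sigmaCore M : Set G) := le_normalizer_sigmaCore M
  -- elements of `M_σ` normalizing a subgroup `X` of `K` centralize it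
  have hnc : ∀ X : Subgroup G, X ≤ K → ∀ s ∈ sigmaCore M, s ∈ Subgroup.normalizer (X : Set G) →
      s ∈ Subgroup.centralizer (X : Set G) := by
    intro X hXK s hs hsn
    rw [Subgroup.mem_centralizer_iff]
    intro x hx
    have hxM : x ∈ M := hE.1 (hXK hx)
    have h1 : s * x * s⁻¹ * x⁻¹ ∈ X :=
      X.mul_mem ((Subgroup.mem_normalizer_iff.mp hsn x).mp hx) (X.inv_mem hx)
    have h2 : s * x * s⁻¹ * x⁻¹ ∈ sigmaCore M := by
      have h3 : x * s⁻¹ * x⁻¹ ∈ sigmaCore M :=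
        conj_mem_of_mem_normalizer (hMσn hxM) ((sigmaCore M).inv_mem hs)
      have h4 : s * x * s⁻¹ * x⁻¹ = s * (x * s⁻¹ * x⁻¹) := by group
      rw [h4]
      exact (sigmaCore M).mul_mem hs h3
    have h5 : s * x * s⁻¹ * x⁻¹ ∈ K ⊓ sigmaCore M := Subgroup.mem_inf.mpr ⟨hXK h1, h2⟩
    rw [hE.2.2.1, Subgroup.mem_bot] at h5
    have h6 : s * x = x * s := by
      have : s * x = (s * x * s⁻¹ * x⁻¹) * (x * s) := by group
      rw [this, h5, one_mul]
    exact h6.symm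
  -- the normalizer computation
  have hnorm : ∀ X : Subgroup G, X ≤ K → K ≤ Subgroup.normalizer (X : Set G) →
      sigmaCore M ⊓ Subgroup.centralizer (X : Set G) ≤ Subgroup.centralizer (K : Set G) →
      M ⊓ Subgroup.normalizer (X : Set G) =
        K ⊔ (sigmaCore M ⊓ Subgroup.centralizer (K : Set G)) := by
    intro X hXK hKn hcen
    apply le_antisymm
    · intro g hg
      obtain ⟨hgM, hgn⟩ := Subgroup.mem_inf.mp hg
      obtain ⟨e, he, s, hs, rfl⟩ := hE.2.2.2 g hgM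
      have hsn : s ∈ Subgroup.normalizer (X : Set G) := by
        have h1 : s = e⁻¹ * (e * s) := by group
        rw [h1]
        exact (Subgroup.normalizer (X : Set G)).mul_mem
          ((Subgroup.normalizer (X : Set G)).inv_mem (hKn he)) hgn
      have hsc : s ∈ sigmaCore M ⊓ Subgroup.centralizer (K : Set G) :=
        Subgroup.mem_inf.mpr ⟨hs, hcen (Subgroup.mem_inf.mpr ⟨hs, hnc X hXK s hs hsn⟩)⟩
      exact (K ⊔ (sigmaCore M ⊓ Subgroup.centralizer (K : Set G))).mul_mem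
        (Subgroup.mem_sup_left he) (Subgroup.mem_sup_right hsc)
    · apply sup_le
      · exact le_inf hE.1 hKn
      · apply le_inf (inf_le_left.trans (sigmaCore_le M))
        refine inf_le_right.trans ?_
        exact (Subgroup.centralizer_le hXK).trans (Subgroup.centralizer_le_normalizer _)
  refine ⟨hpa, ⟨⊥, ?_, ?_, ?_, ?_⟩, ?_⟩
  · exact ⟨⟨fun a b => Subtype.ext (by
      have ha : (a : G) = 1 := Subgroup.mem_bot.mp a.2
      have hb : (b : G) = 1 := Subgroup.mem_bot.mp b.2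
      simp [ha, hb])⟩⟩
  · refine ⟨bot_le, ?_, ?_⟩
    · intro p hp hd
      rw [Subgroup.card_bot] at hd
      exact absurd (Nat.dvd_one.mp hd) hp.one_lt.ne'
    · intro p hp hpπ hd
      rw [Subgroup.relIndex_bot_left] at hd
      rw [compl_card hE] at hd
      rcases (Nat.Prime.dvd_mul hp).mp hd with h | h
      · exact hpπ.2.1 (hκ p hp h)
      · exact hpπ.2.2 (mem_sigma_of_dvd_card_sigmaCore hG hM hp h)
  · intro k hk
    rw [Subgroup.mem_normalizer_iff]
    intro x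
    simp only [Subgroup.mem_bot]
    constructor
    · intro h; rw [h]; group
    · intro h
      have : x = k⁻¹ * (k * x * k⁻¹) * k := by group
      rw [this, h]; group
  · intro k hk hk1
    exact bot_inf_eq _
  · intro X hXK hX
    obtain ⟨hXc, hXn⟩ := hcp X hXK hX
    refine ⟨hnorm X hXK hXn hXc, hnorm K le_rfl Subgroup.le_normalizer inf_le_right, ?_⟩
    intro Mstar hMstar hNX
    set p := Nat.card X with hp
    haveI : Fact p.Prime := ⟨hX⟩
    have hpE : p ∣ Nat.card K := Subgroup.card_dvd_of_le hXK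
    have hpτ : p ∈ tau1 M ∨ p ∈ tau3 M := by
      rcases mem_tau_of_dvd_card hG hM hE hX hpE with h | h
      · exact h
      · exact absurd h (hτ₂ p)
    have hXne : sigmaCore M ⊓ Subgroup.centralizer (X : Set G) ≠ ⊥ := by
      intro h
      apply hY
      rw [eq_bot_iff, ← h]
      exact inf_le_inf_left _ (Subgroup.centralizer_le hXK)
    have hpσ : p ∈ sigma Mstar := hC1 M Mstar X hM hMstar p hpτ (hXK.trans hE.1) rfl hXne hNX
    exact pgroup_le_sigmaCore hG hMstar hpσ (isPGroup_of_card_prime hX)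
      (Subgroup.le_normalizer.trans hNX)

end Cfsg.Agent.Lib.Helper10.BG
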