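import Mathlib
import Cfsg.Agent.Lib.Helper1.BGStubs2
import Cfsg.Agent.Lib.Helper1.BGFthm
import Cfsg.Agent.Lib.Helper1.CoprimeAbelian
import Cfsg.Agent.Lib.Helper10.Basic
import Cfsg.Agent.Lib.Helper10.BGTen3
import Cfsg.Agent.Lib.Helper10.FittingHall

/-!
# B&G Corollary 15.6 (frozen row `S1364`) modulo unlanded rows

`s1364_of`: for a maximal subgroup `M = K U M_σ` with `K ≠ 1`, the subgroup `K* = C_{M_σ}(K)` is
cyclic, nontrivial, contained in `M_F`, and `M_F` is not cyclic.  Inputs: the frozen rows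
`S1354`, `S1366`, `S1368`, `S1431`, the first conclusion of `S1430` and `S1373` as hypotheses.
-/

set_option autoImplicit false
set_option linter.unusedSectionVars false
set_option linter.unusedVariables false

namespace Cfsg.Agent.Lib.Helper10.BG

open Cfsg
open scoped commutatorElement
open Cfsg.Agent.Lib.Helper10
open Cfsg.Agent.Lib.Helper9.BGExc
open Cfsg.Agent.Lib.Helper1.BGStubs2 Cfsg.Agent.Lib.Helper1.BGFthm

section FifteenA

variable {G : Type*} [Group G] [Finite G]

/-- `M_F` is normal in `M`. -/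
theorem le_normalizer_fittingHallOf (M : Subgroup G) :
    M ≤ Subgroup.normalizer ((fittingHallOf M : Subgroup G) : Set G) := by
  unfold fittingHallOf
  exact le_normalizer_map_subtype_of_normal (fittingHall ↥M)

/-- `M_F ≤ M`. -/
theorem fittingHallOf_le (M : Subgroup G) : fittingHallOf M ≤ M := by
  unfold fittingHallOf
  exact Subgroup.map_subtype_le _

/-- `M_F` is a Hall subgroup of `M`. -/
theorem coprime_card_relIndex_fittingHallOf (M : Subgroup G) :
    (Nat.card (fittingHallOf M)).Coprime ((fittingHallOf M).relIndex M) := by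
  have h1 : Nat.card (fittingHallOf M) = Nat.card (fittingHall ↥M) := by
    unfold fittingHallOf
    exact Subgroup.card_map_of_injective (Subgroup.subtype_injective _)
  have h2 : (fittingHallOf M).relIndex M = (fittingHall ↥M).index := by
    unfold fittingHallOf
    exact relIndex_map_subtype _
  rw [h1, h2]
  exact fittingHall_coprime

/-- every `q`-subgroup of `M` lies in `M_F` when `q` divides the order of `M_F`. -/
theorem pgroup_le_fittingHallOf {M Q : Subgroup G} {q : ℕ} [Fact q.Prime]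
    (hq : q ∣ Nat.card (fittingHallOf M)) (hQ : IsPGroup q Q) (hQM : Q ≤ M) :
    Q ≤ fittingHallOf M := by
  apply pgroup_le_of_not_dvd_relIndex (le_normalizer_fittingHallOf M) _ hQ hQM
  intro hd
  have h1 := Nat.Coprime.eq_one_of_dvd
    ((coprime_card_relIndex_fittingHallOf M).coprime_dvd_left hq) hd
  exact (Fact.out : q.Prime).one_lt.ne' h1

/-- B&G Corollary 15.6 = the frozen row `S1364`, modulo unlanded rows. -/
theorem s1364_of (hG : IsMinSimpleOddOrder G) (h54 : P1354 G) (h66 : P1366 G) (h68 : P1368 G)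
    (h31 : P1431 G) (h30 : H1430 G) (h73 : H1373 G)
    (M : Subgroup G) (hM : IsCoatom M) (K U : Subgroup G) (hKU : IsSigmaDecomposition M K U)
    (hK1 : K ≠ ⊥) :
    IsCyclic ↥(sigmaCore M ⊓ Subgroup.centralizer (K : Set G)) ∧
      (sigmaCore M ⊓ Subgroup.centralizer (K : Set G)) ≠ ⊥ ∧
      (sigmaCore M ⊓ Subgroup.centralizer (K : Set G)) ≤ fittingHallOf M ∧
      ¬ IsCyclic (fittingHallOf M) := by
  classical
  set Ks : Subgroup G := sigmaCore M ⊓ Subgroup.centralizer (K : Set G) with hKs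
  have hKs1 : Ks ≠ ⊥ := (h54 M hM K hKU.cyclic hKU.hall).1
  -- `K*` is cyclic
  have hcyc : IsCyclic ↥Ks := by
    obtain ⟨Mstar, ⟨hMs, hKst, hKstH⟩, -⟩ := h66 M hM K U hKU hK1
    have hZ := (h68 M hM K U hKU hK1 Mstar hMs hKst hKstH).2
    have hle : Ks ≤ K ⊔ Ks := le_sup_right
    haveI := hZ
    have e : ↥(Ks.subgroupOf (K ⊔ Ks)) ≃* ↥Ks := Subgroup.subgroupOfEquivOfLe hle
    haveI : IsCyclic ↥(Ks.subgroupOf (K ⊔ Ks)) := Subgroup.isCyclic _
    exact isCyclic_of_surjective e.toMonoidHom e.surjective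
  -- `K* ≤ M_F`
  have hKsF : Ks ≤ fittingHallOf M := by
    by_cases hne : fittingHallOf M = sigmaCore M
    · rw [hne]; exact inf_le_left
    · obtain ⟨-, -, -, -, -, -, -, -, Q, hQF, -, -, -, hfixQ, -⟩ :=
        s1437_ext_of hG M hM K U hKU hne h30 h73
      exact hfixQ.trans hQF
  refine ⟨hcyc, hKs1, hKsF, ?_⟩
  intro hVc
  -- a prime `q` dividing `|K*|`
  have hcard : Nat.card Ks ≠ 1 := by rwa [Ne, Subgroup.card_eq_one]
  have hq : (Nat.card Ks).minFac.Prime := Nat.minFac_prime hcard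
  set q := (Nat.card Ks).minFac with hqdef
  haveI : Fact q.Prime := ⟨hq⟩
  have hqd : q ∣ Nat.card Ks := Nat.minFac_dvd _
  obtain ⟨x, hx⟩ := exists_prime_orderOf_dvd_card' (G := ↥Ks) q hqd
  have hxo : orderOf (x : G) = q := by rw [Subgroup.orderOf_coe]; exact hx
  have hxV : (x : G) ∈ fittingHallOf M := hKsF x.2
  have hxC : (x : G) ∈ Subgroup.centralizer (K : Set G) := x.2.2
  have hqV : q ∣ Nat.card (fittingHallOf M) := hqd.trans (Subgroup.card_dvd_of_le hKsF)
  have hqσ : q ∈ sigma M := mem_sigma_of_dvd_card_sigmaCore hG hM hq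
    (hqd.trans (Subgroup.card_dvd_of_le inf_le_left))
  -- a Sylow `q`-subgroup of `M_σ`
  obtain ⟨S⟩ : Nonempty (Sylow q ↥(sigmaCore M)) := inferInstance
  obtain ⟨-, -, hSn⟩ := (h31 M hM K hKU.hall hK1).2.2.1 q hq hqd S
  set Q₁ : Subgroup G := (S : Subgroup ↥(sigmaCore M)).map (sigmaCore M).subtype with hQ₁
  have hQ₁p : IsPGroup q Q₁ := S.isPGroup'.map _
  have hQ₁S : Q₁ ≤ sigmaCore M := Subgroup.map_subtype_le _
  have hQ₁V : Q₁ ≤ fittingHallOf M :=
    pgroup_le_fittingHallOf hqV hQ₁p (hQ₁S.trans (sigmaCore_le M))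
  apply hSn
  refine le_inf hQ₁S ?_
  -- `K` normalizes `Q₁`
  haveI := hVc
  have hKM : K ≤ M := hKU.hall.1
  have hKN : K ≤ Subgroup.normalizer (Q₁ : Set G) := by
    intro k hk
    have hkV : k ∈ Subgroup.normalizer ((fittingHallOf M : Subgroup G) : Set G) :=
      le_normalizer_fittingHallOf M (hKM hk)
    have hconj : Q₁.map (MulAut.conj k).toMonoidHom ≤ fittingHallOf M := by
      rintro _ ⟨y, hy, rfl⟩
      exact ((Subgroup.mem_normalizer_iff.mp hkV) y).mp (hQ₁V hy)
    have heq : Q₁.map (MulAut.conj k).toMonoidHom = Q₁ := by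
      apply eq_of_card_eq_of_le_isCyclic (fittingHallOf M) _ _ hconj hQ₁V
      exact Subgroup.card_map_of_injective (MulAut.conj k).injective
    rw [Subgroup.mem_normalizer_iff]
    intro y
    constructor
    · intro hy
      rw [← heq]
      exact ⟨y, hy, rfl⟩
    · intro hy
      rw [← heq] at hy
      obtain ⟨z, hz, hzy⟩ := hy
      have : z = y := by
        have h1 : k * z * k⁻¹ = k * y * k⁻¹ := hzy
        have h2 := mul_right_cancel h1
        exact mul_left_cancel h2
      rwa [← this]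
  -- `Q₁` is commutative
  haveI hQ₁c : IsMulCommutative Q₁ := by
    refine ⟨⟨fun a b => ?_⟩⟩
    have hab := (IsCyclic.isMulCommutative (α := ↥(fittingHallOf M))).is_comm.comm
      ⟨(a : G), hQ₁V a.2⟩ ⟨(b : G), hQ₁V b.2⟩
    apply Subtype.ext
    have h2 := congrArg Subtype.val hab
    exact h2
  -- coprimality
  have hcop : (Nat.card K).Coprime (Nat.card Q₁) := by
    obtain ⟨n, hn⟩ := IsPGroup.iff_card.mp hQ₁p
    rw [hn]
    apply Nat.Coprime.pow_right
    rw [Nat.coprime_comm, Nat.Prime.coprime_iff_not_dvd hq]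
    intro hd
    exact (hKU.hall.2.1 q hq hd).2.2.1 hqσ
  -- prime order elements of `Q₁` are centralized by `K`
  have hΩ : ∀ v ∈ Q₁, (orderOf v).Prime → ∀ a ∈ K, a * v = v * a := by
    intro v hv hvo a ha
    have hvq : orderOf v = q := by
      obtain ⟨k, hk⟩ := (IsPGroup.iff_orderOf.mp hQ₁p) ⟨v, hv⟩
      rw [Subgroup.orderOf_mk] at hk
      rw [hk] at hvo
      have hk1 : k = 1 := by
        rcases Nat.lt_or_ge k 1 with h | h
        · have hk0 : k = 0 := by omega
          rw [hk0, pow_zero] at hvo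
          exact absurd hvo Nat.not_prime_one
        · rcases Nat.lt_or_ge 1 k with h2 | h2
          · exact absurd hvo (Nat.Prime.not_prime_pow h2)
          · omega
      rw [hk, hk1, pow_one]
    have heq : Subgroup.zpowers v = Subgroup.zpowers (x : G) := by
      apply eq_of_card_eq_of_le_isCyclic (fittingHallOf M)
      · rw [Subgroup.zpowers_le]; exact hQ₁V hv
      · rw [Subgroup.zpowers_le]; exact hxV
      · rw [Nat.card_zpowers, Nat.card_zpowers, hvq, hxo]
    have hvz : v ∈ Subgroup.zpowers (x : G) := heq ▸ Subgroup.mem_zpowers v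
    have hzC : Subgroup.zpowers (x : G) ≤ Subgroup.centralizer (K : Set G) := by
      rw [Subgroup.zpowers_le]; exact hxC
    exact (Subgroup.mem_centralizer_iff.mp (hzC hvz)) a ha
  have hcent := Cfsg.Agent.Lib.Helper1.le_centralizer_of_centralizes_prime_order K Q₁ hKN hcop hΩ
  intro y hy
  rw [Subgroup.mem_centralizer_iff]
  intro k hk
  exact ((Subgroup.mem_centralizer_iff.mp (hcent hk)) y hy).symm

end FifteenA

end Cfsg.Agent.Lib.Helper10.BG
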