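import Cfsg.Agent.Lib.Helper10.FrobFpf
import Cfsg.Agent.Lib.Helper10.CNGroup
import Cfsg.Agent.Lib.Helper10.FittingHall
import Cfsg.Agent.Lib.Helper13.Frobenius
import Cfsg.Agent.Lib.Helper1.Coprime

set_option autoImplicit false

namespace Cfsg.Agent.Lib.Helper10

open Cfsg.Agent.Lib.Helper1
open scoped commutatorElement

universe u

/-- elements of coprime orders of a subgroup that is nilpotent commute -/
theorem commute_of_mem_of_isNilpotent {G : Type*} [Group G] {M : Subgroup G}
    (hM : Group.IsNilpotent ↥M) {a b : G} (ha : a ∈ M) (hb : b ∈ M)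
    (hab : (orderOf a).Coprime (orderOf b)) : a * b = b * a := by
  have h1 := commute_of_coprime_orderOf ↥M (⟨a, ha⟩ : ↥M) ⟨b, hb⟩
    (by rw [Subgroup.orderOf_mk, Subgroup.orderOf_mk]; exact hab)
  exact congrArg Subtype.val h1.eq

/-- a finite group with a normal `s`-complement for every prime `s` is nilpotent -/
theorem isNilpotent_of_normal_complements {E : Type*} [Group E] [Finite E]
    (h : ∀ s : ℕ, s.Prime → ∃ K : Subgroup E, K.Normal ∧ (Nat.card K).Coprime s ∧
      ∃ k : ℕ, K.index = s ^ k) : Group.IsNilpotent E := by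
  apply isNilpotent_of_commute_coprime
  intro x y _ _ hxy
  rw [← commutatorElement_eq_one_iff_mul_comm, ← orderOf_eq_one_iff]
  by_contra hne
  obtain ⟨s, hs, hsd⟩ := Nat.exists_prime_and_dvd hne
  obtain ⟨K, hKn, hKc, k, hk⟩ := h s hs
  have := hKn
  have : Fact s.Prime := ⟨hs⟩
  have hmem : ⁅x, y⁆ ∈ K := by
    by_cases hxs : (orderOf x).Coprime s
    · have hxK := Cfsg.Agent.Lib.Helper13.mem_of_coprime_of_index_pow K hk x hxs
      have h1 : y * x⁻¹ * y⁻¹ ∈ K := hKn.conj_mem _ (K.inv_mem hxK) y
      have h2 : ⁅x, y⁆ = x * (y * x⁻¹ * y⁻¹) := by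
        rw [commutatorElement_def]; group
      rw [h2]
      exact K.mul_mem hxK h1
    · have hsx : s ∣ orderOf x := by
        by_contra hnd
        exact hxs ((Nat.Prime.coprime_iff_not_dvd hs).mpr hnd).symm
      have hys : (orderOf y).Coprime s := by
        apply Nat.Coprime.symm
        rw [Nat.Prime.coprime_iff_not_dvd hs]
        intro hsy
        have := Nat.dvd_gcd hsx hsy
        rw [Nat.Coprime.gcd_eq_one hxy] at this
        exact hs.one_lt.ne' (Nat.dvd_one.mp this)
      have hyK := Cfsg.Agent.Lib.Helper13.mem_of_coprime_of_index_pow K hk y hys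
      have h1 : x * y * x⁻¹ ∈ K := hKn.conj_mem _ hyK x
      have h2 : ⁅x, y⁆ = (x * y * x⁻¹) * y⁻¹ := by
        rw [commutatorElement_def]
      rw [h2]
      exact K.mul_mem h1 (K.inv_mem hyK)
  have h3 := Subgroup.orderOf_dvd_natCard K hmem
  have h4 : s ∣ Nat.card ↥K := hsd.trans h3
  exact (Nat.Prime.coprime_iff_not_dvd hs).mp hKc.symm h4

/-- **A CN-group acting fixed-point-freely and coprimely on a nontrivial abelian group is
nilpotent.** -/
theorem isNilpotent_of_isCNGroup_of_fpf {E : Type u} {V : Type*} [Group E] [Finite E] [CommGroup V]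
    [Finite V] [Nontrivial V] (hCN : Cfsg.IsCNGroup E) (ρ : E →* MulAut V)
    (hcop : (Nat.card E).Coprime (Nat.card V))
    (hfpf : ∀ e : E, e ≠ 1 → ∀ v : V, ρ e v = v → v = 1) : Group.IsNilpotent E := by
  apply isNilpotent_of_normal_complements
  intro q hq
  have : Fact q.Prime := ⟨hq⟩
  apply Cfsg.Agent.Lib.Helper13.exists_normal_pPrime_of_localCentral_aux (p := q) _ E rfl
  intro T hT g hg hgq
  -- coprime action of `⟨g⟩` on `T`
  obtain ⟨kT, hkT⟩ := IsPGroup.iff_card.mp hT
  have hact : CoprimeAct (Subgroup.zpowers g) T :=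
    { norm := Subgroup.zpowers_le.mpr hg
      cop := by
        rw [Nat.card_zpowers, hkT]
        exact Nat.Coprime.pow_right kT hgq
      solv := Or.inl inferInstance }
  by_cases hT₁ : ⁅T, Subgroup.zpowers g⁆ = ⊥
  · rw [Subgroup.commutator_eq_bot_iff_le_centralizer] at hT₁
    rw [Subgroup.mem_centralizer_iff]
    intro t ht
    exact ((Subgroup.mem_centralizer_iff.mp (hT₁ ht)) g (Subgroup.mem_zpowers g)).symm
  · exfalso
    set T₁ : Subgroup E := ⁅T, Subgroup.zpowers g⁆ with hT₁def
    have hT₁T : T₁ ≤ T := commutator_le_of_le_normalizer hact.norm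
    have hT₁p : IsPGroup q ↥T₁ := hT.to_le hT₁T
    have hXT₁ : Subgroup.zpowers g ≤ Subgroup.normalizer (T₁ : Set E) :=
      le_normalizer_commutator_right
    have hcc : ⁅T₁, Subgroup.zpowers g⁆ = T₁ := hact.commutator_commutator_eq
    -- orders of elements of `T₁` are coprime to the order of `g`
    have hord : ∀ t ∈ T₁, (orderOf t).Coprime (orderOf g) := by
      intro t ht
      obtain ⟨j, hj⟩ := (IsPGroup.iff_orderOf.1 hT₁p) ⟨t, ht⟩
      rw [Subgroup.orderOf_mk] at hj
      rw [hj]
      exact Nat.Coprime.pow_left j hgq.symm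
    have hg1 : g ≠ 1 := by
      rintro rfl
      apply hT₁
      rw [hT₁def, Subgroup.zpowers_one_eq_bot, Subgroup.commutator_bot_right]
    -- the centre of `T₁`
    have hM1 : T₁ ⊓ Subgroup.centralizer (T₁ : Set E) ≠ ⊥ := by
      have hnt : Nontrivial ↥T₁ := (Subgroup.nontrivial_iff_ne_bot T₁).mpr hT₁
      have hcn : Nontrivial ↥(Subgroup.center ↥T₁) := hT₁p.center_nontrivial
      obtain ⟨⟨z, hz⟩, hz1⟩ := exists_ne (1 : ↥(Subgroup.center ↥T₁))
      intro hbot
      apply hz1
      apply Subtype.ext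
      apply Subtype.ext
      have hmem : (z : E) ∈ T₁ ⊓ Subgroup.centralizer (T₁ : Set E) := by
        have hzc : (z : E) ∈ Subgroup.centralizer (T₁ : Set E) := by
          rw [Subgroup.mem_centralizer_iff]
          intro t ht
          have := (Subgroup.mem_center_iff.mp hz) ⟨t, ht⟩
          exact congrArg Subtype.val this
        exact Subgroup.mem_inf.mpr ⟨z.2, hzc⟩
      rw [hbot, Subgroup.mem_bot] at hmem
      exact hmem
    have hXM : Subgroup.zpowers g ≤ Subgroup.normalizer
        ((T₁ ⊓ Subgroup.centralizer (T₁ : Set E) : Subgroup E) : Set E) := by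
      apply le_normalizer_of_forall_conj_mem
      intro x hx m hm
      have hxN := hXT₁ hx
      obtain ⟨hm1, hm2⟩ := Subgroup.mem_inf.mp hm
      refine Subgroup.mem_inf.mpr ⟨(Subgroup.mem_normalizer_iff.mp hxN m).mp hm1, ?_⟩
      rw [Subgroup.mem_centralizer_iff]
      intro t ht
      have ht' : x⁻¹ * t * x ∈ T₁ := by
        have := (Subgroup.mem_normalizer_iff.mp (Subgroup.inv_mem _ hxN) t).mp ht
        simpa using this
      have h1 := (Subgroup.mem_centralizer_iff.mp hm2) _ ht'
      calc t * (x * m * x⁻¹) = x * ((x⁻¹ * t * x) * m) * x⁻¹ := by group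
        _ = x * (m * (x⁻¹ * t * x)) * x⁻¹ := by rw [h1]
        _ = x * m * x⁻¹ * t := by group
    have hfrob : ∀ x ∈ Subgroup.zpowers g, x ≠ 1 →
        ∀ m ∈ T₁ ⊓ Subgroup.centralizer (T₁ : Set E), m * x = x * m → m = 1 := by
      intro x hx hx1 m hm hmx
      by_contra hm1
      -- `m` and `g` commute
      have hCx := hCN x hx1
      have hmCx : m ∈ Subgroup.centralizer ({x} : Set E) := by
        rw [Subgroup.mem_centralizer_iff]
        intro w hw
        rw [Set.mem_singleton_iff] at hw
        subst hw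
        exact hmx.symm
      have hgCx : g ∈ Subgroup.centralizer ({x} : Set E) := by
        rw [Subgroup.mem_centralizer_iff]
        intro w hw
        rw [Set.mem_singleton_iff] at hw
        subst hw
        obtain ⟨j, rfl⟩ := Subgroup.mem_zpowers_iff.mp hx
        exact ((Commute.refl g).zpow_right j).eq.symm
      have hmg : m * g = g * m := commute_of_mem_of_isNilpotent hCx hmCx hgCx (hord m hm.1)
      -- `g` centralizes `T₁`
      have hCm := hCN m hm1
      have hgCm : g ∈ Subgroup.centralizer ({m} : Set E) := by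
        rw [Subgroup.mem_centralizer_iff]
        intro w hw
        rw [Set.mem_singleton_iff] at hw
        subst hw
        exact hmg
      have hT₁Cm : ∀ t ∈ T₁, t ∈ Subgroup.centralizer ({m} : Set E) := by
        intro t ht
        rw [Subgroup.mem_centralizer_iff]
        intro w hw
        rw [Set.mem_singleton_iff] at hw
        subst hw
        exact ((Subgroup.mem_centralizer_iff.mp hm.2) t ht).symm
      have hcent : T₁ ≤ Subgroup.centralizer ((Subgroup.zpowers g : Subgroup E) : Set E) := by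
        intro t ht
        rw [Subgroup.mem_centralizer_iff]
        intro y hy
        obtain ⟨j, rfl⟩ := Subgroup.mem_zpowers_iff.mp hy
        have h1 : t * g = g * t :=
          commute_of_mem_of_isNilpotent hCm (hT₁Cm t ht) hgCm (hord t ht)
        exact ((show Commute t g from h1).zpow_right j).eq.symm
      rw [← Subgroup.commutator_eq_bot_iff_le_centralizer, hcc] at hcent
      exact hT₁ hcent
    have hpow : ∀ v : V, v ^ Nat.card ↥(T₁ ⊓ Subgroup.centralizer (T₁ : Set E)) = 1 := by
      apply pow_card_eq_one_of_frobenius_fpf ρ _ (Subgroup.zpowers g) hXM hfrob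
      · intro v hv
        obtain ⟨⟨m, hm⟩, hm1⟩ := (Subgroup.ne_bot_iff_exists_ne_one).mp hM1
        exact hfpf m (fun h0 => hm1 (Subtype.ext h0)) v (hv m hm)
      · intro v hv
        exact hfpf g hg1 v (hv g (Subgroup.mem_zpowers g))
    obtain ⟨v, hv⟩ := exists_ne (1 : V)
    apply hv
    have h1 := hpow v
    have h2 : v ^ Nat.card V = 1 := pow_card_eq_one'
    have h3 : orderOf v ∣ Nat.gcd (Nat.card ↥(T₁ ⊓ Subgroup.centralizer (T₁ : Set E)))
        (Nat.card V) :=
      Nat.dvd_gcd (orderOf_dvd_of_pow_eq_one h1) (orderOf_dvd_of_pow_eq_one h2)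
    have h4 : Nat.gcd (Nat.card ↥(T₁ ⊓ Subgroup.centralizer (T₁ : Set E))) (Nat.card V) = 1 :=
      Nat.Coprime.coprime_dvd_left (Subgroup.card_subgroup_dvd_card _) hcop
    rw [h4] at h3
    exact orderOf_eq_one_iff.mp (Nat.dvd_one.mp h3)

end Cfsg.Agent.Lib.Helper10
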