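import Mathlib
import Cfsg.Agent.Lib.Helper6.OrtS12

/-!
# Isometric subspaces of a quadratic space and isometric embeddings (finite fields, odd
characteristic): every nondegenerate subspace contains an isometric copy of every nondegenerate
subspace of smaller dimension.
-/

set_option autoImplicit false

namespace Cfsg.Agent.Lib.Helper10.OrtO

open Module Submodule QuadraticMap Cfsg.Agent.Lib.Helper15.PSpI Cfsg.Agent.Lib.Helper6.OrtS
  Cfsg.Agent.Lib.Helper15

universe u

section iso

variable {F : Type u} {V : Type*} [Field F] [AddCommGroup V] [Module F V]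
variable (Q : QuadraticForm F V)

/-- two subspaces are isometric for `Q` -/
def Iso (W W' : Submodule F V) : Prop :=
  ∃ e : W ≃ₗ[F] W', ∀ w : W, Q ((e w : W') : V) = Q (w : V)

theorem Iso.refl (W : Submodule F V) : Iso Q W W := ⟨LinearEquiv.refl F W, fun _ => rfl⟩

variable {Q}

theorem Iso.symm {W W' : Submodule F V} (h : Iso Q W W') : Iso Q W' W := by
  obtain ⟨e, he⟩ := h
  refine ⟨e.symm, fun w => ?_⟩
  have := he (e.symm w)
  rw [LinearEquiv.apply_symm_apply] at this
  exact this.symm

theorem Iso.trans {W W' W'' : Submodule F V} (h : Iso Q W W') (h' : Iso Q W' W'') :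
    Iso Q W W'' := by
  obtain ⟨e, he⟩ := h
  obtain ⟨e', he'⟩ := h'
  exact ⟨e.trans e', fun w => by rw [LinearEquiv.trans_apply, he', he]⟩

theorem Iso.finrank_eq {W W' : Submodule F V} (h : Iso Q W W') : finrank F W = finrank F W' := by
  obtain ⟨e, -⟩ := h
  exact e.finrank_eq

theorem polar_of_iso {W W' : Submodule F V} (e : W ≃ₗ[F] W')
    (he : ∀ w : W, Q ((e w : W') : V) = Q (w : V)) (u v : W) :
    polar Q ((e u : W') : V) ((e v : W') : V) = polar Q (u : V) (v : V) := by
  unfold polar
  rw [← Submodule.coe_add, ← map_add, he, he, he, Submodule.coe_add]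

theorem Iso.nondegOn {W W' : Submodule F V} (h : Iso Q W W')
    (hW : NondegOn (polarBilin Q) W) : NondegOn (polarBilin Q) W' := by
  obtain ⟨e, he⟩ := h
  intro u' hu' h0
  obtain ⟨u, hu⟩ := e.surjective ⟨u', hu'⟩
  have hu0 : (u : V) = 0 := by
    apply hW u u.2
    intro v hv
    have h1 := polar_of_iso e he u ⟨v, hv⟩
    rw [polarBilin_apply_apply, ← h1, hu]
    exact h0 _ (e ⟨v, hv⟩).2
  have hu0' : u = 0 := Subtype.ext hu0
  rw [hu0', map_zero] at hu
  have := congrArg Subtype.val hu
  exact this.symm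

variable (Q)

/-- the image of a subspace under an injective isometry -/
theorem iso_map (g : V →ₗ[F] V) (hg : ∀ v, Q (g v) = Q v) (hinj : Function.Injective g)
    (W : Submodule F V) : Iso Q W (W.map g) :=
  ⟨Submodule.equivMapOfInjective g hinj W, fun w => hg w⟩

/-- orthogonal sums of isometric subspaces are isometric -/
theorem iso_sup {A B A' B' : Submodule F V} (ho : Orth (polarBilin Q) A B)
    (ho' : Orth (polarBilin Q) A' B') (hA : NondegOn (polarBilin Q) A)
    (hA' : NondegOn (polarBilin Q) A') (h1 : Iso Q A A') (h2 : Iso Q B B') :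
    Iso Q (A ⊔ B) (A' ⊔ B') := by
  have hS := pB_symm Q
  obtain ⟨φ, hφ⟩ := h1
  obtain ⟨ψ, hψ⟩ := h2
  obtain ⟨χ, hχ, -, -⟩ := exists_glue Q A B A' B' (orth_disjoint hS ho hA)
    (orth_disjoint hS ho' hA') ho ho' φ hφ ψ hψ
  exact ⟨χ, hχ⟩

theorem quad_add (a b : V) : Q (a + b) = Q a + Q b + polar Q a b := by
  unfold polar
  ring

/-- a nonzero nondegenerate subspace contains a nonsingular vector -/
theorem exists_aniso_in (X : Submodule F V) (hX : NondegOn (polarBilin Q) X) (hX0 : X ≠ ⊥) :
    ∃ x ∈ X, Q x ≠ 0 := by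
  by_contra hcon
  push Not at hcon
  obtain ⟨x, hxX, hx0⟩ := Submodule.exists_mem_ne_zero_of_ne_bot hX0
  apply hx0
  apply hX x hxX
  intro v hv
  rw [polarBilin_apply_apply]
  unfold polar
  rw [hcon _ (X.add_mem hxX hv), hcon x hxX, hcon v hv]
  ring

/-- the line spanned by a nonsingular vector is nondegenerate -/
theorem nondegOn_span (h2 : (2 : F) ≠ 0) {x : V} (hx : Q x ≠ 0) :
    NondegOn (polarBilin Q) (span F {x}) := by
  intro u hu h0
  obtain ⟨c, rfl⟩ := mem_span_singleton.mp hu
  have h1 := h0 x (mem_span_singleton_self x)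
  rw [polarBilin_apply_apply, polar_smul_left, polar_self, smul_eq_mul, nsmul_eq_mul] at h1
  have hc : c = 0 := by
    rcases mul_eq_zero.mp h1 with h | h
    · exact h
    · rcases mul_eq_zero.mp h with h' | h'
      · exact absurd (by exact_mod_cast h') h2
      · exact absurd h' hx
  rw [hc, zero_smul]

/-- lines spanned by vectors of the same nonzero norm are isometric -/
theorem iso_span {x y : V} (hxy : Q y = Q x) (hx : x ≠ 0) (hy : y ≠ 0) :
    Iso Q (span F {y}) (span F {x}) := by
  refine ⟨(LinearEquiv.toSpanNonzeroSingleton F V y hy).symm.trans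
    (LinearEquiv.toSpanNonzeroSingleton F V x hx), ?_⟩
  intro w
  obtain ⟨c, rfl⟩ := (LinearEquiv.toSpanNonzeroSingleton F V y hy).surjective w
  rw [LinearEquiv.trans_apply, LinearEquiv.symm_apply_apply]
  have h1 : ((LinearEquiv.toSpanNonzeroSingleton F V x hx c : span F {x}) : V) = c • x := rfl
  have h2 : ((LinearEquiv.toSpanNonzeroSingleton F V y hy c : span F {y}) : V) = c • y := rfl
  rw [h1, h2, QuadraticMap.map_smul, QuadraticMap.map_smul, hxy]

end iso

section embed

variable {F : Type u} {V : Type*} [Field F] [Finite F] [AddCommGroup V] [Module F V]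
  [FiniteDimensional F V]
variable (Q : QuadraticForm F V)

/-- a nondegenerate subspace of dimension at least two represents every value -/
theorem exists_value_sub (X : Submodule F V) (hX : NondegOn (polarBilin Q) X)
    (h2 : 2 ≤ finrank F X) (δ : F) : ∃ x ∈ X, Q x = δ := by
  classical
  let Q' : QuadraticForm F (X × F) :=
    (Q.comp X.subtype).prod ((-δ) • (QuadraticMap.sq : QuadraticForm F F))
  have hQ' : ∀ p : X × F, Q' p = Q (p.1 : V) - δ * (p.2 * p.2) := by
    intro p
    simp only [Q', QuadraticMap.prod_apply, QuadraticMap.comp_apply, Submodule.subtype_apply,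
      QuadraticMap.smul_apply, QuadraticMap.sq_apply, smul_eq_mul]
    ring
  have h3 : 3 ≤ finrank F (X × F) := by
    rw [Module.finrank_prod, Module.finrank_self]
    omega
  obtain ⟨⟨v, c⟩, hne, hq⟩ := exists_singular_of_three_le_finrank Q' h3
  rw [hQ'] at hq
  simp only at hq
  by_cases hc : c = 0
  · have hv0 : v ≠ 0 := by
      intro h
      apply hne
      rw [h, hc]
      rfl
    have hQv : Q (v : V) = 0 := by
      rw [hc] at hq
      simpa using hq
    have hex : ∃ w ∈ X, polarBilin Q (v : V) w ≠ 0 := by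
      by_contra hcon
      push Not at hcon
      exact hv0 (Subtype.ext (hX v v.2 hcon))
    obtain ⟨w, hwX, hw⟩ := hex
    rw [polarBilin_apply_apply] at hw
    refine ⟨((δ - Q w) / polar Q (v : V) w) • (v : V) + w,
      X.add_mem (X.smul_mem _ v.2) hwX, ?_⟩
    rw [quad_add, QuadraticMap.map_smul, polar_smul_left, hQv, smul_eq_mul, smul_eq_mul]
    field_simp
    ring
  · refine ⟨c⁻¹ • (v : V), X.smul_mem _ v.2, ?_⟩
    rw [QuadraticMap.map_smul, smul_eq_mul]
    have : Q (v : V) = δ * (c * c) := sub_eq_zero.mp hq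
    rw [this]
    field_simp

/-- **Embedding**: a nondegenerate subspace contains an isometric copy of every nondegenerate
subspace of smaller dimension. -/
theorem exists_iso_sub (h2 : (2 : F) ≠ 0) :
    ∀ (k : ℕ) (X Y : Submodule F V), NondegOn (polarBilin Q) X → NondegOn (polarBilin Q) Y →
      finrank F Y = k → k < finrank F X → ∃ U : Submodule F V, U ≤ X ∧ Iso Q Y U := by
  intro k
  induction k with
  | zero =>
    intro X Y _ _ hYf _
    have hb : Y = ⊥ := Submodule.finrank_eq_zero.mp hYf
    exact ⟨⊥, bot_le, by rw [hb]; exact Iso.refl Q ⊥⟩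
  | succ k ih =>
    intro X Y hX hY hYf hlt
    have hS := pB_symm Q
    have hY0 : Y ≠ ⊥ := by
      intro h
      rw [h, finrank_bot] at hYf
      omega
    obtain ⟨y, hyY, hQy⟩ := exists_aniso_in Q Y hY hY0
    obtain ⟨x, hxX, hQx⟩ := exists_value_sub Q X hX (by omega) (Q y)
    have hy0 : y ≠ 0 := by
      rintro rfl
      exact hQy (map_zero Q)
    have hx0 : x ≠ 0 := by
      rintro rfl
      rw [map_zero] at hQx
      exact hQy hQx.symm
    have hSy := nondegOn_span Q h2 hQy
    have hSx : NondegOn (polarBilin Q) (span F {x}) := nondegOn_span Q h2 (by rw [hQx]; exact hQy)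
    have hSyY : span F {y} ≤ Y := by rwa [span_singleton_le_iff_mem]
    have hSxX : span F {x} ≤ X := by rwa [span_singleton_le_iff_mem]
    have hY'n := nondegOn_perpIn' hS hSyY hSy hY
    have hY'f := finrank_perpIn' hS hSyY hSy (V' := Y)
    have hX'n := nondegOn_perpIn' hS hSxX hSx hX
    have hX'f := finrank_perpIn' hS hSxX hSx (V' := X)
    rw [finrank_span_singleton hy0] at hY'f
    rw [finrank_span_singleton hx0] at hX'f
    obtain ⟨U', hU'X, hU'⟩ := ih (perpIn (polarBilin Q) X (span F {x}))
      (perpIn (polarBilin Q) Y (span F {y})) hX'n hY'n (by omega) (by omega)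
    have hoY : Orth (polarBilin Q) (span F {y}) (perpIn (polarBilin Q) Y (span F {y})) :=
      orth_perpIn _ _
    have hoX : Orth (polarBilin Q) (span F {x}) U' :=
      (orth_perpIn X (span F {x})).mono le_rfl hU'X
    have hiso1 : Iso Q (span F {y}) (span F {x}) := iso_span Q hQx.symm hx0 hy0
    have h3 := iso_sup Q hoY hoX hSy hSx hiso1 hU'
    rw [sup_perpIn' hS hSyY hSy] at h3
    exact ⟨span F {x} ⊔ U', sup_le hSxX (hU'X.trans (perpIn_le _ _)), h3⟩

end embed

end Cfsg.Agent.Lib.Helper10.OrtO
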