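import Mathlib
import Cfsg.Agent.Lib.Helper10.OrtO1

/-!
# Isometries of odd prime order fixing a nondegenerate subspace of odd dimension in a given
isometry class
-/

set_option autoImplicit false

namespace Cfsg.Agent.Lib.Helper10.OrtO

open Module Submodule QuadraticMap Cfsg.Agent.Lib.Helper15.PSpI Cfsg.Agent.Lib.Helper14.OrthEven
  Cfsg.Agent.Lib.Helper15.PSpJ Cfsg.Agent.Lib.Helper15.PDec Cfsg.Agent.Lib.Helper15.PSub
  Cfsg.Agent.Lib.Helper6.OrtS

universe u

section crit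

variable {F : Type u} {V : Type*} [Field F] [Fintype F] [AddCommGroup V] [Module F V]
  [FiniteDimensional F V]
variable (Q : QuadraticForm F V)

/-- the set of nondegenerate `m`-subspaces isometric to `W₀` -/
def OSet (m : ℕ) (W₀ : Submodule F V) : Set (Submodule F V) :=
  {W | finrank F W = m ∧ NondegOn (polarBilin Q) W ∧ Iso Q W W₀}

/-- structure of the whole space with respect to an isometry of odd prime order (no signs) -/
theorem top_struct0 (p : ℕ) [Fact p.Prime] [CharP F p] (r : ℕ) [hr : Fact r.Prime]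
    (hrp : r ≠ p) (hQ : NondegOn (polarBilin Q) ⊤) (y : V →ₗ[F] V)
    (hQy : ∀ v, Q (y v) = Q v) (hy : y ^ r = 1) (n : ℕ) (hn : finrank F V = n) (s : ℕ)
    (hs : finrank F (movPart (polarBilin Q) y ⊤) =
      cOf (orderOf ((Fintype.card F : ℕ) : ZMod r)) * s) :
    NondegOn (polarBilin Q) (⊤ ⊓ Module.End.eigenspace y 1) ∧
    finrank F ↥((⊤ : Submodule F V) ⊓ Module.End.eigenspace y 1) =
      n - cOf (orderOf ((Fintype.card F : ℕ) : ZMod r)) * s ∧
    cOf (orderOf ((Fintype.card F : ℕ) : ZMod r)) * s ≤ n := by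
  have hS := pB_symm Q
  have hiso := iso_of_Q Q y hQy
  have hr0 : (r : F) ≠ 0 := ne_zero_of_ne' p r hr.out hrp
  have hinj : Function.Injective y :=
    injective_of_pow_eq_smul y r 1 one_ne_zero (by rw [hy, one_smul]) hr.out.ne_zero
  have htop : (⊤ : Submodule F V).map y = ⊤ :=
    map_eq_of_invt y hinj ⊤ (by
      rw [Module.End.mem_invtSubmodule_iff_map_le]
      exact le_top)
  obtain ⟨-, -, -, hdim, -, -⟩ :=
    movPart_props' hS y hiso r hr.out.ne_zero hr0 hy ⊤ htop hQ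
  have hEn := nondegOn_fixed y hiso r hr0 hy ⊤ htop hQ
  rw [finrank_top, hn, hs] at hdim
  exact ⟨hEn, by omega, by omega⟩

/-- **Criterion** (odd `m`): an isometry of odd prime order `r ≠ p` with `s` blocks fixes a
nondegenerate `m`-space isometric to `W₀` iff a numerical condition holds. -/
theorem fixes_iffO (h2 : (2 : F) ≠ 0) (p : ℕ) [Fact p.Prime] [CharP F p] (r : ℕ)
    [hr : Fact r.Prime]
    (hrp : r ≠ p) (hr2 : r ≠ 2) (hQ : NondegOn (polarBilin Q) ⊤) (y : V →ₗ[F] V)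
    (hQy : ∀ v, Q (y v) = Q v) (hy : y ^ r = 1) (n : ℕ) (hn : finrank F V = n) (hne : Even n)
    (s : ℕ)
    (hs : finrank F (movPart (polarBilin Q) y ⊤) =
      cOf (orderOf ((Fintype.card F : ℕ) : ZMod r)) * s)
    (m : ℕ) (hm : Odd m) (W₀ : Submodule F V) (hW₀f : finrank F W₀ = m)
    (hW₀n : NondegOn (polarBilin Q) W₀) :
    (∃ W : Submodule F V, W ∈ OSet Q m W₀ ∧ W.map y ≤ W) ↔
    ∃ t, t ≤ s ∧ cOf (orderOf ((Fintype.card F : ℕ) : ZMod r)) * t ≤ m ∧
      m - cOf (orderOf ((Fintype.card F : ℕ) : ZMod r)) * t <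
        n - cOf (orderOf ((Fintype.card F : ℕ) : ZMod r)) * s := by
  have hS := pB_symm Q
  have hiso := iso_of_Q Q y hQy
  have hr0 : (r : F) ≠ 0 := ne_zero_of_ne' p r hr.out hrp
  have hinj : Function.Injective y :=
    injective_of_pow_eq_smul y r 1 one_ne_zero (by rw [hy, one_smul]) hr.out.ne_zero
  have htop : (⊤ : Submodule F V).map y = ⊤ :=
    map_eq_of_invt y hinj ⊤ (by
      rw [Module.End.mem_invtSubmodule_iff_map_le]
      exact le_top)
  obtain ⟨hKx, hKn, hKE, -, hsup, hCK⟩ :=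
    movPart_props' hS y hiso r hr.out.ne_zero hr0 hy ⊤ htop hQ
  obtain ⟨hEn, hEf, hcsn⟩ := top_struct0 Q p r hrp hQ y hQy hy n hn s hs
  have hipos : 0 < orderOf ((Fintype.card F : ℕ) : ZMod r) := orderOf_pos_of_ne p r hrp
  obtain ⟨i, hi⟩ : ∃ i, i = orderOf ((Fintype.card F : ℕ) : ZMod r) := ⟨_, rfl⟩
  rw [← hi] at hs hEf hcsn hipos ⊢
  obtain ⟨c, hc⟩ : ∃ c, c = cOf i := ⟨_, rfl⟩
  rw [← hc] at hs hEf hcsn ⊢
  have hcpos : 0 < c := by rw [hc]; exact cOf_pos hipos
  have hce : Even c := by rw [hc]; exact cOf_even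
  obtain ⟨c', hc'⟩ := hce
  obtain ⟨m', hm'⟩ := hm
  obtain ⟨n', hn'⟩ := hne
  constructor
  · rintro ⟨W, ⟨hWf, hWn, -⟩, hWy⟩
    have hWx : W.map y = W :=
      map_eq_of_invt y hinj W ((Module.End.mem_invtSubmodule_iff_map_le _).mpr hWy)
    obtain ⟨h1x, h1n, h1E, hWdim, hWsup, h01⟩ :=
      movPart_props' hS y hiso r hr.out.ne_zero hr0 hy W hWx hWn
    obtain ⟨t, ht⟩ := movPart_profile' p r hrp hr2 hS y hiso hy W hWx hWn
    rw [← hi, ← hc] at ht
    have h1K : movPart (polarBilin Q) y W ≤ movPart (polarBilin Q) y ⊤ := by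
      intro v hv
      refine mem_perpIn.mpr ⟨mem_top, fun u hu => ?_⟩
      exact orth_fixed_of_fpf y hiso r hr0 hy _ h1x h1E u hu.2 v hv
    have hts : t ≤ s := by
      have := Submodule.finrank_mono h1K
      rw [ht, hs] at this
      exact Nat.le_of_mul_le_mul_left this hcpos
    rw [hWf, ht] at hWdim
    have hle : W ⊓ Module.End.eigenspace y 1 ≤ ⊤ ⊓ Module.End.eigenspace y 1 :=
      inf_le_inf_right _ le_top
    have h3 := Submodule.finrank_mono hle
    rw [hEf] at h3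
    have h4 : c * t = 2 * (c' * t) := by rw [hc']; ring
    have h5 : c * s = 2 * (c' * s) := by rw [hc']; ring
    refine ⟨t, hts, by omega, by omega⟩
  · rintro ⟨t, hts, htm, hlt⟩
    obtain ⟨D, hDK, hDx, hDn, hDf⟩ := exists_moved_sub' p r hrp hr2 hS y hiso hy _ hKx hKn hKE s
      (by rw [hs, hc, hi]) t hts
    rw [← hi, ← hc] at hDf
    have h4 : c * t = 2 * (c' * t) := by rw [hc']; ring
    -- a copy of `D` inside `W₀`
    obtain ⟨D₀, hD₀W, hDD₀⟩ := exists_iso_sub Q h2 (c * t) W₀ D hW₀n hDn hDf (by omega)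
    have hD₀n : NondegOn (polarBilin Q) D₀ := hDD₀.nondegOn hDn
    have hD₀f : finrank F D₀ = c * t := by rw [← hDD₀.finrank_eq, hDf]
    have hU₀n := nondegOn_perpIn' hS hD₀W hD₀n hW₀n
    have hU₀f := finrank_perpIn' hS hD₀W hD₀n (V' := W₀)
    rw [hD₀f, hW₀f] at hU₀f
    -- a copy of the complement inside the fixed space
    obtain ⟨U, hUE, hU₀U⟩ := exists_iso_sub Q h2 (m - c * t) (⊤ ⊓ Module.End.eigenspace y 1)
      (perpIn (polarBilin Q) W₀ D₀) hEn hU₀n (by omega) (by rw [hEf]; exact hlt)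
    have hUn : NondegOn (polarBilin Q) U := hU₀U.nondegOn hU₀n
    have hUf : finrank F U = m - c * t := by rw [← hU₀U.finrank_eq]; omega
    have ho : Orth (polarBilin Q) U D := hCK.mono hUE hDK
    have ho₀ : Orth (polarBilin Q) (perpIn (polarBilin Q) W₀ D₀) D₀ :=
      orth_symm hS (orth_perpIn W₀ D₀)
    have hisoW := iso_sup Q ho ho₀ hUn hU₀n hU₀U.symm hDD₀
    rw [sup_comm (perpIn (polarBilin Q) W₀ D₀) D₀, sup_perpIn' hS hD₀W hD₀n] at hisoW
    refine ⟨U ⊔ D, ⟨?_, nondegOn_sup' hS ho hUn hDn, hisoW⟩, ?_⟩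
    · rw [hisoW.finrank_eq, hW₀f]
    · rw [Submodule.map_sup, hDx]
      apply sup_le_sup_right
      rintro _ ⟨u, hu, rfl⟩
      rw [fix_of_mem_inf y (hUE hu)]
      exact hu

end crit

section trans

variable {F : Type u} {V : Type*} [Field F] [Fintype F] [AddCommGroup V] [Module F V]
  [FiniteDimensional F V]
variable (Q : QuadraticForm F V)

/-- two isometric nondegenerate subspaces, both orthogonal to a subspace `K`, are conjugate under
an isometry fixing `K` pointwise. -/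
theorem exists_isometry_fixing_iso (hQ : NondegOn (polarBilin Q) ⊤) (K W W' : Submodule F V)
    (hW : NondegOn (polarBilin Q) W) (hW' : NondegOn (polarBilin Q) W')
    (hWK : Orth (polarBilin Q) W K) (hW'K : Orth (polarBilin Q) W' K) (hiso : Iso Q W W') :
    ∃ g : V ≃ₗ[F] V, (∀ v, Q (g v) = Q v) ∧ (∀ v ∈ K, g v = v) ∧ W.map g.toLinearMap = W' := by
  have hS := pB_symm Q
  have hQn : (polarBilin Q).Nondegenerate := by
    have hl : (polarBilin Q).SeparatingLeft := by
      intro x hx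
      exact hQ x mem_top (fun v _ => hx v)
    refine ⟨hl, ?_⟩
    intro y hy
    apply hl
    intro x
    rw [hS]
    exact hy x
  obtain ⟨φ, hφ⟩ := hiso
  have hd : Disjoint W K := orth_disjoint hS hWK hW
  have hd' : Disjoint W' K := orth_disjoint hS hW'K hW'
  obtain ⟨χ, hχQ, hχW, hχK⟩ := exists_glue Q W K W' K hd hd' hWK hW'K φ (fun a => hφ a)
    (LinearEquiv.refl F K) (fun b => rfl)
  obtain ⟨g, hgQ, hgχ⟩ := Cfsg.Agent.S0750.result Q hQn (W ⊔ K) (W' ⊔ K) χ hχQ
  refine ⟨g, hgQ, ?_, ?_⟩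
  · intro v hv
    have := hgχ ⟨v, mem_sup_right hv⟩
    rw [hχK ⟨v, hv⟩] at this
    exact this
  · apply le_antisymm
    · rintro _ ⟨w, hw, rfl⟩
      have := hgχ ⟨w, mem_sup_left hw⟩
      rw [hχW ⟨w, hw⟩] at this
      show g w ∈ W'
      rw [this]
      exact (φ ⟨w, hw⟩).2
    · intro w' hw'
      obtain ⟨a, ha⟩ := φ.surjective ⟨w', hw'⟩
      refine ⟨a, a.2, ?_⟩
      have := hgχ ⟨a, mem_sup_left a.2⟩
      rw [hχW a] at this
      show g a = w'
      rw [this, ha]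

end trans

end Cfsg.Agent.Lib.Helper10.OrtO
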