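import Mathlib
import Cfsg.Agent.Lib.Helper10.OrtO4
import Cfsg.Agent.Lib.Helper6.OrtS13

/-!
# Odd `m`: the exceptional case excluded by `r ∣ N`, and the final odd-`r` statement
-/

set_option autoImplicit false

namespace Cfsg.Agent.Lib.Helper10.OrtO

open Module Submodule QuadraticMap Cfsg.Agent.Lib.Helper15.PSpI
  Cfsg.Agent.Lib.Helper14.OrthEven
  Cfsg.Agent.Lib.Helper15.PSpJ Cfsg.Agent.Lib.Helper15.PDec Cfsg.Agent.Lib.Helper15.PSub
  Cfsg.Agent.Lib.Helper6.OrtS Cfsg.Agent.Lib.Helper6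

universe u

section gt

variable {F : Type u} [Field F] [Fintype F] {ι : Type} [Fintype ι] [DecidableEq ι]
variable (Q : QuadraticForm F (ι → F))

/-- In the exceptional case `r` does not divide the number of nondegenerate `m`-subspaces
isometric to `W₀`. -/
theorem not_dvd_of_extraO (h2 : (2 : F) ≠ 0) (p : ℕ) [Fact p.Prime] [CharP F p] (r : ℕ)
    [hr : Fact r.Prime]
    (hrp : r ≠ p) (hr2 : r ≠ 2) (hQ : (polarBilin Q).Nondegenerate) (n : ℕ)
    (hn : Fintype.card ι = n) (ε : ℤ)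
    (hExist : ∀ s, 1 ≤ s → cOf (orderOf ((Fintype.card F : ℕ) : ZMod r)) * s ≤ n →
      (cOf (orderOf ((Fintype.card F : ℕ) : ZMod r)) * s = n →
        tau (orderOf ((Fintype.card F : ℕ) : ZMod r)) s = ε) →
      ∃ M : Matrix ι ι F, (∀ v, Q (M.mulVec v) = Q v) ∧ M ^ r = 1 ∧
        finrank F (Module.End.eigenspace (Matrix.toLin' M) 1) =
          n - cOf (orderOf ((Fintype.card F : ℕ) : ZMod r)) * s)
    (m : ℕ) (W₀ : Submodule F (ι → F)) (hW₀f : finrank F W₀ = m)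
    (hW₀n : NondegOn (polarBilin Q) W₀)
    (hcm : m < cOf (orderOf ((Fintype.card F : ℕ) : ZMod r)))
    (hmk : m < n % cOf (orderOf ((Fintype.card F : ℕ) : ZMod r))) :
    ¬ r ∣ Nat.card (OSet Q m W₀) := by
  have hQt := nondegOn_top_of Q hQ
  have hfr : finrank F (ι → F) = n := by rw [Module.finrank_fintype_fun_eq_card, hn]
  have hipos : 0 < orderOf ((Fintype.card F : ℕ) : ZMod r) := orderOf_pos_of_ne p r hrp
  have hcpos := cOf_pos hipos
  obtain ⟨c, hc⟩ : ∃ c, c = cOf (orderOf ((Fintype.card F : ℕ) : ZMod r)) := ⟨_, rfl⟩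
  rw [← hc] at hcm hmk hExist hcpos
  have hdm := Nat.div_add_mod n c
  have hkc := Nat.mod_lt n hcpos
  have hnsub : n - c * (n / c) = n % c := by omega
  -- an isometry with `n / c` blocks
  have hy : ∃ y : (ι → F) →ₗ[F] (ι → F), (∀ v, Q (y v) = Q v) ∧ y ^ r = 1 ∧
      finrank F (movPart (polarBilin Q) y ⊤) = c * (n / c) := by
    by_cases hs0 : n / c = 0
    · refine ⟨1, fun v => rfl, one_pow r, ?_⟩
      have h1 := finrank_fixed_add_movPart Q p r hrp hQ n hn 1 (fun v => rfl) (one_pow r)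
      have h3 : Module.End.eigenspace (1 : (ι → F) →ₗ[F] (ι → F)) 1 = ⊤ := by
        rw [eq_top_iff]
        intro v _
        rw [Module.End.mem_eigenspace_iff, one_smul]
        rfl
      rw [h3, finrank_top, hfr] at h1
      rw [hs0, mul_zero]
      omega
    · obtain ⟨M, hM1, hM2, hM3⟩ := hExist (n / c) (Nat.pos_of_ne_zero hs0) (Nat.mul_div_le n c)
        (by intro h; omega)
      have hQy : ∀ v, Q (Matrix.toLin' M v) = Q v := fun v => by
        rw [Matrix.toLin'_apply]; exact hM1 v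
      have hy : (Matrix.toLin' M) ^ r = 1 := by
        rw [← Matrix.toLin'_pow, hM2, Matrix.toLin'_one]
        rfl
      refine ⟨Matrix.toLin' M, hQy, hy, ?_⟩
      have h1 := finrank_fixed_add_movPart Q p r hrp hQ n hn _ hQy hy
      omega
  obtain ⟨y, hQy, hyr, hs⟩ := hy
  rw [hc] at hs hcm hnsub hkc
  refine not_dvd_card_OSet Q h2 p r hrp hr2 hQt y hQy hyr n hfr (n / c) ?_ m W₀ hW₀f hW₀n
    hcm ?_ ?_
  · rw [hs, hc]
  · rw [hc, hnsub]; exact hkc
  · rw [hc, hnsub, ← hc]; exact hmk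

/-- **Odd `r`, odd `m`**: final form. -/
theorem odd_mainO (h2 : (2 : F) ≠ 0) (p : ℕ) [Fact p.Prime] [CharP F p] (r : ℕ)
    [hr : Fact r.Prime]
    (hrp : r ≠ p) (hr2 : r ≠ 2) (hQ : (polarBilin Q).Nondegenerate) (n : ℕ)
    (hn : Fintype.card ι = n) (hne : Even n) (hn2 : 2 ≤ n) (h24 : Fintype.card F ≠ 2 ∨ n ≠ 4)
    (ε : ℤ) (hsV : SgnOn Q ⊤ ε)
    (hExist : ∀ s, 1 ≤ s → cOf (orderOf ((Fintype.card F : ℕ) : ZMod r)) * s ≤ n →
      (cOf (orderOf ((Fintype.card F : ℕ) : ZMod r)) * s = n →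
        tau (orderOf ((Fintype.card F : ℕ) : ZMod r)) s = ε) →
      ∃ M : Matrix ι ι F, (∀ v, Q (M.mulVec v) = Q v) ∧ M ^ r = 1 ∧
        finrank F (Module.End.eigenspace (Matrix.toLin' M) 1) =
          n - cOf (orderOf ((Fintype.card F : ℕ) : ZMod r)) * s)
    (m : ℕ) (hm : Odd m) (hmn : m < n) (W₀ : Submodule F (ι → F)) (hW₀f : finrank F W₀ = m)
    (hW₀n : NondegOn (polarBilin Q) W₀)
    (hrΩ : r ∣ Nat.card (OSet Q m W₀)) :
    (∀ x : GL ι F, x ∈ Cfsg.Geo.omegaGL ⇑Q →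
      (∃ z : F, ((x ^ r : GL ι F) : Matrix ι ι F) = z • (1 : Matrix ι ι F)) →
      (∀ z : F, (x : Matrix ι ι F) ≠ z • (1 : Matrix ι ι F)) →
      ∃ W : Submodule F (ι → F), W ∈ OSet Q m W₀ ∧
        W.map (Matrix.toLin' (x : Matrix ι ι F)) ≤ W) ↔
    ((n % cOf (orderOf ((Fintype.card F : ℕ) : ZMod r)) = 0 ∧
        tau (orderOf ((Fintype.card F : ℕ) : ZMod r))
          (n / cOf (orderOf ((Fintype.card F : ℕ) : ZMod r))) ≠ ε) ∨
      (cOf (orderOf ((Fintype.card F : ℕ) : ZMod r)) ≤ m ∧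
        m % cOf (orderOf ((Fintype.card F : ℕ) : ZMod r)) <
          n % cOf (orderOf ((Fintype.card F : ℕ) : ZMod r)))) := by
  have hipos : 0 < orderOf ((Fintype.card F : ℕ) : ZMod r) := orderOf_pos_of_ne p r hrp
  rw [odd_iff_critO Q h2 p r hrp hr2 hQ n hn hne hn2 h24 ε hsV hExist m hm W₀ hW₀f hW₀n,
    critO_iff n m _ ε hipos hmn]
  have hnex : ¬ (m < cOf (orderOf ((Fintype.card F : ℕ) : ZMod r)) ∧
      m < n % cOf (orderOf ((Fintype.card F : ℕ) : ZMod r))) := by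
    rintro ⟨h1, h3⟩
    exact not_dvd_of_extraO Q h2 p r hrp hr2 hQ n hn ε hExist m W₀ hW₀f hW₀n h1 h3 hrΩ
  obtain ⟨c, hc⟩ : ∃ c, c = cOf (orderOf ((Fintype.card F : ℕ) : ZMod r)) := ⟨_, rfl⟩
  rw [← hc] at hnex ⊢
  have hcpos : 0 < c := by rw [hc]; exact cOf_pos hipos
  constructor
  · rintro (h | h | h)
    · exfalso
      apply hnex
      rw [Nat.mod_eq_of_lt h]
      exact ⟨by omega, hmn⟩
    · exact Or.inl h
    · right
      refine ⟨?_, h⟩
      by_contra hcon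
      apply hnex
      have hmc : m < c := by omega
      rw [Nat.mod_eq_of_lt hmc] at h
      exact ⟨hmc, h⟩
  · rintro (h | ⟨-, h⟩)
    · exact Or.inr (Or.inl h)
    · exact Or.inr (Or.inr h)

end gt

end Cfsg.Agent.Lib.Helper10.OrtO
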