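import Mathlib

/-!
# Isometries of finite order prime to the characteristic: fixed part, moved part, twisted form

For an isometry `X` of a bilinear space with `X ^ r = 1`, `r` invertible: `V = fixS X ⊕ movS X`,
the two parts are orthogonal, and for `r` odd the form `(u, v) ↦ B ((X - X⁻¹) u) v` on the moved
part has the opposite symmetry and the same invariant totally isotropic subspaces.
-/

set_option autoImplicit false

namespace Cfsg.Agent.Lib.Helper10.OrthTS

open Module Submodule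

section split

variable {F V : Type*} [Field F] [AddCommGroup V] [Module F V]

/-- the fixed space of an endomorphism -/
def fixS (X : V →ₗ[F] V) : Submodule F V := LinearMap.ker (X - 1)

/-- the moved space of an endomorphism -/
def movS (X : V →ₗ[F] V) : Submodule F V := LinearMap.range (X - 1)

theorem mem_fixS {X : V →ₗ[F] V} {v : V} : v ∈ fixS X ↔ X v = v := by
  unfold fixS
  rw [LinearMap.mem_ker, LinearMap.sub_apply, Module.End.one_apply, sub_eq_zero]

theorem mem_movS {X : V →ₗ[F] V} {v : V} : v ∈ movS X ↔ ∃ w, X w - w = v := by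
  unfold movS
  rw [LinearMap.mem_range]
  simp only [LinearMap.sub_apply, Module.End.one_apply]

theorem pow_apply_fix {X : V →ₗ[F] V} {v : V} (hv : X v = v) (n : ℕ) : (X ^ n) v = v := by
  induction n with
  | zero => simp
  | succ n ih => rw [pow_succ, Module.End.mul_apply, hv, ih]

theorem pow_mem_invt {X : V →ₗ[F] V} {W : Submodule F V} (hW : ∀ w ∈ W, X w ∈ W) (n : ℕ)
    {w : V} (hw : w ∈ W) : (X ^ n) w ∈ W := by
  induction n with
  | zero => simpa using hw
  | succ n ih => rw [pow_succ', Module.End.mul_apply]; exact hW _ ih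

/-- the sum of the powers -/
def powSum (X : V →ₗ[F] V) (r : ℕ) : V →ₗ[F] V := ∑ i ∈ Finset.range r, X ^ i

theorem mul_powSum (X : V →ₗ[F] V) (r : ℕ) (hX : X ^ r = 1) : X * powSum X r = powSum X r := by
  unfold powSum
  rw [Finset.mul_sum]
  have h1 : ∑ i ∈ Finset.range r, X * X ^ i = ∑ i ∈ Finset.range r, X ^ (i + 1) := by
    apply Finset.sum_congr rfl
    intro i _
    rw [pow_succ']
  rw [h1]
  have h2 := Finset.sum_range_succ' (fun i => X ^ i) r
  have h3 := Finset.sum_range_succ (fun i => X ^ i) r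
  rw [h3, hX, pow_zero] at h2
  exact (add_right_cancel h2).symm

theorem powSum_mem_fixS (X : V →ₗ[F] V) (r : ℕ) (hX : X ^ r = 1) (v : V) :
    powSum X r v ∈ fixS X := by
  rw [mem_fixS, ← Module.End.mul_apply, mul_powSum X r hX]

theorem powSum_mov (X : V →ₗ[F] V) (r : ℕ) (hX : X ^ r = 1) {u : V} (hu : u ∈ movS X) :
    powSum X r u = 0 := by
  obtain ⟨w, rfl⟩ := mem_movS.mp hu
  have h : powSum X r * (X - 1) = 0 := by
    unfold powSum
    rw [geom_sum_mul, hX, sub_self]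
  have h2 := congrArg (fun f : V →ₗ[F] V => f w) h
  simpa [Module.End.mul_apply, LinearMap.sub_apply] using h2

theorem powSum_fix (X : V →ₗ[F] V) (r : ℕ) {c : V} (hc : c ∈ fixS X) :
    powSum X r c = (r : F) • c := by
  unfold powSum
  rw [LinearMap.sum_apply]
  rw [Finset.sum_congr rfl (fun i _ => pow_apply_fix (mem_fixS.mp hc) i), Finset.sum_const,
    Finset.card_range, Nat.cast_smul_eq_nsmul]

theorem pow_sub_mem_movS (X : V →ₗ[F] V) (i : ℕ) (v : V) : (X ^ i) v - v ∈ movS X := by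
  have h : (X - 1) * ∑ j ∈ Finset.range i, X ^ j = X ^ i - 1 := mul_geom_sum X i
  rw [mem_movS]
  refine ⟨(∑ j ∈ Finset.range i, X ^ j) v, ?_⟩
  have h2 := congrArg (fun f : V →ₗ[F] V => f v) h
  simpa [Module.End.mul_apply, LinearMap.sub_apply] using h2

theorem smul_sub_powSum_mem_movS (X : V →ₗ[F] V) (r : ℕ) (v : V) :
    (r : F) • v - powSum X r v ∈ movS X := by
  have h : (r : F) • v - powSum X r v = - ∑ i ∈ Finset.range r, ((X ^ i) v - v) := by
    unfold powSum
    rw [LinearMap.sum_apply, Finset.sum_sub_distrib, Finset.sum_const, Finset.card_range,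
      Nat.cast_smul_eq_nsmul, neg_sub]
  rw [h]
  exact neg_mem (Submodule.sum_mem _ fun i _ => pow_sub_mem_movS X i v)

theorem fixS_inf_movS (X : V →ₗ[F] V) (r : ℕ) (hr0 : (r : F) ≠ 0) (hX : X ^ r = 1) :
    fixS X ⊓ movS X = ⊥ := by
  rw [eq_bot_iff]
  rintro v ⟨hc, hu⟩
  have h1 := powSum_fix X r hc
  rw [powSum_mov X r hX hu] at h1
  rw [Submodule.mem_bot]
  exact ((smul_eq_zero.mp h1.symm).resolve_left hr0)

/-- the decomposition of a vector of an invariant subspace -/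
theorem exists_decomp (X : V →ₗ[F] V) (r : ℕ) (hr0 : (r : F) ≠ 0) (hX : X ^ r = 1)
    (W : Submodule F V) (hW : ∀ w ∈ W, X w ∈ W) {v : V} (hv : v ∈ W) :
    ∃ c ∈ W ⊓ fixS X, ∃ u ∈ W ⊓ movS X, v = c + u := by
  have hS : powSum X r v ∈ W := by
    unfold powSum
    rw [LinearMap.sum_apply]
    exact Submodule.sum_mem _ fun i _ => pow_mem_invt hW i hv
  refine ⟨(r : F)⁻¹ • powSum X r v, ⟨W.smul_mem _ hS, (fixS X).smul_mem _ (powSum_mem_fixS X r hX v)⟩,
    (r : F)⁻¹ • ((r : F) • v - powSum X r v),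
    ⟨W.smul_mem _ (W.sub_mem (W.smul_mem _ hv) hS),
      (movS X).smul_mem _ (smul_sub_powSum_mem_movS X r v)⟩, ?_⟩
  rw [smul_sub, smul_smul, inv_mul_cancel₀ hr0, one_smul]
  abel

theorem fixS_sup_movS (X : V →ₗ[F] V) (r : ℕ) (hr0 : (r : F) ≠ 0) (hX : X ^ r = 1) :
    fixS X ⊔ movS X = ⊤ := by
  rw [eq_top_iff]
  intro v _
  obtain ⟨c, hc, u, hu, rfl⟩ := exists_decomp X r hr0 hX ⊤ (fun _ _ => mem_top) (mem_top : v ∈ ⊤)
  exact Submodule.add_mem_sup hc.2 hu.2

theorem isCompl_fixS_movS (X : V →ₗ[F] V) (r : ℕ) (hr0 : (r : F) ≠ 0) (hX : X ^ r = 1) :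
    IsCompl (fixS X) (movS X) :=
  ⟨disjoint_iff.mpr (fixS_inf_movS X r hr0 hX), codisjoint_iff.mpr (fixS_sup_movS X r hr0 hX)⟩

theorem map_movS_le (X : V →ₗ[F] V) : ∀ u ∈ movS X, X u ∈ movS X := by
  intro u hu
  obtain ⟨w, rfl⟩ := mem_movS.mp hu
  rw [mem_movS]
  exact ⟨X w, by rw [map_sub]⟩

theorem map_fixS_le (X : V →ₗ[F] V) : ∀ u ∈ fixS X, X u ∈ fixS X := by
  intro u hu
  rw [mem_fixS.mp hu]
  exact hu

end split


section bilin

variable {F V : Type*} [Field F] [AddCommGroup V] [Module F V]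
variable (B : V →ₗ[F] V →ₗ[F] F)

theorem orth_fix_mov (X : V →ₗ[F] V) (hiso : ∀ u v, B (X u) (X v) = B u v) {c u : V}
    (hc : c ∈ fixS X) (hu : u ∈ movS X) : B c u = 0 ∧ B u c = 0 := by
  obtain ⟨w, rfl⟩ := mem_movS.mp hu
  have hc' := mem_fixS.mp hc
  constructor
  · rw [map_sub]
    nth_rewrite 1 [← hc']
    rw [hiso, sub_self]
  · rw [map_sub, LinearMap.sub_apply]
    nth_rewrite 1 [← hc']
    rw [hiso, sub_self]

theorem nondeg_fix (X : V →ₗ[F] V) (hiso : ∀ u v, B (X u) (X v) = B u v) (r : ℕ)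
    (hr0 : (r : F) ≠ 0) (hX : X ^ r = 1) (hnd : ∀ x, (∀ y, B x y = 0) → x = 0) :
    ∀ c ∈ fixS X, (∀ c' ∈ fixS X, B c c' = 0) → c = 0 := by
  intro c hc h
  apply hnd
  intro v
  obtain ⟨c', hc', u, hu, rfl⟩ :=
    exists_decomp X r hr0 hX ⊤ (fun _ _ => mem_top) (mem_top : v ∈ ⊤)
  rw [map_add, h c' hc'.2, (orth_fix_mov B X hiso hc hu.2).1, add_zero]

theorem nondeg_mov (X : V →ₗ[F] V) (hiso : ∀ u v, B (X u) (X v) = B u v) (r : ℕ)
    (hr0 : (r : F) ≠ 0) (hX : X ^ r = 1) (hnd : ∀ x, (∀ y, B x y = 0) → x = 0) :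
    ∀ u ∈ movS X, (∀ u' ∈ movS X, B u u' = 0) → u = 0 := by
  intro u hu h
  apply hnd
  intro v
  obtain ⟨c', hc', u', hu', rfl⟩ :=
    exists_decomp X r hr0 hX ⊤ (fun _ _ => mem_top) (mem_top : v ∈ ⊤)
  rw [map_add, h u' hu'.2, (orth_fix_mov B X hiso hc'.2 hu).2, add_zero]

/-- `X - X⁻¹`, with `X⁻¹ = X ^ (r - 1)` -/
def twD (X : V →ₗ[F] V) (r : ℕ) : V →ₗ[F] V := X - X ^ (r - 1)

theorem mul_pow_pred (X : V →ₗ[F] V) (r : ℕ) (hr : 1 ≤ r) (hX : X ^ r = 1) :
    X * X ^ (r - 1) = 1 := by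
  rw [← pow_succ']
  have : r - 1 + 1 = r := by omega
  rw [this, hX]

theorem apply_pow_pred (X : V →ₗ[F] V) (r : ℕ) (hr : 1 ≤ r) (hX : X ^ r = 1) (v : V) :
    X ((X ^ (r - 1)) v) = v := by
  rw [← Module.End.mul_apply, mul_pow_pred X r hr hX, Module.End.one_apply]

theorem pow_pred_apply (X : V →ₗ[F] V) (r : ℕ) (hr : 1 ≤ r) (hX : X ^ r = 1) (v : V) :
    (X ^ (r - 1)) (X v) = v := by
  rw [← Module.End.mul_apply, ← pow_succ]
  have : r - 1 + 1 = r := by omega
  rw [this, hX, Module.End.one_apply]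

theorem adj_pow_pred (X : V →ₗ[F] V) (hiso : ∀ u v, B (X u) (X v) = B u v) (r : ℕ) (hr : 1 ≤ r)
    (hX : X ^ r = 1) (u v : V) : B ((X ^ (r - 1)) u) v = B u (X v) := by
  rw [← hiso ((X ^ (r - 1)) u) v, apply_pow_pred X r hr hX]

theorem adj_pow_pred' (X : V →ₗ[F] V) (hiso : ∀ u v, B (X u) (X v) = B u v) (r : ℕ) (hr : 1 ≤ r)
    (hX : X ^ r = 1) (u v : V) : B u ((X ^ (r - 1)) v) = B (X u) v := by
  rw [← hiso u ((X ^ (r - 1)) v), apply_pow_pred X r hr hX]

theorem twD_comm (X : V →ₗ[F] V) (r : ℕ) (v : V) : twD X r (X v) = X (twD X r v) := by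
  unfold twD
  rw [LinearMap.sub_apply, LinearMap.sub_apply, map_sub]
  congr 1
  rw [← Module.End.mul_apply, ← Module.End.mul_apply, ← pow_succ, ← pow_succ']

theorem twD_mem_invt (X : V →ₗ[F] V) (r : ℕ) {W : Submodule F V} (hW : ∀ w ∈ W, X w ∈ W) {w : V}
    (hw : w ∈ W) : twD X r w ∈ W := by
  unfold twD
  rw [LinearMap.sub_apply]
  exact W.sub_mem (hW w hw) (pow_mem_invt hW _ hw)

/-- `X - X⁻¹` is injective on the moved part, for `r` odd -/
theorem twD_inj (X : V →ₗ[F] V) (r : ℕ) (hodd : Odd r) (hr0 : (r : F) ≠ 0) (hX : X ^ r = 1)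
    {u : V} (hu : u ∈ movS X) (h : twD X r u = 0) : u = 0 := by
  obtain ⟨k, hk⟩ := hodd
  have hr1 : 1 ≤ r := by omega
  have h1 : X u = (X ^ (r - 1)) u := by
    unfold twD at h
    rw [LinearMap.sub_apply, sub_eq_zero] at h
    exact h
  have h2 : (X ^ 2) u = u := by
    rw [pow_two, Module.End.mul_apply, h1, apply_pow_pred X r hr1 hX]
  have h3 : (X ^ (r - 1)) u = u := by
    have : r - 1 = 2 * k := by omega
    rw [this, pow_mul]
    exact pow_apply_fix h2 k
  have h4 : u ∈ fixS X ⊓ movS X := ⟨mem_fixS.mpr (by rw [h1, h3]), hu⟩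
  rw [fixS_inf_movS X r hr0 hX] at h4
  exact (Submodule.mem_bot F).mp h4

/-- the twisted form `(u, v) ↦ B ((X - X⁻¹) u) v` -/
def twForm (X : V →ₗ[F] V) (r : ℕ) : V →ₗ[F] V →ₗ[F] F := B ∘ₗ twD X r

theorem twForm_apply (X : V →ₗ[F] V) (r : ℕ) (u v : V) : twForm B X r u v = B (twD X r u) v := rfl

theorem twForm_iso (X : V →ₗ[F] V) (hiso : ∀ u v, B (X u) (X v) = B u v) (r : ℕ) (u v : V) :
    twForm B X r (X u) (X v) = twForm B X r u v := by
  rw [twForm_apply, twForm_apply, twD_comm, hiso]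

/-- the twist of a symmetric form is alternating -/
theorem twForm_alt (X : V →ₗ[F] V) (hiso : ∀ u v, B (X u) (X v) = B u v) (r : ℕ) (hr : 1 ≤ r)
    (hX : X ^ r = 1) (hsymm : ∀ u v, B u v = B v u) (u : V) : twForm B X r u u = 0 := by
  rw [twForm_apply]
  unfold twD
  rw [LinearMap.sub_apply, map_sub, LinearMap.sub_apply, adj_pow_pred B X hiso r hr hX,
    hsymm u (X u), sub_self]

/-- the twist of an alternating form is symmetric -/
theorem twForm_symm (X : V →ₗ[F] V) (hiso : ∀ u v, B (X u) (X v) = B u v) (r : ℕ) (hr : 1 ≤ r)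
    (hX : X ^ r = 1) (hskew : ∀ u v, B u v = - B v u) (u v : V) :
    twForm B X r u v = twForm B X r v u := by
  rw [twForm_apply, twForm_apply]
  unfold twD
  rw [LinearMap.sub_apply, map_sub, LinearMap.sub_apply, LinearMap.sub_apply, map_sub,
    LinearMap.sub_apply, adj_pow_pred B X hiso r hr hX, adj_pow_pred B X hiso r hr hX,
    hskew (X u) v, hskew u (X v)]
  ring

theorem twForm_nondeg_mov (X : V →ₗ[F] V) (hiso : ∀ u v, B (X u) (X v) = B u v) (r : ℕ)
    (hodd : Odd r) (hr0 : (r : F) ≠ 0) (hX : X ^ r = 1) (hnd : ∀ x, (∀ y, B x y = 0) → x = 0) :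
    ∀ u ∈ movS X, (∀ u' ∈ movS X, twForm B X r u u' = 0) → u = 0 := by
  intro u hu h
  apply twD_inj X r hodd hr0 hX hu
  apply nondeg_mov B X hiso r hr0 hX hnd _ (twD_mem_invt X r (map_movS_le X) hu)
  intro u' hu'
  exact h u' hu'

/-- invariant subspaces of the moved part are totally isotropic for `B` as soon as they are so for
the twisted form -/
theorem ti_of_twForm_ti [FiniteDimensional F V] (X : V →ₗ[F] V) (r : ℕ) (hodd : Odd r)
    (hr0 : (r : F) ≠ 0) (hX : X ^ r = 1) (U : Submodule F V) (hUM : U ≤ movS X)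
    (hU : ∀ w ∈ U, X w ∈ U) (hti : ∀ u ∈ U, ∀ v ∈ U, twForm B X r u v = 0) :
    ∀ u ∈ U, ∀ v ∈ U, B u v = 0 := by
  have hmap : U.map (twD X r) = U := by
    apply Submodule.eq_of_le_of_finrank_eq
    · rintro _ ⟨w, hw, rfl⟩
      exact twD_mem_invt X r hU hw
    · apply LinearEquiv.finrank_eq
      symm
      exact LinearEquiv.ofInjective ((twD X r).domRestrict U) (by
        intro a b hab
        have h1 : twD X r ((a : V) - (b : V)) = 0 := by
          rw [map_sub]
          exact sub_eq_zero.mpr hab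
        have h2 := twD_inj X r hodd hr0 hX (hUM (U.sub_mem a.2 b.2)) h1
        exact Subtype.ext (sub_eq_zero.mp h2)) |>.trans (LinearEquiv.ofEq _ _ (by
          ext v
          simp only [LinearMap.mem_range, LinearMap.domRestrict_apply, Submodule.mem_map,
            Subtype.exists, exists_prop]))
  intro u hu v hv
  rw [← hmap] at hu
  obtain ⟨w, hw, rfl⟩ := hu
  exact hti w hw v hv

end bilin


section inj

variable {F V V₂ : Type*} [Field F] [AddCommGroup V] [Module F V] [AddCommGroup V₂] [Module F V₂]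

/-- a linear map that is injective on a subspace preserves its dimension -/
theorem finrank_map_of_injOn (f : V →ₗ[F] V₂) (P : Submodule F V)
    (h : ∀ v ∈ P, f v = 0 → v = 0) : finrank F (P.map f) = finrank F P := by
  symm
  apply LinearEquiv.finrank_eq
  exact (LinearEquiv.ofInjective (f.domRestrict P) (by
    intro a b hab
    have h1 : f ((a : V) - (b : V)) = 0 := by
      rw [map_sub]
      exact sub_eq_zero.mpr hab
    exact Subtype.ext (sub_eq_zero.mp (h _ (P.sub_mem a.2 b.2) h1)))).trans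
    (LinearEquiv.ofEq _ _ (by
      ext v
      simp only [LinearMap.mem_range, LinearMap.domRestrict_apply, Submodule.mem_map,
        Subtype.exists, exists_prop]))

end inj

section construction

variable {F V : Type*} [Field F] [AddCommGroup V] [Module F V]
variable (C' : Type*) [AddCommGroup C'] [Module F C']

/-- the restriction of `X` to its moved part -/
def Xmov (X : V →ₗ[F] V) : ↥(movS X) →ₗ[F] ↥(movS X) := X.restrict (map_movS_le X)

theorem Xmov_coe (X : V →ₗ[F] V) (u : ↥(movS X)) : ((Xmov X u : ↥(movS X)) : V) = X (u : V) := rfl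

/-- the model isometry on `C' × movS X` -/
def cX (X : V →ₗ[F] V) : (C' × ↥(movS X)) →ₗ[F] (C' × ↥(movS X)) :=
  LinearMap.prodMap LinearMap.id (Xmov X)

theorem cX_fst (X : V →ₗ[F] V) (a : C' × ↥(movS X)) : (cX C' X a).1 = a.1 := rfl

theorem cX_snd (X : V →ₗ[F] V) (a : C' × ↥(movS X)) : (((cX C' X a).2 : ↥(movS X)) : V) = X (a.2 : V) :=
  rfl

theorem cX_pow_fst (X : V →ₗ[F] V) (n : ℕ) (a : C' × ↥(movS X)) : ((cX C' X ^ n) a).1 = a.1 := by
  induction n with
  | zero => simp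
  | succ n ih => rw [pow_succ', Module.End.mul_apply, cX_fst, ih]

theorem cX_pow_snd (X : V →ₗ[F] V) (n : ℕ) (a : C' × ↥(movS X)) :
    ((((cX C' X ^ n) a).2 : ↥(movS X)) : V) = (X ^ n) (a.2 : V) := by
  induction n with
  | zero => simp
  | succ n ih => rw [pow_succ', Module.End.mul_apply, cX_snd, ih, pow_succ', Module.End.mul_apply]

theorem cX_pow_eq_one (X : V →ₗ[F] V) (r : ℕ) (hX : X ^ r = 1) : cX C' X ^ r = 1 := by
  apply LinearMap.ext
  intro a
  apply Prod.ext
  · rw [cX_pow_fst, Module.End.one_apply]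
  · apply Subtype.ext
    rw [cX_pow_snd, hX, Module.End.one_apply, Module.End.one_apply]

variable {C'}
variable (BC : C' →ₗ[F] C' →ₗ[F] F) (B : V →ₗ[F] V →ₗ[F] F)

/-- the model form on `C' × movS X` -/
def cForm (X : V →ₗ[F] V) (r : ℕ) : (C' × ↥(movS X)) →ₗ[F] (C' × ↥(movS X)) →ₗ[F] F :=
  BC.compl₁₂ (LinearMap.fst F C' ↥(movS X)) (LinearMap.fst F C' ↥(movS X)) +
    (twForm B X r).compl₁₂ ((movS X).subtype ∘ₗ LinearMap.snd F C' ↥(movS X))
      ((movS X).subtype ∘ₗ LinearMap.snd F C' ↥(movS X))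

theorem cForm_apply (X : V →ₗ[F] V) (r : ℕ) (a b : C' × ↥(movS X)) :
    cForm BC B X r a b = BC a.1 b.1 + twForm B X r (a.2 : V) (b.2 : V) := rfl

theorem cForm_iso (X : V →ₗ[F] V) (hiso : ∀ u v, B (X u) (X v) = B u v) (r : ℕ)
    (a b : C' × ↥(movS X)) : cForm BC B X r (cX C' X a) (cX C' X b) = cForm BC B X r a b := by
  rw [cForm_apply, cForm_apply, cX_fst, cX_fst, cX_snd, cX_snd, twForm_iso B X hiso]

theorem cForm_alt (X : V →ₗ[F] V) (hiso : ∀ u v, B (X u) (X v) = B u v) (r : ℕ) (hr : 1 ≤ r)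
    (hX : X ^ r = 1) (hsymm : ∀ u v, B u v = B v u) (hBC : ∀ c, BC c c = 0)
    (a : C' × ↥(movS X)) : cForm BC B X r a a = 0 := by
  rw [cForm_apply, hBC, twForm_alt B X hiso r hr hX hsymm, add_zero]

theorem cForm_symm (X : V →ₗ[F] V) (hiso : ∀ u v, B (X u) (X v) = B u v) (r : ℕ) (hr : 1 ≤ r)
    (hX : X ^ r = 1) (hskew : ∀ u v, B u v = - B v u) (hBC : ∀ c c', BC c c' = BC c' c)
    (a b : C' × ↥(movS X)) : cForm BC B X r a b = cForm BC B X r b a := by
  rw [cForm_apply, cForm_apply, hBC, twForm_symm B X hiso r hr hX hskew]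

theorem cForm_nondeg (X : V →ₗ[F] V) (hiso : ∀ u v, B (X u) (X v) = B u v) (r : ℕ)
    (hodd : Odd r) (hr0 : (r : F) ≠ 0) (hX : X ^ r = 1) (hnd : ∀ x, (∀ y, B x y = 0) → x = 0)
    (hBC : ∀ c, (∀ c', BC c c' = 0) → c = 0) :
    ∀ a, (∀ b, cForm BC B X r a b = 0) → a = 0 := by
  intro a h
  apply Prod.ext
  · apply hBC
    intro c'
    have := h (c', 0)
    rw [cForm_apply] at this
    simpa using this
  · apply Subtype.ext
    apply twForm_nondeg_mov B X hiso r hodd hr0 hX hnd _ a.2.2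
    intro u' hu'
    have := h (0, ⟨u', hu'⟩)
    rw [cForm_apply] at this
    simpa using this

theorem finrank_cSpace [FiniteDimensional F V] [FiniteDimensional F C'] (X : V →ₗ[F] V) :
    finrank F (C' × ↥(movS X)) = finrank F C' + finrank F ↥(movS X) :=
  Module.finrank_prod

/-- **The transfer.** An invariant totally isotropic subspace of the model space gives one of the
original space, as soon as the fixed spaces have comparable Witt indices. -/
theorem transfer [FiniteDimensional F V] [FiniteDimensional F C'] (X : V →ₗ[F] V)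
    (hiso : ∀ u v, B (X u) (X v) = B u v) (r : ℕ)
    (hodd : Odd r) (hr0 : (r : F) ≠ 0) (hX : X ^ r = 1)
    (hwitt : ∀ Z' : Submodule F C', (∀ a ∈ Z', ∀ b ∈ Z', BC a b = 0) →
      ∃ Z : Submodule F V, Z ≤ fixS X ∧ (∀ a ∈ Z, ∀ b ∈ Z, B a b = 0) ∧
        finrank F Z = finrank F Z')
    (W' : Submodule F (C' × ↥(movS X))) (hW'inv : ∀ w ∈ W', cX C' X w ∈ W')
    (hW'ti : ∀ a ∈ W', ∀ b ∈ W', cForm BC B X r a b = 0) :
    ∃ W : Submodule F V, (∀ w ∈ W, X w ∈ W) ∧ (∀ a ∈ W, ∀ b ∈ W, B a b = 0) ∧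
      finrank F W = finrank F W' := by
  classical
  -- splitting of the elements of `W'`
  have hsplit : ∀ a ∈ W', ((a.1, 0) : C' × ↥(movS X)) ∈ W' := by
    intro a ha
    have h1 : powSum (cX C' X) r a ∈ W' := by
      unfold powSum
      rw [LinearMap.sum_apply]
      exact Submodule.sum_mem _ fun i _ => pow_mem_invt hW'inv i ha
    have h2 : powSum (cX C' X) r a = ((r : F) • a.1, 0) := by
      unfold powSum
      rw [LinearMap.sum_apply]
      apply Prod.ext
      · rw [Prod.fst_sum]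
        simp only [cX_pow_fst]
        rw [Finset.sum_const, Finset.card_range, Nat.cast_smul_eq_nsmul]
      · apply Subtype.ext
        rw [Prod.snd_sum, Submodule.coe_sum]
        simp only [cX_pow_snd]
        have h3 := powSum_mov X r hX a.2.2
        unfold powSum at h3
        rw [LinearMap.sum_apply] at h3
        rw [h3]
        rfl
    rw [h2] at h1
    have h4 := W'.smul_mem (r : F)⁻¹ h1
    rw [Prod.smul_mk, smul_smul, inv_mul_cancel₀ hr0, one_smul, smul_zero] at h4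
    exact h4
  have hsplit2 : ∀ a ∈ W', ((0, a.2) : C' × ↥(movS X)) ∈ W' := by
    intro a ha
    have := W'.sub_mem ha (hsplit a ha)
    rw [Prod.mk_sub_mk] at this
    simpa using this
  obtain ⟨P, hP⟩ : ∃ P : Submodule F (C' × ↥(movS X)),
      P = W' ⊓ LinearMap.ker (LinearMap.snd F C' ↥(movS X)) := ⟨_, rfl⟩
  obtain ⟨Q, hQ⟩ : ∃ Q : Submodule F (C' × ↥(movS X)),
      Q = W' ⊓ LinearMap.ker (LinearMap.fst F C' ↥(movS X)) := ⟨_, rfl⟩
  have hPQ : P ⊔ Q = W' := by
    apply le_antisymm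
    · rw [hP, hQ]
      exact sup_le inf_le_left inf_le_left
    · intro a ha
      have e : a = (a.1, 0) + (0, a.2) := by
        rw [Prod.mk_add_mk, add_zero, zero_add]
      rw [e]
      apply Submodule.add_mem_sup
      · rw [hP]
        exact ⟨hsplit a ha, LinearMap.mem_ker.mpr rfl⟩
      · rw [hQ]
        exact ⟨hsplit2 a ha, LinearMap.mem_ker.mpr rfl⟩
  have hPQ0 : P ⊓ Q = ⊥ := by
    rw [eq_bot_iff]
    rintro a ⟨ha1, ha2⟩
    rw [hP] at ha1
    rw [hQ] at ha2
    have h1 : a.2 = 0 := LinearMap.mem_ker.mp ha1.2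
    have h2 : a.1 = 0 := LinearMap.mem_ker.mp ha2.2
    rw [Submodule.mem_bot]
    exact Prod.ext h2 h1
  have hdim : finrank F W' = finrank F P + finrank F Q := by
    have := Submodule.finrank_sup_add_finrank_inf_eq P Q
    rw [hPQ, hPQ0, finrank_bot, add_zero] at this
    exact this
  -- the two pieces
  obtain ⟨Z', hZ'⟩ : ∃ Z' : Submodule F C', Z' = P.map (LinearMap.fst F C' ↥(movS X)) := ⟨_, rfl⟩
  obtain ⟨U, hU⟩ : ∃ U : Submodule F V,
      U = Q.map ((movS X).subtype ∘ₗ LinearMap.snd F C' ↥(movS X)) := ⟨_, rfl⟩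
  have hZ'dim : finrank F Z' = finrank F P := by
    rw [hZ']
    apply finrank_map_of_injOn
    intro a ha h0
    rw [hP] at ha
    exact Prod.ext h0 (LinearMap.mem_ker.mp ha.2)
  have hUdim : finrank F U = finrank F Q := by
    rw [hU]
    apply finrank_map_of_injOn
    intro a ha h0
    rw [hQ] at ha
    refine Prod.ext (LinearMap.mem_ker.mp ha.2) (Subtype.ext ?_)
    exact h0
  have hZ'ti : ∀ a ∈ Z', ∀ b ∈ Z', BC a b = 0 := by
    intro a ha b hb
    rw [hZ'] at ha hb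
    obtain ⟨a', ha', rfl⟩ := ha
    obtain ⟨b', hb', rfl⟩ := hb
    rw [hP] at ha' hb'
    have := hW'ti a' ha'.1 b' hb'.1
    rw [cForm_apply] at this
    have h1 : a'.2 = 0 := LinearMap.mem_ker.mp ha'.2
    rw [h1] at this
    simpa using this
  have hUM : U ≤ movS X := by
    rw [hU]
    rintro _ ⟨a, -, rfl⟩
    exact a.2.2
  have hUinv : ∀ w ∈ U, X w ∈ U := by
    intro w hw
    rw [hU] at hw ⊢
    obtain ⟨a, ha, rfl⟩ := hw
    rw [hQ] at ha
    refine ⟨cX C' X a, ?_, rfl⟩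
    rw [hQ]
    refine ⟨hW'inv a ha.1, LinearMap.mem_ker.mpr ?_⟩
    show (cX C' X a).1 = 0
    rw [cX_fst]
    exact LinearMap.mem_ker.mp ha.2
  have hUti' : ∀ u ∈ U, ∀ v ∈ U, twForm B X r u v = 0 := by
    intro u hu v hv
    rw [hU] at hu hv
    obtain ⟨a, ha, rfl⟩ := hu
    obtain ⟨b, hb, rfl⟩ := hv
    rw [hQ] at ha hb
    have := hW'ti a ha.1 b hb.1
    rw [cForm_apply] at this
    have h1 : a.1 = 0 := LinearMap.mem_ker.mp ha.2
    rw [h1] at this
    simpa using this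
  have hUti := ti_of_twForm_ti B X r hodd hr0 hX U hUM hUinv hUti'
  obtain ⟨Z, hZC, hZti, hZdim⟩ := hwitt Z' hZ'ti
  refine ⟨Z ⊔ U, ?_, ?_, ?_⟩
  · intro w hw
    obtain ⟨z, hz, u, hu, rfl⟩ := Submodule.mem_sup.mp hw
    rw [map_add, mem_fixS.mp (hZC hz)]
    exact Submodule.add_mem_sup hz (hUinv u hu)
  · intro a ha b hb
    obtain ⟨z, hz, u, hu, rfl⟩ := Submodule.mem_sup.mp ha
    obtain ⟨z', hz', u', hu', rfl⟩ := Submodule.mem_sup.mp hb
    simp only [map_add, LinearMap.add_apply, hZti z hz z' hz', hUti u hu u' hu',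
      (orth_fix_mov B X hiso (hZC hz) (hUM hu')).1, (orth_fix_mov B X hiso (hZC hz') (hUM hu)).2,
      add_zero]
  · have hdis : Z ⊓ U = ⊥ := by
      rw [eq_bot_iff, ← fixS_inf_movS X r hr0 hX]
      exact inf_le_inf hZC hUM
    have := Submodule.finrank_sup_add_finrank_inf_eq Z U
    rw [hdis, finrank_bot, add_zero] at this
    rw [this, hZdim, hZ'dim, hUdim, hdim]

end construction

end Cfsg.Agent.Lib.Helper10.OrthTS
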