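import Mathlib
import Cfsg.Agent.Lib.Helper10.OrtO5
import Cfsg.Agent.Lib.Helper10.OrthTS1
import Cfsg.Agent.Lib.Helper21.OrtT9

/-!
# Elements of order two of `PΩ(Q)`, odd characteristic, acting on nondegenerate subspaces of odd
dimension in a given isometry class
-/

set_option autoImplicit false

namespace Cfsg.Agent.Lib.Helper10.OrtO

open Module Submodule QuadraticMap Cfsg.Agent.Lib.Helper15.PSpI
  Cfsg.Agent.Lib.Helper14.OrthEven Cfsg.Agent.Lib.Helper6.OrtS Cfsg.Agent.Lib.Helper6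
  Cfsg.Agent.Lib.Helper10.OrthTS Cfsg.Agent.Lib.Helper21.OrtT Cfsg.Agent.Lib.Helper21.OrtG

universe u

section invol

variable {F : Type u} {V : Type*} [Field F] [Fintype F] [AddCommGroup V] [Module F V]
  [FiniteDimensional F V]
variable (Q : QuadraticForm F V)

/-- an isometric involution fixes a member of every isometry class of nondegenerate subspaces
of dimension less than half the dimension of the space -/
theorem invol_fixesO (h2 : (2 : F) ≠ 0) (hQ : NondegOn (polarBilin Q) ⊤) (y : V →ₗ[F] V)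
    (hQy : ∀ v, Q (y v) = Q v) (hy : y ^ 2 = 1) (m : ℕ) (hmd : 2 * m < finrank F V)
    (W₀ : Submodule F V) (hW₀f : finrank F W₀ = m) (hW₀n : NondegOn (polarBilin Q) W₀) :
    ∃ W : Submodule F V, W ∈ OSet Q m W₀ ∧ W.map y ≤ W := by
  have hiso := iso_of_Q Q y hQy
  have h20 : ((2 : ℕ) : F) ≠ 0 := by exact_mod_cast h2
  have hnd : ∀ x, (∀ z, polarBilin Q x z = 0) → x = 0 := fun x hx => hQ x mem_top (fun z _ => hx z)
  have hcompl := isCompl_fixS_movS y 2 h20 hy
  have hdim : finrank F (fixS y) + finrank F (movS y) = finrank F V :=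
    Submodule.finrank_add_eq_of_isCompl hcompl
  have hCn : NondegOn (polarBilin Q) (fixS y) := nondeg_fix (polarBilin Q) y hiso 2 h20 hy hnd
  have hMn : NondegOn (polarBilin Q) (movS y) := nondeg_mov (polarBilin Q) y hiso 2 h20 hy hnd
  have hneg : ∀ u ∈ movS y, y u = -u := by
    intro u hu
    obtain ⟨w, rfl⟩ := mem_movS.mp hu
    have h1 : y (y w) = w := by
      have := congrArg (fun f : V →ₗ[F] V => f w) hy
      simpa [pow_two] using this
    rw [map_sub, h1]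
    abel
  by_cases hbig : m < finrank F (fixS y)
  · obtain ⟨U, hUC, hW₀U⟩ := exists_iso_sub Q h2 m (fixS y) W₀ hCn hW₀n hW₀f hbig
    refine ⟨U, ⟨by rw [← hW₀U.finrank_eq, hW₀f], hW₀U.nondegOn hW₀n, hW₀U.symm⟩, ?_⟩
    rintro _ ⟨u, hu, rfl⟩
    rw [mem_fixS.mp (hUC hu)]
    exact hu
  · obtain ⟨U, hUM, hW₀U⟩ := exists_iso_sub Q h2 m (movS y) W₀ hMn hW₀n hW₀f (by omega)
    refine ⟨U, ⟨by rw [← hW₀U.finrank_eq, hW₀f], hW₀U.nondegOn hW₀n, hW₀U.symm⟩, ?_⟩
    rintro _ ⟨u, hu, rfl⟩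
    rw [hneg u (hUM hu)]
    exact U.neg_mem hu

end invol

section final

variable {F : Type u} [Field F] [Fintype F] {ι : Type} [Fintype ι] [DecidableEq ι]
variable (Q : QuadraticForm F (ι → F))

/-- **Main theorem (`r = 2`, odd characteristic, odd `m`)**. -/
theorem two_iffO (h2 : (2 : F) ≠ 0) (hQ : (polarBilin Q).Nondegenerate) (d : ℕ)
    (hn : Fintype.card ι = 2 * d) (hd : 1 ≤ d) (ε : ℤ) (hsV : SgnOn Q ⊤ ε) (m : ℕ)
    (hm : Odd m) (hmd : m < d) (W₀ : Submodule F (ι → F)) (hW₀f : finrank F W₀ = m)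
    (hW₀n : NondegOn (polarBilin Q) W₀) :
    (∀ x : GL ι F, x ∈ Cfsg.Geo.omegaGL ⇑Q →
      (∃ z : F, ((x ^ 2 : GL ι F) : Matrix ι ι F) = z • (1 : Matrix ι ι F)) →
      (∀ z : F, (x : Matrix ι ι F) ≠ z • (1 : Matrix ι ι F)) →
      ∃ W : Submodule F (ι → F), W ∈ OSet Q m W₀ ∧
        W.map (Matrix.toLin' (x : Matrix ι ι F)) ≤ W) ↔
    ¬ (ε = dl F ^ d ∧ (Even d ∨ IsSquare (2 : F))) := by
  have hne : Nonempty ι := by
    rw [← Fintype.card_pos_iff, hn]
    omega
  have hfr : finrank F (ι → F) = 2 * d := by rw [Module.finrank_fintype_fun_eq_card, hn]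
  have hsV' : SignOn Q ⊤ ε := (signOn_iff_sgnOn ⊤ ε).mpr ⟨by
    rw [finrank_top, hfr]; exact ⟨d, by ring⟩, hsV⟩
  have h11 : (1 : Matrix ι ι F) ≠ -1 := by
    intro h
    have h' := congrFun (congrFun h hne.some) hne.some
    rw [Matrix.neg_apply, Matrix.one_apply_eq] at h'
    apply h2
    linear_combination h'
  constructor
  · intro hall hcon
    obtain ⟨hε, hsq⟩ := hcon
    rw [hε] at hsV'
    obtain ⟨g, hg⟩ := exists_sqneg Q h2 hQ d hn hd hsV'
    have hgΩ : g ∈ Cfsg.Omega F ⇑Q := (sqneg_mem_Omega_iff Q h2 hQ d hn hd g hg).mpr hsq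
    have hxΩ : (g.1 : GL ι F) ∈ Cfsg.Geo.omegaGL ⇑Q := Subgroup.mem_map.mpr ⟨g, hgΩ, rfl⟩
    have hgI : ∀ v, Q (((g.1 : GL ι F) : Matrix ι ι F).mulVec v) = Q v :=
      (Cfsg.Agent.Lib.Helper6.OmegaAut.mem_isometryGroup_iff Q g.1).mp g.2
    obtain ⟨W, hWN, hWx⟩ := hall g.1 hxΩ ⟨-1, by
      rw [Units.val_pow_eq_pow_val, pow_two, hg, neg_smul, one_smul]⟩ (by
      intro z hz
      have hzz := scalar_sq Q hQ _ hgI z hz
      rw [hz, Matrix.smul_mul, Matrix.mul_smul, Matrix.mul_one, smul_smul, hzz, one_smul] at hg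
      exact h11 hg)
    have hy : ∀ v, Matrix.toLin' ((g.1 : GL ι F) : Matrix ι ι F)
        (Matrix.toLin' ((g.1 : GL ι F) : Matrix ι ι F) v) = -v := by
      intro v
      rw [Matrix.toLin'_apply, Matrix.toLin'_apply, Matrix.mulVec_mulVec, hg, Matrix.neg_mulVec,
        Matrix.one_mulVec]
    obtain ⟨hWf, hWnd, -⟩ := hWN
    obtain ⟨w, hw, -⟩ := sign_of_invariant h2 (iso_of_mem Q g) hy m W
      (fun z hz => hWx ⟨z, hz, rfl⟩) hWnd hWf
    obtain ⟨k, hk⟩ := hm
    omega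
  · intro hrhs x hxΩ hz hns
    obtain ⟨z, hz⟩ := hz
    obtain ⟨g, hgΩ, hgx⟩ := Subgroup.mem_map.mp hxΩ
    have hgx' : (g.1 : GL ι F) = x := hgx
    have hgI : ∀ v, Q (((g.1 : GL ι F) : Matrix ι ι F).mulVec v) = Q v :=
      (Cfsg.Agent.Lib.Helper6.OmegaAut.mem_isometryGroup_iff Q g.1).mp g.2
    have hz' : ((g.1 : GL ι F) : Matrix ι ι F) * ((g.1 : GL ι F) : Matrix ι ι F) = z • 1 := by
      rw [hgx', ← hz, Units.val_pow_eq_pow_val, pow_two]
    have hzz : z * z = 1 := by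
      apply scalar_sq Q hQ (((g.1 : GL ι F) : Matrix ι ι F) * ((g.1 : GL ι F) : Matrix ι ι F))
        _ z hz'
      intro v
      rw [← Matrix.mulVec_mulVec, hgI, hgI]
    have hz1 : z = 1 ∨ z = -1 := by
      have : (z - 1) * (z + 1) = 0 := by linear_combination hzz
      rcases mul_eq_zero.mp this with h | h
      · left; linear_combination h
      · right; linear_combination h
    rw [← hgx'] at hns ⊢
    rcases hz1 with rfl | rfl
    · rw [one_smul] at hz'
      have hy : (Matrix.toLin' ((g.1 : GL ι F) : Matrix ι ι F)) ^ 2 = 1 := by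
        rw [← Matrix.toLin'_pow, pow_two, hz', Matrix.toLin'_one]
        rfl
      exact invol_fixesO Q h2 (nondegOn_top_of Q hQ) _ (iso_of_mem Q g) hy m
        (by rw [hfr]; omega) W₀ hW₀f hW₀n
    · exfalso
      rw [neg_smul, one_smul] at hz'
      have hy : ∀ v, Matrix.toLin' ((g.1 : GL ι F) : Matrix ι ι F)
          (Matrix.toLin' ((g.1 : GL ι F) : Matrix ι ι F) v) = -v := by
        intro v
        rw [Matrix.toLin'_apply, Matrix.toLin'_apply, Matrix.mulVec_mulVec, hz',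
          Matrix.neg_mulVec, Matrix.one_mulVec]
      have hsq := (sqneg_mem_Omega_iff Q h2 hQ d hn hd g hz').mp hgΩ
      have hε : ε = dl F ^ d := by
        obtain ⟨w, hw, hs⟩ := sign_of_invariant h2 (iso_of_mem Q g) hy _ ⊤
          (fun _ _ => mem_top) (nd_top_of Q hQ) (by rw [finrank_top])
        have : w = d := by omega
        subst this
        exact hsV'.unique hs
      exact hrhs ⟨hε, hsq⟩

end final

end Cfsg.Agent.Lib.Helper10.OrtO
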