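import Mathlib
import Cfsg.Agent.Lib.Helper10.OrtO1
import Cfsg.Agent.Lib.Helper10.OrthTS1
import Cfsg.Agent.Lib.Helper3.OrthUni2

/-!
# Isometries of odd order `r` with `x ^ r = 1` (in particular unipotent ones): rank constraints on
invariant nondegenerate subspaces

For an isometry `x = 1 + N` of a nondegenerate quadratic space with `x ^ r = 1`, `r` odd, and an
invariant nondegenerate subspace `W`: the rank of `N` on `W` is even, ranks of `N` and `N ∘ N` are
additive over `W ⊕ W^⊥`, and `2 rank(N|W) ≤ dim W + rank(N²|W)`.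
-/

set_option autoImplicit false

namespace Cfsg.Agent.Lib.Helper10.OrtO

open Module Submodule QuadraticMap Cfsg.Agent.Lib.Helper15.PSpI Cfsg.Agent.Lib.Helper6.OrtS
  Cfsg.Agent.Lib.Helper15 Cfsg.Agent.Lib.Helper3.Orth Cfsg.Agent.Lib.Helper10.OrthTS

section linalg

variable {F : Type*} {V : Type*} [Field F] [AddCommGroup V] [Module F V] [FiniteDimensional F V]

/-- pure linear algebra: `2 rank(N|W) ≤ dim W + rank(N²|W)` -/
theorem two_rank_le (N : V →ₗ[F] V) (W : Submodule F V) (hW : W.map N ≤ W) :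
    2 * finrank F (W.map N) ≤ finrank F W + finrank F ((W.map N).map N) := by
  have h1 := finrank_map_add_inf_ker N W
  have h2 := finrank_map_add_inf_ker N (W.map N)
  have h3 : finrank F ↥(W.map N ⊓ LinearMap.ker N) ≤ finrank F ↥(W ⊓ LinearMap.ker N) :=
    Submodule.finrank_mono (inf_le_inf_right _ hW)
  omega

/-- ranks are additive over a decomposition into invariant subspaces -/
theorem finrank_range_split (f : V →ₗ[F] V) (W W' : Submodule F V) (hsup : W ⊔ W' = ⊤)
    (hdisj : Disjoint W W') (hW : W.map f ≤ W) (hW' : W'.map f ≤ W') :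
    finrank F (LinearMap.range f) = finrank F (W.map f) + finrank F (W'.map f) := by
  have h1 : LinearMap.range f = W.map f ⊔ W'.map f := by
    rw [← Submodule.map_sup, hsup, Submodule.map_top]
  have h2 : Disjoint (W.map f) (W'.map f) := hdisj.mono hW hW'
  rw [h1]
  have := Submodule.finrank_sup_add_finrank_inf_eq (W.map f) (W'.map f)
  rw [h2.eq_bot, finrank_bot, add_zero] at this
  exact this

/-- a complement inside a subspace -/
theorem exists_compl_in (W S : Submodule F V) (hS : S ≤ W) :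
    ∃ K : Submodule F V, K ≤ W ∧ K ⊓ S = ⊥ ∧ K ⊔ S = W := by
  obtain ⟨K', hK'⟩ := Submodule.exists_isCompl S
  refine ⟨K' ⊓ W, inf_le_right, ?_, ?_⟩
  · rw [eq_bot_iff]
    calc K' ⊓ W ⊓ S ≤ K' ⊓ S := inf_le_inf_right _ inf_le_left
      _ = S ⊓ K' := inf_comm _ _
      _ = ⊥ := hK'.inf_eq_bot
  · have h := sup_inf_assoc_of_le K' hS
    rw [hK'.sup_eq_top, top_inf_eq] at h
    rw [sup_comm]
    exact h.symm

end linalg

section even

variable {F : Type*} {V : Type*} [Field F] [AddCommGroup V] [Module F V] [FiniteDimensional F V]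
variable (Q : QuadraticForm F V)

/-- a vector killed by `x - x⁻¹` is fixed, for `x` of odd order -/
theorem fixed_of_twD (x : V →ₗ[F] V) (r : ℕ) (hodd : Odd r) (hxr : x ^ r = 1) (u : V)
    (h : twD x r u = 0) : x u = u := by
  obtain ⟨k, hk⟩ := hodd
  have hr1 : 1 ≤ r := by omega
  have h1 : x u = (x ^ (r - 1)) u := by
    unfold twD at h
    rw [LinearMap.sub_apply, sub_eq_zero] at h
    exact h
  have h2 : (x ^ 2) u = u := by
    rw [pow_two, Module.End.mul_apply, h1, apply_pow_pred x r hr1 hxr]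
  have h3 : (x ^ (r - 1)) u = u := by
    have : r - 1 = 2 * k := by omega
    rw [this, pow_mul]
    exact pow_apply_fix h2 k
  rw [h1, h3]

/-- **Parity.** The rank of `x - 1` on an invariant nondegenerate subspace is even. -/
theorem even_rank_map (x N : V →ₗ[F] V) (hQx : ∀ v, Q (x v) = Q v) (hN : ∀ v, x v = v + N v)
    (r : ℕ) (hodd : Odd r) (hxr : x ^ r = 1) (W : Submodule F V) (hWx : W.map x ≤ W)
    (hWn : NondegOn (polarBilin Q) W) : Even (finrank F (W.map N)) := by
  have hr1 : 1 ≤ r := by obtain ⟨k, hk⟩ := hodd; omega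
  have hiso := iso_of_Q Q x hQx
  have hsymm : ∀ u v, polarBilin Q u v = polarBilin Q v u := fun u v => pB_symm Q u v
  have hWx' : ∀ w ∈ W, x w ∈ W := fun w hw => hWx ⟨w, hw, rfl⟩
  have halt : ∀ u, twForm (polarBilin Q) x r u u = 0 :=
    twForm_alt (polarBilin Q) x hiso r hr1 hxr hsymm
  obtain ⟨K, hKW, hKS, hKsup⟩ :=
    exists_compl_in W (W ⊓ LinearMap.ker N) inf_le_left
  -- the twisted form is nondegenerate on `K`
  have hKn : NondegOn (twForm (polarBilin Q) x r) K := by
    intro k hk hk0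
    have hfix : ∀ c ∈ W ⊓ LinearMap.ker N, twForm (polarBilin Q) x r k c = 0 := by
      intro c hc
      have hxc : x c = c := by
        rw [hN c, LinearMap.mem_ker.mp hc.2, add_zero]
      rw [twForm_apply]
      unfold twD
      rw [LinearMap.sub_apply, map_sub, LinearMap.sub_apply,
        adj_pow_pred (polarBilin Q) x hiso r hr1 hxr, hxc]
      nth_rewrite 1 [← hxc]
      rw [hiso, sub_self]
    have hall : ∀ w ∈ W, polarBilin Q (twD x r k) w = 0 := by
      intro w hw
      rw [← hKsup] at hw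
      obtain ⟨k', hk', c, hc, rfl⟩ := mem_sup.mp hw
      rw [map_add]
      have e1 := hk0 k' hk'
      have e2 := hfix c hc
      rw [twForm_apply] at e1 e2
      rw [e1, e2, add_zero]
    have hz : twD x r k = 0 :=
      hWn _ (twD_mem_invt x r hWx' (hKW hk)) hall
    have hxk := fixed_of_twD x r hodd hxr k hz
    have hNk : N k = 0 := by
      have := hN k
      rw [hxk] at this
      exact (add_eq_left.mp this.symm)
    have : k ∈ K ⊓ (W ⊓ LinearMap.ker N) := ⟨hk, hKW hk, LinearMap.mem_ker.mpr hNk⟩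
    rw [hKS] at this
    exact (mem_bot F).mp this
  have hKe := Cfsg.Agent.Lib.Helper15.PSpJ.even_finrank_of_nondegOn halt K hKn
  -- dimensions
  have h1 := finrank_map_add_inf_ker N W
  have h2 := Submodule.finrank_sup_add_finrank_inf_eq K (W ⊓ LinearMap.ker N)
  rw [hKsup, hKS, finrank_bot, add_zero] at h2
  have : finrank F (W.map N) = finrank F K := by omega
  rw [this]
  exact hKe

end even

section constraints

variable {F : Type*} {V : Type*} [Field F] [AddCommGroup V] [Module F V] [FiniteDimensional F V]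
variable (Q : QuadraticForm F V)

/-- the orthogonal complement of an invariant subspace is invariant -/
theorem perp_invt (x : V →ₗ[F] V) (hQx : ∀ v, Q (x v) = Q v) (r : ℕ) (hr1 : 1 ≤ r)
    (hxr : x ^ r = 1) (W : Submodule F V) (hWx : W.map x ≤ W) :
    (perpIn (polarBilin Q) ⊤ W).map x ≤ perpIn (polarBilin Q) ⊤ W := by
  have hiso := iso_of_Q Q x hQx
  have hWx' : ∀ w ∈ W, x w ∈ W := fun w hw => hWx ⟨w, hw, rfl⟩
  rintro _ ⟨t, ht, rfl⟩
  have ht' : t ∈ perpIn (polarBilin Q) ⊤ W := ht
  rw [mem_perpIn] at ht' ⊢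
  refine ⟨mem_top, fun u hu => ?_⟩
  rw [← adj_pow_pred (polarBilin Q) x hiso r hr1 hxr]
  exact ht'.2 _ (pow_mem_invt hWx' _ hu)

/-- **Rank constraints.** `x = 1 + N` an isometry with `x ^ r = 1`, `r` odd, of a nondegenerate
space of dimension `n`, with `ρ ≤ rank N` and `rank N² ≤ a`; `W` an invariant nondegenerate
subspace of dimension `m`. -/
theorem unip_constraints (hV : NondegOn (polarBilin Q) ⊤) (x N : V →ₗ[F] V)
    (hQx : ∀ v, Q (x v) = Q v) (hN : ∀ v, x v = v + N v) (r : ℕ) (hodd : Odd r)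
    (hxr : x ^ r = 1) (n : ℕ) (hn : finrank F V = n) (ρ a : ℕ)
    (hρ : ρ ≤ finrank F (LinearMap.range N)) (ha : finrank F (LinearMap.range (N ∘ₗ N)) ≤ a)
    (W : Submodule F V) (hWx : W.map x ≤ W) (hWn : NondegOn (polarBilin Q) W) (m : ℕ)
    (hm : finrank F W = m) :
    Even (finrank F (W.map N)) ∧ finrank F ((W.map N).map N) ≤ a ∧
      2 * finrank F (W.map N) ≤ m + finrank F ((W.map N).map N) ∧
      m + finrank F ((W.map N).map N) + 2 * ρ ≤ n + a + 2 * finrank F (W.map N) ∧
      Even (finrank F ((perpIn (polarBilin Q) ⊤ W).map N)) ∧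
      finrank F (W.map N) + finrank F ((perpIn (polarBilin Q) ⊤ W).map N) =
        finrank F (LinearMap.range N) ∧
      finrank F ((W.map N).map N) + finrank F (((perpIn (polarBilin Q) ⊤ W).map N).map N) =
        finrank F (LinearMap.range (N ∘ₗ N)) := by
  have hr1 : 1 ≤ r := by obtain ⟨k, hk⟩ := hodd; omega
  have hrefl : ∀ u v, polarBilin Q u v = 0 → polarBilin Q v u = 0 := fun u v h => by
    rw [pB_symm]; exact h
  set W' := perpIn (polarBilin Q) ⊤ W with hW'
  have hW'x : W'.map x ≤ W' := perp_invt Q x hQx r hr1 hxr W hWx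
  have hW'n : NondegOn (polarBilin Q) W' := nondegOn_perpIn hrefl le_top hWn hV
  have hsup : W ⊔ W' = ⊤ := Cfsg.Agent.Lib.Helper3.Orth.sup_perpIn hrefl le_top hWn
  have hdisj : Disjoint W W' := orth_disjoint hrefl (orth_perpIn ⊤ W) hWn
  have hdim : finrank F W + finrank F W' = finrank F (⊤ : Submodule F V) :=
    finrank_perpIn hrefl (le_top : W ≤ ⊤) hWn
  rw [finrank_top, hn, hm] at hdim
  have hWN : W.map N ≤ W := map_N_le x N hN W hWx
  have hW'N : W'.map N ≤ W' := map_N_le x N hN W' hW'x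
  have e1 := even_rank_map Q x N hQx hN r hodd hxr W hWx hWn
  have e2 := even_rank_map Q x N hQx hN r hodd hxr W' hW'x hW'n
  have s1 := finrank_range_split N W W' hsup hdisj hWN hW'N
  have hWNN : W.map (N ∘ₗ N) ≤ W := by
    rw [Submodule.map_comp]
    exact le_trans (Submodule.map_mono hWN) hWN
  have hW'NN : W'.map (N ∘ₗ N) ≤ W' := by
    rw [Submodule.map_comp]
    exact le_trans (Submodule.map_mono hW'N) hW'N
  have s2 := finrank_range_split (N ∘ₗ N) W W' hsup hdisj hWNN hW'NN
  rw [Submodule.map_comp, Submodule.map_comp] at s2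
  have t1 := two_rank_le N W hWN
  have t2 := two_rank_le N W' hW'N
  rw [hm] at t1
  refine ⟨e1, by omega, t1, by omega, e2, s1.symm, s2.symm⟩

end constraints

end Cfsg.Agent.Lib.Helper10.OrtO
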