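import Mathlib
import Cfsg.Agent.Lib.Helper10.OrtO7

/-!
# A commuting family of Siegel transformations

For vectors `e j` (singular, mutually orthogonal) and `w j` (orthogonal to all `e k` and mutually
orthogonal) the map `y ↦ y + ∑ j, (B(e j, y) w j - (B(w j, y) + Q(w j) B(e j, y)) e j)` is an
isometry `1 + N` with `N³ = 0`; with dual families one controls the ranks of `N` and `N²`.
-/

set_option autoImplicit false

namespace Cfsg.Agent.Lib.Helper10.OrtO

open Module Submodule QuadraticMap Cfsg.Agent.Lib.Helper15.PSpI Cfsg.Agent.Lib.Helper6.OrtS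
  Cfsg.Agent.Lib.Helper15

section eichler

variable {F : Type*} {V : Type*} [Field F] [AddCommGroup V] [Module F V]
variable (Q : QuadraticForm F V)
variable {J : Type*} [Fintype J] [DecidableEq J]
variable (e w : J → V)

/-- the nilpotent part -/
noncomputable def eiN : V →ₗ[F] V :=
  ∑ j, ((polarBilin Q (e j)).smulRight (w j) -
    (polarBilin Q (w j) + Q (w j) • polarBilin Q (e j)).smulRight (e j))

theorem eiN_apply (y : V) : eiN Q e w y =
    ∑ j, (polar Q (e j) y • w j - (polar Q (w j) y + Q (w j) * polar Q (e j) y) • e j) := by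
  unfold eiN
  rw [LinearMap.sum_apply]
  apply Finset.sum_congr rfl
  intro j _
  rw [LinearMap.sub_apply, LinearMap.smulRight_apply, LinearMap.smulRight_apply,
    LinearMap.add_apply, LinearMap.smul_apply, polarBilin_apply_apply, polarBilin_apply_apply,
    smul_eq_mul]

theorem polar_eiN (v y : V) : polar Q v (eiN Q e w y) =
    ∑ j, (polar Q (e j) y * polar Q v (w j) -
      (polar Q (w j) y + Q (w j) * polar Q (e j) y) * polar Q v (e j)) := by
  rw [eiN_apply]
  have h : polar Q v (∑ j, (polar Q (e j) y • w j -
      (polar Q (w j) y + Q (w j) * polar Q (e j) y) • e j)) =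
      polarBilin Q v (∑ j, (polar Q (e j) y • w j -
      (polar Q (w j) y + Q (w j) * polar Q (e j) y) • e j)) := rfl
  rw [h, map_sum]
  apply Finset.sum_congr rfl
  intro j _
  rw [map_sub, map_smul, map_smul, polarBilin_apply_apply, polarBilin_apply_apply, smul_eq_mul,
    smul_eq_mul]

variable (hee : ∀ j k, polar Q (e j) (e k) = 0) (hew : ∀ j k, polar Q (e j) (w k) = 0)
  (hww : ∀ j k, j ≠ k → polar Q (w j) (w k) = 0)

include hee hew in
theorem eiN_e (k : J) : eiN Q e w (e k) = 0 := by
  rw [eiN_apply]
  apply Finset.sum_eq_zero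
  intro j _
  rw [hee j k, polar_comm Q (w j) (e k), hew k j]
  simp

include hew hww in
theorem eiN_w (k : J) : eiN Q e w (w k) = -((2 * Q (w k)) • e k) := by
  rw [eiN_apply]
  rw [Finset.sum_eq_single k]
  · rw [hew k k, polar_self]
    simp
  · intro j _ hjk
    rw [hew j k, hww j k hjk]
    simp
  · intro h
    exact absurd (Finset.mem_univ k) h

include hee hew hww in
theorem eiN_eiN (y : V) : eiN Q e w (eiN Q e w y) =
    ∑ j, -((2 * Q (w j) * polar Q (e j) y) • e j) := by
  nth_rewrite 2 [eiN_apply]
  rw [map_sum]
  apply Finset.sum_congr rfl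
  intro j _
  rw [map_sub, map_smul, map_smul, eiN_e Q e w hee hew, eiN_w Q e w hew hww, smul_zero, sub_zero,
    smul_neg, smul_smul]
  congr 2
  ring

include hee hew hww in
theorem eiN_cube (y : V) : eiN Q e w (eiN Q e w (eiN Q e w y)) = 0 := by
  rw [eiN_eiN Q e w hee hew hww y, map_sum]
  apply Finset.sum_eq_zero
  intro j _
  rw [map_neg, map_smul, eiN_e Q e w hee hew, smul_zero, neg_zero]

/-- the isometry `1 + N` -/
noncomputable def eiX : V →ₗ[F] V := LinearMap.id + eiN Q e w

theorem eiX_apply (y : V) : eiX Q e w y = y + eiN Q e w y := rfl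

include hee hew hww in
/-- `1 + N` preserves `Q` (characteristic not two) -/
theorem eiX_iso (h2 : (2 : F) ≠ 0) (y : V) : Q (eiX Q e w y) = Q y := by
  have key : polar Q (eiX Q e w y) (eiX Q e w y) = polar Q y y := by
    rw [eiX_apply]
    have hB : ∀ a b : V, polar Q a b = polarBilin Q a b := fun _ _ => rfl
    have h1 : polar Q (y + eiN Q e w y) (y + eiN Q e w y) =
        polar Q y y + 2 * polar Q y (eiN Q e w y) +
          polar Q (eiN Q e w y) (eiN Q e w y) := by
      rw [polar_add_left, polar_add_right, polar_add_right, polar_comm Q (eiN Q e w y) y]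
      ring
    rw [h1]
    have h3 : polar Q (eiN Q e w y) (eiN Q e w y) =
        ∑ j, 2 * Q (w j) * (polar Q (e j) y * polar Q (e j) y) := by
      rw [polar_eiN]
      apply Finset.sum_congr rfl
      intro j _
      have e1 : polar Q (eiN Q e w y) (w j) = 2 * Q (w j) * polar Q (e j) y := by
        rw [polar_comm, polar_eiN, Finset.sum_eq_single j]
        · rw [polar_self, polar_comm Q (w j) (e j), hew j j]
          ring
        · intro k _ hkj
          rw [hww j k (Ne.symm hkj), polar_comm Q (w j) (e k), hew k j]
          ring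
        · intro h
          exact absurd (Finset.mem_univ j) h
      have e2 : polar Q (eiN Q e w y) (e j) = 0 := by
        rw [polar_comm, polar_eiN]
        apply Finset.sum_eq_zero
        intro k _
        rw [hew j k, hee j k]
        ring
      rw [e1, e2]
      ring
    have h4 : polar Q y (eiN Q e w y) =
        ∑ j, -(Q (w j) * (polar Q (e j) y * polar Q (e j) y)) := by
      rw [polar_eiN]
      apply Finset.sum_congr rfl
      intro j _
      rw [polar_comm Q y (w j), polar_comm Q y (e j)]
      ring
    rw [h3, h4, Finset.mul_sum, add_assoc, ← Finset.sum_add_distrib]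
    rw [Finset.sum_eq_zero, add_zero]
    intro j _
    ring
  rw [polar_self, polar_self] at key
  have key' : (2 : F) * Q (eiX Q e w y) = 2 * Q y := by
    rw [two_mul, two_mul, ← two_nsmul, ← two_nsmul]
    exact key
  exact mul_left_cancel₀ h2 key'

include hee hew hww in
theorem eiX_pow_apply (k : ℕ) (y : V) : (eiX Q e w ^ k) y =
    y + (k : F) • eiN Q e w y + ((k.choose 2 : ℕ) : F) • eiN Q e w (eiN Q e w y) := by
  induction k with
  | zero => simp
  | succ k ih =>
    rw [pow_succ', Module.End.mul_apply, ih, eiX_apply, map_add, map_add, map_smul, map_smul,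
      eiN_cube Q e w hee hew hww, smul_zero, add_zero]
    have hc : (k + 1).choose 2 = k + k.choose 2 := by
      rw [Nat.choose_succ_succ' k 1, Nat.choose_one_right]
    rw [hc]
    push_cast
    module

include hee hew hww in
/-- `1 + N` has order dividing the (odd) characteristic -/
theorem eiX_pow_char (p : ℕ) [hp : Fact p.Prime] [CharP F p] (hp2 : p ≠ 2) :
    eiX Q e w ^ p = 1 := by
  apply LinearMap.ext
  intro y
  rw [eiX_pow_apply Q e w hee hew hww, CharP.cast_eq_zero, zero_smul, add_zero,
    Module.End.one_apply]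
  have hdvd : p ∣ p.choose 2 :=
    hp.out.dvd_choose_self (by norm_num) (by
      have := hp.out.two_le
      omega)
  have : ((p.choose 2 : ℕ) : F) = 0 := (CharP.cast_eq_zero_iff F p _).mpr hdvd
  rw [this, zero_smul, add_zero]

variable (f g : J → V)
  (hfe : ∀ j k, polar Q (f j) (e k) = if j = k then 1 else 0)
  (hfw : ∀ j k, polar Q (f j) (w k) = 0)
  (hge : ∀ j k, polar Q (g j) (e k) = 0)
  (hgw : ∀ j k, polar Q (g j) (w k) = if j = k then 1 else 0)

include hfe hfw hge hgw in
/-- vectors killed by `N` are orthogonal to all `e j` and all `w j` -/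
theorem eiN_ker (y : V) (hy : eiN Q e w y = 0) (k : J) :
    polar Q (e k) y = 0 ∧ polar Q (w k) y = 0 := by
  have h1 : polar Q (g k) (eiN Q e w y) = polar Q (e k) y := by
    rw [polar_eiN, Finset.sum_eq_single k]
    · rw [hgw k k, hge k k]
      simp
    · intro j _ hjk
      rw [hgw k j, hge k j, if_neg (Ne.symm hjk)]
      ring
    · intro h
      exact absurd (Finset.mem_univ k) h
  have h2 : polar Q (f k) (eiN Q e w y) =
      -(polar Q (w k) y + Q (w k) * polar Q (e k) y) := by
    rw [polar_eiN, Finset.sum_eq_single k]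
    · rw [hfw k k, hfe k k]
      simp
    · intro j _ hjk
      rw [hfw k j, hfe k j, if_neg (Ne.symm hjk)]
      ring
    · intro h
      exact absurd (Finset.mem_univ k) h
  rw [hy] at h1 h2
  have h0 : ∀ v : V, polar Q v 0 = 0 := fun v => by
    have : polar Q v 0 = polarBilin Q v 0 := rfl
    rw [this, map_zero]
  rw [h0] at h1 h2
  have ha : polar Q (e k) y = 0 := h1.symm
  refine ⟨ha, ?_⟩
  rw [ha, mul_zero, add_zero] at h2
  exact neg_eq_zero.mp h2.symm

/-- the coordinate map `y ↦ (B(e j, y), B(w j, y))` -/
noncomputable def eiPhi : V →ₗ[F] (J ⊕ J → F) :=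
  LinearMap.pi (Sum.elim (fun j => polarBilin Q (e j)) (fun j => polarBilin Q (w j)))

theorem eiPhi_inl (y : V) (j : J) : eiPhi Q e w y (Sum.inl j) = polar Q (e j) y := rfl

theorem eiPhi_inr (y : V) (j : J) : eiPhi Q e w y (Sum.inr j) = polar Q (w j) y := rfl

include hfe hfw hge hgw in
theorem eiPhi_surj : Function.Surjective (eiPhi Q e w) := by
  intro c
  refine ⟨∑ j, (c (Sum.inl j) • f j + c (Sum.inr j) • g j), ?_⟩
  have hB : ∀ (v : V) (s : J → V), polar Q v (∑ j, s j) = ∑ j, polar Q v (s j) := by
    intro v s
    have : polar Q v (∑ j, s j) = polarBilin Q v (∑ j, s j) := rfl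
    rw [this, map_sum]
    rfl
  funext i
  rcases i with k | k
  · rw [eiPhi_inl, hB, Finset.sum_eq_single k]
    · rw [polar_add_right, polar_smul_right, polar_smul_right, polar_comm Q (e k) (f k),
        polar_comm Q (e k) (g k), hfe k k, hge k k]
      simp
    · intro j _ hjk
      rw [polar_add_right, polar_smul_right, polar_smul_right, polar_comm Q (e k) (f j),
        polar_comm Q (e k) (g j), hfe j k, hge j k, if_neg hjk]
      simp
    · intro h
      exact absurd (Finset.mem_univ k) h
  · rw [eiPhi_inr, hB, Finset.sum_eq_single k]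
    · rw [polar_add_right, polar_smul_right, polar_smul_right, polar_comm Q (w k) (f k),
        polar_comm Q (w k) (g k), hfw k k, hgw k k]
      simp
    · intro j _ hjk
      rw [polar_add_right, polar_smul_right, polar_smul_right, polar_comm Q (w k) (f j),
        polar_comm Q (w k) (g j), hfw j k, hgw j k, if_neg hjk]
      simp
    · intro h
      exact absurd (Finset.mem_univ k) h

include hfe hfw hge hgw in
/-- the rank of `N` is at least `2 |J|` -/
theorem eiN_rank [FiniteDimensional F V] :
    2 * Fintype.card J ≤ finrank F (LinearMap.range (eiN Q e w)) := by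
  have h1 := LinearMap.finrank_range_add_finrank_ker (eiN Q e w)
  have h2 := LinearMap.finrank_range_add_finrank_ker (eiPhi Q e w)
  have h3 : LinearMap.ker (eiN Q e w) ≤ LinearMap.ker (eiPhi Q e w) := by
    intro y hy
    rw [LinearMap.mem_ker] at hy ⊢
    funext i
    rcases i with k | k
    · rw [eiPhi_inl]
      exact (eiN_ker Q e w f g hfe hfw hge hgw y hy k).1
    · rw [eiPhi_inr]
      exact (eiN_ker Q e w f g hfe hfw hge hgw y hy k).2
  have h4 := Submodule.finrank_mono h3
  have h5 : finrank F (LinearMap.range (eiPhi Q e w)) = 2 * Fintype.card J := by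
    rw [LinearMap.range_eq_top.mpr (eiPhi_surj Q e w f g hfe hfw hge hgw), finrank_top,
      Module.finrank_fintype_fun_eq_card, Fintype.card_sum]
    ring
  omega

include hee hew hww in
/-- the rank of `N²` is at most the number of nonsingular `w j` -/
theorem eiN_sq_rank [FiniteDimensional F V] :
    finrank F (LinearMap.range (eiN Q e w ∘ₗ eiN Q e w)) ≤
      Nat.card {j : J // Q (w j) ≠ 0} := by
  classical
  rw [Nat.card_eq_fintype_card, Fintype.card_subtype]
  have h1 : LinearMap.range (eiN Q e w ∘ₗ eiN Q e w) ≤
      span F (((Finset.univ.filter (fun j => Q (w j) ≠ 0)).image e : Finset V) : Set V) := by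
    rintro _ ⟨y, rfl⟩
    rw [LinearMap.comp_apply, eiN_eiN Q e w hee hew hww]
    apply Submodule.sum_mem
    intro j _
    by_cases hj : Q (w j) = 0
    · rw [hj]
      simp
    · apply Submodule.neg_mem
      apply Submodule.smul_mem
      apply Submodule.subset_span
      rw [Finset.coe_image]
      exact ⟨j, by simp [hj], rfl⟩
  have h2 := Submodule.finrank_mono h1
  have h3 : finrank F (span F
      (((Finset.univ.filter (fun j => Q (w j) ≠ 0)).image e : Finset V) : Set V)) ≤
      ((Finset.univ.filter (fun j => Q (w j) ≠ 0)).image e).card :=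
    finrank_span_finset_le_card (R := F) ((Finset.univ.filter (fun j => Q (w j) ≠ 0)).image e)
  have h4 := Finset.card_image_le (s := Finset.univ.filter (fun j => Q (w j) ≠ 0)) (f := e)
  omega

end eichler

end Cfsg.Agent.Lib.Helper10.OrtO
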