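import Mathlib
import Cfsg.Agent.Lib.Helper10.OrtO8

/-!
# A unipotent isometry of type `(3, 1, 2^(2t))` from a hyperbolic frame

Given `2t+1` hyperbolic pairs `(E a, Fv a)` and a nonsingular vector `w₀` orthogonal to all of
them, the Siegel family with root pairs `(E (2s), E (2s+1))`, `s < t`, and the three-block
`(E (2t), w₀)`.
-/

set_option autoImplicit false

namespace Cfsg.Agent.Lib.Helper10.OrtO

open Module Submodule QuadraticMap Cfsg.Agent.Lib.Helper15.PSpI Cfsg.Agent.Lib.Helper6.OrtS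
  Cfsg.Agent.Lib.Helper15

section frame

variable {F : Type*} {V : Type*} [Field F] [AddCommGroup V] [Module F V]
variable (Q : QuadraticForm F V)
variable (t : ℕ)

/-- the index `2s` -/
def ix0 (s : Fin t) : Fin (2 * t + 1) := ⟨2 * s.val, by omega⟩
/-- the index `2s+1` -/
def ix1 (s : Fin t) : Fin (2 * t + 1) := ⟨2 * s.val + 1, by omega⟩
/-- the index `2t` -/
def ixT : Fin (2 * t + 1) := ⟨2 * t, by omega⟩

theorem ix0_inj (s s' : Fin t) : ix0 t s = ix0 t s' ↔ s = s' := by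
  unfold ix0
  rw [Fin.ext_iff, Fin.ext_iff]
  simp only
  omega

theorem ix1_inj (s s' : Fin t) : ix1 t s = ix1 t s' ↔ s = s' := by
  unfold ix1
  rw [Fin.ext_iff, Fin.ext_iff]
  simp only
  omega

theorem ix0_ne_ix1 (s s' : Fin t) : ix0 t s ≠ ix1 t s' := by
  unfold ix0 ix1
  rw [Ne, Fin.ext_iff]
  simp only
  omega

theorem ix0_ne_ixT (s : Fin t) : ix0 t s ≠ ixT t := by
  unfold ix0 ixT
  rw [Ne, Fin.ext_iff]
  simp only
  omega

theorem ix1_ne_ixT (s : Fin t) : ix1 t s ≠ ixT t := by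
  unfold ix1 ixT
  rw [Ne, Fin.ext_iff]
  simp only
  omega

theorem ix_cases (a : Fin (2 * t + 1)) :
    (∃ s, a = ix0 t s) ∨ (∃ s, a = ix1 t s) ∨ a = ixT t := by
  rcases Nat.lt_or_ge a.val (2 * t) with h | h
  · rcases Nat.even_or_odd' a.val with ⟨k, hk | hk⟩
    · left
      refine ⟨⟨k, by omega⟩, ?_⟩
      unfold ix0
      rw [Fin.ext_iff]
      simp only
      omega
    · right; left
      refine ⟨⟨k, by omega⟩, ?_⟩
      unfold ix1
      rw [Fin.ext_iff]
      simp only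
      omega
  · right; right
    unfold ixT
    rw [Fin.ext_iff]
    simp only
    omega

variable (E Fv : Fin (2 * t + 1) → V) (w₀ : V)

/-- the singular vectors of the family -/
def frE : Fin t ⊕ Unit → V := Sum.elim (fun s => E (ix0 t s)) (fun _ => E (ixT t))
/-- the second vectors of the family -/
def frW : Fin t ⊕ Unit → V := Sum.elim (fun s => E (ix1 t s)) (fun _ => w₀)
/-- duals of the singular vectors -/
def frF : Fin t ⊕ Unit → V := Sum.elim (fun s => Fv (ix0 t s)) (fun _ => Fv (ixT t))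
/-- duals of the second vectors -/
noncomputable def frG : Fin t ⊕ Unit → V :=
  Sum.elim (fun s => Fv (ix1 t s)) (fun _ => (2 * Q w₀)⁻¹ • w₀)

variable (hQE : ∀ a, Q (E a) = 0) (hEE : ∀ a b, polar Q (E a) (E b) = 0)
  (hFE : ∀ a b, polar Q (Fv a) (E b) = if a = b then 1 else 0)
  (hwE : ∀ a, polar Q w₀ (E a) = 0) (hwF : ∀ a, polar Q w₀ (Fv a) = 0)

include hEE in
theorem fr_hee (j k : Fin t ⊕ Unit) : polar Q (frE t E j) (frE t E k) = 0 := by
  rcases j with s | u <;> rcases k with s' | u' <;> exact hEE _ _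

include hEE hwE in
theorem fr_hew (j k : Fin t ⊕ Unit) : polar Q (frE t E j) (frW t E w₀ k) = 0 := by
  rcases j with s | u <;> rcases k with s' | u'
  · exact hEE _ _
  · show polar Q (E (ix0 t s)) w₀ = 0
    rw [polar_comm]; exact hwE _
  · exact hEE _ _
  · show polar Q (E (ixT t)) w₀ = 0
    rw [polar_comm]; exact hwE _

include hEE hwE in
theorem fr_hww (j k : Fin t ⊕ Unit) (hjk : j ≠ k) :
    polar Q (frW t E w₀ j) (frW t E w₀ k) = 0 := by
  rcases j with s | u <;> rcases k with s' | u'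
  · exact hEE _ _
  · show polar Q (E (ix1 t s)) w₀ = 0
    rw [polar_comm]; exact hwE _
  · exact hwE _
  · exact absurd rfl hjk

include hFE in
theorem fr_hfe (j k : Fin t ⊕ Unit) :
    polar Q (frF t Fv j) (frE t E k) = if j = k then 1 else 0 := by
  rcases j with s | u <;> rcases k with s' | u'
  · show polar Q (Fv (ix0 t s)) (E (ix0 t s')) = _
    rw [hFE]
    by_cases h : s = s'
    · rw [if_pos ((ix0_inj t s s').mpr h), if_pos (by rw [h])]
    · rw [if_neg (fun hh => h ((ix0_inj t s s').mp hh)), if_neg (fun hh => h (Sum.inl.inj hh))]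
  · show polar Q (Fv (ix0 t s)) (E (ixT t)) = _
    rw [hFE, if_neg (ix0_ne_ixT t s), if_neg (by simp)]
  · show polar Q (Fv (ixT t)) (E (ix0 t s')) = _
    rw [hFE, if_neg (fun hh => ix0_ne_ixT t s' hh.symm), if_neg (by simp)]
  · show polar Q (Fv (ixT t)) (E (ixT t)) = _
    rw [hFE, if_pos rfl, if_pos rfl]

include hFE hwF in
theorem fr_hfw (j k : Fin t ⊕ Unit) : polar Q (frF t Fv j) (frW t E w₀ k) = 0 := by
  rcases j with s | u <;> rcases k with s' | u'
  · show polar Q (Fv (ix0 t s)) (E (ix1 t s')) = 0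
    rw [hFE, if_neg (ix0_ne_ix1 t s s')]
  · show polar Q (Fv (ix0 t s)) w₀ = 0
    rw [polar_comm]; exact hwF _
  · show polar Q (Fv (ixT t)) (E (ix1 t s')) = 0
    rw [hFE, if_neg (fun hh => ix1_ne_ixT t s' hh.symm)]
  · show polar Q (Fv (ixT t)) w₀ = 0
    rw [polar_comm]; exact hwF _

include hFE hwE in
theorem fr_hge (j k : Fin t ⊕ Unit) : polar Q (frG Q t Fv w₀ j) (frE t E k) = 0 := by
  rcases j with s | u <;> rcases k with s' | u'
  · show polar Q (Fv (ix1 t s)) (E (ix0 t s')) = 0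
    rw [hFE, if_neg (fun hh => ix0_ne_ix1 t s' s hh.symm)]
  · show polar Q (Fv (ix1 t s)) (E (ixT t)) = 0
    rw [hFE, if_neg (ix1_ne_ixT t s)]
  · show polar Q ((2 * Q w₀)⁻¹ • w₀) (E (ix0 t s')) = 0
    rw [polar_smul_left, hwE, smul_zero]
  · show polar Q ((2 * Q w₀)⁻¹ • w₀) (E (ixT t)) = 0
    rw [polar_smul_left, hwE, smul_zero]

include hFE hwE hwF in
theorem fr_hgw (h2 : (2 : F) ≠ 0) (hw : Q w₀ ≠ 0) (j k : Fin t ⊕ Unit) :
    polar Q (frG Q t Fv w₀ j) (frW t E w₀ k) = if j = k then 1 else 0 := by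
  rcases j with s | u <;> rcases k with s' | u'
  · show polar Q (Fv (ix1 t s)) (E (ix1 t s')) = _
    rw [hFE]
    by_cases h : s = s'
    · rw [if_pos ((ix1_inj t s s').mpr h), if_pos (by rw [h])]
    · rw [if_neg (fun hh => h ((ix1_inj t s s').mp hh)), if_neg (fun hh => h (Sum.inl.inj hh))]
  · show polar Q (Fv (ix1 t s)) w₀ = _
    rw [polar_comm, hwF, if_neg (by simp)]
  · show polar Q ((2 * Q w₀)⁻¹ • w₀) (E (ix1 t s')) = _
    rw [polar_smul_left, hwE, smul_zero, if_neg (by simp)]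
  · show polar Q ((2 * Q w₀)⁻¹ • w₀) w₀ = _
    rw [polar_smul_left, polar_self, if_pos rfl, smul_eq_mul, two_nsmul, ← two_mul]
    exact inv_mul_cancel₀ (mul_ne_zero h2 hw)

include hQE hEE hFE hwE hwF in
/-- **Existence**: the unipotent isometry of type `(3, 1, 2^(2t))` attached to the frame -/
theorem exists_unip31 [FiniteDimensional F V] (h2 : (2 : F) ≠ 0) (p : ℕ) [Fact p.Prime]
    [CharP F p] (hp2 : p ≠ 2) (hw : Q w₀ ≠ 0) :
    ∃ x N : V →ₗ[F] V, (∀ v, x v = v + N v) ∧ (∀ v, Q (x v) = Q v) ∧ x ^ p = 1 ∧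
      2 * t + 2 ≤ finrank F (LinearMap.range N) ∧
      finrank F (LinearMap.range (N ∘ₗ N)) ≤ 1 ∧
      (∀ y, N y = 0 → (∀ a, polar Q (E a) y = 0) ∧ polar Q w₀ y = 0) ∧
      (∃ y, N y ≠ 0) := by
  have hee := fr_hee Q t E hEE
  have hew := fr_hew Q t E w₀ hEE hwE
  have hww := fr_hww Q t E w₀ hEE hwE
  have hfe := fr_hfe Q t E Fv hFE
  have hfw := fr_hfw Q t E Fv w₀ hFE hwF
  have hge := fr_hge Q t E Fv w₀ hFE hwE
  have hgw := fr_hgw Q t E Fv w₀ hFE hwE hwF h2 hw
  refine ⟨eiX Q (frE t E) (frW t E w₀), eiN Q (frE t E) (frW t E w₀), fun v => rfl,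
    eiX_iso Q _ _ hee hew hww h2, eiX_pow_char Q _ _ hee hew hww p hp2, ?_, ?_, ?_, ?_⟩
  · have := eiN_rank Q (frE t E) (frW t E w₀) (frF t Fv) (frG Q t Fv w₀) hfe hfw hge hgw
    rw [Fintype.card_sum, Fintype.card_fin, Fintype.card_unit] at this
    omega
  · refine le_trans (eiN_sq_rank Q (frE t E) (frW t E w₀) hee hew hww) ?_
    rw [Finite.card_le_one_iff_subsingleton]
    constructor
    rintro ⟨j, hj⟩ ⟨k, hk⟩
    rcases j with s | u
    · exact absurd (hQE _) hj
    · rcases k with s' | u'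
      · exact absurd (hQE _) hk
      · rfl
  · intro y hy
    have hk := eiN_ker Q (frE t E) (frW t E w₀) (frF t Fv) (frG Q t Fv w₀) hfe hfw hge hgw y hy
    constructor
    · intro a
      rcases ix_cases t a with ⟨s, rfl⟩ | ⟨s, rfl⟩ | rfl
      · exact (hk (Sum.inl s)).1
      · exact (hk (Sum.inl s)).2
      · exact (hk (Sum.inr ())).1
    · exact (hk (Sum.inr ())).2
  · refine ⟨Fv (ixT t), fun h0 => ?_⟩
    have hk := eiN_ker Q (frE t E) (frW t E w₀) (frF t Fv) (frG Q t Fv w₀) hfe hfw hge hgw _ h0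
    have h1 := (hk (Sum.inr ())).1
    have h3 : polar Q (E (ixT t)) (Fv (ixT t)) = 1 := by
      rw [polar_comm, hFE, if_pos rfl]
    have h4 : polar Q (E (ixT t)) (Fv (ixT t)) = 0 := h1
    rw [h3] at h4
    exact one_ne_zero h4

end frame

end Cfsg.Agent.Lib.Helper10.OrtO
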