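import Mathlib
import Cfsg.Agent.Lib.Helper10.OrtO7
import Cfsg.Agent.Lib.Helper10.OrtO2
import Cfsg.Agent.Lib.Helper20.OddC3

/-!
# Unipotent isometries of type `(3, 1, 2^(d-2))`: the class of the invariant nondegenerate
subspaces of odd dimension

If `x = 1 + N` is an isometry of odd order of a nondegenerate space of dimension `2d` with
`rank N ≥ d`, `rank N² ≤ 1` and `Q` takes values in `β · squares` on the fixed vectors, then an
invariant nondegenerate subspace `W` of odd dimension `m` has class `χ(β)` if `m ≡ 1 (mod 4)`,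
and its orthogonal complement has class `χ(β)` if `m ≡ 3 (mod 4)`.
-/

set_option autoImplicit false

namespace Cfsg.Agent.Lib.Helper10.OrtO

open Module Submodule QuadraticMap Cfsg.Agent.Lib.Helper15.PSpI Cfsg.Agent.Lib.Helper6.OrtS
  Cfsg.Agent.Lib.Helper15 Cfsg.Agent.Lib.Helper20.OddC

section cls

variable {F : Type*} {V : Type*} [Field F] [Fintype F] [AddCommGroup V] [Module F V]
  [FiniteDimensional F V]
variable (Q : QuadraticForm F V)

/-- an invariant nondegenerate subspace on which `N² = 0` and `dim = 2 rank + 1` is the orthogonal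
sum of a fixed nonsingular line and a plus type space -/
theorem oddOn_of_fixed_line (h2 : (2 : F) ≠ 0) (x N : V →ₗ[F] V) (hQx : ∀ v, Q (x v) = Q v)
    (hN : ∀ v, x v = v + N v) (W : Submodule F V) (hWx : W.map x ≤ W)
    (hWn : NondegOn (polarBilin Q) W) (hNN : ∀ w ∈ W, N (N w) = 0)
    (hdim : finrank F W = 2 * finrank F (W.map N) + 1) (β : F)
    (hker : ∀ y ∈ W, N y = 0 → ∃ s, Q y = β * s * s) : OddOn Q W (chi β) := by
  have hS := pB_symm Q
  have hrefl : ∀ u v, polarBilin Q u v = 0 → polarBilin Q v u = 0 := fun u v h => by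
    rw [pB_symm]; exact h
  obtain ⟨ρ, hρ⟩ : ∃ ρ, ρ = finrank F (W.map N) := ⟨_, rfl⟩
  rw [← hρ] at hdim
  have h1 := Cfsg.Agent.Lib.Helper3.Orth.finrank_map_add_inf_ker N W
  rw [← hρ] at h1
  -- a nonsingular fixed vector
  have hex : ∃ v ∈ W ⊓ LinearMap.ker N, Q v ≠ 0 := by
    by_contra hcon
    push Not at hcon
    have hO : Orth (polarBilin Q) (W ⊓ LinearMap.ker N) (W ⊓ LinearMap.ker N) := by
      intro u hu v hv
      rw [pB_apply]
      unfold polar
      rw [hcon _ (add_mem hu hv), hcon u hu, hcon v hv]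
      ring
    have := Cfsg.Agent.Lib.Helper3.Orth.two_mul_finrank_le hrefl hWn inf_le_left hO
    omega
  obtain ⟨v, hvS, hv⟩ := hex
  have hNv : N v = 0 := LinearMap.mem_ker.mp hvS.2
  obtain ⟨s, hs⟩ := hker v hvS.1 hNv
  have hs0 : s ≠ 0 := by
    rintro rfl
    apply hv
    rw [hs]
    ring
  have hchi : chi (Q v) = chi β := by
    rw [hs, show β * s * s = s * s * β by ring]
    exact chi_sq_mul s β hs0
  have hv0 : v ≠ 0 := by
    rintro rfl
    exact hv (map_zero Q)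
  have hL : span F {v} ≤ W := by
    rw [span_le, Set.singleton_subset_iff]
    exact hvS.1
  have hLn := Cfsg.Agent.Lib.Helper20.OddC.nondegOn_span Q h2 v hv
  have hLf : finrank F (span F {v}) = 1 := finrank_span_singleton hv0
  have hZn := nondegOn_perpIn' hS hL hLn hWn
  have hZf := finrank_perpIn' hS hL hLn
  have hZf' : finrank F (perpIn (polarBilin Q) W (span F {v})) = 2 * ρ := by omega
  have hsup := sup_perpIn' hS hL hLn
  have ho : Orth (polarBilin Q) (span F {v}) (perpIn (polarBilin Q) W (span F {v})) :=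
    fun u hu t ht => (mem_perpIn.mp ht).2 u hu
  have hd := Cfsg.Agent.Lib.Helper3.Orth.orth_disjoint hrefl ho hLn
  -- the complement is of plus type
  have hP : SgnOn Q (perpIn (polarBilin Q) W (span F {v})) 1 := by
    rw [sgnOn_one_iff_plus Q _ hZn ρ hZf']
    refine ⟨W.map N, ?_, ?_, hρ.symm⟩
    · rintro _ ⟨u, hu, rfl⟩
      rw [mem_perpIn]
      refine ⟨Cfsg.Agent.Lib.Helper3.Orth.map_N_le x N hN W hWx ⟨u, hu, rfl⟩, ?_⟩
      intro l hl
      obtain ⟨c, rfl⟩ := mem_span_singleton.mp hl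
      rw [map_smul, LinearMap.smul_apply, hS,
        Cfsg.Agent.Lib.Helper3.Orth.range_orth_ker Q x N hQx hN u v hNv, smul_zero]
    · exact Cfsg.Agent.Lib.Helper3.Orth.tsOn_map_N Q x N h2 hQx hN W hNN
  have hLo := oddOn_span Q h2 v hv
  have h3 := oddOn_sup Q h2 ho hd (by rw [hLf]; exact odd_one) ⟨ρ, by rw [hZf']; ring⟩ hLo hP
  rw [hsup, hchi, mul_one] at h3
  exact h3

/-- **The class of an invariant subspace**, type `(3, 1, 2^(d-2))` -/
theorem class_of_invt31 (h2 : (2 : F) ≠ 0) (hV : NondegOn (polarBilin Q) ⊤) (x N : V →ₗ[F] V)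
    (hQx : ∀ v, Q (x v) = Q v) (hN : ∀ v, x v = v + N v) (r : ℕ) (hodd : Odd r)
    (hxr : x ^ r = 1) (d : ℕ) (hn : finrank F V = 2 * d)
    (hρ : d ≤ finrank F (LinearMap.range N)) (ha : finrank F (LinearMap.range (N ∘ₗ N)) ≤ 1)
    (β : F) (hker : ∀ y, N y = 0 → ∃ s, Q y = β * s * s)
    (W : Submodule F V) (hWx : W.map x ≤ W) (hWn : NondegOn (polarBilin Q) W) (m : ℕ)
    (hm : finrank F W = m) (hmo : Odd m) :
    (m % 4 = 1 ∧ OddOn Q W (chi β)) ∨
      (m % 4 = 3 ∧ OddOn Q (perpIn (polarBilin Q) ⊤ W) (chi β)) := by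
  have hr1 : 1 ≤ r := by obtain ⟨k, hk⟩ := hodd; omega
  have hrefl : ∀ u v, polarBilin Q u v = 0 → polarBilin Q v u = 0 := fun u v h => by
    rw [pB_symm]; exact h
  obtain ⟨c1, c2, c3, c4, c5, c6, c7⟩ :=
    unip_constraints Q hV x N hQx hN r hodd hxr (2 * d) hn d 1 hρ ha W hWx hWn m hm
  obtain ⟨k, hk⟩ := hmo
  obtain ⟨e, he⟩ := c1
  rcases Nat.eq_zero_or_pos (finrank F ((W.map N).map N)) with h0 | hpos
  · -- `N² = 0` on `W`
    left
    rw [h0] at c3 c4
    have hbot : (W.map N).map N = ⊥ := Submodule.finrank_eq_zero.mp h0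
    have hNN : ∀ w ∈ W, N (N w) = 0 := by
      intro w hw
      have : N (N w) ∈ (W.map N).map N := ⟨N w, ⟨w, hw, rfl⟩, rfl⟩
      rw [hbot] at this
      exact (mem_bot F).mp this
    refine ⟨by omega, ?_⟩
    apply oddOn_of_fixed_line Q h2 x N hQx hN W hWx hWn hNN (by omega) β
    intro y _ hy
    exact hker y hy
  · -- `N² ≠ 0` on `W`: pass to the orthogonal complement
    right
    have h1 : finrank F ((W.map N).map N) = 1 := by omega
    rw [h1] at c3 c4 c7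
    refine ⟨by omega, ?_⟩
    obtain ⟨W', hW'⟩ : ∃ W', W' = perpIn (polarBilin Q) ⊤ W := ⟨_, rfl⟩
    rw [← hW'] at c5 c6 c7 ⊢
    have hW'x : W'.map x ≤ W' := by
      rw [hW']
      exact perp_invt Q x hQx r hr1 hxr W hWx
    have hW'n : NondegOn (polarBilin Q) W' := by
      rw [hW']
      exact Cfsg.Agent.Lib.Helper3.Orth.nondegOn_perpIn hrefl le_top hWn hV
    have hdim : finrank F W + finrank F W' = finrank F (⊤ : Submodule F V) := by
      rw [hW']
      exact Cfsg.Agent.Lib.Helper3.Orth.finrank_perpIn hrefl (le_top : W ≤ ⊤) hWn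
    rw [finrank_top, hn, hm] at hdim
    have hm' : finrank F W' = 2 * d - m := by omega
    obtain ⟨b1, b2, b3, b4, -, -, -⟩ :=
      unip_constraints Q hV x N hQx hN r hodd hxr (2 * d) hn d 1 hρ ha W' hW'x hW'n
        (2 * d - m) hm'
    have h0' : finrank F ((W'.map N).map N) = 0 := by omega
    rw [h0'] at b3 b4
    have hbot : (W'.map N).map N = ⊥ := Submodule.finrank_eq_zero.mp h0'
    have hNN : ∀ w ∈ W', N (N w) = 0 := by
      intro w hw
      have : N (N w) ∈ (W'.map N).map N := ⟨N w, ⟨w, hw, rfl⟩, rfl⟩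
      rw [hbot] at this
      exact (mem_bot F).mp this
    apply oddOn_of_fixed_line Q h2 x N hQx hN W' hW'x hW'n hNN (by omega) β
    intro y _ hy
    exact hker y hy

/-- the orthogonal complement of the image of a subspace under an isometry -/
theorem perp_map_isometry (hV : NondegOn (polarBilin Q) ⊤) (g : V ≃ₗ[F] V)
    (hg : ∀ v, Q (g v) = Q v) (W : Submodule F V) (hWn : NondegOn (polarBilin Q) W) :
    (perpIn (polarBilin Q) ⊤ W).map g.toLinearMap =
      perpIn (polarBilin Q) ⊤ (W.map g.toLinearMap) := by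
  have hrefl : ∀ u v, polarBilin Q u v = 0 → polarBilin Q v u = 0 := fun u v h => by
    rw [pB_symm]; exact h
  have hiso := iso_of_Q Q g.toLinearMap hg
  have hWgn : NondegOn (polarBilin Q) (W.map g.toLinearMap) :=
    (iso_map (Q := Q) g.toLinearMap hg g.injective W).nondegOn hWn
  apply Submodule.eq_of_le_of_finrank_eq
  · rintro _ ⟨t, ht, rfl⟩
    have ht' : t ∈ perpIn (polarBilin Q) ⊤ W := ht
    rw [mem_perpIn] at ht' ⊢
    refine ⟨mem_top, ?_⟩
    rintro _ ⟨u, hu, rfl⟩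
    exact (hiso u t).trans (ht'.2 u hu)
  · have e1 := Cfsg.Agent.Lib.Helper3.Orth.finrank_perpIn hrefl (le_top : W ≤ ⊤) hWn
    have e2 := Cfsg.Agent.Lib.Helper3.Orth.finrank_perpIn hrefl
      (le_top : W.map g.toLinearMap ≤ ⊤) hWgn
    have e3 : finrank F (W.map g.toLinearMap) = finrank F W :=
      (Submodule.equivMapOfInjective g.toLinearMap g.injective W).finrank_eq.symm
    have e4 : finrank F ((perpIn (polarBilin Q) ⊤ W).map g.toLinearMap) =
        finrank F (perpIn (polarBilin Q) ⊤ W) :=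
      (Submodule.equivMapOfInjective g.toLinearMap g.injective _).finrank_eq.symm
    omega

/-- two unipotent elements of type `(3, 1, 2^(d-2))` with fixed vectors of different classes do
not both fix members of the same isometry class -/
theorem not_both_fix31 (h2 : (2 : F) ≠ 0) (hV : NondegOn (polarBilin Q) ⊤) (d : ℕ)
    (hn : finrank F V = 2 * d) (r : ℕ) (hodd : Odd r)
    (x₁ N₁ : V →ₗ[F] V) (hQx₁ : ∀ v, Q (x₁ v) = Q v) (hN₁ : ∀ v, x₁ v = v + N₁ v)
    (hxr₁ : x₁ ^ r = 1) (hρ₁ : d ≤ finrank F (LinearMap.range N₁))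
    (ha₁ : finrank F (LinearMap.range (N₁ ∘ₗ N₁)) ≤ 1) (β₁ : F)
    (hker₁ : ∀ y, N₁ y = 0 → ∃ s, Q y = β₁ * s * s)
    (x₂ N₂ : V →ₗ[F] V) (hQx₂ : ∀ v, Q (x₂ v) = Q v) (hN₂ : ∀ v, x₂ v = v + N₂ v)
    (hxr₂ : x₂ ^ r = 1) (hρ₂ : d ≤ finrank F (LinearMap.range N₂))
    (ha₂ : finrank F (LinearMap.range (N₂ ∘ₗ N₂)) ≤ 1) (β₂ : F)
    (hker₂ : ∀ y, N₂ y = 0 → ∃ s, Q y = β₂ * s * s) (hβ : chi β₁ ≠ chi β₂)
    (m : ℕ) (hmo : Odd m) (W₁ W₂ : Submodule F V) (hm₁ : finrank F W₁ = m)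
    (hm₂ : finrank F W₂ = m) (hWn₁ : NondegOn (polarBilin Q) W₁)
    (hWn₂ : NondegOn (polarBilin Q) W₂) (hWx₁ : W₁.map x₁ ≤ W₁) (hWx₂ : W₂.map x₂ ≤ W₂)
    (hiso : Iso Q W₁ W₂) : False := by
  have c₁ := class_of_invt31 Q h2 hV x₁ N₁ hQx₁ hN₁ r hodd hxr₁ d hn hρ₁ ha₁ β₁ hker₁ W₁ hWx₁
    hWn₁ m hm₁ hmo
  have c₂ := class_of_invt31 Q h2 hV x₂ N₂ hQx₂ hN₂ r hodd hxr₂ d hn hρ₂ ha₂ β₂ hker₂ W₂ hWx₂
    hWn₂ m hm₂ hmo
  rcases c₁ with ⟨hm1, ho₁⟩ | ⟨hm3, ho₁⟩
  · rcases c₂ with ⟨-, ho₂⟩ | ⟨hm3, -⟩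
    · obtain ⟨φ, hφ⟩ := hiso
      exact hβ (OddOn.unique Q (oddOn_of_isometric Q φ hφ ho₁) ho₂)
    · omega
  · rcases c₂ with ⟨hm1, -⟩ | ⟨-, ho₂⟩
    · omega
    · obtain ⟨g, hgQ, -, hgW⟩ := exists_isometry_fixing_iso Q hV ⊥ W₁ W₂ hWn₁ hWn₂
        (fun u _ v hv => by rw [(mem_bot F).mp hv, map_zero])
        (fun u _ v hv => by rw [(mem_bot F).mp hv, map_zero]) hiso
      have h1 := perp_map_isometry Q hV g hgQ W₁ hWn₁
      rw [hgW] at h1
      obtain ⟨φ, hφ⟩ := iso_map (Q := Q) g.toLinearMap hgQ g.injective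
        (perpIn (polarBilin Q) ⊤ W₁)
      have ho₃ := oddOn_of_isometric Q φ hφ ho₁
      rw [h1] at ho₃
      exact hβ (OddOn.unique Q ho₃ ho₂)

end cls

end Cfsg.Agent.Lib.Helper10.OrtO
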