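import Mathlib
import Cfsg.Agent.Lib.Helper10.OrtO9
import Cfsg.Agent.Lib.Helper10.OrtO10
import Cfsg.Agent.Lib.Helper20.OUMinus
import Cfsg.Agent.Lib.Helper6.OmegaOdd
import Cfsg.Agent.Lib.Helper6.OrtS12

/-!
# `Ω⁻_{2d}(q)`, `d` even, `q` odd: an element of order `p` fixing no member of a given isometry
class of nondegenerate subspaces of odd dimension `m`

The element has Jordan type `(3, 1, 2^(d-2))`; the class of its invariant nondegenerate
odd-dimensional subspaces is governed by the value of `Q` on the fixed vector of the anisotropic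
plane, which can be chosen in either square class.
-/

set_option autoImplicit false

namespace Cfsg.Agent.Lib.Helper10.OrtO

open Module Submodule QuadraticMap Cfsg.Agent.Lib.Helper15.PSpI Cfsg.Agent.Lib.Helper6.OrtS
  Cfsg.Agent.Lib.Helper15 Cfsg.Agent.Lib.Helper20.OddC Cfsg.Agent.Lib.Helper20.OU

universe u

section conc

variable {F : Type u} [Field F]
variable (k : ℕ)

/-- the first vectors of the hyperbolic pairs -/
def mE (a : Fin k) : (Fin k ⊕ Fin k) ⊕ Fin 2 → F := Pi.single (Sum.inl (Sum.inl a)) 1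
/-- the second vectors of the hyperbolic pairs -/
def mF (a : Fin k) : (Fin k ⊕ Fin k) ⊕ Fin 2 → F := Pi.single (Sum.inl (Sum.inr a)) 1
/-- a vector of the anisotropic plane -/
def mW (u v : F) : (Fin k ⊕ Fin k) ⊕ Fin 2 → F :=
  Sum.elim (fun _ => 0) (fun j => if j = 0 then u else v)

theorem mW_inl (u v : F) (i : Fin k ⊕ Fin k) : mW k u v (Sum.inl i) = 0 := rfl
theorem mW_zero (u v : F) : mW k u v (Sum.inr 0) = u := rfl
theorem mW_one (u v : F) : mW k u v (Sum.inr 1) = v := rfl

variable (a b : F)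

theorem polar_mE_mE (c c' : Fin k) : polar (minusQF k F a b) (mE k c) (mE k c') = 0 := by
  have := gram_minusQF k a b (Sum.inl (Sum.inl c)) (Sum.inl (Sum.inl c'))
  exact this

theorem polar_mF_mE (c c' : Fin k) :
    polar (minusQF k F a b) (mF k c) (mE k c') = if c = c' then 1 else 0 := by
  have := gram_minusQF k a b (Sum.inl (Sum.inr c)) (Sum.inl (Sum.inl c'))
  exact this

theorem Q_mE (c : Fin k) : minusQF k F a b (mE k c) = 0 := by
  classical
  rw [minusQF_apply]
  simp [mE, Pi.single_apply]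

theorem polar_mE_apply (c : Fin k) (y : (Fin k ⊕ Fin k) ⊕ Fin 2 → F) :
    polar (minusQF k F a b) (mE k c) y = y (Sum.inl (Sum.inr c)) := by
  classical
  rw [polar_minusQF]
  simp [mE, Pi.single_apply]

theorem polar_mF_apply (c : Fin k) (y : (Fin k ⊕ Fin k) ⊕ Fin 2 → F) :
    polar (minusQF k F a b) (mF k c) y = y (Sum.inl (Sum.inl c)) := by
  classical
  rw [polar_minusQF]
  simp [mF, Pi.single_apply]

theorem polar_mW_apply (u v : F) (y : (Fin k ⊕ Fin k) ⊕ Fin 2 → F) :
    polar (minusQF k F a b) (mW k u v) y =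
      (2 * u + a * v) * y (Sum.inr 0) + (a * u + 2 * b * v) * y (Sum.inr 1) := by
  rw [polar_minusQF]
  simp only [mW_inl, mW_zero, mW_one, zero_mul, mul_zero, add_zero, Finset.sum_const_zero,
    zero_add]
  ring

theorem Q_mW (u v : F) : minusQF k F a b (mW k u v) = u * u + a * (u * v) + b * (v * v) := by
  rw [minusQF_apply]
  simp only [mW_inl, mW_zero, mW_one, zero_mul, Finset.sum_const_zero, zero_add]

/-- the value of `Q` on vectors orthogonal to all `mE c` and to `mW u v` -/
theorem Q_of_orth (u v : F) (hγ : u * u + a * (u * v) + b * (v * v) ≠ 0) (h2 : (2 : F) ≠ 0)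
    (y : (Fin k ⊕ Fin k) ⊕ Fin 2 → F)
    (hE : ∀ c, polar (minusQF k F a b) (mE k c) y = 0)
    (hW : polar (minusQF k F a b) (mW k u v) y = 0) :
    ∃ s, minusQF k F a b y =
      ((4 * b - a * a) * (u * u + a * (u * v) + b * (v * v))) * s * s := by
  have hy : ∀ c, y (Sum.inl (Sum.inr c)) = 0 := fun c => by
    rw [← polar_mE_apply k a b c y]; exact hE c
  rw [polar_mW_apply] at hW
  have hQ : minusQF k F a b y = y (Sum.inr 0) * y (Sum.inr 0) +
      a * (y (Sum.inr 0) * y (Sum.inr 1)) + b * (y (Sum.inr 1) * y (Sum.inr 1)) := by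
    rw [minusQF_apply]
    have : ∑ i : Fin k, y (Sum.inl (Sum.inl i)) * y (Sum.inl (Sum.inr i)) = 0 := by
      apply Finset.sum_eq_zero
      intro i _
      rw [hy i, mul_zero]
    rw [this, zero_add]
  obtain ⟨P, hP⟩ : ∃ P, P = 2 * u + a * v := ⟨_, rfl⟩
  obtain ⟨R, hR⟩ : ∃ R, R = a * u + 2 * b * v := ⟨_, rfl⟩
  rw [← hP, ← hR] at hW
  have hPR : u * P + v * R = 2 * (u * u + a * (u * v) + b * (v * v)) := by
    rw [hP, hR]; ring
  have hkey : ∃ s, y (Sum.inr 0) = -(s * R) ∧ y (Sum.inr 1) = s * P := by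
    by_cases hP0 : P = 0
    · have hR0 : R ≠ 0 := by
        intro hR0
        rw [hP0, hR0, mul_zero, mul_zero, add_zero] at hPR
        exact (mul_ne_zero h2 hγ) hPR.symm
      rw [hP0, zero_mul, zero_add] at hW
      have hy1 : y (Sum.inr 1) = 0 := (mul_eq_zero.mp hW).resolve_left hR0
      refine ⟨-(y (Sum.inr 0)) / R, ?_, ?_⟩
      · field_simp
      · rw [hP0, mul_zero, hy1]
    · refine ⟨y (Sum.inr 1) / P, ?_, ?_⟩
      · field_simp
        linear_combination hW
      · field_simp
  obtain ⟨s, hs0, hs1⟩ := hkey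
  refine ⟨s, ?_⟩
  rw [hQ, hs0, hs1, hP, hR]
  ring

/-- the discriminant of an anisotropic binary form is nonzero -/
theorem disc_ne_zero (h2 : (2 : F) ≠ 0)
    (hab : ∀ x y : F, x ^ 2 + a * x * y + b * y ^ 2 = 0 → x = 0 ∧ y = 0) :
    4 * b - a * a ≠ 0 := by
  intro h
  have := hab (-a) 2 (by linear_combination h)
  exact h2 this.2

variable [Fintype F]

/-- an anisotropic binary form represents every value -/
theorem exists_rep (h2 : (2 : F) ≠ 0)
    (hab : ∀ x y : F, x ^ 2 + a * x * y + b * y ^ 2 = 0 → x = 0 ∧ y = 0) (c : F) :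
    ∃ u v : F, u * u + a * (u * v) + b * (v * v) = c := by
  have hchar : ringChar F ≠ 2 := by
    intro h
    apply h2
    have := ringChar.Nat.cast_ringChar (R := F)
    rw [h] at this
    exact_mod_cast this
  have hqodd : Fintype.card F % 2 = 1 := FiniteField.odd_card_of_char_ne_two hchar
  have h4 : (4 : F) ≠ 0 := by
    have : (4 : F) = 2 * 2 := by norm_num
    rw [this]
    exact mul_ne_zero h2 h2
  have hδ : (4 * b - a * a) / 4 ≠ 0 := div_ne_zero (disc_ne_zero a b h2 hab) h4
  obtain ⟨s, t, hst⟩ := FiniteField.exists_root_sum_quadratic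
    (f := (Polynomial.X : Polynomial F) ^ 2)
    (g := Polynomial.C ((4 * b - a * a) / 4) * Polynomial.X ^ 2 + Polynomial.C 0 * Polynomial.X +
      Polynomial.C (-c))
    (Polynomial.degree_X_pow 2) (Polynomial.degree_quadratic hδ) hqodd
  simp only [Polynomial.eval_pow, Polynomial.eval_X, Polynomial.eval_add, Polynomial.eval_mul,
    Polynomial.eval_C] at hst
  refine ⟨s - a * t / 2, t, ?_⟩
  field_simp
  field_simp at hst
  linear_combination hst

end conc

end Cfsg.Agent.Lib.Helper10.OrtO
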