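import Mathlib
import Cfsg.Agent.Lib.Helper10.OrtO11

/-!
# `Ω⁻_{2d}(q)`, `d` even, `q` odd, `r = p`: the derangement of a given isometry class of
nondegenerate subspaces of odd dimension
-/

set_option autoImplicit false

namespace Cfsg.Agent.Lib.Helper10.OrtO

open Module Submodule QuadraticMap Cfsg.Agent.Lib.Helper15.PSpI Cfsg.Agent.Lib.Helper6.OrtS
  Cfsg.Agent.Lib.Helper15 Cfsg.Agent.Lib.Helper20.OddC Cfsg.Agent.Lib.Helper20.OU Matrix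

universe u

section final

variable {F : Type u} [Field F] [Fintype F]

/-- the unipotent element of type `(3, 1, 2^(2t))` attached to the vector `(u, v)` of the
anisotropic plane -/
theorem exists_unip_minus (h2 : (2 : F) ≠ 0) (p : ℕ) [Fact p.Prime] [CharP F p] (hp2 : p ≠ 2)
    (t : ℕ) (a b u v : F) (hγ : u * u + a * (u * v) + b * (v * v) ≠ 0) :
    ∃ x N : ((Fin (2 * t + 1) ⊕ Fin (2 * t + 1)) ⊕ Fin 2 → F) →ₗ[F]
        ((Fin (2 * t + 1) ⊕ Fin (2 * t + 1)) ⊕ Fin 2 → F),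
      (∀ y, x y = y + N y) ∧
      (∀ y, minusQF (2 * t + 1) F a b (x y) = minusQF (2 * t + 1) F a b y) ∧ x ^ p = 1 ∧
      2 * t + 2 ≤ finrank F (LinearMap.range N) ∧
      finrank F (LinearMap.range (N ∘ₗ N)) ≤ 1 ∧
      (∀ y, N y = 0 → ∃ s, minusQF (2 * t + 1) F a b y =
        ((4 * b - a * a) * (u * u + a * (u * v) + b * (v * v))) * s * s) ∧
      (∃ y, N y ≠ 0) := by
  classical
  obtain ⟨x, N, hN, hQx, hxp, hρ, ha, hker, hne⟩ :=
    exists_unip31 (minusQF (2 * t + 1) F a b) t (mE (2 * t + 1)) (mF (2 * t + 1))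
      (mW (2 * t + 1) u v) (Q_mE _ a b) (polar_mE_mE _ a b) (polar_mF_mE _ a b)
      (fun c => by rw [polar_mW_apply]; simp [mE])
      (fun c => by rw [polar_mW_apply]; simp [mF]) h2 p hp2
      (by rw [Q_mW]; exact hγ)
  refine ⟨x, N, hN, hQx, hxp, hρ, ha, ?_, hne⟩
  intro y hy
  obtain ⟨h1, h2'⟩ := hker y hy
  exact Q_of_orth _ a b u v hγ h2 y h1 h2'

/-- the derangement as a linear map -/
theorem exists_derangement_lin (h2 : (2 : F) ≠ 0) (p : ℕ) [hp : Fact p.Prime] [CharP F p]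
    (hp2 : p ≠ 2) (t : ℕ) (a b : F)
    (hab : ∀ x y : F, x ^ 2 + a * x * y + b * y ^ 2 = 0 → x = 0 ∧ y = 0) (m : ℕ) (hmo : Odd m)
    (W₀ : Submodule F ((Fin (2 * t + 1) ⊕ Fin (2 * t + 1)) ⊕ Fin 2 → F)) :
    ∃ x N : ((Fin (2 * t + 1) ⊕ Fin (2 * t + 1)) ⊕ Fin 2 → F) →ₗ[F]
        ((Fin (2 * t + 1) ⊕ Fin (2 * t + 1)) ⊕ Fin 2 → F),
      (∀ y, x y = y + N y) ∧
      (∀ y, minusQF (2 * t + 1) F a b (x y) = minusQF (2 * t + 1) F a b y) ∧ x ^ p = 1 ∧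
      (∃ y, N y ≠ 0) ∧
      ∀ W : Submodule F ((Fin (2 * t + 1) ⊕ Fin (2 * t + 1)) ⊕ Fin 2 → F), finrank F W = m →
        NondegOn (polarBilin (minusQF (2 * t + 1) F a b)) W →
        Iso (minusQF (2 * t + 1) F a b) W W₀ → ¬ W.map x ≤ W := by
  classical
  have hchar : ringChar F ≠ 2 := by
    intro h
    apply h2
    have := ringChar.Nat.cast_ringChar (R := F)
    rw [h] at this
    exact_mod_cast this
  have hpodd : Odd p := hp.out.eq_two_or_odd'.resolve_left hp2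
  have hV : NondegOn (polarBilin (minusQF (2 * t + 1) F a b)) ⊤ := by
    intro x _ h0
    apply minusQF_nd h2 (2 * t + 1) a b hab x
    intro y
    exact h0 y mem_top
  have hn : finrank F ((Fin (2 * t + 1) ⊕ Fin (2 * t + 1)) ⊕ Fin 2 → F) = 2 * (2 * t + 2) := by
    rw [Module.finrank_fintype_fun_eq_card]
    simp only [Fintype.card_sum, Fintype.card_fin]
    ring
  -- the two elements
  obtain ⟨ν, hν⟩ := FiniteField.exists_nonsquare hchar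
  have hν0 : ν ≠ 0 := by
    rintro rfl
    exact hν ⟨0, by ring⟩
  obtain ⟨u, v, huv⟩ := exists_rep a b h2 hab ν
  have hD := disc_ne_zero a b h2 hab
  obtain ⟨x₁, N₁, hN₁, hQx₁, hxp₁, hρ₁, ha₁, hker₁, hne₁⟩ :=
    exists_unip_minus h2 p hp2 t a b 1 0 (by
      have : (1 : F) * 1 + a * (1 * 0) + b * (0 * 0) = 1 := by ring
      rw [this]
      exact one_ne_zero)
  obtain ⟨x₂, N₂, hN₂, hQx₂, hxp₂, hρ₂, ha₂, hker₂, hne₂⟩ :=
    exists_unip_minus h2 p hp2 t a b u v (by rw [huv]; exact hν0)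
  have hβ : chi ((4 * b - a * a) * ((1 : F) * 1 + a * (1 * 0) + b * (0 * 0))) ≠
      chi ((4 * b - a * a) * (u * u + a * (u * v) + b * (v * v))) := by
    have e1 : (1 : F) * 1 + a * (1 * 0) + b * (0 * 0) = 1 := by ring
    rw [e1, huv, mul_one, chi_mul]
    have hcν : chi ν = -1 := by
      rcases chi_cases hν0 with h | h
      · exact absurd ((chi_eq_one_iff hν0).mp h) hν
      · exact h
    rw [hcν]
    rcases chi_cases hD with h | h <;> rw [h] <;> norm_num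
  by_cases hfix : ∃ W : Submodule F ((Fin (2 * t + 1) ⊕ Fin (2 * t + 1)) ⊕ Fin 2 → F),
      finrank F W = m ∧ NondegOn (polarBilin (minusQF (2 * t + 1) F a b)) W ∧
      Iso (minusQF (2 * t + 1) F a b) W W₀ ∧ W.map x₁ ≤ W
  · obtain ⟨W₁, hf₁, hn₁, hi₁, hx₁⟩ := hfix
    refine ⟨x₂, N₂, hN₂, hQx₂, hxp₂, hne₂, ?_⟩
    intro W₂ hf₂ hn₂ hi₂ hx₂
    exact not_both_fix31 (minusQF (2 * t + 1) F a b) h2 hV (2 * t + 2) hn p hpodd
      x₁ N₁ hQx₁ hN₁ hxp₁ (by omega) ha₁ _ hker₁ x₂ N₂ hQx₂ hN₂ hxp₂ (by omega) ha₂ _ hker₂ hβ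
      m hmo W₁ W₂ hf₁ hf₂ hn₁ hn₂ hx₁ hx₂ (hi₁.trans hi₂.symm)
  · refine ⟨x₁, N₁, hN₁, hQx₁, hxp₁, hne₁, ?_⟩
    intro W hf hn' hi hx
    exact hfix ⟨W, hf, hn', hi, hx⟩

/-- **`r = p`, `Ω⁻`, `d` even (core form, `k = d - 1 = 2t + 1`).** -/
theorem exists_derangement_minus_core (h2 : (2 : F) ≠ 0) (p : ℕ) [hp : Fact p.Prime] [CharP F p]
    (k t : ℕ) (hk : k = 2 * t + 1) (a b : F)
    (hab : ∀ x y : F, x ^ 2 + a * x * y + b * y ^ 2 = 0 → x = 0 ∧ y = 0) (m : ℕ) (hmo : Odd m)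
    (W₀ : Submodule F ((Fin k ⊕ Fin k) ⊕ Fin 2 → F)) :
    ∃ y : Matrix.GeneralLinearGroup ((Fin k ⊕ Fin k) ⊕ Fin 2) F,
      y ∈ Cfsg.Geo.omegaGL (Cfsg.quadFormMinus k F a b) ∧ y ^ p = 1 ∧
      (∀ z : F, (y : Matrix ((Fin k ⊕ Fin k) ⊕ Fin 2) ((Fin k ⊕ Fin k) ⊕ Fin 2) F) ≠
        z • (1 : Matrix ((Fin k ⊕ Fin k) ⊕ Fin 2) ((Fin k ⊕ Fin k) ⊕ Fin 2) F)) ∧
      ∀ W : Submodule F ((Fin k ⊕ Fin k) ⊕ Fin 2 → F), finrank F W = m →
        Cfsg.Geo.IsNondegenerateOn (QuadraticMap.polar (Cfsg.quadFormMinus k F a b)) W →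
        Cfsg.Geo.AreIsometricFor (Cfsg.quadFormMinus k F a b) W W₀ →
        ¬ W.map (Matrix.toLin'
          (y : Matrix ((Fin k ⊕ Fin k) ⊕ Fin 2) ((Fin k ⊕ Fin k) ⊕ Fin 2) F)) ≤ W := by
  classical
  subst hk
  have hp2 : p ≠ 2 := by
    intro h
    apply h2
    have h1 : ((2 : ℕ) : F) = 0 := by
      rw [CharP.cast_eq_zero_iff F p 2, h]
    rw [Nat.cast_ofNat] at h1
    exact h1
  have hpodd : Odd p := hp.out.eq_two_or_odd'.resolve_left hp2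
  have hp1 : 1 ≤ p := hp.out.one_le
  have hchar : ringChar F ≠ 2 := by
    intro h
    apply h2
    have := ringChar.Nat.cast_ringChar (R := F)
    rw [h] at this
    exact_mod_cast this
  have hqodd : Fintype.card F % 2 = 1 := FiniteField.odd_card_of_char_ne_two hchar
  obtain ⟨x, N, hN, hQx, hxp, hne, hbad⟩ :=
    exists_derangement_lin h2 p hp2 t a b hab m hmo W₀
  obtain ⟨M, hMdef⟩ : ∃ M, M = LinearMap.toMatrix' x := ⟨_, rfl⟩
  have hMv : ∀ v, M *ᵥ v = x v := fun v => by rw [hMdef, LinearMap.toMatrix'_mulVec]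
  have hML : Matrix.toLin' M = x := by rw [hMdef, Matrix.toLin'_toMatrix']
  have hMp : M ^ p = 1 := by
    have h1 := map_pow (LinearMap.toMatrixAlgEquiv' (R := F)
      (n := (Fin (2 * t + 1) ⊕ Fin (2 * t + 1)) ⊕ Fin 2)) x p
    rw [hxp, map_one] at h1
    rw [hMdef]
    exact h1.symm
  have hpp : p - 1 + 1 = p := by omega
  let y : Matrix.GeneralLinearGroup ((Fin (2 * t + 1) ⊕ Fin (2 * t + 1)) ⊕ Fin 2) F :=
    ⟨M, M ^ (p - 1), by rw [← pow_succ', hpp, hMp], by rw [← pow_succ, hpp, hMp]⟩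
  have hyv : (y : Matrix ((Fin (2 * t + 1) ⊕ Fin (2 * t + 1)) ⊕ Fin 2)
      ((Fin (2 * t + 1) ⊕ Fin (2 * t + 1)) ⊕ Fin 2) F) = M := rfl
  have hyp : y ^ p = 1 := by
    apply Units.ext
    rw [Units.val_pow_eq_pow_val, hyv, hMp]
    rfl
  have hmem : y ∈ Cfsg.isometryGroup F ⇑(minusQF (2 * t + 1) F a b) := by
    rw [Cfsg.Agent.Lib.Helper6.OmegaAut.mem_isometryGroup_iff]
    intro w
    rw [hyv, hMv, hQx]
  have hQnd : (polarBilin (minusQF (2 * t + 1) F a b)).Nondegenerate :=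
    nondeg_of_nd _ (minusQF_nd h2 (2 * t + 1) a b hab)
  have hΩ : (⟨y, hmem⟩ : ↥(Cfsg.isometryGroup F ⇑(minusQF (2 * t + 1) F a b))) ∈
      Cfsg.Omega F ⇑(minusQF (2 * t + 1) F a b) := by
    apply Cfsg.Agent.Lib.Helper6.mem_Omega_of_pow_odd' (minusQF (2 * t + 1) F a b) hQnd
      (by simp only [Fintype.card_sum, Fintype.card_fin]; omega)
      (Or.inl (by omega)) _ p hpodd
    exact Subtype.ext hyp
  refine ⟨y, ?_, hyp, ?_, ?_⟩
  · rw [← coe_minusQF]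
    exact Subgroup.mem_map.mpr ⟨⟨y, hmem⟩, hΩ, rfl⟩
  · intro z hz
    rw [hyv] at hz
    -- `z ^ p = 1`, hence `z = 1`
    have h1 : (z ^ p) • (1 : Matrix ((Fin (2 * t + 1) ⊕ Fin (2 * t + 1)) ⊕ Fin 2)
        ((Fin (2 * t + 1) ⊕ Fin (2 * t + 1)) ⊕ Fin 2) F) = 1 := by
      have e : (z • (1 : Matrix ((Fin (2 * t + 1) ⊕ Fin (2 * t + 1)) ⊕ Fin 2)
          ((Fin (2 * t + 1) ⊕ Fin (2 * t + 1)) ⊕ Fin 2) F)) ^ p = 1 := by
        rw [← hz]
        exact hMp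
      rw [smul_pow, one_pow] at e
      exact e
    have h3 := congrFun (congrFun h1 (Sum.inr 0)) (Sum.inr 0)
    rw [Matrix.smul_apply, Matrix.one_apply_eq, smul_eq_mul, mul_one] at h3
    have h4 : (z - 1) ^ p = 0 := by
      rw [sub_pow_char, h3, one_pow, sub_self]
    have hz1 : z = 1 := by
      have := pow_eq_zero_iff (n := p) (by omega) |>.mp h4
      exact sub_eq_zero.mp this
    obtain ⟨w, hw⟩ := hne
    apply hw
    have h5 : x w = w := by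
      rw [← hMv, hz, hz1, one_smul, Matrix.one_mulVec]
    have h6 := hN w
    rw [h5] at h6
    exact (add_eq_left.mp h6.symm)
  · intro W hf hn hiso hinv
    rw [← coe_minusQF] at hn hiso
    rw [hyv, hML] at hinv
    exact hbad W hf ((isNondegenerateOn_iff (minusQF (2 * t + 1) F a b) W).mp hn) hiso hinv

/-- **`r = p`, `Ω⁻_{2d}(q)`, `d` even, `q` odd, `m` odd**: an element of order `p` fixing no
nondegenerate `m`-space isometric to `W₀`. -/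
theorem exists_derangement_minus_even (h2 : (2 : F) ≠ 0) (p : ℕ) [Fact p.Prime] [CharP F p]
    (d : ℕ) (hd : 2 ≤ d) (hde : Even d) (a b : F)
    (hab : ∀ x y : F, x ^ 2 + a * x * y + b * y ^ 2 = 0 → x = 0 ∧ y = 0) (m : ℕ) (hmo : Odd m)
    (W₀ : Submodule F ((Fin (d - 1) ⊕ Fin (d - 1)) ⊕ Fin 2 → F)) :
    ∃ y : Matrix.GeneralLinearGroup ((Fin (d - 1) ⊕ Fin (d - 1)) ⊕ Fin 2) F,
      y ∈ Cfsg.Geo.omegaGL (Cfsg.quadFormMinus (d - 1) F a b) ∧ y ^ p = 1 ∧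
      (∀ z : F, (y : Matrix ((Fin (d - 1) ⊕ Fin (d - 1)) ⊕ Fin 2)
          ((Fin (d - 1) ⊕ Fin (d - 1)) ⊕ Fin 2) F) ≠
        z • (1 : Matrix ((Fin (d - 1) ⊕ Fin (d - 1)) ⊕ Fin 2)
          ((Fin (d - 1) ⊕ Fin (d - 1)) ⊕ Fin 2) F)) ∧
      ∀ W : Submodule F ((Fin (d - 1) ⊕ Fin (d - 1)) ⊕ Fin 2 → F), finrank F W = m →
        Cfsg.Geo.IsNondegenerateOn (QuadraticMap.polar (Cfsg.quadFormMinus (d - 1) F a b)) W →
        Cfsg.Geo.AreIsometricFor (Cfsg.quadFormMinus (d - 1) F a b) W W₀ →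
        ¬ W.map (Matrix.toLin' (y : Matrix ((Fin (d - 1) ⊕ Fin (d - 1)) ⊕ Fin 2)
          ((Fin (d - 1) ⊕ Fin (d - 1)) ⊕ Fin 2) F)) ≤ W := by
  obtain ⟨t, ht⟩ := hde
  exact exists_derangement_minus_core h2 p (d - 1) (t - 1) (by omega) a b hab m hmo W₀

end final

end Cfsg.Agent.Lib.Helper10.OrtO
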