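import Mathlib
import Cfsg.Agent.Lib.Helper13.SymForm

/-!
# Orthogonal families of nonsingular vectors

`B` a nondegenerate symmetric bilinear form on `k^n` (`IsS B` of helper13, characteristic not two).
In the orthogonal complement of `c` vectors there are `m` mutually orthogonal nonsingular
vectors as soon as `m + 2 c ≤ n` (`exists_ortho_family_perp`).  The general form
`exists_ortho_family` works inside any subspace `W` with `n ≤ finrank W + c`.
-/

set_option autoImplicit false

namespace Cfsg.Agent.Lib.Helper10.OrthoFam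

open Module Cfsg.Agent.Lib.Helper13

variable {k : Type*} [Field k] {n : ℕ} {B : (Fin n → k) →ₗ[k] (Fin n → k) →ₗ[k] k}

/-- the linear map `x ↦ (B (a i) x)_i` -/
def evalFam (B : (Fin n → k) →ₗ[k] (Fin n → k) →ₗ[k] k) {m : ℕ} (a : Fin m → Fin n → k) :
    (Fin n → k) →ₗ[k] (Fin m → k) :=
  LinearMap.pi (fun i => B (a i))

theorem evalFam_apply {m : ℕ} (a : Fin m → Fin n → k) (x : Fin n → k) (i : Fin m) :
    evalFam B a x i = B (a i) x := rfl

theorem mem_ker_evalFam {m : ℕ} (a : Fin m → Fin n → k) (x : Fin n → k) :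
    x ∈ LinearMap.ker (evalFam B a) ↔ ∀ i, B (a i) x = 0 := by
  rw [LinearMap.mem_ker]
  constructor
  · intro h i
    have := congrFun h i
    simpa [evalFam_apply] using this
  · intro h
    funext i
    simpa [evalFam_apply] using h i

theorem finrank_inf_ker_evalFam (W : Submodule k (Fin n → k)) {m : ℕ} (a : Fin m → Fin n → k) :
    finrank k W ≤ finrank k ↥(W ⊓ LinearMap.ker (evalFam B a)) + m := by
  have h1 := Submodule.finrank_sup_add_finrank_inf_eq W (LinearMap.ker (evalFam B a))
  have h2 := LinearMap.finrank_range_add_finrank_ker (evalFam B a)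
  have h3 : finrank k ↥(LinearMap.range (evalFam B a)) ≤ m := by
    have := Submodule.finrank_le (LinearMap.range (evalFam B a))
    rwa [Module.finrank_fintype_fun_eq_card, Fintype.card_fin] at this
  have h4 : finrank k ↥(W ⊔ LinearMap.ker (evalFam B a)) ≤ n := by
    have := Submodule.finrank_le (W ⊔ LinearMap.ker (evalFam B a))
    rwa [Module.finrank_fintype_fun_eq_card, Fintype.card_fin] at this
  rw [Module.finrank_fintype_fun_eq_card, Fintype.card_fin] at h2
  omega

/-- a nonsingular vector in a subspace `S` orthogonal to `m` mutually orthogonal nonsingular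
vectors, if `n < 2 dim S + m` -/
theorem exists_noniso_perp (h : IsS B) (S : Submodule k (Fin n → k)) {m : ℕ}
    (a : Fin m → Fin n → k) (ha : ∀ i, B (a i) (a i) ≠ 0)
    (hao : ∀ i j, i ≠ j → B (a i) (a j) = 0) (hS : ∀ s ∈ S, ∀ i, B (a i) s = 0)
    (hd : n < 2 * finrank k S + m) : ∃ s ∈ S, B s s ≠ 0 := by
  classical
  by_contra hcon
  push Not at hcon
  have hti : ∀ s ∈ S, ∀ s' ∈ S, B s s' = 0 := by
    intro s hs s' hs'
    have h1 := hcon (s + s') (S.add_mem hs hs')
    simp only [map_add, LinearMap.add_apply, hcon s hs, hcon s' hs', h.symm s' s, zero_add,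
      add_zero] at h1
    have h2 : 2 * B s s' = 0 := by linear_combination h1
    rcases mul_eq_zero.mp h2 with h3 | h3
    · exact absurd h3 h.two
    · exact h3
  -- the map `(s, t) ↦ s + ∑ t i • a i`
  obtain ⟨Φ, hΦ⟩ : ∃ Φ : (↥S × (Fin m → k)) →ₗ[k] (Fin n → k),
      ∀ p, Φ p = (p.1 : Fin n → k) + ∑ i, p.2 i • a i :=
    ⟨S.subtype.coprod (Fintype.linearCombination k a), fun p => by
      rw [LinearMap.coprod_apply, Fintype.linearCombination_apply]
      rfl⟩
  have hBa : ∀ (p : ↥S × (Fin m → k)) (j : Fin m), B (a j) (Φ p) = p.2 j * B (a j) (a j) := by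
    intro p j
    rw [hΦ, map_add, hS _ p.1.2 j, zero_add, map_sum, Finset.sum_eq_single j]
    · rw [map_smul, smul_eq_mul]
    · intro i _ hij
      rw [map_smul, smul_eq_mul, hao j i (Ne.symm hij), mul_zero]
    · intro hj
      exact absurd (Finset.mem_univ j) hj
  have hmem : ∀ p, Φ p ∈ LinearMap.BilinForm.orthogonal B S := by
    intro p
    rw [LinearMap.BilinForm.mem_orthogonal_iff]
    intro y hy
    change B y (Φ p) = 0
    rw [hΦ, map_add, hti y hy _ p.1.2, zero_add, map_sum]
    apply Finset.sum_eq_zero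
    intro i _
    rw [map_smul, smul_eq_mul, h.symm y (a i), hS y hy i, mul_zero]
  have hinj : Function.Injective (Φ.codRestrict (LinearMap.BilinForm.orthogonal B S) hmem) := by
    rw [← LinearMap.ker_eq_bot, LinearMap.ker_eq_bot']
    intro p hp
    have hp0 : Φ p = 0 := by
      have := congrArg Subtype.val hp
      simpa using this
    have ht : p.2 = 0 := by
      funext j
      have h1 := hBa p j
      rw [hp0, map_zero] at h1
      rcases mul_eq_zero.mp h1.symm with h2 | h2
      · exact h2
      · exact absurd h2 (ha j)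
    have hs : (p.1 : Fin n → k) = 0 := by
      have h1 := hΦ p
      rw [hp0, ht] at h1
      simpa using h1.symm
    apply Prod.ext
    · exact Subtype.ext hs
    · exact ht
  have h1 := LinearMap.finrank_le_finrank_of_injective hinj
  rw [Module.finrank_prod, Module.finrank_fintype_fun_eq_card, Fintype.card_fin,
    LinearMap.BilinForm.finrank_orthogonal h.nondeg, Module.finrank_fintype_fun_eq_card,
    Fintype.card_fin] at h1
  omega

/-- `m` mutually orthogonal nonsingular vectors in a subspace of codimension at most `c`,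
if `m + 2 c ≤ n` -/
theorem exists_ortho_family (h : IsS B) (W : Submodule k (Fin n → k)) (c : ℕ)
    (hW : n ≤ finrank k W + c) (m : ℕ) (hm : m + 2 * c ≤ n) :
    ∃ a : Fin m → Fin n → k, (∀ i, a i ∈ W) ∧ (∀ i, B (a i) (a i) ≠ 0) ∧
      ∀ i j, i ≠ j → B (a i) (a j) = 0 := by
  induction m with
  | zero => exact ⟨fun i => i.elim0, fun i => i.elim0, fun i => i.elim0, fun i => i.elim0⟩
  | succ m ih =>
    obtain ⟨a, haW, ha, hao⟩ := ih (by omega)
    have hdim := finrank_inf_ker_evalFam (B := B) W a
    obtain ⟨s, hsS, hss⟩ := exists_noniso_perp h (W ⊓ LinearMap.ker (evalFam B a)) a ha hao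
      (fun s hs i => (mem_ker_evalFam a s).mp (Submodule.mem_inf.mp hs).2 i) (by omega)
    obtain ⟨hsW, hsk⟩ := Submodule.mem_inf.mp hsS
    rw [mem_ker_evalFam] at hsk
    refine ⟨Fin.snoc a s, ?_, ?_, ?_⟩
    · intro i
      refine Fin.lastCases ?_ (fun j => ?_) i
      · rw [Fin.snoc_last]; exact hsW
      · rw [Fin.snoc_castSucc]; exact haW j
    · intro i
      refine Fin.lastCases ?_ (fun j => ?_) i
      · rw [Fin.snoc_last]; exact hss
      · rw [Fin.snoc_castSucc]; exact ha j
    · intro i j
      refine Fin.lastCases ?_ (fun i' => ?_) i <;> refine Fin.lastCases ?_ (fun j' => ?_) j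
      · intro hij
        exact absurd rfl hij
      · intro _
        rw [Fin.snoc_last, Fin.snoc_castSucc, h.symm]
        exact hsk j'
      · intro _
        rw [Fin.snoc_last, Fin.snoc_castSucc]
        exact hsk i'
      · intro hij
        rw [Fin.snoc_castSucc, Fin.snoc_castSucc]
        exact hao i' j' (fun h0 => hij (by rw [h0]))

/-- `m` mutually orthogonal nonsingular vectors orthogonal to `c` given vectors, if
`m + 2 c ≤ n` -/
theorem exists_ortho_family_perp (h : IsS B) {c : ℕ} (r : Fin c → Fin n → k) (m : ℕ)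
    (hm : m + 2 * c ≤ n) :
    ∃ a : Fin m → Fin n → k, (∀ i j, B (a i) (r j) = 0) ∧ (∀ i, B (a i) (a i) ≠ 0) ∧
      ∀ i j, i ≠ j → B (a i) (a j) = 0 := by
  have hdim := finrank_inf_ker_evalFam (B := B) ⊤ r
  rw [finrank_top, Module.finrank_fintype_fun_eq_card, Fintype.card_fin] at hdim
  obtain ⟨a, haW, ha, hao⟩ := exists_ortho_family h (⊤ ⊓ LinearMap.ker (evalFam B r)) c hdim m hm
  refine ⟨a, fun i j => ?_, ha, hao⟩
  have := (mem_ker_evalFam r (a i)).mp (Submodule.mem_inf.mp (haW i)).2 j
  rw [h.symm]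
  exact this

end Cfsg.Agent.Lib.Helper10.OrthoFam
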