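import Mathlib
import Cfsg.Agent.Lib.Helper13.SymForm
import Cfsg.Agent.Lib.Helper13.SubfField

/-!
# Purity on singular vectors of a quadratic form, any characteristic

`K` a finite subfield of `F`, `Q₀` a quadratic form on `K^n` (`n ≥ 5`) such that no nonzero
singular vector lies in the radical of the polar form.  An invertible matrix over `F` which maps
every `K`-rational `Q₀`-singular vector to a multiple of a `K`-rational vector is a scalar multiple
of a `K`-rational matrix.  (Characteristic-free version of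
`Cfsg.Agent.Lib.Helper10.PureSingular.exists_rational_of_pure_singular`.)
-/

set_option autoImplicit false

namespace Cfsg.Agent.Lib.Helper10.PureSingularQ

open Matrix Module QuadraticMap Cfsg.Agent.Lib.Helper13

section
variable {F : Type*} [Field F] {n : ℕ}

/-- one step, for an abstract class `S` of rational vectors: from `v ≠ 0` with `A v ∈ l₀ • K^n`
to any `u` with `u`, `u + v` in the class -/
theorem step (K : Subfield F) (S : (Fin n → K) → Prop) (A : GL (Fin n) F)
    (hA : ∀ u : Fin n → K, S u → ∃ (l : F) (r : Fin n → K),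
      (A : Matrix (Fin n) (Fin n) F) *ᵥ rvec K u = l • rvec K r)
    (l₀ : F) (hl₀ : l₀ ≠ 0) (v rv : Fin n → K) (hv0 : v ≠ 0)
    (hv : (A : Matrix (Fin n) (Fin n) F) *ᵥ rvec K v = l₀ • rvec K rv)
    (u : Fin n → K) (huu : S u) (hsum : S (u + v)) :
    ∃ r : Fin n → K, (A : Matrix (Fin n) (Fin n) F) *ᵥ rvec K u = l₀ • rvec K r := by
  have hinjA : ∀ x y : Fin n → F, A.val *ᵥ x = A.val *ᵥ y → x = y := by
    intro x y hxy
    have := congrArg (fun w => (A⁻¹ : GL (Fin n) F).val *ᵥ w) hxy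
    simpa [mulVec_mulVec, ← Units.val_mul] using this
  obtain ⟨μ, r, hu⟩ := hA u huu
  obtain ⟨ν, s, hus⟩ := hA (u + v) hsum
  rw [rvec_add, mulVec_add, hu, hv] at hus
  by_cases hD : ∃ k l : Fin n, r k * rv l - r l * rv k ≠ 0
  · obtain ⟨k, l, hkl⟩ := hD
    have hk := congrFun hus k
    have hl := congrFun hus l
    simp only [Pi.add_apply, Pi.smul_apply, smul_eq_mul, rvec] at hk hl
    obtain ⟨d, hd⟩ : ∃ d : K, d = rv k * r l - rv l * r k := ⟨_, rfl⟩
    obtain ⟨X, hX⟩ : ∃ X : K, X = s k * r l - s l * r k := ⟨_, rfl⟩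
    have hkey : ν * (X : F) = l₀ * (d : F) := by
      rw [hX, hd]
      push_cast
      linear_combination (r k : F) * hl - (r l : F) * hk
    have hd0 : d ≠ 0 := by
      rw [hd]
      intro h0
      apply hkl
      linear_combination -h0
    have hX0 : (X : F) ≠ 0 := by
      intro h0
      rw [h0, mul_zero] at hkey
      have h1 : (d : F) = 0 := by
        rcases mul_eq_zero.mp hkey.symm with h1 | h1
        · exact absurd h1 hl₀
        · exact h1
      exact hd0 (by exact_mod_cast h1)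
    have hν : ν = l₀ * ((d / X : K) : F) := by
      rw [Subfield.coe_div, mul_div_assoc', eq_div_iff hX0]
      exact hkey
    refine ⟨(d / X) • s - rv, ?_⟩
    rw [hu]
    have h3 : μ • rvec K r = ν • rvec K s - l₀ • rvec K rv := eq_sub_of_add_eq hus
    rw [h3, hν, rvec_sub, rvec_smul, smul_sub, smul_smul]
  · push Not at hD
    have hrv : ∃ l₁, rv l₁ ≠ 0 := by
      by_contra hne
      push Not at hne
      have h1 : rv = 0 := funext hne
      rw [h1, rvec_zero, smul_zero] at hv
      apply hv0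
      apply rvec_inj K
      rw [rvec_zero]
      apply hinjA
      rw [hv, mulVec_zero]
    obtain ⟨l₁, hl₁⟩ := hrv
    obtain ⟨κ, hκ⟩ : ∃ κ : K, κ = r l₁ / rv l₁ := ⟨_, rfl⟩
    have hr : r = κ • rv := by
      funext k
      have h1 := hD k l₁
      rw [Pi.smul_apply, smul_eq_mul, hκ, div_mul_eq_mul_div, eq_div_iff hl₁]
      linear_combination h1
    have hu2 : A.val *ᵥ rvec K u = A.val *ᵥ ((μ * (κ : F) / l₀) • rvec K v) := by
      rw [mulVec_smul, hv, hu, hr, rvec_smul, smul_smul, smul_smul]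
      congr 1
      field_simp
    have hu3 := hinjA _ _ hu2
    obtain ⟨i₁, hi₁⟩ : ∃ i₁, v i₁ ≠ 0 := by
      by_contra hne
      push Not at hne
      exact hv0 (funext hne)
    have hc : μ * (κ : F) / l₀ = ((u i₁ / v i₁ : K) : F) := by
      have h1 := congrFun hu3 i₁
      simp only [rvec, Pi.smul_apply, smul_eq_mul] at h1
      have hvi : ((v i₁ : K) : F) ≠ 0 := by
        intro h0
        exact hi₁ (by exact_mod_cast h0)
      rw [Subfield.coe_div, eq_div_iff hvi]
      exact h1.symm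
    refine ⟨(u i₁ / v i₁) • rv, ?_⟩
    rw [hu, hr, rvec_smul, rvec_smul, smul_smul, smul_smul, ← hc]
    congr 1
    field_simp

/-- a nonzero singular vector in a subspace of dimension at least three (any characteristic) -/
theorem exists_singular_in_Q {K : Type*} [Field K] [Finite K] (Q₀ : QuadraticForm K (Fin n → K))
    (S : Submodule K (Fin n → K)) (hS : 3 ≤ finrank K S) : ∃ z ∈ S, z ≠ 0 ∧ Q₀ z = 0 := by
  obtain ⟨z, hz0, hz⟩ := Cfsg.Agent.Lib.Helper15.exists_singular_of_three_le_finrank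
    (Q₀.comp S.subtype) hS
  exact ⟨(z : Fin n → K), z.2, fun h0 => hz0 (Subtype.ext h0), hz⟩

theorem exists_rational_of_pure_singular (hn : 5 ≤ n) (K : Subfield F) [Finite K]
    (Q₀ : QuadraticForm K (Fin n → K))
    (hnd : ∀ v : Fin n → K, v ≠ 0 → Q₀ v = 0 → ∃ x, polar Q₀ v x ≠ 0) (A : GL (Fin n) F)
    (hA : ∀ u : Fin n → K, Q₀ u = 0 → ∃ (l : F) (r : Fin n → K),
      (A : Matrix (Fin n) (Fin n) F) *ᵥ rvec K u = l • rvec K r) :
    ∃ (l : F) (Bm : Matrix (Fin n) (Fin n) K), l ≠ 0 ∧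
      (A : Matrix (Fin n) (Fin n) F) = l • rmat K Bm := by
  classical
  have hinjA : ∀ x y : Fin n → F, A.val *ᵥ x = A.val *ᵥ y → x = y := by
    intro x y hxy
    have := congrArg (fun w => (A⁻¹ : GL (Fin n) F).val *ᵥ w) hxy
    simpa [mulVec_mulVec, ← Units.val_mul] using this
  have hQadd : ∀ x y : Fin n → K, Q₀ (x + y) = Q₀ x + Q₀ y + polar Q₀ x y := by
    intro x y
    unfold polar
    ring
  -- a nonzero singular vector
  obtain ⟨e₀, -, he₀0, he₀⟩ := exists_singular_in_Q Q₀ (⊤ : Submodule K (Fin n → K))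
    (by rw [finrank_top_fun]; omega)
  obtain ⟨l₀, r₀, h₀⟩ := hA e₀ he₀
  have hl₀ : l₀ ≠ 0 := by
    intro h0
    rw [h0, zero_smul] at h₀
    apply he₀0
    apply rvec_inj K
    rw [rvec_zero]
    apply hinjA
    rw [h₀, mulVec_zero]
  -- all singular vectors
  have hsing : ∀ u : Fin n → K, Q₀ u = 0 →
      ∃ r : Fin n → K, A.val *ᵥ rvec K u = l₀ • rvec K r := by
    intro u huu
    by_cases hue : polar Q₀ u e₀ = 0
    · apply step K (fun x => Q₀ x = 0) A hA l₀ hl₀ e₀ r₀ he₀0 h₀ u huu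
      change Q₀ (u + e₀) = 0
      rw [hQadd, huu, he₀, hue]
      ring
    · -- a nonzero singular vector orthogonal to both
      have d1 := finrank_le_inf_ker_add_one' (⊤ : Submodule K (Fin n → K)) (polarBilin Q₀ e₀)
      have d2 := finrank_le_inf_ker_add_one'
        ((⊤ : Submodule K (Fin n → K)) ⊓ LinearMap.ker (polarBilin Q₀ e₀)) (polarBilin Q₀ u)
      rw [finrank_top_fun] at d1
      obtain ⟨w, hwS, hw0, hww⟩ := exists_singular_in_Q Q₀
        (((⊤ : Submodule K (Fin n → K)) ⊓ LinearMap.ker (polarBilin Q₀ e₀)) ⊓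
          LinearMap.ker (polarBilin Q₀ u)) (by omega)
      simp only [Submodule.mem_inf, LinearMap.mem_ker, Submodule.mem_top, true_and,
        polarBilin_apply_apply] at hwS
      obtain ⟨hew, huw⟩ := hwS
      have hwe : polar Q₀ w e₀ = 0 := by rw [polar_comm]; exact hew
      obtain ⟨rw', hrw⟩ := step K (fun x => Q₀ x = 0) A hA l₀ hl₀ e₀ r₀ he₀0 h₀ w hww (by
        change Q₀ (w + e₀) = 0
        rw [hQadd, hww, he₀, hwe]
        ring)
      apply step K (fun x => Q₀ x = 0) A hA l₀ hl₀ w rw' hw0 hrw u huu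
      change Q₀ (u + w) = 0
      rw [hQadd, huu, hww, huw]
      ring
  -- the rational vectors with image in `l₀ • K^n` form a subspace
  let W : Submodule K (Fin n → K) :=
    { carrier := {u | ∃ r : Fin n → K, A.val *ᵥ rvec K u = l₀ • rvec K r}
      add_mem' := by
        rintro x y ⟨r₁, h1⟩ ⟨r₂, h2⟩
        exact ⟨r₁ + r₂, by rw [rvec_add, mulVec_add, h1, h2, rvec_add, smul_add]⟩
      zero_mem' := ⟨0, by rw [rvec_zero, mulVec_zero, smul_zero]⟩
      smul_mem' := by
        rintro k x ⟨r₁, h1⟩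
        exact ⟨k • r₁, by rw [rvec_smul, mulVec_smul, h1, rvec_smul, smul_smul, smul_smul,
          mul_comm]⟩ }
  have hWmem : ∀ u : Fin n → K, u ∈ W ↔ ∃ r : Fin n → K, A.val *ᵥ rvec K u = l₀ • rvec K r :=
    fun u => Iff.rfl
  have hWsing : ∀ u : Fin n → K, Q₀ u = 0 → u ∈ W := fun u hu => (hWmem u).mpr (hsing u hu)
  -- vectors not orthogonal to `e₀`
  have hW1 : ∀ x : Fin n → K, polar Q₀ x e₀ ≠ 0 → x ∈ W := by
    intro x hb
    obtain ⟨t, ht⟩ : ∃ t : K, t = -(Q₀ x) / polar Q₀ x e₀ := ⟨_, rfl⟩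
    have h1 : Q₀ (x + t • e₀) = 0 := by
      rw [hQadd, QuadraticMap.map_smul, he₀, polar_smul_right, smul_eq_mul, smul_eq_mul, ht]
      field_simp
      ring
    have h2 : Q₀ ((-t) • e₀) = 0 := by
      rw [QuadraticMap.map_smul, he₀, smul_zero]
    have h3 : x = (x + t • e₀) + (-t) • e₀ := by
      rw [neg_smul, add_neg_cancel_right]
    rw [h3]
    exact W.add_mem (hWsing _ h1) (hWsing _ h2)
  obtain ⟨f, hf⟩ := hnd e₀ he₀0 he₀
  have hfe : polar Q₀ f e₀ ≠ 0 := by rw [polar_comm]; exact hf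
  have key : ∀ u : Fin n → K, ∃ r : Fin n → K, A.val *ᵥ rvec K u = l₀ • rvec K r := by
    intro u
    rw [← hWmem]
    by_cases hb : polar Q₀ u e₀ = 0
    · have h1 : u + f ∈ W := by
        apply hW1
        rw [polar_add_left, hb, zero_add]
        exact hfe
      have h2 : f ∈ W := hW1 f hfe
      have h3 : u = (u + f) - f := by rw [add_sub_cancel_right]
      rw [h3]
      exact W.sub_mem h1 h2
    · exact hW1 u hb
  choose R hR using key
  refine ⟨l₀, fun i j => R (Pi.single j 1) i, hl₀, ?_⟩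
  ext i j
  have h2 := congrFun (hR (Pi.single j 1)) i
  rw [rvec_single, Matrix.mulVec_single_one] at h2
  rw [Matrix.smul_apply, smul_eq_mul]
  exact h2

end

end Cfsg.Agent.Lib.Helper10.PureSingularQ
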