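import Mathlib
import Cfsg.Agent.Lib.Helper13.SymForm
import Cfsg.Agent.Lib.Helper10.OrthoFam
import Cfsg.Agent.Lib.Helper10.PureSingularQ

/-!
# Orthogonal families of hyperbolic pairs, any characteristic

`Q₀` a quadratic form on `k^n`, `k` a finite field, with nondegenerate polar form.  In the
orthogonal complement of `c` vectors there are `m` mutually orthogonal hyperbolic pairs
`(x i, e i)` (both singular, `polar (x i) (e i) = 1`) as soon as `2 m + 2 c + 1 ≤ n`.
-/

set_option autoImplicit false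

namespace Cfsg.Agent.Lib.Helper10.HypFam

open Module QuadraticMap Cfsg.Agent.Lib.Helper13 Cfsg.Agent.Lib.Helper10.OrthoFam

variable {k : Type*} [Field k] {n : ℕ}

theorem polarBilin_nondeg (Q₀ : QuadraticForm k (Fin n → k))
    (hnd : ∀ v : Fin n → k, v ≠ 0 → ∃ x, polar Q₀ v x ≠ 0) :
    LinearMap.BilinForm.Nondegenerate (polarBilin Q₀) := by
  constructor
  · intro x hx
    by_contra h0
    obtain ⟨y, hy⟩ := hnd x h0
    exact hy (by simpa [polarBilin_apply_apply] using hx y)
  · intro y hy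
    by_contra h0
    obtain ⟨x, hx⟩ := hnd y h0
    apply hx
    rw [polar_comm]
    simpa [polarBilin_apply_apply] using hy x

/-- one more hyperbolic pair, orthogonal to `c` vectors and to `m` given hyperbolic pairs -/
theorem exists_next_pair [Finite k] (Q₀ : QuadraticForm k (Fin n → k))
    (hnd : ∀ v : Fin n → k, v ≠ 0 → ∃ x, polar Q₀ v x ≠ 0)
    {c : ℕ} (r : Fin c → Fin n → k) {m : ℕ} (x e : Fin m → Fin n → k)
    (hg : ∀ i j, polar Q₀ (x i) (x j) = 0 ∧ polar Q₀ (e i) (e j) = 0 ∧
      polar Q₀ (x i) (e j) = if i = j then 1 else 0)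
    (hm : 2 * m + 2 * c + 3 ≤ n) :
    ∃ x' e' : Fin n → k, Q₀ x' = 0 ∧ Q₀ e' = 0 ∧ polar Q₀ x' e' = 1 ∧
      (∀ j, polar Q₀ x' (r j) = 0 ∧ polar Q₀ e' (r j) = 0) ∧
      (∀ j, polar Q₀ x' (x j) = 0 ∧ polar Q₀ x' (e j) = 0 ∧ polar Q₀ e' (x j) = 0 ∧
        polar Q₀ e' (e j) = 0) := by
  classical
  obtain ⟨B, hB⟩ : ∃ B : (Fin n → k) →ₗ[k] (Fin n → k) →ₗ[k] k, B = polarBilin Q₀ := ⟨_, rfl⟩
  have hBa : ∀ u v, B u v = polar Q₀ u v := by
    intro u v
    rw [hB, polarBilin_apply_apply]
  have hBs : ∀ u v, B u v = B v u := by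
    intro u v
    rw [hBa, hBa, polar_comm]
  have hBnd : LinearMap.BilinForm.Nondegenerate B := by
    rw [hB]
    exact polarBilin_nondeg Q₀ hnd
  -- the orthogonal complement of everything given
  obtain ⟨W, hW⟩ : ∃ W : Submodule k (Fin n → k),
      W = ((⊤ ⊓ LinearMap.ker (evalFam B r)) ⊓ LinearMap.ker (evalFam B x)) ⊓
        LinearMap.ker (evalFam B e) := ⟨_, rfl⟩
  have hWmem : ∀ w, w ∈ W ↔ (∀ j, B (r j) w = 0) ∧ (∀ j, B (x j) w = 0) ∧ ∀ j, B (e j) w = 0 := by
    intro w
    rw [hW]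
    simp only [Submodule.mem_inf, Submodule.mem_top, true_and, mem_ker_evalFam]
    tauto
  have hdW : n ≤ finrank k W + (c + m + m) := by
    have h1 := finrank_inf_ker_evalFam (B := B) ⊤ r
    have h2 := finrank_inf_ker_evalFam (B := B) (⊤ ⊓ LinearMap.ker (evalFam B r)) x
    have h3 := finrank_inf_ker_evalFam (B := B)
      ((⊤ ⊓ LinearMap.ker (evalFam B r)) ⊓ LinearMap.ker (evalFam B x)) e
    rw [finrank_top, Module.finrank_fintype_fun_eq_card, Fintype.card_fin] at h1
    rw [hW]
    omega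
  -- the radical of `W`
  obtain ⟨R, hR⟩ : ∃ R : Submodule k (Fin n → k), R = W ⊓ LinearMap.BilinForm.orthogonal B W :=
    ⟨_, rfl⟩
  have hdO : finrank k ↥(LinearMap.BilinForm.orthogonal B W) = n - finrank k W := by
    rw [LinearMap.BilinForm.finrank_orthogonal hBnd, Module.finrank_fintype_fun_eq_card,
      Fintype.card_fin]
  have hdR : finrank k R + (m + m) ≤ n - finrank k W := by
    obtain ⟨Φ, hΦ⟩ : ∃ Φ : (↥R × ((Fin m → k) × (Fin m → k))) →ₗ[k] (Fin n → k),
        ∀ p, Φ p = (p.1 : Fin n → k) + (∑ i, p.2.1 i • x i + ∑ i, p.2.2 i • e i) :=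
      ⟨R.subtype.coprod ((Fintype.linearCombination k x).coprod (Fintype.linearCombination k e)),
        fun p => by
          rw [LinearMap.coprod_apply, LinearMap.coprod_apply, Fintype.linearCombination_apply,
            Fintype.linearCombination_apply]
          rfl⟩
    have hRle : R ≤ W := by rw [hR]; exact inf_le_left
    have hRo : R ≤ LinearMap.BilinForm.orthogonal B W := by rw [hR]; exact inf_le_right
    have hRW : ∀ p : ↥R, (p : Fin n → k) ∈ W := fun p => hRle p.2
    have hpe : ∀ (p : ↥R × ((Fin m → k) × (Fin m → k))) (j : Fin m),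
        B (Φ p) (e j) = p.2.1 j := by
      intro p j
      have h1 : B (p.1 : Fin n → k) (e j) = 0 := by
        rw [hBs]
        exact ((hWmem _).mp (hRW p.1)).2.2 j
      rw [hΦ, map_add, map_add, LinearMap.add_apply, LinearMap.add_apply, h1, zero_add, map_sum,
        map_sum, LinearMap.sum_apply, LinearMap.sum_apply, Finset.sum_eq_single j,
        Finset.sum_eq_zero]
      · rw [map_smul, LinearMap.smul_apply, hBa, (hg j j).2.2, if_pos rfl, smul_eq_mul, mul_one,
          add_zero]
      · intro i _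
        rw [map_smul, LinearMap.smul_apply, hBa, (hg i j).2.1, smul_zero]
      · intro i _ hij
        rw [map_smul, LinearMap.smul_apply, hBa, (hg i j).2.2, if_neg hij, smul_zero]
      · intro hj
        exact absurd (Finset.mem_univ j) hj
    have hpx : ∀ (p : ↥R × ((Fin m → k) × (Fin m → k))) (j : Fin m),
        B (Φ p) (x j) = p.2.2 j := by
      intro p j
      have h1 : B (p.1 : Fin n → k) (x j) = 0 := by
        rw [hBs]
        exact ((hWmem _).mp (hRW p.1)).2.1 j
      rw [hΦ, map_add, map_add, LinearMap.add_apply, LinearMap.add_apply, h1, zero_add, map_sum,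
        map_sum, LinearMap.sum_apply, LinearMap.sum_apply, Finset.sum_eq_zero,
        Finset.sum_eq_single j]
      · rw [map_smul, LinearMap.smul_apply, hBs, hBa, (hg j j).2.2, if_pos rfl, smul_eq_mul,
          mul_one, zero_add]
      · intro i _ hij
        rw [map_smul, LinearMap.smul_apply, hBs, hBa, (hg j i).2.2, if_neg (Ne.symm hij),
          smul_zero]
      · intro hj
        exact absurd (Finset.mem_univ j) hj
      · intro i _
        rw [map_smul, LinearMap.smul_apply, hBa, (hg i j).1, smul_zero]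
    have hmem : ∀ p, Φ p ∈ LinearMap.BilinForm.orthogonal B W := by
      intro p
      rw [LinearMap.BilinForm.mem_orthogonal_iff]
      intro y hy
      change B y (Φ p) = 0
      obtain ⟨-, hyx, hye⟩ := (hWmem y).mp hy
      have h1 : B y (p.1 : Fin n → k) = 0 := by
        have h2 := hRo p.1.2
        rw [LinearMap.BilinForm.mem_orthogonal_iff] at h2
        exact h2 y hy
      rw [hΦ, map_add, map_add, h1, zero_add, map_sum, map_sum, Finset.sum_eq_zero,
        Finset.sum_eq_zero, add_zero]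
      · intro i _
        rw [map_smul, hBs, hye i, smul_zero]
      · intro i _
        rw [map_smul, hBs, hyx i, smul_zero]
    have hinj : Function.Injective
        (Φ.codRestrict (LinearMap.BilinForm.orthogonal B W) hmem) := by
      rw [← LinearMap.ker_eq_bot, LinearMap.ker_eq_bot']
      intro p hp
      have hp0 : Φ p = 0 := by
        have := congrArg Subtype.val hp
        simpa using this
      have hs : p.2.1 = 0 := by
        funext j
        rw [← hpe p j, hp0, map_zero, LinearMap.zero_apply]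
        rfl
      have ht : p.2.2 = 0 := by
        funext j
        rw [← hpx p j, hp0, map_zero, LinearMap.zero_apply]
        rfl
      have hρ : (p.1 : Fin n → k) = 0 := by
        have h1 := hΦ p
        rw [hp0, hs, ht] at h1
        simpa using h1.symm
      apply Prod.ext
      · exact Subtype.ext hρ
      · exact Prod.ext hs ht
    have h1 := LinearMap.finrank_le_finrank_of_injective hinj
    rw [Module.finrank_prod, Module.finrank_prod, Module.finrank_fintype_fun_eq_card,
      Fintype.card_fin, hdO] at h1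
    exact h1
  -- a complement of the radical inside `W`
  obtain ⟨C, hC⟩ := Submodule.exists_isCompl R
  have hdC : finrank k R + finrank k C = n := by
    have := Submodule.finrank_add_eq_of_isCompl hC
    rwa [Module.finrank_fintype_fun_eq_card, Fintype.card_fin] at this
  have hdWC : 3 ≤ finrank k ↥(W ⊓ C) := by
    have h1 := Submodule.finrank_sup_add_finrank_inf_eq W C
    have h2 : finrank k ↥(W ⊔ C) ≤ n := by
      have := Submodule.finrank_le (W ⊔ C)
      rwa [Module.finrank_fintype_fun_eq_card, Fintype.card_fin] at this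
    have h3 : finrank k W ≤ n := by
      have := Submodule.finrank_le W
      rwa [Module.finrank_fintype_fun_eq_card, Fintype.card_fin] at this
    omega
  obtain ⟨x', hx'S, hx'0, hx'Q⟩ := PureSingularQ.exists_singular_in_Q Q₀ (W ⊓ C) hdWC
  obtain ⟨hx'W, hx'C⟩ := Submodule.mem_inf.mp hx'S
  have hx'R : x' ∉ R := by
    intro hx'R
    apply hx'0
    have : x' ∈ R ⊓ C := Submodule.mem_inf.mpr ⟨hx'R, hx'C⟩
    rw [hC.inf_eq_bot] at this
    exact (Submodule.mem_bot k).mp this
  have hex : ∃ w ∈ W, B w x' ≠ 0 := by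
    by_contra hcon
    push Not at hcon
    apply hx'R
    rw [hR]
    refine Submodule.mem_inf.mpr ⟨hx'W, ?_⟩
    rw [LinearMap.BilinForm.mem_orthogonal_iff]
    intro y hy
    exact hcon y hy
  obtain ⟨w, hwW, hwx⟩ := hex
  obtain ⟨b, hb⟩ : ∃ b : k, b = polar Q₀ x' w := ⟨_, rfl⟩
  have hb0 : b ≠ 0 := by
    rw [hb, polar_comm, ← hBa]
    exact hwx
  obtain ⟨e₁, he₁⟩ : ∃ e₁ : Fin n → k, e₁ = b⁻¹ • w := ⟨_, rfl⟩
  have he₁W : e₁ ∈ W := by
    rw [he₁]
    exact W.smul_mem _ hwW
  have hxe₁ : polar Q₀ x' e₁ = 1 := by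
    rw [he₁, polar_smul_right, ← hb, smul_eq_mul, inv_mul_cancel₀ hb0]
  obtain ⟨e', he'⟩ : ∃ e' : Fin n → k, e' = e₁ - Q₀ e₁ • x' := ⟨_, rfl⟩
  have he'W : e' ∈ W := by
    rw [he']
    exact W.sub_mem he₁W (W.smul_mem _ hx'W)
  have hxx' : polar Q₀ x' x' = 0 := by
    rw [polar_self, hx'Q, smul_zero]
  have hQe' : Q₀ e' = 0 := by
    have h1 : Q₀ (e₁ - Q₀ e₁ • x') = Q₀ e₁ + Q₀ (-(Q₀ e₁ • x')) + polar Q₀ e₁ (-(Q₀ e₁ • x')) := by
      rw [sub_eq_add_neg]
      unfold polar
      ring
    rw [he', h1, QuadraticMap.map_neg, QuadraticMap.map_smul, hx'Q, polar_neg_right,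
      polar_smul_right, polar_comm, hxe₁]
    simp
  have hxe' : polar Q₀ x' e' = 1 := by
    rw [he', polar_sub_right, polar_smul_right, hxx', hxe₁]
    simp
  obtain ⟨hx'r, hx'x, hx'e⟩ := (hWmem x').mp hx'W
  obtain ⟨he'r, he'x, he'e⟩ := (hWmem e').mp he'W
  refine ⟨x', e', hx'Q, hQe', hxe', fun j => ⟨?_, ?_⟩, fun j => ⟨?_, ?_, ?_, ?_⟩⟩
  · rw [← hBa, hBs]; exact hx'r j
  · rw [← hBa, hBs]; exact he'r j
  · rw [← hBa, hBs]; exact hx'x j
  · rw [← hBa, hBs]; exact hx'e j
  · rw [← hBa, hBs]; exact he'x j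
  · rw [← hBa, hBs]; exact he'e j

/-- `m` mutually orthogonal hyperbolic pairs orthogonal to `c` given vectors, if
`2 m + 2 c + 1 ≤ n` -/
theorem exists_hyp_family [Finite k] (Q₀ : QuadraticForm k (Fin n → k))
    (hnd : ∀ v : Fin n → k, v ≠ 0 → ∃ x, polar Q₀ v x ≠ 0)
    {c : ℕ} (r : Fin c → Fin n → k) (m : ℕ) (hm : 2 * m + 2 * c + 1 ≤ n) :
    ∃ x e : Fin m → Fin n → k,
      (∀ i j, polar Q₀ (x i) (r j) = 0 ∧ polar Q₀ (e i) (r j) = 0) ∧
      (∀ i, Q₀ (x i) = 0 ∧ Q₀ (e i) = 0) ∧
      (∀ i j, polar Q₀ (x i) (x j) = 0 ∧ polar Q₀ (e i) (e j) = 0 ∧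
        polar Q₀ (x i) (e j) = if i = j then 1 else 0) := by
  induction m with
  | zero =>
    exact ⟨fun i => i.elim0, fun i => i.elim0, fun i => i.elim0, fun i => i.elim0,
      fun i => i.elim0⟩
  | succ m ih =>
    obtain ⟨x, e, hr, hQ, hg⟩ := ih (by omega)
    obtain ⟨x', e', hx'Q, he'Q, hx'e', hr', hp'⟩ := exists_next_pair Q₀ hnd r x e hg (by omega)
    have hx'x' : polar Q₀ x' x' = 0 := by rw [polar_self, hx'Q, smul_zero]
    have he'e' : polar Q₀ e' e' = 0 := by rw [polar_self, he'Q, smul_zero]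
    refine ⟨Fin.snoc x x', Fin.snoc e e', ?_, ?_, ?_⟩
    · intro i j
      refine Fin.lastCases ?_ (fun i' => ?_) i
      · rw [Fin.snoc_last, Fin.snoc_last]; exact hr' j
      · rw [Fin.snoc_castSucc, Fin.snoc_castSucc]; exact hr i' j
    · intro i
      refine Fin.lastCases ?_ (fun i' => ?_) i
      · rw [Fin.snoc_last, Fin.snoc_last]; exact ⟨hx'Q, he'Q⟩
      · rw [Fin.snoc_castSucc, Fin.snoc_castSucc]; exact hQ i'
    · intro i j
      refine Fin.lastCases ?_ (fun i' => ?_) i <;> refine Fin.lastCases ?_ (fun j' => ?_) j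
      · simp only [Fin.snoc_last, if_true]
        exact ⟨hx'x', he'e', hx'e'⟩
      · simp only [Fin.snoc_last, Fin.snoc_castSucc]
        have hne : ¬ (Fin.last m = Fin.castSucc j') := (Fin.castSucc_lt_last j').ne'
        rw [if_neg hne]
        exact ⟨(hp' j').1, (hp' j').2.2.2, (hp' j').2.1⟩
      · simp only [Fin.snoc_last, Fin.snoc_castSucc]
        have hne : ¬ (Fin.castSucc i' = Fin.last m) := (Fin.castSucc_lt_last i').ne
        rw [if_neg hne]
        refine ⟨?_, ?_, ?_⟩
        · rw [polar_comm]; exact (hp' i').1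
        · rw [polar_comm]; exact (hp' i').2.2.2
        · rw [polar_comm]; exact (hp' i').2.2.1
      · simp only [Fin.snoc_castSucc, Fin.castSucc_inj]
        exact hg i' j'

end Cfsg.Agent.Lib.Helper10.HypFam
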