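import Mathlib
import Cfsg.Agent.Lib.Helper10.HypFam

/-!
# Geometry of a quadratic form with nondegenerate polar form over a finite field, any characteristic

Consequences of `HypFam.exists_hyp_family` (`m` mutually orthogonal hyperbolic pairs orthogonal to
`c` given vectors if `2 m + 2 c + 1 ≤ n`).  "Singular" means `Q₀ c = 0`.
-/

set_option autoImplicit false
set_option linter.unusedSectionVars false
set_option linter.unusedVariables false

namespace Cfsg.Agent.Lib.Helper10.QGeo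

open Module QuadraticMap Cfsg.Agent.Lib.Helper10.HypFam

variable {k : Type*} [Field k] [Finite k] {n : ℕ}

theorem Q_add (Q₀ : QuadraticForm k (Fin n → k)) (x y : Fin n → k) :
    Q₀ (x + y) = Q₀ x + Q₀ y + polar Q₀ x y := by
  unfold polar
  ring

/-- a hyperbolic pair -/
theorem exists_hyp_pair (Q₀ : QuadraticForm k (Fin n → k))
    (hnd : ∀ v : Fin n → k, v ≠ 0 → ∃ x, polar Q₀ v x ≠ 0) (hn : 3 ≤ n) :
    ∃ u v : Fin n → k, Q₀ u = 0 ∧ Q₀ v = 0 ∧ polar Q₀ u v = 1 := by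
  obtain ⟨x, e, -, hQ, hg⟩ := exists_hyp_family Q₀ hnd (c := 0) (fun i => i.elim0) 1 (by omega)
  exact ⟨x 0, e 0, (hQ 0).1, (hQ 0).2, by simpa using (hg 0 0).2.2⟩

/-- a hyperbolic pair orthogonal to a vector -/
theorem exists_hyp_pair_perp1 (Q₀ : QuadraticForm k (Fin n → k))
    (hnd : ∀ v : Fin n → k, v ≠ 0 → ∃ x, polar Q₀ v x ≠ 0) (hn : 5 ≤ n) (z : Fin n → k) :
    ∃ c e : Fin n → k, Q₀ c = 0 ∧ Q₀ e = 0 ∧ polar Q₀ c e = 1 ∧ polar Q₀ c z = 0 ∧
      polar Q₀ e z = 0 := by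
  obtain ⟨x, e, hr, hQ, hg⟩ := exists_hyp_family Q₀ hnd (c := 1) (fun _ => z) 1 (by omega)
  exact ⟨x 0, e 0, (hQ 0).1, (hQ 0).2, by simpa using (hg 0 0).2.2, (hr 0 0).1, (hr 0 0).2⟩

/-- a hyperbolic pair orthogonal to two vectors -/
theorem exists_hyp_pair_perp2 (Q₀ : QuadraticForm k (Fin n → k))
    (hnd : ∀ v : Fin n → k, v ≠ 0 → ∃ x, polar Q₀ v x ≠ 0) (hn : 7 ≤ n) (z c : Fin n → k) :
    ∃ d d' : Fin n → k, Q₀ d = 0 ∧ Q₀ d' = 0 ∧ polar Q₀ d d' = 1 ∧ polar Q₀ d z = 0 ∧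
      polar Q₀ d c = 0 ∧ polar Q₀ d' z = 0 ∧ polar Q₀ d' c = 0 := by
  obtain ⟨x, e, hr, hQ, hg⟩ := exists_hyp_family Q₀ hnd (c := 2) ![z, c] 1 (by omega)
  refine ⟨x 0, e 0, (hQ 0).1, (hQ 0).2, by simpa using (hg 0 0).2.2, ?_, ?_, ?_, ?_⟩
  · simpa using (hr 0 0).1
  · simpa using (hr 0 1).1
  · simpa using (hr 0 0).2
  · simpa using (hr 0 1).2

/-- two mutually orthogonal hyperbolic pairs orthogonal to a family of vectors -/
theorem exists_two_hyp (Q₀ : QuadraticForm k (Fin n → k))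
    (hnd : ∀ v : Fin n → k, v ≠ 0 → ∃ x, polar Q₀ v x ≠ 0) {c : ℕ} (hn : 2 * c + 5 ≤ n)
    (v : Fin c → Fin n → k) :
    ∃ x x' e e' : Fin n → k,
      (∀ i, polar Q₀ x (v i) = 0 ∧ polar Q₀ x' (v i) = 0 ∧ polar Q₀ e (v i) = 0 ∧
        polar Q₀ e' (v i) = 0) ∧
      Q₀ x = 0 ∧ Q₀ x' = 0 ∧ Q₀ e = 0 ∧ Q₀ e' = 0 ∧ polar Q₀ x x' = 0 ∧ polar Q₀ x e = 1 ∧
      polar Q₀ x' e = 0 ∧ polar Q₀ x e' = 0 ∧ polar Q₀ x' e' = 1 ∧ polar Q₀ e e' = 0 := by
  obtain ⟨x, e, hr, hQ, hg⟩ := exists_hyp_family Q₀ hnd v 2 (by omega)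
  refine ⟨x 0, x 1, e 0, e 1, fun i => ⟨(hr 0 i).1, (hr 1 i).1, (hr 0 i).2, (hr 1 i).2⟩,
    (hQ 0).1, (hQ 1).1, (hQ 0).2, (hQ 1).2, (hg 0 1).1, ?_, ?_, ?_, ?_, (hg 0 1).2.1⟩
  · simpa using (hg 0 0).2.2
  · simpa using (hg 1 0).2.2
  · simpa using (hg 0 1).2.2
  · simpa using (hg 1 1).2.2

/-- For singular `z`, every `x ⟂ z` is a combination of singular vectors `⟂ z`. -/
theorem span_singular_perp (Q₀ : QuadraticForm k (Fin n → k))
    (hnd : ∀ v : Fin n → k, v ≠ 0 → ∃ x, polar Q₀ v x ≠ 0) (hn : 5 ≤ n) (z : Fin n → k)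
    (x : Fin n → k) (hx : polar Q₀ x z = 0) :
    x ∈ Submodule.span k {c : Fin n → k | Q₀ c = 0 ∧ polar Q₀ c z = 0} := by
  obtain ⟨s, t, hs, ht, hst, hsz, htz⟩ := exists_hyp_pair_perp1 Q₀ hnd hn z
  have hts : polar Q₀ t s = 1 := by rw [polar_comm]; exact hst
  obtain ⟨a, ha⟩ : ∃ a : k, a = polar Q₀ x t := ⟨_, rfl⟩
  obtain ⟨b, hb⟩ : ∃ b : k, b = polar Q₀ x s := ⟨_, rfl⟩
  obtain ⟨x', hx'⟩ : ∃ x' : Fin n → k, x' = x - a • s - b • t := ⟨_, rfl⟩
  have hss : polar Q₀ s s = 0 := by rw [polar_self, hs, smul_zero]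
  have htt : polar Q₀ t t = 0 := by rw [polar_self, ht, smul_zero]
  have hx's : polar Q₀ x' s = 0 := by
    rw [hx', polar_sub_left, polar_sub_left, polar_smul_left, polar_smul_left, hss, hts, ← hb]
    simp
  have hx't : polar Q₀ x' t = 0 := by
    rw [hx', polar_sub_left, polar_sub_left, polar_smul_left, polar_smul_left, htt, hst, ← ha]
    simp
  have hx'z : polar Q₀ x' z = 0 := by
    rw [hx', polar_sub_left, polar_sub_left, polar_smul_left, polar_smul_left, hsz, htz, hx]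
    simp
  obtain ⟨y, hy⟩ : ∃ y : Fin n → k, y = x' + s - Q₀ x' • t := ⟨_, rfl⟩
  have hyQ : Q₀ y = 0 := by
    have h1 : y = x' + (s + (-(Q₀ x')) • t) := by rw [hy]; module
    rw [h1, Q_add, Q_add, QuadraticMap.map_smul, ht, hs, polar_add_right, polar_smul_right,
      polar_smul_right, hx's, hx't, hst]
    simp
  have hyz : polar Q₀ y z = 0 := by
    rw [hy, polar_sub_left, polar_add_left, polar_smul_left, hx'z, hsz, htz]
    simp
  have hxe : x = y + (a - 1) • s + (b + Q₀ x') • t := by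
    rw [hy, hx']; module
  rw [hxe]
  refine Submodule.add_mem _ (Submodule.add_mem _ (Submodule.subset_span ⟨hyQ, hyz⟩)
    (Submodule.smul_mem _ _ (Submodule.subset_span ⟨hs, hsz⟩)))
    (Submodule.smul_mem _ _ (Submodule.subset_span ⟨ht, htz⟩))

/-- a singular partner (any field) -/
theorem exists_partner {k : Type*} [Field k] {n : ℕ} (Q₀ : QuadraticForm k (Fin n → k))
    (hnd : ∀ v : Fin n → k, v ≠ 0 → ∃ x, polar Q₀ v x ≠ 0)
    (u c c' : Fin n → k) (hcc : Q₀ c = 0) (huc : polar Q₀ u c = 0)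
    (hc'c : polar Q₀ c' c = 0) (hind : ∀ k₁ k₂ : k, c ≠ k₁ • u + k₂ • c') :
    ∃ f : Fin n → k, Q₀ f = 0 ∧ polar Q₀ c f = 1 ∧ polar Q₀ u f = 0 ∧ polar Q₀ c' f = 0 := by
  classical
  obtain ⟨B, hB⟩ : ∃ B : (Fin n → k) →ₗ[k] (Fin n → k) →ₗ[k] k, B = polarBilin Q₀ := ⟨_, rfl⟩
  have hBa : ∀ u v, B u v = polar Q₀ u v := by
    intro u v
    rw [hB, polarBilin_apply_apply]
  have hBnd : LinearMap.BilinForm.Nondegenerate B := by
    rw [hB]
    exact polarBilin_nondeg Q₀ hnd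
  -- `c ∉ span {u, c'}`, so some functional kills `u, c'` and not `c`; Riesz
  have hcn : c ∉ Submodule.span k {u, c'} := by
    intro hmem
    rw [Submodule.mem_span_pair] at hmem
    obtain ⟨a, b, hab⟩ := hmem
    exact hind a b hab.symm
  obtain ⟨φ, hφc, hφ⟩ := Submodule.exists_le_ker_of_notMem hcn
  have hφu : φ u = 0 := by
    have : u ∈ LinearMap.ker φ := hφ (Submodule.subset_span (by simp))
    simpa using this
  have hφc' : φ c' = 0 := by
    have : c' ∈ LinearMap.ker φ := hφ (Submodule.subset_span (by simp))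
    simpa using this
  -- represent `φ` by a vector
  obtain ⟨e₁, he₁⟩ : ∃ e₁ : Fin n → k, ∀ y, B y e₁ = φ y := by
    have hsurj : Function.Surjective (B.flip : (Fin n → k) →ₗ[k] Dual k (Fin n → k)) := by
      have hinj : Function.Injective (B.flip : (Fin n → k) →ₗ[k] Dual k (Fin n → k)) := by
        rw [← LinearMap.ker_eq_bot, LinearMap.ker_eq_bot']
        intro y hy
        apply hBnd.2 y
        intro x
        have := LinearMap.congr_fun hy x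
        simpa using this
      exact (LinearMap.injective_iff_surjective_of_finrank_eq_finrank
        (Subspace.dual_finrank_eq).symm).1 hinj
    obtain ⟨e₁, he₁⟩ := hsurj φ
    exact ⟨e₁, fun y => by rw [← he₁]; rfl⟩
  obtain ⟨e₀, he₀⟩ : ∃ e₀ : Fin n → k, e₀ = (φ c)⁻¹ • e₁ := ⟨_, rfl⟩
  have h1 : polar Q₀ c e₀ = 1 := by
    rw [he₀, polar_smul_right, ← hBa, he₁, smul_eq_mul, inv_mul_cancel₀ hφc]
  have h2 : polar Q₀ u e₀ = 0 := by
    rw [he₀, polar_smul_right, ← hBa, he₁, hφu, smul_zero]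
  have h3 : polar Q₀ c' e₀ = 0 := by
    rw [he₀, polar_smul_right, ← hBa, he₁, hφc', smul_zero]
  have hccp : polar Q₀ c c = 0 := by rw [polar_self, hcc, smul_zero]
  refine ⟨e₀ + (-(Q₀ e₀)) • c, ?_, ?_, ?_, ?_⟩
  · have : Q₀ (e₀ + (-(Q₀ e₀)) • c) = Q₀ e₀ + Q₀ ((-(Q₀ e₀)) • c) + polar Q₀ e₀ ((-(Q₀ e₀)) • c) := by
      unfold polar; ring
    rw [this, QuadraticMap.map_smul, hcc, polar_smul_right, polar_comm, h1]
    simp
  · rw [polar_add_right, polar_smul_right, hccp, h1]; simp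
  · rw [polar_add_right, polar_smul_right, huc, h2]; simp
  · rw [polar_add_right, polar_smul_right, hc'c, h3]; simp

end Cfsg.Agent.Lib.Helper10.QGeo
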