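import Mathlib
import Cfsg.Agent.Lib.Helper10.QGeo
import Cfsg.Agent.Lib.Helper10.PureSingularQ

/-!
# S5702 FO-G1, FO-G2, FO-G3, FO-G4, FO-PURE (for helper1): quadratic forms with nondegenerate polar
form over a finite field, any characteristic
-/

set_option autoImplicit false
set_option linter.unusedSectionVars false
set_option linter.unusedVariables false

namespace Cfsg.Agent.Lib.Helper10.S5702FOG

open Matrix Module QuadraticMap Cfsg.Agent.Lib.Helper13 Cfsg.Agent.Lib.Helper10.OrthoFam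
  Cfsg.Agent.Lib.Helper10.HypFam Cfsg.Agent.Lib.Helper10.QGeo

section geomK
variable {k : Type*} [Field k] {n : ℕ} {q₀ : QuadraticForm k (Fin n → k)}

/-- pointwise form of nondegeneracy -/
theorem hnd_of_nondeg (h : (polarBilin q₀).Nondegenerate) :
    ∀ v : Fin n → k, v ≠ 0 → ∃ x, polar q₀ v x ≠ 0 := by
  intro v hv
  by_contra hcon
  push Not at hcon
  exact hv (h.1 v (fun y => hcon y))

variable [Finite k]

/-- FO-G1. -/
theorem span_singular_perp (h : (polarBilin q₀).Nondegenerate) (hn : 6 ≤ n) (z : Fin n → k)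
    (hz0 : z ≠ 0) (hzz : q₀ z = 0) (x : Fin n → k) (hx : polarBilin q₀ x z = 0) :
    x ∈ Submodule.span k {c : Fin n → k | q₀ c = 0 ∧ polarBilin q₀ c z = 0} :=
  QGeo.span_singular_perp q₀ (hnd_of_nondeg h) (by omega) z x hx

/-- FO-G2. -/
theorem exists_dd (h : (polarBilin q₀).Nondegenerate) (hn : 5 ≤ n) (z c : Fin n → k) :
    ∃ d d' : Fin n → k, polarBilin q₀ d z = 0 ∧ polarBilin q₀ d c = 0 ∧ polarBilin q₀ d' z = 0 ∧
      polarBilin q₀ d' c = 0 ∧ polarBilin q₀ d d' = 1 := by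
  classical
  obtain ⟨B, hB⟩ : ∃ B : (Fin n → k) →ₗ[k] (Fin n → k) →ₗ[k] k, B = polarBilin q₀ := ⟨_, rfl⟩
  have hBs : ∀ u v, B u v = B v u := by
    intro u v
    rw [hB, polarBilin_apply_apply, polarBilin_apply_apply, polar_comm]
  have hBnd : LinearMap.BilinForm.Nondegenerate B := by rw [hB]; exact h
  rw [← hB]
  obtain ⟨W, hW⟩ : ∃ W : Submodule k (Fin n → k),
      W = ⊤ ⊓ LinearMap.ker (evalFam B ![z, c]) := ⟨_, rfl⟩
  have hWmem : ∀ w, w ∈ W ↔ B z w = 0 ∧ B c w = 0 := by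
    intro w
    rw [hW]
    simp only [Submodule.mem_inf, Submodule.mem_top, true_and, mem_ker_evalFam]
    constructor
    · intro hh
      exact ⟨by simpa using hh 0, by simpa using hh 1⟩
    · rintro ⟨h0, h1⟩ i
      fin_cases i
      · simpa using h0
      · simpa using h1
  have hdW : n ≤ finrank k W + 2 := by
    have h1 := finrank_inf_ker_evalFam (B := B) ⊤ ![z, c]
    rw [finrank_top, Module.finrank_fintype_fun_eq_card, Fintype.card_fin] at h1
    rw [hW]
    exact h1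
  have hdO : finrank k ↥(LinearMap.BilinForm.orthogonal B W) = n - finrank k W := by
    rw [LinearMap.BilinForm.finrank_orthogonal hBnd, Module.finrank_fintype_fun_eq_card,
      Fintype.card_fin]
  have hex : ∃ d ∈ W, ∃ d' ∈ W, B d d' ≠ 0 := by
    by_contra hcon
    push Not at hcon
    have hle : W ≤ LinearMap.BilinForm.orthogonal B W := by
      intro y hy
      rw [LinearMap.BilinForm.mem_orthogonal_iff]
      intro w hw
      exact hcon w hw y hy
    have h1 := Submodule.finrank_mono hle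
    have h3 : finrank k W ≤ n := by
      have := Submodule.finrank_le W
      rwa [Module.finrank_fintype_fun_eq_card, Fintype.card_fin] at this
    omega
  obtain ⟨d, hdW', d', hd'W, hdd'⟩ := hex
  obtain ⟨hdz, hdc⟩ := (hWmem d).mp hdW'
  obtain ⟨hd'z, hd'c⟩ := (hWmem d').mp hd'W
  refine ⟨d, (B d d')⁻¹ • d', ?_, ?_, ?_, ?_, ?_⟩
  · rw [hBs]; exact hdz
  · rw [hBs]; exact hdc
  · rw [map_smul, LinearMap.smul_apply, hBs d' z, hd'z, smul_zero]
  · rw [map_smul, LinearMap.smul_apply, hBs d' c, hd'c, smul_zero]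
  · rw [map_smul, smul_eq_mul, inv_mul_cancel₀ hdd']

/-- FO-G3. -/
theorem exists_cedd (h : (polarBilin q₀).Nondegenerate) (hn : 13 ≤ n) (r : Fin 4 → Fin n → k) :
    ∃ c e d d' : Fin n → k, (∀ i, polarBilin q₀ c (r i) = 0 ∧ polarBilin q₀ e (r i) = 0 ∧
      polarBilin q₀ d (r i) = 0 ∧ polarBilin q₀ d' (r i) = 0) ∧
      q₀ c = 0 ∧ polarBilin q₀ c e = 1 ∧ polarBilin q₀ d c = 0 ∧ polarBilin q₀ d' c = 0 ∧
      polarBilin q₀ d d' = 1 := by
  obtain ⟨x, x', e, e', hr, hx, hx', he, he', hxx', hxe, hx'e, hxe', hx'e', hee'⟩ :=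
    QGeo.exists_two_hyp q₀ (hnd_of_nondeg h) (c := 4) (by omega) r
  refine ⟨x, e, x', e', fun i => ⟨(hr i).1, (hr i).2.2.1, (hr i).2.1, (hr i).2.2.2⟩, hx, hxe,
    ?_, ?_, hx'e'⟩
  · rw [polarBilin_apply_apply, polar_comm]; exact hxx'
  · rw [polarBilin_apply_apply, polar_comm]; exact hxe'

/-- FO-G4. -/
theorem exists_two_hyp (h : (polarBilin q₀).Nondegenerate) (hn : 13 ≤ n) (v : Fin 4 → Fin n → k) :
    ∃ x x' e e' : Fin n → k, (∀ i, polarBilin q₀ x (v i) = 0 ∧ polarBilin q₀ x' (v i) = 0 ∧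
      polarBilin q₀ e (v i) = 0 ∧ polarBilin q₀ e' (v i) = 0) ∧
      q₀ x = 0 ∧ q₀ x' = 0 ∧ polarBilin q₀ x x' = 0 ∧ polarBilin q₀ x e = 1 ∧
      polarBilin q₀ x' e = 0 ∧ polarBilin q₀ x e' = 0 ∧ polarBilin q₀ x' e' = 1 := by
  obtain ⟨x, x', e, e', hr, hx, hx', he, he', hxx', hxe, hx'e, hxe', hx'e', hee'⟩ :=
    QGeo.exists_two_hyp q₀ (hnd_of_nondeg h) (c := 4) (by omega) v
  exact ⟨x, x', e, e', hr, hx, hx', hxx', hxe, hx'e, hxe', hx'e'⟩

end geomK

universe u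
variable {F : Type u} [Field F] {n : ℕ}

/-- FO-PURE. -/
theorem exists_rational_of_pure_singular2 (hn : 5 ≤ n) (K : Subfield F) [Finite K]
    (q₀ : QuadraticForm K (Fin n → K)) (hq : (polarBilin q₀).Nondegenerate) (A : GL (Fin n) F)
    (hA : ∀ u : Fin n → K, q₀ u = 0 → ∃ (l : F) (r : Fin n → K),
      (A : Matrix (Fin n) (Fin n) F) *ᵥ rvec K u = l • rvec K r) :
    ∃ (l : F) (Bm : Matrix (Fin n) (Fin n) K), l ≠ 0 ∧
      (A : Matrix (Fin n) (Fin n) F) = l • rmat K Bm :=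
  PureSingularQ.exists_rational_of_pure_singular hn K q₀
    (fun v hv _ => hnd_of_nondeg hq v hv) A hA

end Cfsg.Agent.Lib.Helper10.S5702FOG
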