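import Mathlib
import Cfsg.Agent.Lib.Helper13.SymForm
import Cfsg.Agent.Lib.Helper13.SubfField

/-!
# Purity on singular vectors

`K` a finite subfield of `F`, `B` a nondegenerate symmetric bilinear form on `K^n` (odd
characteristic, `n ≥ 5`).  An invertible matrix over `F` which maps every `K`-rational *singular*
vector to a multiple of a `K`-rational vector is a scalar multiple of a `K`-rational matrix.
(Singular-vector version of `Cfsg.Agent.Lib.Helper13.exists_rational_of_pure`.)
-/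

set_option autoImplicit false

namespace Cfsg.Agent.Lib.Helper10.PureSingular

open Matrix Module Cfsg.Agent.Lib.Helper13

section
variable {F : Type*} [Field F] {n : ℕ}

/-- one step: from a singular `v ≠ 0` with `A v ∈ l₀ • K^n` to an orthogonal singular `u` -/
theorem step (K : Subfield F) (B : (Fin n → K) →ₗ[K] (Fin n → K) →ₗ[K] K) (hB : IsS B)
    (A : GL (Fin n) F)
    (hA : ∀ u : Fin n → K, B u u = 0 → ∃ (l : F) (r : Fin n → K),
      (A : Matrix (Fin n) (Fin n) F) *ᵥ rvec K u = l • rvec K r)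
    (l₀ : F) (hl₀ : l₀ ≠ 0) (v rv : Fin n → K) (hv0 : v ≠ 0) (hvv : B v v = 0)
    (hv : (A : Matrix (Fin n) (Fin n) F) *ᵥ rvec K v = l₀ • rvec K rv)
    (u : Fin n → K) (huu : B u u = 0) (huv : B u v = 0) :
    ∃ r : Fin n → K, (A : Matrix (Fin n) (Fin n) F) *ᵥ rvec K u = l₀ • rvec K r := by
  have hinjA : ∀ x y : Fin n → F, A.val *ᵥ x = A.val *ᵥ y → x = y := by
    intro x y hxy
    have := congrArg (fun w => (A⁻¹ : GL (Fin n) F).val *ᵥ w) hxy
    simpa [mulVec_mulVec, ← Units.val_mul] using this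
  have hsum : B (u + v) (u + v) = 0 := by
    simp only [map_add, LinearMap.add_apply, huu, hvv, huv, hB.symm v u, add_zero]
  obtain ⟨μ, r, hu⟩ := hA u huu
  obtain ⟨ν, s, hus⟩ := hA (u + v) hsum
  rw [rvec_add, mulVec_add, hu, hv] at hus
  by_cases hD : ∃ k l : Fin n, r k * rv l - r l * rv k ≠ 0
  · obtain ⟨k, l, hkl⟩ := hD
    have hk := congrFun hus k
    have hl := congrFun hus l
    simp only [Pi.add_apply, Pi.smul_apply, smul_eq_mul, rvec] at hk hl
    obtain ⟨d, hd⟩ : ∃ d : K, d = rv k * r l - rv l * r k := ⟨_, rfl⟩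
    obtain ⟨X, hX⟩ : ∃ X : K, X = s k * r l - s l * r k := ⟨_, rfl⟩
    have hkey : ν * (X : F) = l₀ * (d : F) := by
      rw [hX, hd]
      push_cast
      linear_combination (r k : F) * hl - (r l : F) * hk
    have hd0 : d ≠ 0 := by
      rw [hd]
      intro h0
      apply hkl
      linear_combination -h0
    have hX0 : (X : F) ≠ 0 := by
      intro h0
      rw [h0, mul_zero] at hkey
      have h1 : (d : F) = 0 := by
        rcases mul_eq_zero.mp hkey.symm with h1 | h1
        · exact absurd h1 hl₀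
        · exact h1
      exact hd0 (by exact_mod_cast h1)
    have hν : ν = l₀ * ((d / X : K) : F) := by
      rw [Subfield.coe_div, mul_div_assoc', eq_div_iff hX0]
      exact hkey
    refine ⟨(d / X) • s - rv, ?_⟩
    rw [hu]
    have h3 : μ • rvec K r = ν • rvec K s - l₀ • rvec K rv := eq_sub_of_add_eq hus
    rw [h3, hν, rvec_sub, rvec_smul, smul_sub, smul_smul]
  · push Not at hD
    have hrv : ∃ l₁, rv l₁ ≠ 0 := by
      by_contra hne
      push Not at hne
      have h1 : rv = 0 := funext hne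
      rw [h1, rvec_zero, smul_zero] at hv
      apply hv0
      apply rvec_inj K
      rw [rvec_zero]
      apply hinjA
      rw [hv, mulVec_zero]
    obtain ⟨l₁, hl₁⟩ := hrv
    obtain ⟨κ, hκ⟩ : ∃ κ : K, κ = r l₁ / rv l₁ := ⟨_, rfl⟩
    have hr : r = κ • rv := by
      funext k
      have h1 := hD k l₁
      rw [Pi.smul_apply, smul_eq_mul, hκ, div_mul_eq_mul_div, eq_div_iff hl₁]
      linear_combination h1
    have hu2 : A.val *ᵥ rvec K u = A.val *ᵥ ((μ * (κ : F) / l₀) • rvec K v) := by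
      rw [mulVec_smul, hv, hu, hr, rvec_smul, smul_smul, smul_smul]
      congr 1
      field_simp
    have hu3 := hinjA _ _ hu2
    -- a nonzero coordinate of `v`
    obtain ⟨i₁, hi₁⟩ : ∃ i₁, v i₁ ≠ 0 := by
      by_contra hne
      push Not at hne
      exact hv0 (funext hne)
    have hc : μ * (κ : F) / l₀ = ((u i₁ / v i₁ : K) : F) := by
      have h1 := congrFun hu3 i₁
      simp only [rvec, Pi.smul_apply, smul_eq_mul] at h1
      have hvi : ((v i₁ : K) : F) ≠ 0 := by
        intro h0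
        exact hi₁ (by exact_mod_cast h0)
      rw [Subfield.coe_div, eq_div_iff hvi]
      exact h1.symm
    refine ⟨(u i₁ / v i₁) • rv, ?_⟩
    rw [hu, hr, rvec_smul, rvec_smul, smul_smul, smul_smul, ← hc]
    congr 1
    field_simp

theorem exists_rational_of_pure_singular (hn : 5 ≤ n) (K : Subfield F) [Finite K]
    (B : (Fin n → K) →ₗ[K] (Fin n → K) →ₗ[K] K) (hB : IsS B) (A : GL (Fin n) F)
    (hA : ∀ u : Fin n → K, B u u = 0 → ∃ (l : F) (r : Fin n → K),
      (A : Matrix (Fin n) (Fin n) F) *ᵥ rvec K u = l • rvec K r) :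
    ∃ (l : F) (Bm : Matrix (Fin n) (Fin n) K), l ≠ 0 ∧
      (A : Matrix (Fin n) (Fin n) F) = l • rmat K Bm := by
  classical
  have hinjA : ∀ x y : Fin n → F, A.val *ᵥ x = A.val *ᵥ y → x = y := by
    intro x y hxy
    have := congrArg (fun w => (A⁻¹ : GL (Fin n) F).val *ᵥ w) hxy
    simpa [mulVec_mulVec, ← Units.val_mul] using this
  -- a nonzero singular vector
  obtain ⟨e₀, -, he₀0, he₀⟩ := exists_singular_in B (⊤ : Submodule K (Fin n → K))
    (by rw [finrank_top_fun]; omega)
  obtain ⟨l₀, r₀, h₀⟩ := hA e₀ he₀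
  have hl₀ : l₀ ≠ 0 := by
    intro h0
    rw [h0, zero_smul] at h₀
    apply he₀0
    apply rvec_inj K
    rw [rvec_zero]
    apply hinjA
    rw [h₀, mulVec_zero]
  -- all singular vectors
  have hsing : ∀ u : Fin n → K, B u u = 0 →
      ∃ r : Fin n → K, A.val *ᵥ rvec K u = l₀ • rvec K r := by
    intro u huu
    by_cases hue : B u e₀ = 0
    · exact step K B hB A hA l₀ hl₀ e₀ r₀ he₀0 he₀ h₀ u huu hue
    · -- a nonzero singular vector orthogonal to both
      have d1 := finrank_le_inf_ker_add_one' (⊤ : Submodule K (Fin n → K)) (B e₀)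
      have d2 := finrank_le_inf_ker_add_one' ((⊤ : Submodule K (Fin n → K)) ⊓ LinearMap.ker (B e₀))
        (B u)
      rw [finrank_top_fun] at d1
      obtain ⟨w, hwS, hw0, hww⟩ := exists_singular_in B
        (((⊤ : Submodule K (Fin n → K)) ⊓ LinearMap.ker (B e₀)) ⊓ LinearMap.ker (B u)) (by omega)
      simp only [Submodule.mem_inf, LinearMap.mem_ker, Submodule.mem_top, true_and] at hwS
      obtain ⟨hew, huw⟩ := hwS
      have hwe : B w e₀ = 0 := by rw [hB.symm]; exact hew
      obtain ⟨rw', hrw⟩ := step K B hB A hA l₀ hl₀ e₀ r₀ he₀0 he₀ h₀ w hww hwe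
      exact step K B hB A hA l₀ hl₀ w rw' hw0 hww hrw u huu huw
  -- all vectors
  have key : ∀ u : Fin n → K, ∃ r : Fin n → K, A.val *ᵥ rvec K u = l₀ • rvec K r := by
    intro u
    obtain ⟨x₁, x₂, h1, h2, rfl⟩ := hB.exists_iso_sum e₀ he₀0 he₀ u
    obtain ⟨r₁, hr₁⟩ := hsing x₁ h1
    obtain ⟨r₂, hr₂⟩ := hsing x₂ h2
    refine ⟨r₁ + r₂, ?_⟩
    rw [rvec_add, mulVec_add, hr₁, hr₂, rvec_add, smul_add]
  choose R hR using key
  refine ⟨l₀, fun i j => R (Pi.single j 1) i, hl₀, ?_⟩
  ext i j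
  have h2 := congrFun (hR (Pi.single j 1)) i
  rw [rvec_single, Matrix.mulVec_single_one] at h2
  rw [Matrix.smul_apply, smul_eq_mul]
  exact h2

end

end Cfsg.Agent.Lib.Helper10.PureSingular
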