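import Mathlib
import Cfsg.Agent.Lib.Helper13.SymForm
import Cfsg.Agent.Lib.Helper10.OrthoFam

/-!
# S5683 FO-G1, FO-G2, FO-G3, FO-G4 (for helper1): geometry of a nondegenerate symmetric form

All four follow from `OrthoFam.exists_ortho_family_perp` (mutually orthogonal nonsingular vectors
in the orthogonal complement of a few given vectors) and `bin_value` (binary forms over a finite
field represent everything).
-/

set_option autoImplicit false
set_option linter.unusedSectionVars false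
set_option linter.unusedVariables false

namespace Cfsg.Agent.Lib.Helper10.S5683FOG

open Matrix Cfsg.Agent.Lib.Helper13 Cfsg.Agent.Lib.Helper10.OrthoFam

section geomK
variable {k : Type*} [Field k] [Finite k] {n : ℕ} {B : (Fin n → k) →ₗ[k] (Fin n → k) →ₗ[k] k}

/-- FO-G1.  For singular `z ≠ 0`, every `x ⟂ z` is a `k`-combination of singular vectors `⟂ z`. -/
theorem span_singular_perp (h : IsS B) (hn : 6 ≤ n) (z : Fin n → k) (hz0 : z ≠ 0) (hzz : B z z = 0)
    (x : Fin n → k) (hx : B x z = 0) :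
    x ∈ Submodule.span k {c : Fin n → k | B c c = 0 ∧ B c z = 0} := by
  have := Fintype.ofFinite k
  by_cases hxx : B x x = 0
  · exact Submodule.subset_span ⟨hxx, hx⟩
  · obtain ⟨a, har, ha, hao⟩ := exists_ortho_family_perp h ![z, x] 2 (by omega)
    have h0z : B (a 0) z = 0 := by simpa using har 0 0
    have h0x : B (a 0) x = 0 := by simpa using har 0 1
    have h1z : B (a 1) z = 0 := by simpa using har 1 0
    have h1x : B (a 1) x = 0 := by simpa using har 1 1
    have h01 : B (a 0) (a 1) = 0 := hao 0 1 (by decide)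
    have h10 : B (a 1) (a 0) = 0 := hao 1 0 (by decide)
    obtain ⟨s, t, hst⟩ := bin_value h.two (B (a 0) (a 0)) (B (a 1) (a 1)) (-(B x x)) (ha 0) (ha 1)
    have hx0 : B x (a 0) = 0 := by rw [h.symm]; exact h0x
    have hx1 : B x (a 1) = 0 := by rw [h.symm]; exact h1x
    obtain ⟨y, hy⟩ : ∃ y : Fin n → k, y = s • a 0 + t • a 1 := ⟨_, rfl⟩
    have hyy : B y y = -(B x x) := by
      rw [hy]
      simp only [map_add, map_smul, LinearMap.add_apply, LinearMap.smul_apply, smul_eq_mul,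
        h01, h10]
      linear_combination hst
    have hyx : B y x = 0 := by
      rw [hy]
      simp only [map_add, map_smul, LinearMap.add_apply, LinearMap.smul_apply, smul_eq_mul,
        h0x, h1x]
      ring
    have hxy : B x y = 0 := by rw [h.symm]; exact hyx
    have hyz : B y z = 0 := by
      rw [hy]
      simp only [map_add, map_smul, LinearMap.add_apply, LinearMap.smul_apply, smul_eq_mul,
        h0z, h1z]
      ring
    have hp : x + y ∈ Submodule.span k {c : Fin n → k | B c c = 0 ∧ B c z = 0} := by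
      apply Submodule.subset_span
      constructor
      · simp only [map_add, LinearMap.add_apply, hyy, hyx, hxy]
        ring
      · simp only [map_add, LinearMap.add_apply, hx, hyz]
        ring
    have hm : x - y ∈ Submodule.span k {c : Fin n → k | B c c = 0 ∧ B c z = 0} := by
      apply Submodule.subset_span
      constructor
      · simp only [map_sub, LinearMap.sub_apply, hyy, hyx, hxy]
        ring
      · simp only [map_sub, LinearMap.sub_apply, hx, hyz]
        ring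
    have h2 := h.two
    have hxe : x = (2 : k)⁻¹ • (x + y) + (2 : k)⁻¹ • (x - y) := by
      rw [← smul_add, add_add_sub_cancel, ← two_smul k x, smul_smul, inv_mul_cancel₀ h2, one_smul]
    rw [hxe]
    exact Submodule.add_mem _ (Submodule.smul_mem _ _ hp) (Submodule.smul_mem _ _ hm)

/-- FO-G2. -/
theorem exists_dd (h : IsS B) (hn : 5 ≤ n) (z c : Fin n → k) :
    ∃ d d' : Fin n → k, B d z = 0 ∧ B d c = 0 ∧ B d' z = 0 ∧ B d' c = 0 ∧ B d d' = 1 := by
  obtain ⟨a, har, ha, hao⟩ := exists_ortho_family_perp h ![z, c] 1 (by omega)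
  have h0z : B (a 0) z = 0 := by simpa using har 0 0
  have h0c : B (a 0) c = 0 := by simpa using har 0 1
  refine ⟨a 0, (B (a 0) (a 0))⁻¹ • a 0, h0z, h0c, ?_, ?_, ?_⟩
  · rw [map_smul, LinearMap.smul_apply, h0z, smul_zero]
  · rw [map_smul, LinearMap.smul_apply, h0c, smul_zero]
  · rw [map_smul, smul_eq_mul, inv_mul_cancel₀ (ha 0)]

/-- FO-G3. -/
theorem exists_cedd (h : IsS B) (hn : 13 ≤ n) (r : Fin 4 → Fin n → k) :
    ∃ c e d d' : Fin n → k, (∀ i, B c (r i) = 0 ∧ B e (r i) = 0 ∧ B d (r i) = 0 ∧ B d' (r i) = 0) ∧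
      B c c = 0 ∧ B c e = 1 ∧ B d c = 0 ∧ B d' c = 0 ∧ B d d' = 1 := by
  have := Fintype.ofFinite k
  obtain ⟨a, har, ha, hao⟩ := exists_ortho_family_perp h r 4 (by omega)
  obtain ⟨s, t, hst⟩ := bin_value h.two (B (a 0) (a 0)) (B (a 1) (a 1)) (-(B (a 2) (a 2)))
    (ha 0) (ha 1)
  have h01 : B (a 0) (a 1) = 0 := hao 0 1 (by decide)
  have h10 : B (a 1) (a 0) = 0 := hao 1 0 (by decide)
  have h02 : B (a 0) (a 2) = 0 := hao 0 2 (by decide)
  have h20 : B (a 2) (a 0) = 0 := hao 2 0 (by decide)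
  have h12 : B (a 1) (a 2) = 0 := hao 1 2 (by decide)
  have h21 : B (a 2) (a 1) = 0 := hao 2 1 (by decide)
  have h30 : B (a 3) (a 0) = 0 := hao 3 0 (by decide)
  have h31 : B (a 3) (a 1) = 0 := hao 3 1 (by decide)
  have h32 : B (a 3) (a 2) = 0 := hao 3 2 (by decide)
  refine ⟨s • a 0 + t • a 1 + a 2, (B (a 2) (a 2))⁻¹ • a 2, a 3, (B (a 3) (a 3))⁻¹ • a 3,
    fun i => ⟨?_, ?_, har 3 i, ?_⟩, ?_, ?_, ?_, ?_, ?_⟩
  · simp only [map_add, map_smul, LinearMap.add_apply, LinearMap.smul_apply, smul_eq_mul,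
      har 0 i, har 1 i, har 2 i]
    ring
  · rw [map_smul, LinearMap.smul_apply, har 2 i, smul_zero]
  · rw [map_smul, LinearMap.smul_apply, har 3 i, smul_zero]
  · simp only [map_add, map_smul, LinearMap.add_apply, LinearMap.smul_apply, smul_eq_mul,
      h01, h10, h02, h20, h12, h21]
    linear_combination hst
  · simp only [map_add, map_smul, LinearMap.add_apply, LinearMap.smul_apply, smul_eq_mul,
      h02, h12]
    have := ha 2
    field_simp
    ring
  · simp only [map_add, map_smul, smul_eq_mul, h30, h31, h32]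
    ring
  · simp only [map_add, map_smul, LinearMap.smul_apply, smul_eq_mul, h30, h31, h32]
    ring
  · rw [map_smul, smul_eq_mul, inv_mul_cancel₀ (ha 3)]

/-- FO-G4. -/
theorem exists_two_hyp (h : IsS B) (hn : 13 ≤ n) (v : Fin 4 → Fin n → k) :
    ∃ x x' e e' : Fin n → k, (∀ i, B x (v i) = 0 ∧ B x' (v i) = 0 ∧ B e (v i) = 0 ∧ B e' (v i) = 0) ∧
      B x x = 0 ∧ B x' x' = 0 ∧ B x x' = 0 ∧ B x e = 1 ∧ B x' e = 0 ∧ B x e' = 0 ∧ B x' e' = 1 := by
  have := Fintype.ofFinite k
  obtain ⟨a, har, ha, hao⟩ := exists_ortho_family_perp h v 5 (by omega)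
  have o : ∀ i j : Fin 5, i ≠ j → B (a i) (a j) = 0 := hao
  obtain ⟨β₀, hβ₀⟩ : ∃ β : k, β = B (a 0) (a 0) := ⟨_, rfl⟩
  obtain ⟨β₁, hβ₁⟩ : ∃ β : k, β = B (a 1) (a 1) := ⟨_, rfl⟩
  obtain ⟨β₂, hβ₂⟩ : ∃ β : k, β = B (a 2) (a 2) := ⟨_, rfl⟩
  obtain ⟨β₃, hβ₃⟩ : ∃ β : k, β = B (a 3) (a 3) := ⟨_, rfl⟩
  obtain ⟨β₄, hβ₄⟩ : ∃ β : k, β = B (a 4) (a 4) := ⟨_, rfl⟩
  have hb0 : β₀ ≠ 0 := by rw [hβ₀]; exact ha 0
  have hb1 : β₁ ≠ 0 := by rw [hβ₁]; exact ha 1
  have hb2 : β₂ ≠ 0 := by rw [hβ₂]; exact ha 2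
  have hb3 : β₃ ≠ 0 := by rw [hβ₃]; exact ha 3
  have hb4 : β₄ ≠ 0 := by rw [hβ₄]; exact ha 4
  obtain ⟨s, t, hst⟩ := bin_value h.two β₀ β₁ (-β₂) hb0 hb1
  -- the norm of `y = (t β₁) a₀ - (s β₀) a₁`
  obtain ⟨ν, hν⟩ : ∃ ν : k, ν = -(β₀ * β₁ * β₂) := ⟨_, rfl⟩
  have hν0 : ν ≠ 0 := by
    rw [hν]
    exact neg_ne_zero.mpr (mul_ne_zero (mul_ne_zero hb0 hb1) hb2)
  obtain ⟨s', t', hst'⟩ := bin_value h.two β₃ β₄ (-ν) hb3 hb4
  have e01 := o 0 1 (by decide)
  have e02 := o 0 2 (by decide)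
  have e03 := o 0 3 (by decide)
  have e04 := o 0 4 (by decide)
  have e10 := o 1 0 (by decide)
  have e12 := o 1 2 (by decide)
  have e13 := o 1 3 (by decide)
  have e14 := o 1 4 (by decide)
  have e20 := o 2 0 (by decide)
  have e21 := o 2 1 (by decide)
  have e23 := o 2 3 (by decide)
  have e24 := o 2 4 (by decide)
  have e30 := o 3 0 (by decide)
  have e31 := o 3 1 (by decide)
  have e32 := o 3 2 (by decide)
  have e34 := o 3 4 (by decide)
  have e40 := o 4 0 (by decide)
  have e41 := o 4 1 (by decide)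
  have e42 := o 4 2 (by decide)
  have e43 := o 4 3 (by decide)
  obtain ⟨y, hy⟩ : ∃ y : Fin n → k, y = (t * β₁) • a 0 - (s * β₀) • a 1 := ⟨_, rfl⟩
  obtain ⟨x, hxdef⟩ : ∃ x : Fin n → k, x = s • a 0 + t • a 1 + a 2 := ⟨_, rfl⟩
  obtain ⟨x', hx'def⟩ : ∃ x' : Fin n → k, x' = s' • a 3 + t' • a 4 + y := ⟨_, rfl⟩
  have hyv : ∀ i, B y (v i) = 0 := by
    intro i
    rw [hy]
    simp only [map_sub, map_smul, LinearMap.sub_apply, LinearMap.smul_apply, smul_eq_mul,
      har 0 i, har 1 i]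
    ring
  have hyy : B y y = ν := by
    rw [hy, hν]
    simp only [map_sub, map_smul, LinearMap.sub_apply, LinearMap.smul_apply, smul_eq_mul,
      e01, e10, ← hβ₀, ← hβ₁]
    linear_combination (β₀ * β₁) * hst
  have hya2 : B y (a 2) = 0 := by
    rw [hy]
    simp only [map_sub, map_smul, LinearMap.sub_apply, LinearMap.smul_apply, smul_eq_mul,
      e02, e12]
    ring
  have hya3 : B y (a 3) = 0 := by
    rw [hy]
    simp only [map_sub, map_smul, LinearMap.sub_apply, LinearMap.smul_apply, smul_eq_mul,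
      e03, e13]
    ring
  have hya4 : B y (a 4) = 0 := by
    rw [hy]
    simp only [map_sub, map_smul, LinearMap.sub_apply, LinearMap.smul_apply, smul_eq_mul,
      e04, e14]
    ring
  have ha3y : B (a 3) y = 0 := by rw [h.symm]; exact hya3
  have ha4y : B (a 4) y = 0 := by rw [h.symm]; exact hya4
  have hxy : B x y = 0 := by
    rw [hxdef, hy]
    simp only [map_add, map_sub, map_smul, LinearMap.add_apply, LinearMap.sub_apply,
      LinearMap.smul_apply, smul_eq_mul, e01, e10, e20, e21, ← hβ₀, ← hβ₁]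
    ring
  have hxa3 : B x (a 3) = 0 := by
    rw [hxdef]
    simp only [map_add, map_smul, LinearMap.add_apply, LinearMap.smul_apply, smul_eq_mul,
      e03, e13, e23]
    ring
  have hxa4 : B x (a 4) = 0 := by
    rw [hxdef]
    simp only [map_add, map_smul, LinearMap.add_apply, LinearMap.smul_apply, smul_eq_mul,
      e04, e14, e24]
    ring
  have hxa2 : B x (a 2) = β₂ := by
    rw [hxdef]
    simp only [map_add, map_smul, LinearMap.add_apply, LinearMap.smul_apply, smul_eq_mul,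
      e02, e12, ← hβ₂]
    ring
  have hx'a2 : B x' (a 2) = 0 := by
    rw [hx'def]
    simp only [map_add, map_smul, LinearMap.add_apply, LinearMap.smul_apply, smul_eq_mul,
      e32, e42, hya2]
    ring
  have hx'y : B x' y = ν := by
    rw [hx'def]
    simp only [map_add, map_smul, LinearMap.add_apply, LinearMap.smul_apply, smul_eq_mul,
      ha3y, ha4y, hyy]
    ring
  refine ⟨x, x', β₂⁻¹ • a 2, ν⁻¹ • y, fun i => ⟨?_, ?_, ?_, ?_⟩, ?_, ?_, ?_, ?_, ?_, ?_, ?_⟩
  · rw [hxdef]
    simp only [map_add, map_smul, LinearMap.add_apply, LinearMap.smul_apply, smul_eq_mul,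
      har 0 i, har 1 i, har 2 i]
    ring
  · rw [hx'def]
    simp only [map_add, map_smul, LinearMap.add_apply, LinearMap.smul_apply, smul_eq_mul,
      har 3 i, har 4 i, hyv i]
    ring
  · rw [map_smul, LinearMap.smul_apply, har 2 i, smul_zero]
  · rw [map_smul, LinearMap.smul_apply, hyv i, smul_zero]
  · rw [hxdef]
    simp only [map_add, map_smul, LinearMap.add_apply, LinearMap.smul_apply, smul_eq_mul,
      e01, e10, e02, e20, e12, e21, ← hβ₀, ← hβ₁, ← hβ₂]
    linear_combination hst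
  · have h1 : B x' x' = s' * B x' (a 3) + t' * B x' (a 4) + B x' y := by
      have h0 : B x' x' = B x' (s' • a 3 + t' • a 4 + y) := by rw [← hx'def]
      rw [h0]
      simp only [map_add, map_smul, smul_eq_mul]
    have h2 : B x' (a 3) = s' * β₃ := by
      rw [hx'def]
      simp only [map_add, map_smul, LinearMap.add_apply, LinearMap.smul_apply, smul_eq_mul,
        e43, hya3, ← hβ₃]
      ring
    have h3 : B x' (a 4) = t' * β₄ := by
      rw [hx'def]
      simp only [map_add, map_smul, LinearMap.add_apply, LinearMap.smul_apply, smul_eq_mul,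
        e34, hya4, ← hβ₄]
      ring
    rw [h1, h2, h3, hx'y]
    linear_combination hst'
  · have h1 : B x x' = s' * B x (a 3) + t' * B x (a 4) + B x y := by
      rw [hx'def]
      simp only [map_add, map_smul, smul_eq_mul]
    rw [h1, hxa3, hxa4, hxy]
    ring
  · rw [map_smul, smul_eq_mul, hxa2, inv_mul_cancel₀ hb2]
  · rw [map_smul, smul_eq_mul, hx'a2, mul_zero]
  · rw [map_smul, smul_eq_mul, hxy, mul_zero]
  · rw [map_smul, smul_eq_mul, hx'y, inv_mul_cancel₀ hν0]

end geomK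

end Cfsg.Agent.Lib.Helper10.S5683FOG
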