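import Mathlib
import Cfsg.Agent.Lib.Helper10.BGFifteenA
import Cfsg.Agent.Lib.Helper10.Rank2Aut
import Cfsg.Agent.Lib.Helper10.PStableOdd
import Cfsg.Agent.Lib.Helper1.BGCount
import Cfsg.Agent.Lib.Helper1.BGFcons
import Cfsg.Agent.Lib.Helper10.BGNine2
import Cfsg.Agent.Lib.Helper25.BG1431
import Cfsg.Agent.Lib.Helper29.BGExcPG
import Cfsg.Agent.Lib.Helper9.BGHallFus
import Cfsg.Agent.Lib.Lead.BGTrans
import Cfsg.Agent.S1429
import Cfsg.Agent.S1420
import Cfsg.Agent.S1439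

/-!
# Maximal subgroups `M = K U M_σ` with `K ≠ 1` and `U ≠ 1` (frozen row `S1372`)

* `commutator_pow_mem_centralizer`: an odd-order solvable group acting on an elementary abelian
  `p`-group of order at most `p ^ 2`: `p`-th powers of commutators act trivially.
* `centralizer_le_of_U_ne_bot`: if `K ≠ 1`, `U ≠ 1` then `C_G(x) ≤ M` for every `x ∈ M_σ - 1`
  (modulo the frozen rows `S1353`, `S1375`).
* `isTISubset_fittingOf_of_U_ne_bot`: then `F(M)` is a TI-subset (modulo `S1374` as well).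
* `s1372_of`: the frozen row `S1372` modulo unlanded rows.
-/

set_option autoImplicit false
set_option linter.unusedSectionVars false
set_option linter.unusedVariables false

namespace Cfsg.Agent.Lib.Helper10.BG

open Cfsg
open scoped commutatorElement
open Cfsg.Agent.Lib.Helper10
open Cfsg.Agent.Lib.Helper9.BGExc
open Cfsg.Agent.Lib.Helper1.BGStubs2 Cfsg.Agent.Lib.Helper1.BGFthm

section FifteenB

variable {G : Type*} [Group G] [Finite G]

/-- an odd-order solvable subgroup `L ≤ N_G(V)` acting on an elementary abelian `p`-subgroup `V`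
of order at most `p ^ 2`: the `p`-th power of every element of `[L, L]` centralizes `V`. -/
theorem commutator_pow_mem_centralizer {p : ℕ} [Fact p.Prime] (hp2 : p ≠ 2) {L V : Subgroup G}
    (hodd : Odd (Nat.card L)) (hs : Group.IsSolvable L)
    (hLV : L ≤ Subgroup.normalizer (V : Set G)) (hVe : IsElementaryAbelian p V)
    (hcard : Nat.card V ≤ p ^ 2) :
    ∀ g ∈ ⁅L, L⁆, g ^ p ∈ Subgroup.centralizer (V : Set G) := by
  classical
  have hcomm : ∀ x y : ↥V, x * y = y * x := fun x y => hVe.1.is_comm.comm x y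
  have hexp : ∀ x : ↥V, x ^ p = 1 := by
    intro x
    apply Subtype.ext
    rw [Subgroup.coe_pow]
    exact hVe.2 x x.2
  let iC : CommGroup ↥V := { (inferInstance : Group ↥V) with mul_comm := hcomm }
  let iM : @Module (ZMod p) (Additive ↥V) _
      (@AddCommGroup.toAddCommMonoid _ (@Additive.addCommGroup _ iC)) :=
    @AddCommGroup.zmodModule p (Additive ↥V) (@Additive.addCommGroup _ iC) (by
      intro x
      show Additive.ofMul ((Additive.toMul x) ^ p) = 0
      rw [hexp]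
      rfl)
  haveI := hs
  have key := @aut_elemAb_commutator_pow p _ ↥L _ hp2 _ hodd _ ↥V iC
    inferInstance iM hcard (conjActHom V L hLV)
  intro g hg
  rw [← Subgroup.map_subtype_commutator] at hg
  obtain ⟨g', hg', rfl⟩ := hg
  have h1 := key g' hg'
  rw [Subgroup.mem_centralizer_iff]
  intro v hv
  have h2 : (conjActHom V L hLV (g' ^ p)) ⟨v, hv⟩ = ⟨v, hv⟩ := by rw [h1]; rfl
  have h3 := congrArg Subtype.val h2
  rw [conjActHom_apply] at h3
  simp only [Subgroup.coe_pow] at h3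
  have h4 : (L.subtype g') ^ p * v * ((L.subtype g') ^ p)⁻¹ = v := h3
  calc v * (L.subtype g') ^ p = ((L.subtype g') ^ p * v * ((L.subtype g') ^ p)⁻¹) * (L.subtype g') ^ p := by
        rw [h4]
    _ = (L.subtype g') ^ p * v := by group

/-- an elementary abelian `p`-subgroup of order more than `p ^ 2` has `p`-rank more than 2. -/
theorem not_pRankLE_two_of_elementary {p : ℕ} {V : Subgroup G} (hVe : IsElementaryAbelian p V)
    (hcard : p ^ 2 < Nat.card V) : ¬ PRankLE p 2 ↥V := by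
  intro h
  have h1 := h ⊤ ?_ ?_
  · rw [Subgroup.card_top] at h1
    omega
  · refine ⟨⟨fun a b => ?_⟩⟩
    apply Subtype.ext
    exact hVe.1.is_comm.comm a.1 b.1
  · intro a _
    apply Subtype.ext
    rw [Subgroup.coe_pow]
    exact hVe.2 a a.2

/-- the index of `M'` in `M` divides `|K|` as soon as `U ≤ M'`. -/
theorem relIndex_commutator_dvd_card_K (hG : IsMinSimpleOddOrder G) {M : Subgroup G}
    (hM : IsCoatom M) {K U : Subgroup G} (hKU : IsSigmaDecomposition M K U)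
    (hUD : U ≤ ⁅M, M⁆) : (⁅M, M⁆ : Subgroup G).relIndex M ∣ Nat.card K := by
  have hUM : U ≤ M := hKU.compl.1
  have hσD : sigmaCore M ≤ ⁅M, M⁆ := sigmaCore_le_commutator hG hM
  have hDM : (⁅M, M⁆ : Subgroup G) ≤ M := Subgroup.commutator_le_self M
  have h1 := Cfsg.Agent.Lib.Helper12.card_mul_relIndex_eq hDM
  have h2 : Nat.card ↥(U ⊔ sigmaCore M) = Nat.card U * Nat.card (sigmaCore M) := by
    have h3 := Cfsg.H5.card_sup_mul_card_inf (hUM.trans (le_normalizer_sigmaCore M))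
    have h4 : U ⊓ sigmaCore M = ⊥ := by
      have h5 := hKU.compl.2.2.1
      rw [eq_bot_iff] at h5 ⊢
      exact le_trans (inf_le_inf_left U le_sup_right) h5
    rwa [h4, Subgroup.card_bot, mul_one] at h3
  obtain ⟨c, hc⟩ := Subgroup.card_dvd_of_le (sup_le hUD hσD)
  have h6 := Cfsg.Agent.Lib.Helper1.BGSigmaDecomp.card_eq hG hM hKU
  rw [hc, h2, h6] at h1
  have hpos : 0 < Nat.card U * Nat.card (sigmaCore M) := Nat.mul_pos Nat.card_pos Nat.card_pos
  have h7 : (Nat.card U * Nat.card (sigmaCore M)) * (c * (⁅M, M⁆ : Subgroup G).relIndex M) =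
      (Nat.card U * Nat.card (sigmaCore M)) * Nat.card K := by
    rw [← mul_assoc, h1]; ring
  have h8 := Nat.eq_of_mul_eq_mul_left hpos h7
  exact Dvd.intro_left c h8

/-- B&G: if `K ≠ 1` and `U ≠ 1` then `C_G(x) ≤ M` for every `x ∈ M_σ - 1`. -/
theorem centralizer_le_of_U_ne_bot (hG : IsMinSimpleOddOrder G) (h53 : P1353 G) (h75 : P1375 G)
    {M : Subgroup G} (hM : IsCoatom M) {K U : Subgroup G} (hKU : IsSigmaDecomposition M K U)
    (hK1 : K ≠ ⊥) (hU1 : U ≠ ⊥) {x : G} (hx : x ∈ sigmaCore M) (hx1 : x ≠ 1) :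
    Subgroup.centralizer ({x} : Set G) ≤ M := by
  classical
  by_contra hxM
  obtain ⟨N, ⟨hN, hxN⟩, -, -, -, -, hcompl, -⟩ := h75 M hM x hx hx1 hxM
  have hUM : U ≤ M := hKU.compl.1
  have hKM : K ≤ M := hKU.hall.1
  -- a prime `r` dividing `|U|`
  obtain ⟨r, hr, hrU⟩ := Nat.exists_prime_and_dvd
    (fun h1 : Nat.card U = 1 => hU1 (Subgroup.card_eq_one.mp h1))
  haveI : Fact r.Prime := ⟨hr⟩
  have hrσ := Cfsg.Agent.Lib.Helper1.BGSigmaDecomp.not_mem_sigma_of_dvd_card_U hG hM hKU hr hrU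
  have hrκ := Cfsg.Agent.Lib.Helper1.BGSigmaDecomp.not_mem_kappa_of_dvd_card_U hG hM hKU hr hrU
  have hrM : r ∣ Nat.card M := hrU.trans (Subgroup.card_dvd_of_le hUM)
  have hP1 : ¬ (∀ q : ℕ, q.Prime → q ∣ Nat.card M → q ∉ sigma M → q ∈ kappa M) :=
    fun h => hrκ (h r hr hrM hrσ)
  -- `U ≤ M'`
  obtain ⟨k0, hk0, hk01⟩ := (Subgroup.ne_bot_iff_exists_ne_one (H := K)).mp hK1 |>.imp
    (fun k hk => hk) |> fun ⟨k, hk⟩ => (⟨(k : G), k.2, fun h => hk (Subtype.ext h)⟩ :
      ∃ k0 : G, k0 ∈ K ∧ k0 ≠ 1)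
  have hfree := h53 M hM K U hKU k0 hk0 hk01
  have hUD : U ≤ ⁅M, M⁆ :=
    Cfsg.Agent.Lib.Helper25.BG1431.U_le_commutator' hUM hKM hKU.normal hk0 hfree
  have hDM : (⁅M, M⁆ : Subgroup G) ≤ M := Subgroup.commutator_le_self M
  have hMD : M ≤ Subgroup.normalizer ((⁅M, M⁆ : Subgroup G) : Set G) := by
    intro m hm
    rw [Subgroup.mem_normalizer_iff]
    intro y
    have key : ∀ n ∈ M, ∀ z ∈ (⁅M, M⁆ : Subgroup G), n * z * n⁻¹ ∈ (⁅M, M⁆ : Subgroup G) := by
      intro n hn z hz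
      have h1 : n * z * n⁻¹ = ⁅n, z⁆ * z := by rw [commutatorElement_def]; group
      rw [h1]
      exact mul_mem (Subgroup.commutator_mem_commutator hn (hDM hz)) hz
    constructor
    · intro hy; exact key m hm y hy
    · intro hy
      have := key m⁻¹ (inv_mem hm) _ hy
      have e : m⁻¹ * (m * y * m⁻¹) * m⁻¹⁻¹ = y := by group
      rwa [e] at this
  have hidx : ¬ r ∣ (⁅M, M⁆ : Subgroup G).relIndex M := by
    intro hd
    have h1 := hd.trans (relIndex_commutator_dvd_card_K hG hM hKU hUD)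
    exact hrκ (hKU.hall.2.1 r hr h1)
  -- a Sylow `r`-subgroup of `M` and its `Ω₁`
  obtain ⟨S⟩ : Nonempty (Sylow r ↥M) := inferInstance
  obtain ⟨-, hCA, hnil⟩ := Cfsg.Agent.S1429.result hG M hM hP1 r hrM
    (by rintro (h | h); exact hrσ h; exact hrκ h) S
  have hSD : (S : Subgroup ↥M).map M.subtype ≤ ⁅M, M⁆ :=
    pgroup_le_of_not_dvd_relIndex hMD hidx (S.isPGroup'.map _) (Subgroup.map_subtype_le _)
  -- the central elementary abelian subgroup `V`
  haveI hnil' : Group.IsNilpotent ↥(sigmaCore M) := hnil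
  haveI : Nontrivial ↥(sigmaCore M) :=
    (Subgroup.nontrivial_iff_ne_bot _).mpr (sigmaCore_ne_bot hG hM)
  have hZ1 : Subgroup.center ↥(sigmaCore M) ≠ ⊥ := Group.IsNilpotent.center_ne_bot _
  have hZcard : Nat.card (Subgroup.center ↥(sigmaCore M)) ≠ 1 := by
    rwa [Ne, Subgroup.card_eq_one]
  obtain ⟨p, hp, hpZ⟩ := Nat.exists_prime_and_dvd hZcard
  haveI : Fact p.Prime := ⟨hp⟩
  obtain ⟨z, hz⟩ := exists_prime_orderOf_dvd_card' (G := ↥(Subgroup.center ↥(sigmaCore M))) p hpZ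
  set V : Subgroup G := Cfsg.Agent.Lib.Helper29.BGExc.omegaZ p (sigmaCore M) with hV
  have hzV : ((z : ↥(sigmaCore M)) : G) ∈ V := by
    refine Cfsg.Agent.Lib.Helper29.BGExc.mem_omegaZ.mpr ⟨(z : ↥(sigmaCore M)).2, ?_, ?_⟩
    · intro s hs
      have h1 := (Subgroup.mem_center_iff.mp z.2) ⟨s, hs⟩
      exact congrArg Subtype.val h1
    · have h1 : z ^ p = 1 := by rw [← hz]; exact pow_orderOf_eq_one z
      have h2 := congrArg (fun w : ↥(Subgroup.center ↥(sigmaCore M)) => ((w : ↥(sigmaCore M)) : G)) h1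
      simpa using h2
  have hz1 : ((z : ↥(sigmaCore M)) : G) ≠ 1 := by
    intro h
    have h1 : z = 1 := by
      apply Subtype.ext; apply Subtype.ext; exact h
    rw [h1, orderOf_one] at hz
    exact hp.ne_one hz.symm
  have hV1 : V ≠ ⊥ := fun h => hz1 (by rw [h, Subgroup.mem_bot] at hzV; exact hzV)
  have hVσ : V ≤ sigmaCore M := Cfsg.Agent.Lib.Helper29.BGExc.omegaZ_le p _
  have hVe : IsElementaryAbelian p V := isElementaryAbelian_omegaZ p _
  have hMV : M ≤ Subgroup.normalizer (V : Set G) :=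
    (le_normalizer_sigmaCore M).trans (normalizer_le_normalizer_omegaZ p _)
  have hpσ : p ∈ sigma M := by
    apply mem_sigma_of_dvd_card_sigmaCore hG hM hp
    obtain ⟨v, hv⟩ : ∃ v : V, orderOf v = p := by
      refine ⟨⟨_, hzV⟩, ?_⟩
      rw [← Subgroup.orderOf_coe]
      show orderOf ((z : ↥(sigmaCore M)) : G) = p
      rw [Subgroup.orderOf_coe, Subgroup.orderOf_coe]; exact hz
    have h1 : p ∣ Nat.card V := hv ▸ orderOf_dvd_natCard v
    exact h1.trans (Subgroup.card_dvd_of_le hVσ)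
  have hp2 : p ≠ 2 := by
    rintro rfl
    have h1 : 2 ∣ Nat.card G := (hpσ.2.1.trans (Subgroup.card_subgroup_dvd_card M))
    exact (Nat.not_even_iff_odd.mpr hG.1) (even_iff_two_dvd.mpr h1)
  have hpr : p ≠ r := fun h => hrσ (h ▸ hpσ)
  rcases Nat.lt_or_ge (p ^ 2) (Nat.card V) with hbig | hsmall
  · -- `V` has rank at least three inside `N`
    have hVx : V ≤ Subgroup.centralizer ({x} : Set G) := by
      intro v hv
      rw [Subgroup.mem_centralizer_singleton_iff]
      exact ((Cfsg.Agent.Lib.Helper29.BGExc.mem_omegaZ.mp hv).2.1 x hx).symm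
    have hVN : V ≤ N := hVx.trans hxN
    have hVM : V ≤ M := hVσ.trans (sigmaCore_le M)
    have hrk : ¬ PRankLE p 2 ↥N := not_pRankLE_mono hVN (not_pRankLE_two_of_elementary hVe hbig)
    have hpN : p ∈ sigma N := alpha_subset_sigma hG hN ⟨hp, hrk⟩
    have h1 := not_dvd_relIndex_sigmaCore hG hN hp hpN
    apply h1
    have h2 := Cfsg.Agent.Lib.Helper10.IsComplIn.card_eq hcompl
    have h3 := Cfsg.Agent.Lib.Helper12.card_mul_relIndex_eq (sigmaCore_le N)
    have h4 : (sigmaCore N).relIndex N = Nat.card ↥(M ⊓ N) := by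
      have : Nat.card (sigmaCore N) * (sigmaCore N).relIndex N =
          Nat.card (sigmaCore N) * Nat.card ↥(M ⊓ N) := by rw [h3, h2]; ring
      exact Nat.eq_of_mul_eq_mul_left Nat.card_pos this
    rw [h4]
    obtain ⟨v, hv⟩ : ∃ v : V, orderOf v = p := by
      refine ⟨⟨_, hzV⟩, ?_⟩
      rw [← Subgroup.orderOf_coe]
      show orderOf ((z : ↥(sigmaCore M)) : G) = p
      rw [Subgroup.orderOf_coe, Subgroup.orderOf_coe]; exact hz
    have h5 : p ∣ Nat.card V := hv ▸ orderOf_dvd_natCard v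
    exact h5.trans (Subgroup.card_dvd_of_le (le_inf hVM hVN))
  · -- `|V| ≤ p ^ 2`: `Ω₁(S)` centralizes `V`
    have hMs : Group.IsSolvable ↥M := isSolvable_of_ne_top hG hM.1
    have key := commutator_pow_mem_centralizer hp2 (odd_card_subgroup hG M) hMs hMV hVe hsmall
    have hAV : Subgroup.closure {y : G | y ∈ (S : Subgroup ↥M).map M.subtype ∧ y ^ r = 1} ≤
        Subgroup.centralizer (V : Set G) := by
      rw [Subgroup.closure_le]
      rintro y ⟨hyS, hyr⟩
      have h1 := key y (hSD hyS)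
      -- `y` is a power of `y ^ p`
      have hcop : Nat.Coprime p r := (Nat.coprime_primes hp hr).mpr hpr
      obtain ⟨a, b, hab⟩ : ∃ a b : ℤ, (p : ℤ) * a + (r : ℤ) * b = 1 := by
        have := Int.gcd_eq_gcd_ab (p : ℤ) (r : ℤ)
        rw [Int.gcd_natCast_natCast, hcop] at this
        exact ⟨Int.gcdA p r, Int.gcdB p r, by simpa using this.symm⟩
      have h2 : y = (y ^ p) ^ a := by
        have h3 : y ^ ((p : ℤ) * a + (r : ℤ) * b) = y := by rw [hab, zpow_one]
        rw [zpow_add, zpow_mul, zpow_mul, zpow_natCast, zpow_natCast, hyr, one_zpow, mul_one] at h3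
        exact h3.symm
      rw [SetLike.mem_coe, h2]
      exact zpow_mem h1 a
    have hVA : V ≤ sigmaCore M ⊓ Subgroup.centralizer
        ((Subgroup.closure {y : G | y ∈ (S : Subgroup ↥M).map M.subtype ∧ y ^ r = 1} :
          Subgroup G) : Set G) := by
      refine le_inf hVσ ?_
      intro v hv
      rw [Subgroup.mem_centralizer_iff]
      intro a ha
      exact ((Subgroup.mem_centralizer_iff.mp (hAV ha)) v hv).symm
    rw [hCA, le_bot_iff] at hVA
    exact hV1 hVA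

/-- if `U ≠ 1` then `M_σ` is nilpotent (from `S1429`). -/
theorem isNilpotent_sigmaCore_of_U_ne_bot (hG : IsMinSimpleOddOrder G) {M : Subgroup G}
    (hM : IsCoatom M) {K U : Subgroup G} (hKU : IsSigmaDecomposition M K U) (hU1 : U ≠ ⊥) :
    Group.IsNilpotent ↥(sigmaCore M) := by
  have hUM : U ≤ M := hKU.compl.1
  obtain ⟨r, hr, hrU⟩ := Nat.exists_prime_and_dvd
    (fun h1 : Nat.card U = 1 => hU1 (Subgroup.card_eq_one.mp h1))
  haveI : Fact r.Prime := ⟨hr⟩
  have hrσ := Cfsg.Agent.Lib.Helper1.BGSigmaDecomp.not_mem_sigma_of_dvd_card_U hG hM hKU hr hrU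
  have hrκ := Cfsg.Agent.Lib.Helper1.BGSigmaDecomp.not_mem_kappa_of_dvd_card_U hG hM hKU hr hrU
  have hrM : r ∣ Nat.card M := hrU.trans (Subgroup.card_dvd_of_le hUM)
  have hP1 : ¬ (∀ q : ℕ, q.Prime → q ∣ Nat.card M → q ∉ sigma M → q ∈ kappa M) :=
    fun h => hrκ (h r hr hrM hrσ)
  obtain ⟨S⟩ : Nonempty (Sylow r ↥M) := inferInstance
  exact (Cfsg.Agent.S1429.result hG M hM hP1 r hrM
    (by rintro (h | h); exact hrσ h; exact hrκ h) S).2.2

/-- B&G: if `K ≠ 1` and `U ≠ 1` then `F(M)` is a TI-subset of `G`. -/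
theorem isTISubset_fittingOf_of_U_ne_bot (hG : IsMinSimpleOddOrder G) (h53 : P1353 G)
    (h74 : P1374 G) (h75 : P1375 G)
    {M : Subgroup G} (hM : IsCoatom M) {K U : Subgroup G} (hKU : IsSigmaDecomposition M K U)
    (hK1 : K ≠ ⊥) (hU1 : U ≠ ⊥) : IsTISubset (fittingOf M : Set G) := by
  classical
  intro g hg x hx hgx
  by_contra hx1
  have hgM : g ∉ M := fun h => hg (le_normalizer_fittingOf M h)
  have hnil := isNilpotent_sigmaCore_of_U_ne_bot hG hM hKU hU1
  have hFnil : Group.IsNilpotent ↥(fittingOf M) := isNilpotent_fittingOf M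
  have hσF : sigmaCore M ≤ fittingOf M :=
    le_fittingOf (sigmaCore_le M) (le_normalizer_sigmaCore M) hnil
  -- an element of prime order
  have hox : orderOf x ≠ 1 := fun h => hx1 (orderOf_eq_one_iff.mp h)
  obtain ⟨q, hq, hqd⟩ := Nat.exists_prime_and_dvd hox
  haveI : Fact q.Prime := ⟨hq⟩
  set x₀ : G := x ^ (orderOf x / q) with hx₀
  have hx₀o : orderOf x₀ = q := orderOf_pow_orderOf_div (orderOf_pos x).ne' hqd
  have hx₀1 : x₀ ≠ 1 := by
    intro h
    rw [h, orderOf_one] at hx₀o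
    exact hq.ne_one hx₀o.symm
  have hx₀F : x₀ ∈ fittingOf M := pow_mem hx _
  have hy₀F : g * x₀ * g⁻¹ ∈ fittingOf M := by
    rw [hx₀, ← conj_pow]
    exact pow_mem hgx _
  have hx₀M : x₀ ∈ M := fittingOf_le M hx₀F
  have hy₀M : g * x₀ * g⁻¹ ∈ M := fittingOf_le M hy₀F
  have hy₀o : orderOf (g * x₀ * g⁻¹) = q := by
    have : g * x₀ * g⁻¹ = (MulAut.conj g) x₀ := by simp
    rw [this, MulEquiv.orderOf_eq]
    exact hx₀o
  have hpg : ∀ w : G, orderOf w = q → IsPGroup q (Subgroup.zpowers w) := by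
    intro w hw
    apply IsPGroup.of_card (n := 1)
    rw [Nat.card_zpowers, hw, pow_one]
  by_cases hqσ : q ∈ sigma M
  · -- `x₀ ∈ M_σ` and `C_G(x₀) ≤ M`
    have hx₀σ : x₀ ∈ sigmaCore M :=
      pgroup_le_sigmaCore hG hM hqσ (hpg x₀ hx₀o) (Subgroup.zpowers_le.mpr hx₀M)
        (Subgroup.mem_zpowers x₀)
    have hC := centralizer_le_of_U_ne_bot hG h53 h75 hM hKU hK1 hU1 hx₀σ hx₀1
    obtain ⟨-, R, -, hRc, huniq⟩ := h74 M hM x₀ hx₀σ hx₀1
    have hR : R = ⊥ := by
      have h1 := hRc.2.2.1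
      rw [inf_of_le_right hC, inf_of_le_right hRc.2.1] at h1
      exact h1
    have hmem : x₀ ∈ M.map (MulAut.conj g⁻¹).toMonoidHom :=
      ⟨g * x₀ * g⁻¹, hy₀M, by simp [mul_assoc]⟩
    obtain ⟨r, ⟨hrR, hrM⟩, -⟩ := huniq g⁻¹ hmem
    rw [hR, Subgroup.mem_bot] at hrR
    rw [hrR] at hrM
    have h2 : M.map (MulAut.conj g⁻¹).toMonoidHom = M := by
      rw [← hrM]
      exact map_conj_eq_self_of_mem (one_mem M)
    have h3 := mem_of_map_conj_eq_self hG hM h2
    exact hgM (by simpa using inv_mem h3)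
  · -- `q ∈ τ₂(M)` and `M` is the only maximal subgroup over `C_G(x₀)`
    have hqτ : q ∈ tau2 M := by
      have h1 : Subgroup.zpowers x₀ ≤ pCoreOf q (fittingOf M) :=
        Cfsg.Agent.Lib.Helper9.BG10.pgroup_le_pCoreOf_of_nilpotent hFnil hq
          (Subgroup.zpowers_le.mpr hx₀F) (hpg x₀ hx₀o)
      have h2 : pCoreOf q (fittingOf M) ≤
          piCoreOf {q | q.Prime ∧ q ∉ sigma M} (fittingOf M) := by
        apply Cfsg.Agent.Lib.Lead.BGTrans.le_piCoreOf (pCoreOf_le q _)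
        · intro y hy w hw
          exact conj_mem_of_mem_normalizer (le_normalizer_pCoreOf q (fittingOf M) hy) hw
        · intro p' hp' hd
          obtain ⟨n, hn⟩ := IsPGroup.iff_card.mp (isPGroup_pCoreOf q (fittingOf M))
          rw [hn] at hd
          have := (Nat.prime_dvd_prime_iff_eq hp' hq).mp (hp'.dvd_of_dvd_pow hd)
          rw [this]
          exact ⟨hq, hqσ⟩
      have h3 : q ∣ Nat.card ↥(piCoreOf {q | q.Prime ∧ q ∉ sigma M} (fittingOf M)) := by
        have h4 : x₀ ∈ piCoreOf {q | q.Prime ∧ q ∉ sigma M} (fittingOf M) :=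
          h2 (h1 (Subgroup.mem_zpowers x₀))
        have h5 := orderOf_dvd_natCard
          (⟨x₀, h4⟩ : ↥(piCoreOf {q | q.Prime ∧ q ∉ sigma M} (fittingOf M)))
        rwa [Subgroup.orderOf_mk, hx₀o] at h5
      exact (Cfsg.Agent.S1439.result hG M hM).2.1 q hq h3
    have hcomp := Cfsg.Agent.Lib.Helper1.BGSigmaDecomp.isComplIn_UK hG hM hKU
    have h20 := (Cfsg.Agent.S1420.result hG M hM (U ⊔ K) hcomp).2.2.2
    -- a nonidentity element of `M_σ`
    obtain ⟨y, hy, hy1⟩ : ∃ y ∈ sigmaCore M, y ≠ 1 := by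
      obtain ⟨y, hy⟩ := (Subgroup.ne_bot_iff_exists_ne_one (H := sigmaCore M)).mp
        (sigmaCore_ne_bot hG hM)
      exact ⟨(y : G), y.2, fun h => hy (Subtype.ext h)⟩
    have hcop : ∀ w : G, orderOf w = q → (orderOf w).Coprime (orderOf y) := by
      intro w hw
      rw [hw, Nat.Prime.coprime_iff_not_dvd hq]
      intro hd
      apply hqσ
      apply mem_sigma_of_dvd_card_sigmaCore hG hM hq
      have h1 := orderOf_dvd_natCard (⟨y, hy⟩ : ↥(sigmaCore M))
      rw [Subgroup.orderOf_mk] at h1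
      exact hd.trans h1
    have hhat : ∀ w : G, w ∈ fittingOf M → orderOf w = q → w ∈ sigmaHat M := by
      intro w hwF hw
      refine ⟨fittingOf_le M hwF, y, hy, hy1, ?_⟩
      exact Cfsg.Agent.Lib.Helper1.BGFcons.commute_of_coprime_of_nilpotent hFnil hwF (hσF hy)
        (hcop w hw)
    have hprimes : ∀ w : G, orderOf w = q → ∀ p : ℕ, p.Prime → p ∣ orderOf w → p ∈ tau2 M := by
      intro w hw p hp hd
      rw [hw] at hd
      rw [(Nat.prime_dvd_prime_iff_eq hp hq).mp hd]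
      exact hqτ
    obtain ⟨hCx, -⟩ := h20 x₀ hx₀M hx₀1 (hprimes x₀ hx₀o) (hhat x₀ hx₀F hx₀o)
    have hy₀1 : g * x₀ * g⁻¹ ≠ 1 := by
      intro h
      rw [h, orderOf_one] at hy₀o
      exact hq.ne_one hy₀o.symm
    obtain ⟨-, huy⟩ := h20 (g * x₀ * g⁻¹) hy₀M hy₀1 (hprimes _ hy₀o) (hhat _ hy₀F hy₀o)
    have hL : Subgroup.centralizer ({g * x₀ * g⁻¹} : Set G) ≤ M.map (MulAut.conj g).toMonoidHom := by
      intro c hc
      rw [Subgroup.mem_centralizer_singleton_iff] at hc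
      have h1 : g⁻¹ * c * g ∈ Subgroup.centralizer ({x₀} : Set G) := by
        rw [Subgroup.mem_centralizer_singleton_iff]
        have e1 : g⁻¹ * c * g * x₀ = g⁻¹ * (c * (g * x₀ * g⁻¹)) * g := by group
        have e2 : x₀ * (g⁻¹ * c * g) = g⁻¹ * ((g * x₀ * g⁻¹) * c) * g := by group
        rw [e1, e2, hc]
      exact ⟨g⁻¹ * c * g, hCx h1, by simp [mul_assoc]⟩
    have h5 := huy _ (isCoatom_map_conj g hM) hL
    exact hgM (mem_of_map_conj_eq_self hG hM h5)

/-- the frozen row `S1372`, modulo the frozen rows `S1430` (first conclusion), `S1353`, `S1374`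
and `S1375`. -/
theorem s1372_of (hG : IsMinSimpleOddOrder G) (h30 : H1430 G) (h53 : P1353 G)
    (h74 : P1374 G) (h75 : P1375 G)
    (M : Subgroup G) (hM : IsCoatom M) (K U : Subgroup G) (hKU : IsSigmaDecomposition M K U)
    (hK1 : K ≠ ⊥) (hU1 : U ≠ ⊥) :
    (Nat.card K).Prime ∧ IsTISubset (fittingOf M : Set G) ∧ sigmaCore M ≤ fittingOf M := by
  refine ⟨?_, isTISubset_fittingOf_of_U_ne_bot hG h53 h74 h75 hM hKU hK1 hU1, ?_⟩
  · exact Cfsg.Agent.Lib.Helper1.BGCount.card_K_prime_of_U_ne_bot hG h30 hM hKU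
      (fun k hk hk1 => h53 M hM K U hKU k hk hk1) hK1 hU1
  · exact le_fittingOf (sigmaCore_le M) (le_normalizer_sigmaCore M)
      (isNilpotent_sigmaCore_of_U_ne_bot hG hM hKU hU1)

end FifteenB

end Cfsg.Agent.Lib.Helper10.BG
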