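import Mathlib
import Cfsg.Agent.Lib.Helper9.BG1430a
import Cfsg.Agent.Lib.Helper11.BGFourteenA
import Cfsg.Agent.Lib.Helper1.BGFcons
import Cfsg.Agent.Lib.Helper10.BGEleven
import Cfsg.Agent.Lib.Helper10.BGTwelveG
import Cfsg.Agent.Lib.Helper10.BGThirteenA
import Cfsg.Agent.S1417
import Cfsg.Agent.S1418
import Cfsg.Agent.S1420
import Cfsg.Agent.S1423
import Cfsg.Agent.S1431

/-!
The open case of B&G Corollary 14.8 (statement S1435): a subgroup `K` of prime order acting
regularly on `H_σ` cannot act nontrivially on a `K`-invariant subgroup of order `l ∈ τ₂(H)`, nor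
fixed-point-freely on an elementary abelian subgroup of order `l ^ 2`.
-/

set_option autoImplicit false
set_option linter.style.haveILetI false
set_option linter.unusedSectionVars false
set_option linter.unusedVariables false
open Cfsg
open scoped commutatorElement

namespace Cfsg.Agent.Lib.Helper10.BG

open Cfsg.Agent.Lib.Helper10 Cfsg.Agent.Lib.Helper9.BGExc
open Cfsg.Agent.Lib.Helper19.BGCompl Cfsg.Agent.Lib.Helper19.BG12

variable {G : Type*} [Group G] [Finite G]

/-- a subgroup of prime order acting regularly on `H_σ` has order outside `σ(H)`. -/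
theorem not_mem_sigma_of_regular (hG : IsMinSimpleOddOrder G) {H K : Subgroup G} (hH : IsCoatom H)
    (hKH : K ≤ H) (hkp : (Nat.card K).Prime)
    (hreg : sigmaCore H ⊓ Subgroup.centralizer (K : Set G) = ⊥) : Nat.card K ∉ sigma H := by
  intro hσ
  have hKσ : K ≤ sigmaCore H := by
    apply le_sigmaCore_of_sigma_group hG hH hKH
    intro p hp hd
    have : p = Nat.card K := (Nat.prime_dvd_prime_iff_eq hp hkp).mp hd
    exact this ▸ hσ
  haveI : Fact (Nat.card K).Prime := ⟨hkp⟩
  have hcyc : IsCyclic K := isCyclic_of_prime_card rfl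
  have hKC : K ≤ Subgroup.centralizer (K : Set G) := by
    intro x hx
    rw [Subgroup.mem_centralizer_iff]
    intro y hy
    obtain ⟨g, hg⟩ := hcyc.exists_generator
    have hx' := hg ⟨x, hx⟩
    have hy' := hg ⟨y, hy⟩
    rw [Subgroup.mem_zpowers_iff] at hx' hy'
    obtain ⟨i, hi⟩ := hx'
    obtain ⟨j, hj⟩ := hy'
    have hxi : x = (g : G) ^ i := by rw [← Subgroup.coe_zpow, hi]
    have hyj : y = (g : G) ^ j := by rw [← Subgroup.coe_zpow, hj]
    rw [hxi, hyj, ← zpow_add, ← zpow_add, add_comm]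
  have : K ≤ ⊥ := hreg ▸ le_inf hKσ hKC
  have hK1 : Nat.card K = 1 := by
    rw [le_bot_iff.mp this, Subgroup.card_bot]
  exact hkp.one_lt.ne' hK1

/-- an element commuting with a non-identity element of a subgroup `K` of prime order
centralizes `K`. -/
theorem mem_centralizer_of_commute_of_prime {K : Subgroup G} (hkp : (Nat.card K).Prime) {x : G}
    (hx : x ∈ K) (hx1 : x ≠ 1) {q : G} (hc : x * q = q * x) :
    q ∈ Subgroup.centralizer (K : Set G) := by
  haveI : Fact (Nat.card K).Prime := ⟨hkp⟩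
  have hgen : ∀ y ∈ K, y ∈ Subgroup.zpowers x := by
    intro y hy
    have h1 : Subgroup.zpowers (⟨x, hx⟩ : K) = ⊤ := by
      apply zpowers_eq_top_of_prime_card rfl
      intro h
      exact hx1 (congrArg Subtype.val h)
    have h2 : (⟨y, hy⟩ : K) ∈ Subgroup.zpowers (⟨x, hx⟩ : K) := h1 ▸ Subgroup.mem_top _
    rw [Subgroup.mem_zpowers_iff] at h2 ⊢
    obtain ⟨i, hi⟩ := h2
    exact ⟨i, by simpa using congrArg Subtype.val hi⟩
  rw [Subgroup.mem_centralizer_iff]
  intro y hy
  obtain ⟨i, rfl⟩ := Subgroup.mem_zpowers_iff.mp (hgen y hy)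
  have hcm : Commute x q := hc
  exact ((hcm.zpow_left i).eq)

/-- the centralizer of `K` in terms of elements. -/
theorem mem_bot_of_commute_of_regular {H K : Subgroup G} (hkp : (Nat.card K).Prime)
    (hreg : sigmaCore H ⊓ Subgroup.centralizer (K : Set G) = ⊥) {x : G} (hx : x ∈ K) (hx1 : x ≠ 1)
    {q : G} (hq : q ∈ sigmaCore H) (hc : x * q = q * x) : q = 1 := by
  have hqC := mem_centralizer_of_commute_of_prime hkp hx hx1 hc
  have : q ∈ (⊥ : Subgroup G) := hreg ▸ Subgroup.mem_inf.mpr ⟨hq, hqC⟩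
  exact Subgroup.mem_bot.mp this

/-- a subgroup of prime order has a non-identity element. -/
theorem exists_ne_one_of_prime_card {K : Subgroup G} (hkp : (Nat.card K).Prime) :
    ∃ x ∈ K, x ≠ 1 := by
  by_contra h
  push Not at h
  have : K = ⊥ := (Subgroup.eq_bot_iff_forall K).mpr h
  rw [this, Subgroup.card_bot] at hkp
  exact Nat.not_prime_one hkp

/-- **Lemma A**: `K` of prime order acting regularly on the nilpotent `H_σ`, `R ≤ H` a
`K`-invariant subgroup of order prime to `|H_σ|` and to `|K|`: every commutator `[r, x]`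
(`r ∈ R`, `x ∈ K`) centralizes `H_σ`. -/
theorem commutator_mem_centralizer_sigmaCore (hG : IsMinSimpleOddOrder G) {H K R : Subgroup G}
    (hH : IsCoatom H) (hnil : Group.IsNilpotent ↥(sigmaCore H)) (hKH : K ≤ H)
    (hkp : (Nat.card K).Prime)
    (hreg : sigmaCore H ⊓ Subgroup.centralizer (K : Set G) = ⊥) (hRH : R ≤ H)
    (hKR : K ≤ Subgroup.normalizer (R : Set G))
    (hcop : (Nat.card R).Coprime (Nat.card (sigmaCore H))) (hkR : ¬ Nat.card K ∣ Nat.card R) :
    ∀ r ∈ R, ∀ x ∈ K, ⁅r, x⁆ ∈ Subgroup.centralizer ((sigmaCore H : Subgroup G) : Set G) := by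
  intro r hr x hx
  by_cases hx1 : x = 1
  · rw [hx1, commutatorElement_one_right]
    exact Subgroup.one_mem _
  have hkσ : Nat.card K ∉ sigma H := not_mem_sigma_of_regular hG hH hKH hkp hreg
  have hkQ : ¬ Nat.card K ∣ Nat.card (sigmaCore H) :=
    fun hd => hkσ (mem_sigma_of_dvd_card_sigmaCore hG hH hkp hd)
  have hxk : x ^ Nat.card K = 1 := by
    have := pow_card_eq_one' (G := K) (x := ⟨x, hx⟩)
    exact congrArg Subtype.val this
  exact commutator_centralizes_of_fpf (Y := H) (Q := sigmaCore H) (R := R) (a := x)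
    (isSolvable_of_ne_top hG hH.1) (odd_card_subgroup hG H) (sigmaCore_le H) hRH (hKH hx)
    hnil hkp hxk (hRH.trans (le_normalizer_sigmaCore H)) (le_normalizer_sigmaCore H (hKH hx))
    (hKR hx) hcop hkQ hkR
    (fun q hq hc => mem_bot_of_commute_of_regular hkp hreg hx hx1 hq hc) r hr

/-- `l ∈ τ₂(H)` does not divide `|H_σ|`. -/
theorem not_dvd_card_sigmaCore_of_mem_tau2 (hG : IsMinSimpleOddOrder G) {H : Subgroup G}
    (hH : IsCoatom H) {l : ℕ} (hl : l ∈ tau2 H) : ¬ l ∣ Nat.card (sigmaCore H) :=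
  fun hd => hl.2.1 (mem_sigma_of_dvd_card_sigmaCore hG hH hl.1 hd)

/-- **Lemma B**: `K` of prime order, regular on `H_σ`, cannot act fixed-point-freely on a
`K`-invariant elementary abelian subgroup `V` of order `l ^ 2` with `l ∈ τ₂(H)`. -/
theorem false_of_fpf_elementary_sq (hG : IsMinSimpleOddOrder G) {H K V : Subgroup G}
    (hH : IsCoatom H) (hKH : K ≤ H) (hkp : (Nat.card K).Prime)
    (hreg : sigmaCore H ⊓ Subgroup.centralizer (K : Set G) = ⊥)
    {l : ℕ} [Fact l.Prime] (hl : l ∈ tau2 H) (hVH : V ≤ H) (hVe : IsElementaryAbelian l V)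
    (hVc : Nat.card V = l ^ 2) (hKV : K ≤ Subgroup.normalizer (V : Set G))
    (hfix : V ⊓ Subgroup.centralizer (K : Set G) = ⊥) : False := by
  have hlp : l.Prime := Fact.out
  have h17 := Cfsg.Agent.S1417.result hG H hH l hl V ⟨hVH, hVe, hVc⟩
  have hnil := h17.1
  have hCV : sigmaCore H ⊓ Subgroup.centralizer (V : Set G) = ⊥ := h17.2.2.2.1
  have hlQ := not_dvd_card_sigmaCore_of_mem_tau2 hG hH hl
  have hcopl : l.Coprime (Nat.card (sigmaCore H)) := (Nat.Prime.coprime_iff_not_dvd hlp).mpr hlQ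
  have hcop : (Nat.card V).Coprime (Nat.card (sigmaCore H)) := by
    rw [hVc]; exact Nat.Coprime.pow_left 2 hcopl
  -- `|K| ≠ l`
  have hkl : Nat.card K ≠ l := by
    intro hk
    have hcopVK : (Nat.card ↥(V ⊔ K)).Coprime (Nat.card (sigmaCore H)) := by
      have hd := Cfsg.Agent.Lib.Helper9.card_sup_dvd_of_le_normalizer hKV
      apply Nat.Coprime.coprime_dvd_left hd
      rw [hk]
      exact Nat.Coprime.mul_left hcop hcopl
    obtain ⟨E, hE, hVKE⟩ := exists_isComplIn_sigmaCore_ge hG hH (sup_le hVH hKH) hcopVK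
    have h18 := Cfsg.Agent.S1418.result hG H hH E hE l hl V ⟨le_sup_left.trans hVKE, hVe, hVc⟩
    have hKV' : K ≤ V := h18.1.2 K (le_sup_right.trans hVKE) hk
    have hKC : K ≤ Subgroup.centralizer (K : Set G) := by
      intro x hx
      rw [Subgroup.mem_centralizer_iff]
      intro y hy
      have := hVe.1.is_comm.comm (⟨y, hKV' hy⟩ : V) ⟨x, hKV' hx⟩
      exact congrArg Subtype.val this
    have hKb : K ≤ ⊥ := hfix ▸ le_inf hKV' hKC
    have hK1 : Nat.card K = 1 := by rw [le_bot_iff.mp hKb, Subgroup.card_bot]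
    exact hkp.one_lt.ne' hK1
  have hkV : ¬ Nat.card K ∣ Nat.card V := by
    rw [hVc]
    intro hd
    exact hkl ((Nat.prime_dvd_prime_iff_eq hkp hlp).mp (hkp.dvd_of_dvd_pow hd))
  have hA := commutator_mem_centralizer_sigmaCore hG hH hnil hKH hkp hreg hVH hKV hcop hkV
  obtain ⟨x, hx, hx1⟩ := exists_ne_one_of_prime_card hkp
  have hxV := hKV hx
  -- the commutator map `v ↦ [v, x]` is a bijection of `V`
  have hmem : ∀ v ∈ V, ⁅v, x⁆ ∈ V := by
    intro v hv
    rw [commutatorElement_def]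
    have h1 : x * v⁻¹ * x⁻¹ ∈ V := (Subgroup.mem_normalizer_iff.mp hxV v⁻¹).mp (V.inv_mem hv)
    have : v * x * v⁻¹ * x⁻¹ = v * (x * v⁻¹ * x⁻¹) := by group
    rw [this]
    exact V.mul_mem hv h1
  let f : V → V := fun v => ⟨⁅(v : G), x⁆, hmem v v.2⟩
  have hinj : Function.Injective f := by
    intro v w hvw
    have h1 : ⁅(v : G), x⁆ = ⁅(w : G), x⁆ := congrArg Subtype.val hvw
    rw [commutatorElement_def, commutatorElement_def] at h1
    have h2 : (v : G) * x * (v : G)⁻¹ = (w : G) * x * (w : G)⁻¹ := mul_right_cancel h1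
    have h3 : x * ((v : G)⁻¹ * w) = ((v : G)⁻¹ * w) * x := by
      have : x = (v : G)⁻¹ * ((w : G) * x * (w : G)⁻¹) * v := by rw [← h2]; group
      calc x * ((v : G)⁻¹ * w) = ((v : G)⁻¹ * ((w : G) * x * (w : G)⁻¹) * v) * ((v : G)⁻¹ * w) := by
            rw [← this]
        _ = ((v : G)⁻¹ * w) * x := by group
    have h4 := mem_centralizer_of_commute_of_prime hkp hx hx1 h3
    have h5 : (v : G)⁻¹ * w ∈ (⊥ : Subgroup G) :=
      hfix ▸ Subgroup.mem_inf.mpr ⟨V.mul_mem (V.inv_mem v.2) w.2, h4⟩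
    apply Subtype.ext
    exact (inv_mul_eq_one.mp (Subgroup.mem_bot.mp h5))
  have hsurj : Function.Surjective f := Finite.surjective_of_injective hinj
  have hVcen : V ≤ Subgroup.centralizer ((sigmaCore H : Subgroup G) : Set G) := by
    intro v hv
    obtain ⟨w, hw⟩ := hsurj ⟨v, hv⟩
    have : ⁅(w : G), x⁆ = v := congrArg Subtype.val hw
    rw [← this]
    exact hA w w.2 x hx
  have hQle : sigmaCore H ≤ Subgroup.centralizer (V : Set G) := by
    intro q hq
    rw [Subgroup.mem_centralizer_iff]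
    intro v hv
    exact ((Subgroup.mem_centralizer_iff.mp (hVcen hv)) q hq).symm
  have : sigmaCore H ≤ ⊥ := hCV ▸ le_inf le_rfl hQle
  exact sigmaCore_ne_bot hG hH (le_bot_iff.mp this)

/-- every element of a subgroup of prime order is a power of any of its non-identity elements. -/
theorem mem_zpowers_of_prime_card {K : Subgroup G} (hkp : (Nat.card K).Prime) {x : G}
    (hx : x ∈ K) (hx1 : x ≠ 1) : ∀ y ∈ K, y ∈ Subgroup.zpowers x := by
  haveI : Fact (Nat.card K).Prime := ⟨hkp⟩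
  intro y hy
  have h1 : Subgroup.zpowers (⟨x, hx⟩ : K) = ⊤ := by
    apply zpowers_eq_top_of_prime_card rfl
    intro h
    exact hx1 (congrArg Subtype.val h)
  have h2 : (⟨y, hy⟩ : K) ∈ Subgroup.zpowers (⟨x, hx⟩ : K) := h1 ▸ Subgroup.mem_top _
  rw [Subgroup.mem_zpowers_iff] at h2 ⊢
  obtain ⟨i, hi⟩ := h2
  exact ⟨i, by simpa using congrArg Subtype.val hi⟩

/-- **Lemma C** (the open case of B&G Corollary 14.8).  Let `M = K U M_σ` be of type `P₂` with
partner `M*` (so `K ≤ M*_σ`, `C_G(K) ≤ M*`, `M*_σ` nilpotent, and `C_G(x) ≤ M` for `x ∈ M_σ - 1`),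
and let `H` be a maximal subgroup containing `K`, with `K` of prime order acting regularly on
`H_σ`.  Then `K` centralizes every `K`-invariant subgroup `X ≤ H` of order `l ∈ τ₂(H)`. -/
theorem false_of_tau2_line (hG : IsMinSimpleOddOrder G) {M K Mstar H X : Subgroup G}
    (hM : IsCoatom M) (hMs : IsCoatom Mstar) (hH : IsCoatom H)
    (hkp : (Nat.card K).Prime)
    (hKs1 : sigmaCore M ⊓ Subgroup.centralizer (K : Set G) ≠ ⊥)
    (hKst : K = sigmaCore Mstar ⊓ Subgroup.centralizer
      ((sigmaCore M ⊓ Subgroup.centralizer (K : Set G) : Subgroup G) : Set G))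
    (hKstH : IsPiHallOf (kappa Mstar) (sigmaCore M ⊓ Subgroup.centralizer (K : Set G)) Mstar)
    (hCK : Subgroup.centralizer (K : Set G) ≤ Mstar)
    (hnilMs : Group.IsNilpotent ↥(sigmaCore Mstar))
    (hTI : ∀ x ∈ sigmaCore M, x ≠ 1 → Subgroup.centralizer ({x} : Set G) ≤ M)
    (hKH : K ≤ H) (hreg : sigmaCore H ⊓ Subgroup.centralizer (K : Set G) = ⊥)
    {l : ℕ} [Fact l.Prime] (hl : l ∈ tau2 H) (hXH : X ≤ H) (hX : Nat.card X = l)
    (hKX : K ≤ Subgroup.normalizer (X : Set G))
    (hnX : ¬ K ≤ Subgroup.centralizer (X : Set G)) : False := by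
  have hlp : l.Prime := Fact.out
  have hXp : (Nat.card X).Prime := hX ▸ hlp
  have hlQ := not_dvd_card_sigmaCore_of_mem_tau2 hG hH hl
  have hcopl : l.Coprime (Nat.card (sigmaCore H)) := (Nat.Prime.coprime_iff_not_dvd hlp).mpr hlQ
  have hkσ := not_mem_sigma_of_regular hG hH hKH hkp hreg
  have hkQ : ¬ Nat.card K ∣ Nat.card (sigmaCore H) :=
    fun hd => hkσ (mem_sigma_of_dvd_card_sigmaCore hG hH hkp hd)
  have hcopk : (Nat.card K).Coprime (Nat.card (sigmaCore H)) :=
    (Nat.Prime.coprime_iff_not_dvd hkp).mpr hkQ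
  have hcopXK : (Nat.card ↥(X ⊔ K)).Coprime (Nat.card (sigmaCore H)) := by
    have hd := Cfsg.Agent.Lib.Helper9.card_sup_dvd_of_le_normalizer hKX
    apply Nat.Coprime.coprime_dvd_left hd
    rw [hX]
    exact Nat.Coprime.mul_left hcopl hcopk
  obtain ⟨E, hE, hXKE⟩ := exists_isComplIn_sigmaCore_ge hG hH (sup_le hXH hKH) hcopXK
  have hXE : X ≤ E := le_sup_left.trans hXKE
  have hKE : K ≤ E := le_sup_right.trans hXKE
  obtain ⟨A, hAE, hAe, hAc⟩ := tau2_elem_sq_compl hG hH hE hl
  have hAH : A ≤ H := hAE.trans hE.1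
  have h18 := Cfsg.Agent.S1418.result hG H hH E hE l hl A ⟨hAE, hAe, hAc⟩
  have h17 := Cfsg.Agent.S1417.result hG H hH l hl A ⟨hAH, hAe, hAc⟩
  have hXA : X ≤ A := h18.1.2 X hXE hX
  have hKA : K ≤ Subgroup.normalizer (A : Set G) := hKE.trans h18.1.1
  have hAcomm : ∀ a ∈ A, ∀ b ∈ A, a * b = b * a := by
    intro a ha b hb
    have := hAe.1.is_comm.comm (⟨a, ha⟩ : A) ⟨b, hb⟩
    exact congrArg Subtype.val this
  -- non-commuting pair
  obtain ⟨x, hx, c, hc, hxc⟩ : ∃ x ∈ K, ∃ c ∈ X, c * x ≠ x * c := by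
    by_contra h
    push Not at h
    apply hnX
    intro x hx
    rw [Subgroup.mem_centralizer_iff]
    intro c hc
    exact h x hx c hc
  have hx1 : x ≠ 1 := by
    rintro rfl
    exact hxc (by simp)
  have hc1 : c ≠ 1 := by
    rintro rfl
    exact hxc (by simp)
  -- `|K| ≠ l`
  have hkl : Nat.card K ≠ l := by
    intro hk
    have hKA' : K ≤ A := h18.1.2 K hKE hk
    exact hxc (hAcomm c (hXA hc) x (hKA' hx))
  have hcopkl : (Nat.card K).Coprime l := (Nat.coprime_primes hkp hlp).mpr hkl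
  -- `y = [c, x]` generates `X`
  have hyX : ⁅c, x⁆ ∈ X := by
    rw [commutatorElement_def]
    have h2 : x * c⁻¹ * x⁻¹ ∈ X := conj_mem_of_mem_normalizer (hKX hx) (X.inv_mem hc)
    have : c * x * c⁻¹ * x⁻¹ = c * (x * c⁻¹ * x⁻¹) := by group
    rw [this]
    exact X.mul_mem hc h2
  have hy1 : ⁅c, x⁆ ≠ 1 := fun h => hxc (commutatorElement_eq_one_iff_mul_comm.mp h)
  -- `X` centralizes `H_σ`
  have hkA : ¬ Nat.card K ∣ Nat.card A := by
    rw [hAc]
    intro hd
    exact hkl ((Nat.prime_dvd_prime_iff_eq hkp hlp).mp (hkp.dvd_of_dvd_pow hd))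
  have hcopA : (Nat.card A).Coprime (Nat.card (sigmaCore H)) := by
    rw [hAc]; exact Nat.Coprime.pow_left 2 hcopl
  have hLA := commutator_mem_centralizer_sigmaCore hG hH h17.1 hKH hkp hreg hAH hKA hcopA hkA
  have hycen : ⁅c, x⁆ ∈ Subgroup.centralizer ((sigmaCore H : Subgroup G) : Set G) :=
    hLA c (hXA hc) x hx
  have hXcen : X ≤ Subgroup.centralizer ((sigmaCore H : Subgroup G) : Set G) := by
    intro z hz
    have hzy := mem_zpowers_of_prime_card hXp hyX hy1 z hz
    exact (Subgroup.zpowers_le.mpr hycen) hzy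
  have hXs : sigmaCore H ⊓ Subgroup.centralizer (X : Set G) ≠ ⊥ := by
    intro hb
    apply sigmaCore_ne_bot hG hH
    apply le_bot_iff.mp
    rw [← hb]
    refine le_inf le_rfl ?_
    intro q hq
    rw [Subgroup.mem_centralizer_iff]
    intro z hz
    exact ((Subgroup.mem_centralizer_iff.mp (hXcen hz)) q hq).symm
  obtain ⟨hCX, huniq⟩ := h18.2.2 X hXA hX hXs
  -- case split on `C_A(K)`
  by_cases hfix : A ⊓ Subgroup.centralizer (K : Set G) = ⊥
  · exact false_of_fpf_elementary_sq hG hH hKH hkp hreg hl hAH hAe hAc hKA hfix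
  obtain ⟨d, hd, hd1⟩ : ∃ d ∈ A ⊓ Subgroup.centralizer (K : Set G), d ≠ 1 := by
    by_contra h
    push Not at h
    exact hfix ((Subgroup.eq_bot_iff_forall _).mpr h)
  have hdA : d ∈ A := (Subgroup.mem_inf.mp hd).1
  have hdC : d ∈ Subgroup.centralizer (K : Set G) := (Subgroup.mem_inf.mp hd).2
  have hdMs : d ∈ Mstar := hCK hdC
  have hKsMs : K ≤ sigmaCore Mstar := (le_of_eq hKst).trans inf_le_left
  have hxs : x ∈ sigmaCore Mstar := hKsMs hx
  have hdx : d * x = x * d := ((Subgroup.mem_centralizer_iff.mp hdC) x hx).symm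
  have hdo : orderOf d = l := orderOf_eq_prime (hAe.2 d hdA) hd1
  -- `c ∉ M*`
  have hcMs : c ∉ Mstar := by
    intro hcM
    have h1 : c * x * c⁻¹ ∈ sigmaCore Mstar :=
      conj_mem_of_mem_normalizer (le_normalizer_sigmaCore Mstar hcM) hxs
    have hy : ⁅c, x⁆ ∈ sigmaCore Mstar := by
      rw [commutatorElement_def]
      exact (sigmaCore Mstar).mul_mem h1 ((sigmaCore Mstar).inv_mem hxs)
    have hoy : orderOf ⁅c, x⁆ = l := by
      apply orderOf_eq_prime _ hy1
      have := pow_card_eq_one' (G := X) (x := ⟨⁅c, x⁆, hyX⟩)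
      rw [hX] at this
      exact congrArg Subtype.val this
    have hox : orderOf x = Nat.card K := by
      haveI : Fact (Nat.card K).Prime := ⟨hkp⟩
      apply orderOf_eq_prime _ hx1
      have := pow_card_eq_one' (G := K) (x := ⟨x, hx⟩)
      exact congrArg Subtype.val this
    have hcomm : ⁅c, x⁆ * x = x * ⁅c, x⁆ :=
      Cfsg.Agent.Lib.Helper1.BGFcons.commute_of_coprime_of_nilpotent hnilMs hy hxs
        (by rw [hoy, hox]; exact hcopkl.symm)
    have hxX := mem_centralizer_of_commute_of_prime hXp hyX hy1 hcomm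
    exact hxc ((Subgroup.mem_centralizer_iff.mp hxX) c hc)
  have hcd : c * d = d * c := hAcomm c (hXA hc) d hdA
  by_cases hlσ : l ∈ sigma Mstar
  · -- (i-a)
    have hprimes : ∀ p : ℕ, p.Prime → p ∣ Nat.card ↥(A ⊔ K) → p ∈ sigma Mstar := by
      intro p hp hpd
      have hd2 := hpd.trans (Cfsg.Agent.Lib.Helper9.card_sup_dvd_of_le_normalizer hKA)
      rcases (Nat.Prime.dvd_mul hp).mp hd2 with h | h
      · rw [hAc] at h
        have : p = l := (Nat.prime_dvd_prime_iff_eq hp hlp).mp (hp.dvd_of_dvd_pow h)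
        exact this ▸ hlσ
      · have : p = Nat.card K := (Nat.prime_dvd_prime_iff_eq hp hkp).mp h
        rw [this]
        exact mem_sigma_of_dvd_card_sigmaCore hG hMs hkp (Subgroup.card_dvd_of_le hKsMs)
    have hmeet : (A ⊔ K) ⊓ (sigmaCore Mstar ⊓ Subgroup.centralizer
        ((sigmaCore M ⊓ Subgroup.centralizer (K : Set G) : Subgroup G) : Set G)) ≠ ⊥ := by
      rw [← hKst]
      intro hb
      have : x ∈ (⊥ : Subgroup G) := hb ▸ Subgroup.mem_inf.mpr ⟨Subgroup.mem_sup_right hx, hx⟩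
      exact hx1 (Subgroup.mem_bot.mp this)
    have h31 := (Cfsg.Agent.S1431.result hG Mstar hMs _ hKstH hKs1).2.2.2 (A ⊔ K) hprimes hmeet
    exact hcMs (sigmaCore_le Mstar (h31 (Subgroup.mem_sup_left (hXA hc))))
  · rcases Cfsg.Agent.Lib.Helper11.BG14.mem_kappa_or_tau2 hG hMs hxs hx1 hdMs hdo hlσ hdx with hκ | hτ
    · -- (i-c)
      have hldM : l ∣ Nat.card Mstar := hκ.2.1
      have hnd : ¬ l ∣ (sigmaCore M ⊓ Subgroup.centralizer (K : Set G)).relIndex Mstar :=
        hKstH.2.2 l hlp hκ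
      have hcardMs := Cfsg.Agent.Lib.Helper12.card_mul_relIndex_eq hKstH.1
      have hldK : l ∣ Nat.card ↥(sigmaCore M ⊓ Subgroup.centralizer (K : Set G)) := by
        rw [← hcardMs] at hldM
        exact ((Nat.Prime.dvd_mul hlp).mp hldM).resolve_right hnd
      have hlM : l ∈ sigma M := mem_sigma_of_dvd_card_sigmaCore hG hM hlp
        (hldK.trans (Subgroup.card_dvd_of_le inf_le_left))
      have hA1 : A ≠ ⊥ := by
        intro hb
        rw [hb, Subgroup.card_bot] at hAc
        have h2 : 1 < l ^ 2 := Nat.one_lt_pow (by norm_num) hlp.one_lt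
        omega
      obtain ⟨g, hg⟩ := sigma_subgroup_conj hG hM hA1 (fun p hp hpd => by
        rw [hAc] at hpd
        have : p = l := (Nat.prime_dvd_prime_iff_eq hp hlp).mp (hp.dvd_of_dvd_pow hpd)
        exact this ▸ hlM)
      have hc' : g * c * g⁻¹ ∈ sigmaCore M := hg ⟨c, hXA hc, by simp [MulAut.conj_apply]⟩
      have hc'1 : g * c * g⁻¹ ≠ 1 := by
        intro h
        apply hc1
        have : c = g⁻¹ * (g * c * g⁻¹) * g := by group
        rw [this, h]; group
      have hcen := hTI _ hc' hc'1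
      have hle : Subgroup.centralizer (X : Set G) ≤ M.map (MulAut.conj g⁻¹).toMonoidHom := by
        intro z hz
        have hzc : c * z = z * c := (Subgroup.mem_centralizer_iff.mp hz) c hc
        have hz' : g * z * g⁻¹ ∈ M := by
          apply hcen
          rw [Subgroup.mem_centralizer_iff]
          intro w hw
          rw [Set.mem_singleton_iff] at hw
          rw [hw]
          calc g * c * g⁻¹ * (g * z * g⁻¹) = g * (c * z) * g⁻¹ := by group
            _ = g * (z * c) * g⁻¹ := by rw [hzc]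
            _ = g * z * g⁻¹ * (g * c * g⁻¹) := by group
        refine ⟨g * z * g⁻¹, hz', ?_⟩
        simp only [MulEquiv.coe_toMonoidHom, MulAut.conj_apply]
        group
      have hHM := huniq _ (isCoatom_map_conj g⁻¹ hM) hle
      have hMH : M = H.map (MulAut.conj g).toMonoidHom := by
        rw [← hHM]
        exact (Cfsg.Agent.Lib.Helper13.map_conj_map_conj_inv M g).symm
      exact ne_conj_of_mem_sigma_of_not_mem hM hlM hl.2.1 g hMH
    · -- (i-b)
      obtain ⟨Es, hEs, -⟩ := exists_isComplIn_sigmaCore_ge hG hMs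
        (bot_le : (⊥ : Subgroup G) ≤ Mstar)
        (by rw [Subgroup.card_bot]; exact Nat.coprime_one_left _)
      have h20 := (Cfsg.Agent.S1420.result hG Mstar hMs Es hEs).2.2.2 d hdMs hd1
        (fun p hp hpd => by
          rw [hdo] at hpd
          have : p = l := (Nat.prime_dvd_prime_iff_eq hp hlp).mp hpd
          exact this ▸ hτ)
        ⟨hdMs, x, hxs, hx1, hdx⟩
      apply hcMs
      apply h20.1
      rw [Subgroup.mem_centralizer_iff]
      intro z hz
      rw [Set.mem_singleton_iff] at hz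
      rw [hz]
      exact hcd.symm

/-- **Combined form**: under the hypotheses of `false_of_tau2_line`, `K` cannot act
fixed-point-freely on a nontrivial `K`-invariant elementary abelian `l`-subgroup `V` of `H`
with `l ∈ τ₂(H)`. -/
theorem false_of_tau2_invariant (hG : IsMinSimpleOddOrder G) {M K Mstar H V : Subgroup G}
    (hM : IsCoatom M) (hMs : IsCoatom Mstar) (hH : IsCoatom H)
    (hkp : (Nat.card K).Prime)
    (hKs1 : sigmaCore M ⊓ Subgroup.centralizer (K : Set G) ≠ ⊥)
    (hKst : K = sigmaCore Mstar ⊓ Subgroup.centralizer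
      ((sigmaCore M ⊓ Subgroup.centralizer (K : Set G) : Subgroup G) : Set G))
    (hKstH : IsPiHallOf (kappa Mstar) (sigmaCore M ⊓ Subgroup.centralizer (K : Set G)) Mstar)
    (hCK : Subgroup.centralizer (K : Set G) ≤ Mstar)
    (hnilMs : Group.IsNilpotent ↥(sigmaCore Mstar))
    (hTI : ∀ x ∈ sigmaCore M, x ≠ 1 → Subgroup.centralizer ({x} : Set G) ≤ M)
    (hKH : K ≤ H) (hreg : sigmaCore H ⊓ Subgroup.centralizer (K : Set G) = ⊥)
    {l : ℕ} [Fact l.Prime] (hl : l ∈ tau2 H) (hVH : V ≤ H) (hV1 : V ≠ ⊥)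
    (hVe : IsElementaryAbelian l V) (hKV : K ≤ Subgroup.normalizer (V : Set G))
    (hfix : V ⊓ Subgroup.centralizer (K : Set G) = ⊥) : False := by
  have hlp : l.Prime := Fact.out
  have hVp : IsPGroup l V := by
    intro v
    refine ⟨1, ?_⟩
    rw [pow_one]
    apply Subtype.ext
    rw [Subgroup.coe_pow, Subgroup.coe_one]
    exact hVe.2 v v.2
  obtain ⟨n, hn⟩ := hVp.exists_card_eq
  have hle : Nat.card V ≤ l ^ 2 :=
    Cfsg.Agent.Lib.Helper9.card_le_of_pRankLE hVH hVe.1 hVe.2 hl.2.2.1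
  have hn2 : n ≤ 2 := by
    by_contra h
    push Not at h
    have : l ^ 2 < l ^ n := Nat.pow_lt_pow_right hlp.one_lt h
    omega
  have hn0 : n ≠ 0 := by
    intro h
    rw [h, pow_zero] at hn
    exact hV1 (Subgroup.card_eq_one.mp hn)
  rcases (by omega : n = 1 ∨ n = 2) with h | h
  · rw [h, pow_one] at hn
    apply false_of_tau2_line hG hM hMs hH hkp hKs1 hKst hKstH hCK hnilMs hTI hKH hreg hl hVH hn hKV
    intro hKC
    apply hV1
    apply le_bot_iff.mp
    rw [← hfix]
    refine le_inf le_rfl ?_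
    intro v hv
    rw [Subgroup.mem_centralizer_iff]
    intro x hx
    exact ((Subgroup.mem_centralizer_iff.mp (hKC hx)) v hv).symm
  · rw [h] at hn
    exact false_of_fpf_elementary_sq hG hH hKH hkp hreg hl hVH hVe hn hKV hfix

/-- **Lemma C'** (= Lemma C without the nilpotency hypothesis on `M*_σ`, via S1423).  Let `M = K U M_σ` be of type `P₂` with
partner `M*` (so `K ≤ M*_σ`, `C_G(K) ≤ M*`, `M*_σ` nilpotent, and `C_G(x) ≤ M` for `x ∈ M_σ - 1`),
and let `H` be a maximal subgroup containing `K`, with `K` of prime order acting regularly on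
`H_σ`.  Then `K` centralizes every `K`-invariant subgroup `X ≤ H` of order `l ∈ τ₂(H)`. -/
theorem false_of_tau2_line' (hG : IsMinSimpleOddOrder G) {M K Mstar H X : Subgroup G}
    (hM : IsCoatom M) (hMs : IsCoatom Mstar) (hH : IsCoatom H)
    (hkp : (Nat.card K).Prime)
    (hKs1 : sigmaCore M ⊓ Subgroup.centralizer (K : Set G) ≠ ⊥)
    (hKst : K = sigmaCore Mstar ⊓ Subgroup.centralizer
      ((sigmaCore M ⊓ Subgroup.centralizer (K : Set G) : Subgroup G) : Set G))
    (hKstH : IsPiHallOf (kappa Mstar) (sigmaCore M ⊓ Subgroup.centralizer (K : Set G)) Mstar)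
    (hCK : Subgroup.centralizer (K : Set G) ≤ Mstar)
    (hTI : ∀ x ∈ sigmaCore M, x ≠ 1 → Subgroup.centralizer ({x} : Set G) ≤ M)
    (hKH : K ≤ H) (hreg : sigmaCore H ⊓ Subgroup.centralizer (K : Set G) = ⊥)
    {l : ℕ} [Fact l.Prime] (hl : l ∈ tau2 H) (hXH : X ≤ H) (hX : Nat.card X = l)
    (hKX : K ≤ Subgroup.normalizer (X : Set G))
    (hnX : ¬ K ≤ Subgroup.centralizer (X : Set G)) : False := by
  have hlp : l.Prime := Fact.out
  have hXp : (Nat.card X).Prime := hX ▸ hlp
  have hlQ := not_dvd_card_sigmaCore_of_mem_tau2 hG hH hl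
  have hcopl : l.Coprime (Nat.card (sigmaCore H)) := (Nat.Prime.coprime_iff_not_dvd hlp).mpr hlQ
  have hkσ := not_mem_sigma_of_regular hG hH hKH hkp hreg
  have hkQ : ¬ Nat.card K ∣ Nat.card (sigmaCore H) :=
    fun hd => hkσ (mem_sigma_of_dvd_card_sigmaCore hG hH hkp hd)
  have hcopk : (Nat.card K).Coprime (Nat.card (sigmaCore H)) :=
    (Nat.Prime.coprime_iff_not_dvd hkp).mpr hkQ
  have hcopXK : (Nat.card ↥(X ⊔ K)).Coprime (Nat.card (sigmaCore H)) := by
    have hd := Cfsg.Agent.Lib.Helper9.card_sup_dvd_of_le_normalizer hKX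
    apply Nat.Coprime.coprime_dvd_left hd
    rw [hX]
    exact Nat.Coprime.mul_left hcopl hcopk
  obtain ⟨E, hE, hXKE⟩ := exists_isComplIn_sigmaCore_ge hG hH (sup_le hXH hKH) hcopXK
  have hXE : X ≤ E := le_sup_left.trans hXKE
  have hKE : K ≤ E := le_sup_right.trans hXKE
  obtain ⟨A, hAE, hAe, hAc⟩ := tau2_elem_sq_compl hG hH hE hl
  have hAH : A ≤ H := hAE.trans hE.1
  have h18 := Cfsg.Agent.S1418.result hG H hH E hE l hl A ⟨hAE, hAe, hAc⟩
  have h17 := Cfsg.Agent.S1417.result hG H hH l hl A ⟨hAH, hAe, hAc⟩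
  have hXA : X ≤ A := h18.1.2 X hXE hX
  have hKA : K ≤ Subgroup.normalizer (A : Set G) := hKE.trans h18.1.1
  have hAcomm : ∀ a ∈ A, ∀ b ∈ A, a * b = b * a := by
    intro a ha b hb
    have := hAe.1.is_comm.comm (⟨a, ha⟩ : A) ⟨b, hb⟩
    exact congrArg Subtype.val this
  -- non-commuting pair
  obtain ⟨x, hx, c, hc, hxc⟩ : ∃ x ∈ K, ∃ c ∈ X, c * x ≠ x * c := by
    by_contra h
    push Not at h
    apply hnX
    intro x hx
    rw [Subgroup.mem_centralizer_iff]
    intro c hc
    exact h x hx c hc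
  have hx1 : x ≠ 1 := by
    rintro rfl
    exact hxc (by simp)
  have hc1 : c ≠ 1 := by
    rintro rfl
    exact hxc (by simp)
  -- `|K| ≠ l`
  have hkl : Nat.card K ≠ l := by
    intro hk
    have hKA' : K ≤ A := h18.1.2 K hKE hk
    exact hxc (hAcomm c (hXA hc) x (hKA' hx))
  have hcopkl : (Nat.card K).Coprime l := (Nat.coprime_primes hkp hlp).mpr hkl
  -- `y = [c, x]` generates `X`
  have hyX : ⁅c, x⁆ ∈ X := by
    rw [commutatorElement_def]
    have h2 : x * c⁻¹ * x⁻¹ ∈ X := conj_mem_of_mem_normalizer (hKX hx) (X.inv_mem hc)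
    have : c * x * c⁻¹ * x⁻¹ = c * (x * c⁻¹ * x⁻¹) := by group
    rw [this]
    exact X.mul_mem hc h2
  have hy1 : ⁅c, x⁆ ≠ 1 := fun h => hxc (commutatorElement_eq_one_iff_mul_comm.mp h)
  -- `X` centralizes `H_σ`
  have hkA : ¬ Nat.card K ∣ Nat.card A := by
    rw [hAc]
    intro hd
    exact hkl ((Nat.prime_dvd_prime_iff_eq hkp hlp).mp (hkp.dvd_of_dvd_pow hd))
  have hcopA : (Nat.card A).Coprime (Nat.card (sigmaCore H)) := by
    rw [hAc]; exact Nat.Coprime.pow_left 2 hcopl
  have hLA := commutator_mem_centralizer_sigmaCore hG hH h17.1 hKH hkp hreg hAH hKA hcopA hkA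
  have hycen : ⁅c, x⁆ ∈ Subgroup.centralizer ((sigmaCore H : Subgroup G) : Set G) :=
    hLA c (hXA hc) x hx
  have hXcen : X ≤ Subgroup.centralizer ((sigmaCore H : Subgroup G) : Set G) := by
    intro z hz
    have hzy := mem_zpowers_of_prime_card hXp hyX hy1 z hz
    exact (Subgroup.zpowers_le.mpr hycen) hzy
  have hXs : sigmaCore H ⊓ Subgroup.centralizer (X : Set G) ≠ ⊥ := by
    intro hb
    apply sigmaCore_ne_bot hG hH
    apply le_bot_iff.mp
    rw [← hb]
    refine le_inf le_rfl ?_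
    intro q hq
    rw [Subgroup.mem_centralizer_iff]
    intro z hz
    exact ((Subgroup.mem_centralizer_iff.mp (hXcen hz)) q hq).symm
  obtain ⟨hCX, huniq⟩ := h18.2.2 X hXA hX hXs
  -- case split on `C_A(K)`
  by_cases hfix : A ⊓ Subgroup.centralizer (K : Set G) = ⊥
  · exact false_of_fpf_elementary_sq hG hH hKH hkp hreg hl hAH hAe hAc hKA hfix
  obtain ⟨d, hd, hd1⟩ : ∃ d ∈ A ⊓ Subgroup.centralizer (K : Set G), d ≠ 1 := by
    by_contra h
    push Not at h
    exact hfix ((Subgroup.eq_bot_iff_forall _).mpr h)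
  have hdA : d ∈ A := (Subgroup.mem_inf.mp hd).1
  have hdC : d ∈ Subgroup.centralizer (K : Set G) := (Subgroup.mem_inf.mp hd).2
  have hdMs : d ∈ Mstar := hCK hdC
  have hKsMs : K ≤ sigmaCore Mstar := (le_of_eq hKst).trans inf_le_left
  have hxs : x ∈ sigmaCore Mstar := hKsMs hx
  have hdx : d * x = x * d := ((Subgroup.mem_centralizer_iff.mp hdC) x hx).symm
  have hdo : orderOf d = l := orderOf_eq_prime (hAe.2 d hdA) hd1
  -- `c ∉ M*`
  have hcMs : c ∉ Mstar := by
    intro hcM
    have h1 : c * x * c⁻¹ ∈ sigmaCore Mstar :=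
      conj_mem_of_mem_normalizer (le_normalizer_sigmaCore Mstar hcM) hxs
    have hy : ⁅c, x⁆ ∈ sigmaCore Mstar := by
      rw [commutatorElement_def]
      exact (sigmaCore Mstar).mul_mem h1 ((sigmaCore Mstar).inv_mem hxs)
    have hXs' : X ≤ sigmaCore Mstar := by
      intro z hz
      exact (Subgroup.zpowers_le.mpr hy) (mem_zpowers_of_prime_card hXp hyX hy1 z hz)
    have hlσ' : l ∈ sigma Mstar :=
      mem_sigma_of_dvd_card_sigmaCore hG hMs hlp (hX ▸ Subgroup.card_dvd_of_le hXs')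
    have hyD : ⁅c, x⁆ ∈ ⁅sigmaCore Mstar, sigmaCore Mstar⁆ :=
      Subgroup.commutator_mem_commutator (hXs' hc) hxs
    have hXD : X ≤ ⁅sigmaCore Mstar, sigmaCore Mstar⁆ := by
      intro z hz
      exact (Subgroup.zpowers_le.mpr hyD) (mem_zpowers_of_prime_card hXp hyX hy1 z hz)
    have h23 := (Cfsg.Agent.S1423.result hG Mstar hMs l hlσ' X
      (hXs'.trans (sigmaCore_le Mstar)) hX (Classical.arbitrary _) (Or.inr hXD)).1
    have hHM : H = Mstar := h23.2 H hH hCX
    have hxH : x ∈ sigmaCore H := hHM ▸ hxs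
    exact hx1 (mem_bot_of_commute_of_regular hkp hreg hx hx1 hxH rfl)
  have hcd : c * d = d * c := hAcomm c (hXA hc) d hdA
  by_cases hlσ : l ∈ sigma Mstar
  · -- (i-a)
    have hprimes : ∀ p : ℕ, p.Prime → p ∣ Nat.card ↥(A ⊔ K) → p ∈ sigma Mstar := by
      intro p hp hpd
      have hd2 := hpd.trans (Cfsg.Agent.Lib.Helper9.card_sup_dvd_of_le_normalizer hKA)
      rcases (Nat.Prime.dvd_mul hp).mp hd2 with h | h
      · rw [hAc] at h
        have : p = l := (Nat.prime_dvd_prime_iff_eq hp hlp).mp (hp.dvd_of_dvd_pow h)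
        exact this ▸ hlσ
      · have : p = Nat.card K := (Nat.prime_dvd_prime_iff_eq hp hkp).mp h
        rw [this]
        exact mem_sigma_of_dvd_card_sigmaCore hG hMs hkp (Subgroup.card_dvd_of_le hKsMs)
    have hmeet : (A ⊔ K) ⊓ (sigmaCore Mstar ⊓ Subgroup.centralizer
        ((sigmaCore M ⊓ Subgroup.centralizer (K : Set G) : Subgroup G) : Set G)) ≠ ⊥ := by
      rw [← hKst]
      intro hb
      have : x ∈ (⊥ : Subgroup G) := hb ▸ Subgroup.mem_inf.mpr ⟨Subgroup.mem_sup_right hx, hx⟩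
      exact hx1 (Subgroup.mem_bot.mp this)
    have h31 := (Cfsg.Agent.S1431.result hG Mstar hMs _ hKstH hKs1).2.2.2 (A ⊔ K) hprimes hmeet
    exact hcMs (sigmaCore_le Mstar (h31 (Subgroup.mem_sup_left (hXA hc))))
  · rcases Cfsg.Agent.Lib.Helper11.BG14.mem_kappa_or_tau2 hG hMs hxs hx1 hdMs hdo hlσ hdx with hκ | hτ
    · -- (i-c)
      have hldM : l ∣ Nat.card Mstar := hκ.2.1
      have hnd : ¬ l ∣ (sigmaCore M ⊓ Subgroup.centralizer (K : Set G)).relIndex Mstar :=
        hKstH.2.2 l hlp hκ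
      have hcardMs := Cfsg.Agent.Lib.Helper12.card_mul_relIndex_eq hKstH.1
      have hldK : l ∣ Nat.card ↥(sigmaCore M ⊓ Subgroup.centralizer (K : Set G)) := by
        rw [← hcardMs] at hldM
        exact ((Nat.Prime.dvd_mul hlp).mp hldM).resolve_right hnd
      have hlM : l ∈ sigma M := mem_sigma_of_dvd_card_sigmaCore hG hM hlp
        (hldK.trans (Subgroup.card_dvd_of_le inf_le_left))
      have hA1 : A ≠ ⊥ := by
        intro hb
        rw [hb, Subgroup.card_bot] at hAc
        have h2 : 1 < l ^ 2 := Nat.one_lt_pow (by norm_num) hlp.one_lt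
        omega
      obtain ⟨g, hg⟩ := sigma_subgroup_conj hG hM hA1 (fun p hp hpd => by
        rw [hAc] at hpd
        have : p = l := (Nat.prime_dvd_prime_iff_eq hp hlp).mp (hp.dvd_of_dvd_pow hpd)
        exact this ▸ hlM)
      have hc' : g * c * g⁻¹ ∈ sigmaCore M := hg ⟨c, hXA hc, by simp [MulAut.conj_apply]⟩
      have hc'1 : g * c * g⁻¹ ≠ 1 := by
        intro h
        apply hc1
        have : c = g⁻¹ * (g * c * g⁻¹) * g := by group
        rw [this, h]; group
      have hcen := hTI _ hc' hc'1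
      have hle : Subgroup.centralizer (X : Set G) ≤ M.map (MulAut.conj g⁻¹).toMonoidHom := by
        intro z hz
        have hzc : c * z = z * c := (Subgroup.mem_centralizer_iff.mp hz) c hc
        have hz' : g * z * g⁻¹ ∈ M := by
          apply hcen
          rw [Subgroup.mem_centralizer_iff]
          intro w hw
          rw [Set.mem_singleton_iff] at hw
          rw [hw]
          calc g * c * g⁻¹ * (g * z * g⁻¹) = g * (c * z) * g⁻¹ := by group
            _ = g * (z * c) * g⁻¹ := by rw [hzc]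
            _ = g * z * g⁻¹ * (g * c * g⁻¹) := by group
        refine ⟨g * z * g⁻¹, hz', ?_⟩
        simp only [MulEquiv.coe_toMonoidHom, MulAut.conj_apply]
        group
      have hHM := huniq _ (isCoatom_map_conj g⁻¹ hM) hle
      have hMH : M = H.map (MulAut.conj g).toMonoidHom := by
        rw [← hHM]
        exact (Cfsg.Agent.Lib.Helper13.map_conj_map_conj_inv M g).symm
      exact ne_conj_of_mem_sigma_of_not_mem hM hlM hl.2.1 g hMH
    · -- (i-b)
      obtain ⟨Es, hEs, -⟩ := exists_isComplIn_sigmaCore_ge hG hMs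
        (bot_le : (⊥ : Subgroup G) ≤ Mstar)
        (by rw [Subgroup.card_bot]; exact Nat.coprime_one_left _)
      have h20 := (Cfsg.Agent.S1420.result hG Mstar hMs Es hEs).2.2.2 d hdMs hd1
        (fun p hp hpd => by
          rw [hdo] at hpd
          have : p = l := (Nat.prime_dvd_prime_iff_eq hp hlp).mp hpd
          exact this ▸ hτ)
        ⟨hdMs, x, hxs, hx1, hdx⟩
      apply hcMs
      apply h20.1
      rw [Subgroup.mem_centralizer_iff]
      intro z hz
      rw [Set.mem_singleton_iff] at hz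
      rw [hz]
      exact hcd.symm


/-- **Combined form'** (no nilpotency hypothesis on `M*_σ`): under the hypotheses of `false_of_tau2_line`, `K` cannot act
fixed-point-freely on a nontrivial `K`-invariant elementary abelian `l`-subgroup `V` of `H`
with `l ∈ τ₂(H)`. -/
theorem false_of_tau2_invariant' (hG : IsMinSimpleOddOrder G) {M K Mstar H V : Subgroup G}
    (hM : IsCoatom M) (hMs : IsCoatom Mstar) (hH : IsCoatom H)
    (hkp : (Nat.card K).Prime)
    (hKs1 : sigmaCore M ⊓ Subgroup.centralizer (K : Set G) ≠ ⊥)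
    (hKst : K = sigmaCore Mstar ⊓ Subgroup.centralizer
      ((sigmaCore M ⊓ Subgroup.centralizer (K : Set G) : Subgroup G) : Set G))
    (hKstH : IsPiHallOf (kappa Mstar) (sigmaCore M ⊓ Subgroup.centralizer (K : Set G)) Mstar)
    (hCK : Subgroup.centralizer (K : Set G) ≤ Mstar)
    (hTI : ∀ x ∈ sigmaCore M, x ≠ 1 → Subgroup.centralizer ({x} : Set G) ≤ M)
    (hKH : K ≤ H) (hreg : sigmaCore H ⊓ Subgroup.centralizer (K : Set G) = ⊥)
    {l : ℕ} [Fact l.Prime] (hl : l ∈ tau2 H) (hVH : V ≤ H) (hV1 : V ≠ ⊥)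
    (hVe : IsElementaryAbelian l V) (hKV : K ≤ Subgroup.normalizer (V : Set G))
    (hfix : V ⊓ Subgroup.centralizer (K : Set G) = ⊥) : False := by
  have hlp : l.Prime := Fact.out
  have hVp : IsPGroup l V := by
    intro v
    refine ⟨1, ?_⟩
    rw [pow_one]
    apply Subtype.ext
    rw [Subgroup.coe_pow, Subgroup.coe_one]
    exact hVe.2 v v.2
  obtain ⟨n, hn⟩ := hVp.exists_card_eq
  have hle : Nat.card V ≤ l ^ 2 :=
    Cfsg.Agent.Lib.Helper9.card_le_of_pRankLE hVH hVe.1 hVe.2 hl.2.2.1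
  have hn2 : n ≤ 2 := by
    by_contra h
    push Not at h
    have : l ^ 2 < l ^ n := Nat.pow_lt_pow_right hlp.one_lt h
    omega
  have hn0 : n ≠ 0 := by
    intro h
    rw [h, pow_zero] at hn
    exact hV1 (Subgroup.card_eq_one.mp hn)
  rcases (by omega : n = 1 ∨ n = 2) with h | h
  · rw [h, pow_one] at hn
    apply false_of_tau2_line' hG hM hMs hH hkp hKs1 hKst hKstH hCK hTI hKH hreg hl hVH hn hKV
    intro hKC
    apply hV1
    apply le_bot_iff.mp
    rw [← hfix]
    refine le_inf le_rfl ?_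
    intro v hv
    rw [Subgroup.mem_centralizer_iff]
    intro x hx
    exact ((Subgroup.mem_centralizer_iff.mp (hKC hx)) v hv).symm
  · rw [h] at hn
    exact false_of_fpf_elementary_sq hG hH hKH hkp hreg hl hVH hVe hn hKV hfix

end Cfsg.Agent.Lib.Helper10.BG
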