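import Mathlib
import Cfsg.Agent.Lib.Helper10.BGHypKill
import Cfsg.Agent.Lib.Helper10.BGFifteenB
import Cfsg.Agent.Lib.Helper7.BG148C
import Cfsg.Agent.S1324
import Cfsg.Agent.S1375
import Cfsg.Agent.S1415
import Cfsg.Agent.Lib.Helper17.CoprimeGen

/-!
B&G Corollary 14.8 (statement S1435), parts (b), (e), (f): with `M = K U M_σ` of type `P₂`,
partner `M*`, and `H` a maximal subgroup containing `U K` and not conjugate to `M`:
`U ≤ H_σ`, `K ≤ F(H ∩ M*)` and `H ∩ M*` is a complement of `H_σ` in `H`.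
-/

set_option autoImplicit false
set_option linter.style.haveILetI false
set_option linter.unusedSectionVars false
set_option linter.unusedVariables false
open Cfsg
open scoped commutatorElement

namespace Cfsg.Agent.Lib.Helper10.BG

open Cfsg.Agent.Lib.Helper10 Cfsg.Agent.Lib.Helper9.BGExc
open Cfsg.Agent.Lib.Helper19.BGCompl Cfsg.Agent.Lib.Helper19.BG12

variable {G : Type*} [Group G] [Finite G]

/-- **L1**: `K` of prime order regular on the nilpotent `H_σ`; a `K`-invariant subgroup `V ≤ H`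
of order prime to `|H_σ|` and `|K|` on which `K` acts fixed-point-freely centralizes `H_σ`. -/
theorem le_centralizer_sigmaCore_of_fpf (hG : IsMinSimpleOddOrder G) {H K V : Subgroup G}
    (hH : IsCoatom H) (hnil : Group.IsNilpotent ↥(sigmaCore H)) (hKH : K ≤ H)
    (hkp : (Nat.card K).Prime)
    (hreg : sigmaCore H ⊓ Subgroup.centralizer (K : Set G) = ⊥) (hVH : V ≤ H)
    (hKV : K ≤ Subgroup.normalizer (V : Set G))
    (hcop : (Nat.card V).Coprime (Nat.card (sigmaCore H))) (hkV : ¬ Nat.card K ∣ Nat.card V)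
    (hfix : V ⊓ Subgroup.centralizer (K : Set G) = ⊥) :
    V ≤ Subgroup.centralizer ((sigmaCore H : Subgroup G) : Set G) := by
  have hA := commutator_mem_centralizer_sigmaCore hG hH hnil hKH hkp hreg hVH hKV hcop hkV
  obtain ⟨x, hx, hx1⟩ := exists_ne_one_of_prime_card hkp
  have hxV := hKV hx
  have hmem : ∀ v ∈ V, ⁅v, x⁆ ∈ V := by
    intro v hv
    rw [commutatorElement_def]
    have h1 : x * v⁻¹ * x⁻¹ ∈ V := (Subgroup.mem_normalizer_iff.mp hxV v⁻¹).mp (V.inv_mem hv)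
    have : v * x * v⁻¹ * x⁻¹ = v * (x * v⁻¹ * x⁻¹) := by group
    rw [this]
    exact V.mul_mem hv h1
  let f : V → V := fun v => ⟨⁅(v : G), x⁆, hmem v v.2⟩
  have hinj : Function.Injective f := by
    intro v w hvw
    have h1 : ⁅(v : G), x⁆ = ⁅(w : G), x⁆ := congrArg Subtype.val hvw
    rw [commutatorElement_def, commutatorElement_def] at h1
    have h2 : (v : G) * x * (v : G)⁻¹ = (w : G) * x * (w : G)⁻¹ := mul_right_cancel h1
    have h3 : x * ((v : G)⁻¹ * w) = ((v : G)⁻¹ * w) * x := by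
      have : x = (v : G)⁻¹ * ((w : G) * x * (w : G)⁻¹) * v := by rw [← h2]; group
      calc x * ((v : G)⁻¹ * w)
          = ((v : G)⁻¹ * ((w : G) * x * (w : G)⁻¹) * v) * ((v : G)⁻¹ * w) := by rw [← this]
        _ = ((v : G)⁻¹ * w) * x := by group
    have h4 := mem_centralizer_of_commute_of_prime hkp hx hx1 h3
    have h5 : (v : G)⁻¹ * w ∈ (⊥ : Subgroup G) :=
      hfix ▸ Subgroup.mem_inf.mpr ⟨V.mul_mem (V.inv_mem v.2) w.2, h4⟩
    apply Subtype.ext
    exact (inv_mul_eq_one.mp (Subgroup.mem_bot.mp h5))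
  have hsurj : Function.Surjective f := Finite.surjective_of_injective hinj
  intro v hv
  obtain ⟨w, hw⟩ := hsurj ⟨v, hv⟩
  have : ⁅(w : G), x⁆ = v := congrArg Subtype.val hw
  rw [← this]
  exact hA w w.2 x hx

/-- **L2**: under the hypotheses of L1 with `κ(H) = ∅`, a nontrivial elementary abelian
`l`-subgroup `V` (`l ∉ σ(H)`) on which `K` acts fixed-point-freely forces `l ∈ τ₂(H)`. -/
theorem mem_tau2_of_fpf (hG : IsMinSimpleOddOrder G) {H K V : Subgroup G}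
    (hH : IsCoatom H) (hnil : Group.IsNilpotent ↥(sigmaCore H)) (hKH : K ≤ H)
    (hkp : (Nat.card K).Prime)
    (hreg : sigmaCore H ⊓ Subgroup.centralizer (K : Set G) = ⊥) (hκ : kappa H = ∅)
    {l : ℕ} [Fact l.Prime] (hlσ : l ∉ sigma H) (hkl : Nat.card K ≠ l) (hVH : V ≤ H)
    (hV1 : V ≠ ⊥) (hVe : IsElementaryAbelian l V)
    (hKV : K ≤ Subgroup.normalizer (V : Set G))
    (hfix : V ⊓ Subgroup.centralizer (K : Set G) = ⊥) : l ∈ tau2 H := by
  have hlp : l.Prime := Fact.out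
  have hVp : IsPGroup l V := by
    intro v
    refine ⟨1, ?_⟩
    rw [pow_one]
    apply Subtype.ext
    rw [Subgroup.coe_pow, Subgroup.coe_one]
    exact hVe.2 v v.2
  obtain ⟨n, hn⟩ := hVp.exists_card_eq
  have hlQ : ¬ l ∣ Nat.card (sigmaCore H) :=
    fun hd => hlσ (mem_sigma_of_dvd_card_sigmaCore hG hH hlp hd)
  have hcop : (Nat.card V).Coprime (Nat.card (sigmaCore H)) := by
    rw [hn]
    exact Nat.Coprime.pow_left n ((Nat.Prime.coprime_iff_not_dvd hlp).mpr hlQ)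
  have hkV : ¬ Nat.card K ∣ Nat.card V := by
    rw [hn]
    intro hd
    exact hkl ((Nat.prime_dvd_prime_iff_eq hkp hlp).mp (hkp.dvd_of_dvd_pow hd))
  have hVcen := le_centralizer_sigmaCore_of_fpf hG hH hnil hKH hkp hreg hVH hKV hcop hkV hfix
  obtain ⟨v, hv, hv1⟩ : ∃ v ∈ V, v ≠ 1 := by
    by_contra h
    push Not at h
    exact hV1 ((Subgroup.eq_bot_iff_forall V).mpr h)
  obtain ⟨y, hy, hy1⟩ : ∃ y ∈ sigmaCore H, y ≠ 1 := by
    by_contra h
    push Not at h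
    exact sigmaCore_ne_bot hG hH ((Subgroup.eq_bot_iff_forall _).mpr h)
  have hvo : orderOf v = l := orderOf_eq_prime (hVe.2 v hv) hv1
  have hvy : v * y = y * v := ((Subgroup.mem_centralizer_iff.mp (hVcen hv)) y hy).symm
  rcases Cfsg.Agent.Lib.Helper11.BG14.mem_kappa_or_tau2 hG hH hy hy1 (hVH hv) hvo hlσ hvy with
    h | h
  · rw [hκ] at h
    exact absurd h (Set.notMem_empty l)
  · exact h

/-- the regularity of `K` on `H_σ` in subgroup form. -/
theorem sigmaCore_inf_centralizer_eq_bot_of_regular {H K : Subgroup G}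
    (hkp : (Nat.card K).Prime)
    (h : ∀ x ∈ K, x ≠ 1 → ∀ y ∈ sigmaCore H, x * y = y * x → y = 1) :
    sigmaCore H ⊓ Subgroup.centralizer (K : Set G) = ⊥ := by
  obtain ⟨x, hx, hx1⟩ := exists_ne_one_of_prime_card hkp
  rw [eq_bot_iff]
  intro y hy
  obtain ⟨hyσ, hyC⟩ := Subgroup.mem_inf.mp hy
  exact Subgroup.mem_bot.mpr (h x hx hx1 y hyσ ((Subgroup.mem_centralizer_iff.mp hyC) x hx))

/-- **L3**: in the setting of B&G Corollary 14.8, `K` cannot act fixed-point-freely on a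
nontrivial `K`-invariant elementary abelian `l`-subgroup `V ≤ H` with `l ∉ σ(H)`. -/
theorem false_of_fpf_invariant (hG : IsMinSimpleOddOrder G) {M K U Mstar H V : Subgroup G}
    (hM : IsCoatom M) (hKU : IsSigmaDecomposition M K U) (hK1 : K ≠ ⊥) (hU1 : U ≠ ⊥)
    (hMstar : IsCoatom Mstar)
    (hKst : K = sigmaCore Mstar ⊓ Subgroup.centralizer
      ((sigmaCore M ⊓ Subgroup.centralizer (K : Set G) : Subgroup G) : Set G))
    (hKstH : IsPiHallOf (kappa Mstar) (sigmaCore M ⊓ Subgroup.centralizer (K : Set G)) Mstar)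
    (hH : IsCoatom H) (hUH : U ≤ H) (hKH : K ≤ H)
    (hnc : ∀ g : G, M.map (MulAut.conj g).toMonoidHom ≠ H)
    {l : ℕ} [Fact l.Prime] (hlσ : l ∉ sigma H) (hkl : Nat.card K ≠ l) (hVH : V ≤ H)
    (hV1 : V ≠ ⊥) (hVe : IsElementaryAbelian l V)
    (hKV : K ≤ Subgroup.normalizer (V : Set G))
    (hfix : V ⊓ Subgroup.centralizer (K : Set G) = ⊥) : False := by
  obtain ⟨hkσ, hκ, hregel, hnil⟩ :=
    Cfsg.Agent.Lib.Helper7.BG148.steps_35 hG hM hKU hK1 hU1 hH hUH hKH hnc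
  have hkp : (Nat.card K).Prime := (Cfsg.Agent.S1372.result hG M hM K U hKU hK1 hU1).1
  have hreg := sigmaCore_inf_centralizer_eq_bot_of_regular hkp hregel
  have hKs1 : sigmaCore M ⊓ Subgroup.centralizer (K : Set G) ≠ ⊥ :=
    (Cfsg.Agent.S1354.result hG M hM K hKU.cyclic hKU.hall).1
  have hCK : Subgroup.centralizer (K : Set G) ≤ Mstar :=
    ((Cfsg.Agent.S1367.result hG M hM K U hKU hK1 Mstar hMstar hKst hKstH).2 K le_rfl hkp).1
  have hTI : ∀ x ∈ sigmaCore M, x ≠ 1 → Subgroup.centralizer ({x} : Set G) ≤ M :=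
    fun x hx hx1 => centralizer_le_of_U_ne_bot hG
      (fun M hM K U hKU => Cfsg.Agent.S1353.result hG M hM K U hKU)
      (fun M hM x hx hx1 hxM => Cfsg.Agent.S1375.result hG M hM x hx hx1 hxM)
      hM hKU hK1 hU1 hx hx1
  have hl := mem_tau2_of_fpf hG hH hnil hKH hkp hreg hκ hlσ hkl hVH hV1 hVe hKV hfix
  exact false_of_tau2_invariant' hG hM hMstar hH hkp hKs1 hKst hKstH hCK hTI hKH hreg hl hVH hV1
    hVe hKV hfix

/-- the `l`-torsion subgroup of an abelian subgroup. -/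
def torsionSub (V : Subgroup G) (hab : ∀ a ∈ V, ∀ b ∈ V, a * b = b * a) (l : ℕ) : Subgroup G where
  carrier := {v | v ∈ V ∧ v ^ l = 1}
  mul_mem' := by
    rintro a b ⟨ha, ha'⟩ ⟨hb, hb'⟩
    refine ⟨V.mul_mem ha hb, ?_⟩
    have hc : Commute a b := hab a ha b hb
    rw [hc.mul_pow, ha', hb', one_mul]
  one_mem' := ⟨V.one_mem, one_pow l⟩
  inv_mem' := by
    rintro a ⟨ha, ha'⟩
    exact ⟨V.inv_mem ha, by rw [inv_pow, ha', inv_one]⟩

theorem mem_torsionSub {V : Subgroup G} {hab : ∀ a ∈ V, ∀ b ∈ V, a * b = b * a} {l : ℕ} {v : G} :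
    v ∈ torsionSub V hab l ↔ v ∈ V ∧ v ^ l = 1 := Iff.rfl

theorem torsionSub_le (V : Subgroup G) (hab : ∀ a ∈ V, ∀ b ∈ V, a * b = b * a) (l : ℕ) :
    torsionSub V hab l ≤ V := fun _ hv => hv.1

theorem isElementaryAbelian_torsionSub (V : Subgroup G)
    (hab : ∀ a ∈ V, ∀ b ∈ V, a * b = b * a) (l : ℕ) :
    IsElementaryAbelian l (torsionSub V hab l) := by
  refine ⟨⟨⟨fun a b => ?_⟩⟩, fun a ha => ha.2⟩
  apply Subtype.ext
  exact hab a a.2.1 b b.2.1

theorem torsionSub_ne_bot {V : Subgroup G} (hab : ∀ a ∈ V, ∀ b ∈ V, a * b = b * a) {l : ℕ}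
    (hl : l.Prime) (hd : l ∣ Nat.card V) : torsionSub V hab l ≠ ⊥ := by
  haveI : Fact l.Prime := ⟨hl⟩
  obtain ⟨v, hv⟩ := exists_prime_orderOf_dvd_card' (G := V) l hd
  intro hb
  have hvm : (v : G) ∈ torsionSub V hab l := by
    refine ⟨v.2, ?_⟩
    have : v ^ l = 1 := by rw [← hv]; exact pow_orderOf_eq_one v
    exact congrArg Subtype.val this
  rw [hb, Subgroup.mem_bot] at hvm
  have hv1 : v = 1 := Subtype.ext hvm
  rw [hv1, orderOf_one] at hv
  exact hl.one_lt.ne hv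

theorem le_normalizer_torsionSub {V K : Subgroup G} (hab : ∀ a ∈ V, ∀ b ∈ V, a * b = b * a)
    (l : ℕ) (hKV : K ≤ Subgroup.normalizer (V : Set G)) :
    K ≤ Subgroup.normalizer ((torsionSub V hab l : Subgroup G) : Set G) := by
  apply le_normalizer_of_conj_mem
  intro n hn v hv
  refine ⟨conj_mem_of_mem_normalizer (hKV hn) hv.1, ?_⟩
  rw [conj_pow, hv.2]
  group

/-- **B&G Corollary 14.8(b)**: `U ≤ H_σ`. -/
theorem cor148_b (hG : IsMinSimpleOddOrder G) {M K U Mstar H : Subgroup G}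
    (hM : IsCoatom M) (hKU : IsSigmaDecomposition M K U) (hK1 : K ≠ ⊥) (hU1 : U ≠ ⊥)
    (hMstar : IsCoatom Mstar)
    (hKst : K = sigmaCore Mstar ⊓ Subgroup.centralizer
      ((sigmaCore M ⊓ Subgroup.centralizer (K : Set G) : Subgroup G) : Set G))
    (hKstH : IsPiHallOf (kappa Mstar) (sigmaCore M ⊓ Subgroup.centralizer (K : Set G)) Mstar)
    (hH : IsCoatom H) (hUH : U ≤ H) (hKH : K ≤ H)
    (hnc : ∀ g : G, M.map (MulAut.conj g).toMonoidHom ≠ H) : U ≤ sigmaCore H := by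
  have hUc : IsMulCommutative U := Cfsg.Agent.Lib.Helper3.BG14.s1363a_of hG
    (fun M hM K hK hK1 => Cfsg.Agent.S1430.result hG M hM K hK hK1) M hM K U hKU hK1
  have hUab : ∀ a ∈ U, ∀ b ∈ U, a * b = b * a := fun a ha b hb =>
    congrArg Subtype.val (mul_comm' (⟨a, ha⟩ : U) ⟨b, hb⟩)
  apply le_sigmaCore_of_sigma_group hG hH hUH
  intro p hp hpd
  by_contra hpσ
  haveI : Fact p.Prime := ⟨hp⟩
  have hkκ : Nat.card K ∈ kappa M := by
    have hkp : (Nat.card K).Prime := (Cfsg.Agent.S1372.result hG M hM K U hKU hK1 hU1).1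
    exact hKU.hall.2.1 _ hkp dvd_rfl
  have hkl : Nat.card K ≠ p := by
    intro h
    exact Cfsg.Agent.Lib.Helper1.BGSigmaDecomp.not_mem_kappa_of_dvd_card_U hG hM hKU hp hpd
      (h ▸ hkκ)
  have hfix : torsionSub U hUab p ⊓ Subgroup.centralizer (K : Set G) = ⊥ := by
    rw [eq_bot_iff]
    intro u hu
    obtain ⟨huT, huC⟩ := Subgroup.mem_inf.mp hu
    have hkp : (Nat.card K).Prime := (Cfsg.Agent.S1372.result hG M hM K U hKU hK1 hU1).1
    obtain ⟨x, hx, hx1⟩ := exists_ne_one_of_prime_card hkp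
    exact Subgroup.mem_bot.mpr (Cfsg.Agent.Lib.Helper7.BG148.regular_on_U hG hM hKU x hx hx1 u
      huT.1 ((Subgroup.mem_centralizer_iff.mp huC) x hx))
  exact false_of_fpf_invariant hG hM hKU hK1 hU1 hMstar hKst hKstH hH hUH hKH hnc hpσ hkl
    ((torsionSub_le U hUab p).trans hUH) (torsionSub_ne_bot hUab hp hpd)
    (isElementaryAbelian_torsionSub U hUab p) (le_normalizer_torsionSub hUab p hKU.normal) hfix

/-- non-conjugate maximal subgroups have `σ`-cores meeting trivially. -/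
theorem sigmaCore_inf_sigmaCore_eq_bot_of_not_conj (hG : IsMinSimpleOddOrder G)
    {M H : Subgroup G} (hM : IsCoatom M) (hH : IsCoatom H)
    (hnc : ∀ g : G, H ≠ M.map (MulAut.conj g).toMonoidHom) :
    sigmaCore M ⊓ sigmaCore H = ⊥ := by
  by_contra hne
  have hcard : Nat.card ↥(sigmaCore M ⊓ sigmaCore H) ≠ 1 :=
    fun h => hne (Subgroup.card_eq_one.mp h)
  obtain ⟨p, hp, hpd⟩ := Nat.exists_prime_and_dvd hcard
  have h1 : p ∈ sigma M := mem_sigma_of_dvd_card_sigmaCore hG hM hp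
    (hpd.trans (Subgroup.card_dvd_of_le inf_le_left))
  have h2 : p ∈ sigma H := mem_sigma_of_dvd_card_sigmaCore hG hH hp
    (hpd.trans (Subgroup.card_dvd_of_le inf_le_right))
  exact Cfsg.Agent.Lib.Helper9.BG1430a.not_mem_sigma_of_not_conj hG hM hH hnc h1 h2

/-- a commutator `[e, x]` lying in a subgroup `D` of order prime to `k`, where `x ^ k = 1` and
`[e, x]` commutes with `x`, is trivial. -/
theorem commutator_eq_one_of_commute {D : Subgroup G} {k : ℕ}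
    (hcop : k.Coprime (Nat.card D)) {e x : G} (hx : x ^ k = 1) (hw : ⁅e, x⁆ ∈ D)
    (hc : ⁅e, x⁆ * x = x * ⁅e, x⁆) : ⁅e, x⁆ = 1 := by
  have h1 : e * x * e⁻¹ = ⁅e, x⁆ * x := by rw [commutatorElement_def]; group
  have h2 : (e * x * e⁻¹) ^ k = 1 := by rw [conj_pow, hx]; group
  have hcm : Commute ⁅e, x⁆ x := hc
  have h3 : ⁅e, x⁆ ^ k = 1 := by
    rw [h1, hcm.mul_pow, hx, mul_one] at h2
    exact h2
  have h4 : orderOf ⁅e, x⁆ ∣ k := orderOf_dvd_of_pow_eq_one h3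
  have h5 : orderOf ⁅e, x⁆ ∣ Nat.card D := by
    have := orderOf_dvd_natCard (⟨⁅e, x⁆, hw⟩ : D)
    rwa [Subgroup.orderOf_mk] at this
  have h6 : orderOf ⁅e, x⁆ = 1 := Nat.eq_one_of_dvd_coprimes hcop h4 h5
  exact orderOf_eq_one_iff.mp h6

/-- the image of the commutator map `d ↦ [d, x]` on an abelian subgroup `D` normalized by `x`. -/
def commImage (D : Subgroup G) (x : G) (hab : ∀ a ∈ D, ∀ b ∈ D, a * b = b * a)
    (hx : x ∈ Subgroup.normalizer (D : Set G)) : Subgroup G where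
  carrier := {w | ∃ d ∈ D, w = ⁅d, x⁆}
  mul_mem' := by
    rintro _ _ ⟨a, ha, rfl⟩ ⟨b, hb, rfl⟩
    refine ⟨a * b, D.mul_mem ha hb, ?_⟩
    have hxa : x * a⁻¹ * x⁻¹ ∈ D := conj_mem_of_mem_normalizer hx (D.inv_mem ha)
    have hxb : x * b⁻¹ * x⁻¹ ∈ D := conj_mem_of_mem_normalizer hx (D.inv_mem hb)
    have hbx : ⁅b, x⁆ ∈ D := by
      rw [commutatorElement_def]
      have : b * x * b⁻¹ * x⁻¹ = b * (x * b⁻¹ * x⁻¹) := by group
      rw [this]; exact D.mul_mem hb hxb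
    have hcomm : ⁅b, x⁆ * (x * a⁻¹ * x⁻¹) = (x * a⁻¹ * x⁻¹) * ⁅b, x⁆ := hab _ hbx _ hxa
    calc ⁅a, x⁆ * ⁅b, x⁆ = a * ((x * a⁻¹ * x⁻¹) * ⁅b, x⁆) := by
          rw [commutatorElement_def a x]; group
      _ = a * (⁅b, x⁆ * (x * a⁻¹ * x⁻¹)) := by rw [hcomm]
      _ = ⁅a * b, x⁆ := by rw [commutatorElement_def, commutatorElement_def]; group
  one_mem' := ⟨1, D.one_mem, by simp⟩
  inv_mem' := by
    rintro _ ⟨a, ha, rfl⟩
    refine ⟨a⁻¹, D.inv_mem ha, ?_⟩
    have hxa : x * a⁻¹ * x⁻¹ ∈ D := conj_mem_of_mem_normalizer hx (D.inv_mem ha)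
    have hxa' : x * a * x⁻¹ ∈ D := conj_mem_of_mem_normalizer hx ha
    have hcomm : a * (x * a⁻¹ * x⁻¹) = (x * a⁻¹ * x⁻¹) * a := hab _ ha _ hxa
    rw [commutatorElement_def, commutatorElement_def]
    have h1 : (a * x * a⁻¹ * x⁻¹)⁻¹ = (a * (x * a⁻¹ * x⁻¹))⁻¹ := by group
    rw [h1, hcomm]
    group

theorem mem_commImage {D : Subgroup G} {x : G} {hab : ∀ a ∈ D, ∀ b ∈ D, a * b = b * a}
    {hx : x ∈ Subgroup.normalizer (D : Set G)} {w : G} :
    w ∈ commImage D x hab hx ↔ ∃ d ∈ D, w = ⁅d, x⁆ := Iff.rfl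

theorem commImage_le (D : Subgroup G) (x : G) (hab : ∀ a ∈ D, ∀ b ∈ D, a * b = b * a)
    (hx : x ∈ Subgroup.normalizer (D : Set G)) : commImage D x hab hx ≤ D := by
  rintro _ ⟨b, hb, rfl⟩
  have hxb : x * b⁻¹ * x⁻¹ ∈ D := conj_mem_of_mem_normalizer hx (D.inv_mem hb)
  rw [commutatorElement_def]
  have : b * x * b⁻¹ * x⁻¹ = b * (x * b⁻¹ * x⁻¹) := by group
  rw [this]; exact D.mul_mem hb hxb

theorem mem_normalizer_commImage (D : Subgroup G) (x : G) (hab : ∀ a ∈ D, ∀ b ∈ D, a * b = b * a)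
    (hx : x ∈ Subgroup.normalizer (D : Set G)) :
    x ∈ Subgroup.normalizer ((commImage D x hab hx : Subgroup G) : Set G) := by
  have key : ∀ y : G, y ∈ Subgroup.normalizer (D : Set G) → Commute y x →
      ∀ w ∈ commImage D x hab hx, y * w * y⁻¹ ∈ commImage D x hab hx := by
    rintro y hy hyx _ ⟨d, hd, rfl⟩
    refine ⟨y * d * y⁻¹, conj_mem_of_mem_normalizer hy hd, ?_⟩
    have hx' : y * x * y⁻¹ = x := by
      have h1 : y * x = x * y := hyx
      rw [h1]; group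
    have hid : y * ⁅d, x⁆ * y⁻¹ = ⁅y * d * y⁻¹, y * x * y⁻¹⁆ := by
      rw [commutatorElement_def, commutatorElement_def]; group
    rw [hid, hx']
  rw [Subgroup.mem_normalizer_iff]
  intro w
  constructor
  · intro hw
    exact key x hx (Commute.refl x) w hw
  · intro hw
    have := key x⁻¹ (inv_mem hx) (Commute.refl x).inv_left _ hw
    have e : x⁻¹ * (x * w * x⁻¹) * x⁻¹⁻¹ = w := by group
    rwa [e] at this

/-- **(f), case `k ∈ τ₁(H)`**: a complement `E ⊇ K` of `H_σ` centralizes `K`. -/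
theorem compl_le_centralizer_of_tau1 (hG : IsMinSimpleOddOrder G)
    {M K U Mstar H E : Subgroup G}
    (hM : IsCoatom M) (hKU : IsSigmaDecomposition M K U) (hK1 : K ≠ ⊥) (hU1 : U ≠ ⊥)
    (hMstar : IsCoatom Mstar)
    (hKst : K = sigmaCore Mstar ⊓ Subgroup.centralizer
      ((sigmaCore M ⊓ Subgroup.centralizer (K : Set G) : Subgroup G) : Set G))
    (hKstH : IsPiHallOf (kappa Mstar) (sigmaCore M ⊓ Subgroup.centralizer (K : Set G)) Mstar)
    (hH : IsCoatom H) (hUH : U ≤ H) (hKH : K ≤ H)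
    (hnc : ∀ g : G, M.map (MulAut.conj g).toMonoidHom ≠ H)
    (hE : IsComplIn E (sigmaCore H) H) (hKE : K ≤ E) (hτ1 : Nat.card K ∈ tau1 H) :
    E ≤ Subgroup.centralizer (K : Set G) := by
  have hkp : (Nat.card K).Prime := (Cfsg.Agent.S1372.result hG M hM K U hKU hK1 hU1).1
  have hDc : IsMulCommutative ↥⁅E, E⁆ := (Cfsg.Agent.S1420.result hG H hH E hE).2.1
  have hab : ∀ a ∈ ⁅E, E⁆, ∀ b ∈ ⁅E, E⁆, a * b = b * a := fun a ha b hb =>
    congrArg Subtype.val (mul_comm' (⟨a, ha⟩ : ↥⁅E, E⁆) ⟨b, hb⟩)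
  have hEn : E ≤ Subgroup.normalizer ((⁅E, E⁆ : Subgroup G) : Set G) :=
    Cfsg.Agent.Lib.Helper17.le_normalizer_commutator_right E E
  have hDE : ⁅E, E⁆ ≤ E := Subgroup.commutator_le.mpr (fun a ha b hb => by
    rw [commutatorElement_def]
    exact E.mul_mem (E.mul_mem (E.mul_mem ha hb) (E.inv_mem ha)) (E.inv_mem hb))
  have hDH : ⁅E, E⁆ ≤ ⁅H, H⁆ := Subgroup.commutator_mono hE.1 hE.1
  have hkD : ¬ Nat.card K ∣ Nat.card ↥⁅E, E⁆ :=
    fun hd => hτ1.2.2.2.1 (hd.trans (Subgroup.card_dvd_of_le hDH))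
  have hcopD : (Nat.card K).Coprime (Nat.card ↥⁅E, E⁆) :=
    (Nat.Prime.coprime_iff_not_dvd hkp).mpr hkD
  have hpowK : ∀ x ∈ K, x ^ Nat.card K = 1 := by
    intro x hx
    have := pow_card_eq_one' (G := K) (x := ⟨x, hx⟩)
    exact congrArg Subtype.val this
  -- `K` centralizes `E'`
  have hKD : ∀ x ∈ K, ∀ d ∈ ⁅E, E⁆, ⁅d, x⁆ = 1 := by
    intro x hx d hd
    by_contra hne
    have hx1 : x ≠ 1 := by
      rintro rfl
      exact hne (by simp)
    have hxn : x ∈ Subgroup.normalizer ((⁅E, E⁆ : Subgroup G) : Set G) := hEn (hKE hx)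
    -- `W = [E', x]`
    obtain ⟨W, hWD, hWmem, hWel, hxW⟩ : ∃ W : Subgroup G, W ≤ ⁅E, E⁆ ∧
        (∀ d' ∈ ⁅E, E⁆, ⁅d', x⁆ ∈ W) ∧ (∀ w ∈ W, ∃ d' ∈ ⁅E, E⁆, w = ⁅d', x⁆) ∧
        x ∈ Subgroup.normalizer (W : Set G) :=
      ⟨commImage ⁅E, E⁆ x hab hxn, commImage_le ⁅E, E⁆ x hab hxn,
        fun d' hd' => ⟨d', hd', rfl⟩, fun w hw => hw,
        mem_normalizer_commImage ⁅E, E⁆ x hab hxn⟩
    have hWab : ∀ a ∈ W, ∀ b ∈ W, a * b = b * a := fun a ha b hb =>
      hab a (hWD ha) b (hWD hb)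
    have hW1 : Nat.card ↥W ≠ 1 := by
      intro h1
      have hb := Subgroup.card_eq_one.mp h1
      have := hWmem d hd
      rw [hb, Subgroup.mem_bot] at this
      exact hne this
    obtain ⟨l, hl, hld⟩ := Nat.exists_prime_and_dvd hW1
    haveI : Fact l.Prime := ⟨hl⟩
    have hKW : K ≤ Subgroup.normalizer (W : Set G) := by
      intro y hy
      have hyz := mem_zpowers_of_prime_card hkp hx hx1 y hy
      exact (Subgroup.zpowers_le.mpr hxW) hyz
    have hWfix : W ⊓ Subgroup.centralizer (K : Set G) = ⊥ := by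
      rw [eq_bot_iff]
      intro w hw
      obtain ⟨hwW, hwC⟩ := Subgroup.mem_inf.mp hw
      obtain ⟨d', hd', rfl⟩ := hWel w hwW
      have hc : ⁅d', x⁆ * x = x * ⁅d', x⁆ := ((Subgroup.mem_centralizer_iff.mp hwC) x hx).symm
      exact Subgroup.mem_bot.mpr
        (commutator_eq_one_of_commute hcopD (hpowK x hx) (hWD hwW) hc)
    have hWE : W ≤ E := hWD.trans hDE
    have hlE : l ∣ Nat.card E := hld.trans (Subgroup.card_dvd_of_le hWE)
    have hlσ : l ∉ sigma H := compl_not_mem_sigma hG hH hE hl hlE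
    have hkl : Nat.card K ≠ l := by
      intro h
      apply hkD
      rw [h]
      exact hld.trans (Subgroup.card_dvd_of_le hWD)
    have hVfix : torsionSub W hWab l ⊓ Subgroup.centralizer (K : Set G) = ⊥ := by
      rw [eq_bot_iff, ← hWfix]
      exact inf_le_inf_right _ (torsionSub_le _ _ _)
    exact false_of_fpf_invariant hG hM hKU hK1 hU1 hMstar hKst hKstH hH hUH hKH hnc hlσ hkl
      ((torsionSub_le _ hWab l).trans (hWE.trans hE.1)) (torsionSub_ne_bot hWab hl hld)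
      (isElementaryAbelian_torsionSub _ hWab l) (le_normalizer_torsionSub hWab l hKW) hVfix
  -- hence `E` centralizes `K`
  intro e he
  rw [Subgroup.mem_centralizer_iff]
  intro x hx
  have hw : ⁅e, x⁆ ∈ ⁅E, E⁆ := Subgroup.commutator_mem_commutator he (hKE hx)
  have hc : ⁅e, x⁆ * x = x * ⁅e, x⁆ := by
    have h1 := hKD x hx ⁅e, x⁆ hw
    exact (commutatorElement_eq_one_iff_mul_comm.mp h1)
  have h2 := commutator_eq_one_of_commute hcopD (hpowK x hx) hw hc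
  exact (commutatorElement_eq_one_iff_mul_comm.mp h2).symm

/-- a noncyclic elementary abelian `k`-subgroup `A` of order `k ^ 2` of `H` (`k ∤ |H_σ|`) has
a subgroup of order `k` centralizing a non-identity element of `H_σ`. -/
theorem exists_line_nonregular (hG : IsMinSimpleOddOrder G) {H A : Subgroup G} (hH : IsCoatom H)
    {k : ℕ} [Fact k.Prime] (hAH : A ≤ H) (hAe : IsElementaryAbelian k A)
    (hAc : Nat.card A = k ^ 2) (hkQ : ¬ k ∣ Nat.card (sigmaCore H)) :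
    ∃ B : Subgroup G, B ≤ A ∧ Nat.card B = k ∧
      sigmaCore H ⊓ Subgroup.centralizer (B : Set G) ≠ ⊥ := by
  have hkp : k.Prime := Fact.out
  by_contra h
  push Not at h
  have hgen := Cfsg.Agent.S1324.result k A (sigmaCore H) hAe (hAc ▸ le_rfl) hkQ
    (hAH.trans (le_normalizer_sigmaCore H))
  apply sigmaCore_ne_bot hG hH
  rw [hgen]
  apply le_bot_iff.mp
  apply iSup_le
  rintro ⟨B, hBA, hBi⟩
  show sigmaCore H ⊓ Subgroup.centralizer (B : Set G) ≤ ⊥
  have hmul := Cfsg.Agent.Lib.Helper12.card_mul_relIndex_eq hBA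
  rw [hAc] at hmul
  have hBd : Nat.card B ∣ k ^ 2 := Dvd.intro _ hmul
  obtain ⟨m, hm, hBm⟩ := (Nat.dvd_prime_pow hkp).mp hBd
  have hm0 : m ≠ 0 := by
    intro h0
    rw [hBm, h0, pow_zero, one_mul] at hmul
    rw [hmul] at hBi
    have : k < k ^ 2 := by
      calc k = k ^ 1 := (pow_one k).symm
        _ < k ^ 2 := Nat.pow_lt_pow_right hkp.one_lt (by norm_num)
    omega
  rcases (by omega : m = 1 ∨ m = 2) with h1 | h2
  · rw [h1, pow_one] at hBm
    exact le_of_eq (h B hBA hBm)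
  · -- `B = A`
    have hBeq : B = A := by
      apply Subgroup.eq_of_le_of_card_ge hBA
      rw [hAc, hBm, h2]
    obtain ⟨b, hb, hb1⟩ : ∃ b ∈ A, b ≠ 1 := by
      by_contra hn
      push Not at hn
      have := (Subgroup.eq_bot_iff_forall A).mpr hn
      rw [this, Subgroup.card_bot] at hAc
      have h2 : 1 < k ^ 2 := Nat.one_lt_pow (by norm_num) hkp.one_lt
      omega
    have hbo : orderOf b = k := orderOf_eq_prime (hAe.2 b hb) hb1
    have hZ := h (Subgroup.zpowers b) (Subgroup.zpowers_le.mpr hb)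
      (by rw [Nat.card_zpowers, hbo])
    rw [hBeq, ← hZ]
    exact inf_le_inf_left _ (Subgroup.centralizer_le (Subgroup.zpowers_le.mpr hb))

open scoped IsMulCommutative in
theorem isNilpotent_of_isMulCommutative_sub (A : Subgroup G) (hA : IsMulCommutative A) :
    Group.IsNilpotent A := inferInstance

/-- **step 6 of B&G Corollary 14.8**: `H_σ ∩ M* = 1`. -/
theorem sigmaCore_inf_Mstar_eq_bot (hG : IsMinSimpleOddOrder G) {M K U Mstar H : Subgroup G}
    (hM : IsCoatom M) (hKU : IsSigmaDecomposition M K U) (hK1 : K ≠ ⊥) (hU1 : U ≠ ⊥)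
    (hMstar : IsCoatom Mstar)
    (hKst : K = sigmaCore Mstar ⊓ Subgroup.centralizer
      ((sigmaCore M ⊓ Subgroup.centralizer (K : Set G) : Subgroup G) : Set G))
    (hKstH : IsPiHallOf (kappa Mstar) (sigmaCore M ⊓ Subgroup.centralizer (K : Set G)) Mstar)
    (hH : IsCoatom H) (hUH : U ≤ H) (hKH : K ≤ H)
    (hnc : ∀ g : G, M.map (MulAut.conj g).toMonoidHom ≠ H) :
    sigmaCore H ⊓ Mstar = ⊥ := by
  obtain ⟨-, -, hregel, -⟩ :=
    Cfsg.Agent.Lib.Helper7.BG148.steps_35 hG hM hKU hK1 hU1 hH hUH hKH hnc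
  have hkp : (Nat.card K).Prime := (Cfsg.Agent.S1372.result hG M hM K U hKU hK1 hU1).1
  have hncs := Cfsg.Agent.Lib.Helper7.BG148.not_conj_Mstar hG hM hKU hK1 hU1 hMstar hKst hKstH
    hUH hKH
  have hbot := sigmaCore_inf_sigmaCore_eq_bot_of_not_conj hG hMstar hH hncs
  have hKs : K ≤ sigmaCore Mstar := (le_of_eq hKst).trans inf_le_left
  obtain ⟨x, hx, hx1⟩ := exists_ne_one_of_prime_card hkp
  rw [eq_bot_iff]
  intro y hy
  obtain ⟨hyσ, hyM⟩ := Subgroup.mem_inf.mp hy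
  have hc : ⁅y, x⁆ ∈ sigmaCore Mstar ⊓ sigmaCore H := by
    refine Subgroup.mem_inf.mpr ⟨?_, ?_⟩
    · rw [commutatorElement_def]
      have h1 : y * x * y⁻¹ ∈ sigmaCore Mstar :=
        (Subgroup.mem_normalizer_iff.mp (le_normalizer_sigmaCore Mstar hyM) x).mp (hKs hx)
      exact mul_mem h1 (inv_mem (hKs hx))
    · rw [commutatorElement_def]
      have h1 : x * y⁻¹ * x⁻¹ ∈ sigmaCore H :=
        (Subgroup.mem_normalizer_iff.mp (le_normalizer_sigmaCore H (hKH hx)) y⁻¹).mp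
          (inv_mem hyσ)
      have e : y * x * y⁻¹ * x⁻¹ = y * (x * y⁻¹ * x⁻¹) := by group
      rw [e]
      exact mul_mem hyσ h1
  rw [hbot, Subgroup.mem_bot] at hc
  have hcomm : x * y = y * x := (commutatorElement_eq_one_iff_mul_comm.mp hc).symm
  exact Subgroup.mem_bot.mpr (hregel x hx hx1 y hyσ hcomm)

/-- a complement `E ≤ M*` of `H_σ` in `H` equals `H ∩ M*` when `H_σ ∩ M* = 1`. -/
theorem inf_eq_of_isComplIn_le {H Mstar E Q : Subgroup G} (hE : IsComplIn E Q H)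
    (hEM : E ≤ Mstar) (hQ : Q ⊓ Mstar = ⊥) : H ⊓ Mstar = E := by
  apply le_antisymm
  · intro m hm
    obtain ⟨hmH, hmM⟩ := Subgroup.mem_inf.mp hm
    obtain ⟨a, ha, b, hb, rfl⟩ := hE.2.2.2 m hmH
    have hbM : b ∈ Mstar := by
      have : b = a⁻¹ * (a * b) := by group
      rw [this]
      exact mul_mem (inv_mem (hEM ha)) hmM
    have hb1 : b = 1 := by
      have : b ∈ Q ⊓ Mstar := Subgroup.mem_inf.mpr ⟨hb, hbM⟩
      rwa [hQ, Subgroup.mem_bot] at this
    rw [hb1, mul_one]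
    exact ha
  · exact le_inf hE.1 hEM

/-- **B&G Corollary 14.8, steps 7–9**: there is a complement `E` of `H_σ` in `H` with
`K ≤ E ≤ M*` and a nilpotent normal subgroup `A` of `E` containing `K`. -/
theorem cor148_exists_compl (hG : IsMinSimpleOddOrder G) {M K U Mstar H : Subgroup G}
    (hM : IsCoatom M) (hKU : IsSigmaDecomposition M K U) (hK1 : K ≠ ⊥) (hU1 : U ≠ ⊥)
    (hMstar : IsCoatom Mstar)
    (hKst : K = sigmaCore Mstar ⊓ Subgroup.centralizer
      ((sigmaCore M ⊓ Subgroup.centralizer (K : Set G) : Subgroup G) : Set G))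
    (hKstH : IsPiHallOf (kappa Mstar) (sigmaCore M ⊓ Subgroup.centralizer (K : Set G)) Mstar)
    (hH : IsCoatom H) (hUH : U ≤ H) (hKH : K ≤ H)
    (hnc : ∀ g : G, M.map (MulAut.conj g).toMonoidHom ≠ H) :
    ∃ E A : Subgroup G, IsComplIn E (sigmaCore H) H ∧ E ≤ Mstar ∧ K ≤ A ∧ A ≤ E ∧
      E ≤ Subgroup.normalizer (A : Set G) ∧ Group.IsNilpotent A := by
  obtain ⟨hkσ, hκ, hregel, hnil⟩ :=
    Cfsg.Agent.Lib.Helper7.BG148.steps_35 hG hM hKU hK1 hU1 hH hUH hKH hnc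
  have hkp : (Nat.card K).Prime := (Cfsg.Agent.S1372.result hG M hM K U hKU hK1 hU1).1
  haveI : Fact (Nat.card K).Prime := ⟨hkp⟩
  obtain ⟨hCK, huniq⟩ :=
    (Cfsg.Agent.S1367.result hG M hM K U hKU hK1 Mstar hMstar hKst hKstH).2 K le_rfl hkp
  have hNK : Subgroup.normalizer (K : Set G) ≤ Mstar :=
    normalizer_le_of_unique hG hMstar hCK huniq
  have hKs : K ≤ sigmaCore Mstar := (le_of_eq hKst).trans inf_le_left
  have hKMs : K ≤ Mstar := hKs.trans (sigmaCore_le Mstar)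
  have hKnil : Group.IsNilpotent K := by
    haveI := hKU.cyclic
    exact isNilpotent_of_isMulCommutative_sub K (IsCyclic.isMulCommutative)
  have hcopk : (Nat.card K).Coprime (Nat.card (sigmaCore H)) :=
    (coprime_card_sigmaCore hG hH hkp hkσ).symm
  obtain ⟨E, hE, hKE⟩ := exists_isComplIn_sigmaCore_ge hG hH hKH hcopk
  have h2 : PRankLE (Nat.card K) 2 ↥H :=
    alpha_rank H _ hkp (fun h => hkσ (alpha_subset_sigma hG hH h))
  by_cases h1 : PRankLE (Nat.card K) 1 ↥H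
  · by_cases hd : Nat.card K ∣ Nat.card ↥⁅H, H⁆
    · -- `τ₃`
      have hτ3 : Nat.card K ∈ tau3 H := ⟨hkp, hkσ, hd, h1⟩
      have hEN : E ≤ Subgroup.normalizer (K : Set G) :=
        Cfsg.Agent.Lib.Helper9.BG1430a.compl_le_normalizer_of_tau3 hG hH hE hτ3 hKE rfl
      exact ⟨E, K, hE, hEN.trans hNK, le_rfl, hKE, hEN, hKnil⟩
    · -- `τ₁`
      have hτ1 : Nat.card K ∈ tau1 H :=
        ⟨hkp, hkσ, Subgroup.card_dvd_of_le hKH, hd, h1⟩
      have hEC : E ≤ Subgroup.centralizer (K : Set G) :=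
        compl_le_centralizer_of_tau1 hG hM hKU hK1 hU1 hMstar hKst hKstH hH hUH hKH hnc hE hKE
          hτ1
      have hEN : E ≤ Subgroup.normalizer (K : Set G) :=
        hEC.trans (Subgroup.centralizer_le_normalizer _)
      exact ⟨E, K, hE, hEC.trans hCK, le_rfl, hKE, hEN, hKnil⟩
  · -- `τ₂`
    have hτ2 : Nat.card K ∈ tau2 H := ⟨hkp, hkσ, h2, h1⟩
    obtain ⟨A, hAE, hAe, hAc⟩ := tau2_elem_sq_compl hG hH hE hτ2
    obtain ⟨⟨-, hXA⟩, -, h3⟩ :=
      Cfsg.Agent.S1418.result hG H hH E hE (Nat.card K) hτ2 A ⟨hAE, hAe, hAc⟩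
    have hKA : K ≤ A := hXA K hKE rfl
    have hAH : A ≤ H := hAE.trans hE.1
    have hACK : A ≤ Subgroup.centralizer (K : Set G) := by
      intro a ha
      rw [Subgroup.mem_centralizer_iff]
      intro x hx
      exact comm_of_elem hAe (hKA hx) ha
    have hAMs : A ≤ Mstar := hACK.trans hCK
    have hkσs : Nat.card K ∈ sigma Mstar :=
      mem_sigma_of_dvd_card_sigmaCore hG hMstar hkp (Subgroup.card_dvd_of_le hKs)
    have hAs : A ≤ sigmaCore Mstar := by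
      apply le_sigmaCore_of_sigma_group hG hMstar hAMs
      intro p hp hpd
      rw [hAc] at hpd
      have : p = Nat.card K := (Nat.prime_dvd_prime_iff_eq hp hkp).mp (hp.dvd_of_dvd_pow hpd)
      rw [this]
      exact hkσs
    have hkQ : ¬ Nat.card K ∣ Nat.card (sigmaCore H) :=
      fun h => hkσ (mem_sigma_of_dvd_card_sigmaCore hG hH hkp h)
    obtain ⟨B, hBA, hBc, hBne⟩ := exists_line_nonregular hG hH hAH hAe hAc hkQ
    obtain ⟨hCB, hBuniq⟩ := h3 B hBA hBc hBne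
    obtain ⟨b, hb, hb1⟩ := exists_ne_one_of_prime_card (hBc ▸ hkp : (Nat.card B).Prime)
    have hCb : Subgroup.centralizer (B : Set G) ≤ Subgroup.centralizer ({b} : Set G) :=
      Subgroup.centralizer_le (Set.singleton_subset_iff.mpr hb)
    have hnot : ¬ Subgroup.centralizer ({b} : Set G) ≤ Mstar := by
      intro hle
      have : Mstar = H := hBuniq Mstar hMstar (hCb.trans hle)
      exact hkσ (this ▸ hkσs)
    obtain ⟨N, ⟨hN, hCN⟩, -, -, -, -, hcompl, -⟩ :=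
      Cfsg.Agent.S1375.result hG Mstar hMstar b (hAs (hBA hb)) hb1 hnot
    have hNH : N = H := hBuniq N hN (hCb.trans hCN)
    rw [hNH, inf_comm] at hcompl
    have hAE' : A ≤ H ⊓ Mstar := le_inf hAH hAMs
    obtain ⟨⟨hEN', -⟩, -, -⟩ :=
      Cfsg.Agent.S1418.result hG H hH (H ⊓ Mstar) hcompl (Nat.card K) hτ2 A ⟨hAE', hAe, hAc⟩
    exact ⟨H ⊓ Mstar, A, hcompl, inf_le_right, hKA, hAE', hEN',
      isNilpotent_of_isMulCommutative_sub A hAe.1⟩

/-- **B&G Corollary 14.8(e),(f)**: `K ≤ F(H ∩ M*)` and `H ∩ M*` is a complement of `H_σ` in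
`H`. -/
theorem cor148_ef (hG : IsMinSimpleOddOrder G) {M K U Mstar H : Subgroup G}
    (hM : IsCoatom M) (hKU : IsSigmaDecomposition M K U) (hK1 : K ≠ ⊥) (hU1 : U ≠ ⊥)
    (hMstar : IsCoatom Mstar)
    (hKst : K = sigmaCore Mstar ⊓ Subgroup.centralizer
      ((sigmaCore M ⊓ Subgroup.centralizer (K : Set G) : Subgroup G) : Set G))
    (hKstH : IsPiHallOf (kappa Mstar) (sigmaCore M ⊓ Subgroup.centralizer (K : Set G)) Mstar)
    (hH : IsCoatom H) (hUH : U ≤ H) (hKH : K ≤ H)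
    (hnc : ∀ g : G, M.map (MulAut.conj g).toMonoidHom ≠ H) :
    K ≤ fittingOf (H ⊓ Mstar) ∧ IsComplIn (H ⊓ Mstar) (sigmaCore H) H := by
  obtain ⟨E, A, hE, hEM, hKA, hAE, hEN, hAnil⟩ :=
    cor148_exists_compl hG hM hKU hK1 hU1 hMstar hKst hKstH hH hUH hKH hnc
  have h6 := sigmaCore_inf_Mstar_eq_bot hG hM hKU hK1 hU1 hMstar hKst hKstH hH hUH hKH hnc
  have hEq : H ⊓ Mstar = E := inf_eq_of_isComplIn_le hE hEM h6
  rw [hEq]
  exact ⟨hKA.trans (le_fittingOf hAE hEN hAnil), hE⟩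

/-- **B&G Corollary 14.8(d)**: `H ∩ N_G(U) ≰ M`. -/
theorem cor148_d (hG : IsMinSimpleOddOrder G) {M K U Mstar H : Subgroup G}
    (hM : IsCoatom M) (hKU : IsSigmaDecomposition M K U) (hK1 : K ≠ ⊥) (hU1 : U ≠ ⊥)
    (hMstar : IsCoatom Mstar)
    (hKst : K = sigmaCore Mstar ⊓ Subgroup.centralizer
      ((sigmaCore M ⊓ Subgroup.centralizer (K : Set G) : Subgroup G) : Set G))
    (hKstH : IsPiHallOf (kappa Mstar) (sigmaCore M ⊓ Subgroup.centralizer (K : Set G)) Mstar)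
    (hH : IsCoatom H) (hUH : U ≤ H) (hKH : K ≤ H)
    (hnc : ∀ g : G, M.map (MulAut.conj g).toMonoidHom ≠ H) (hHM : H ≠ M)
    (hMH : M ⊓ H ≤ U ⊔ K) :
    ¬ H ⊓ Subgroup.normalizer (U : Set G) ≤ M := by
  intro hle
  obtain ⟨hkσ, -, -, hnil⟩ :=
    Cfsg.Agent.Lib.Helper7.BG148.steps_35 hG hM hKU hK1 hU1 hH hUH hKH hnc
  have hkp : (Nat.card K).Prime := (Cfsg.Agent.S1372.result hG M hM K U hKU hK1 hU1).1
  have hUσ : U ≤ sigmaCore H :=
    cor148_b hG hM hKU hK1 hU1 hMstar hKst hKstH hH hUH hKH hnc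
  by_cases hne : U = sigmaCore H
  · have hHN : H ≤ Subgroup.normalizer (U : Set G) := by
      rw [hne]
      exact le_normalizer_sigmaCore H
    have hHleM : H ≤ M := (le_inf le_rfl hHN).trans hle
    exact hHM (hH.le_iff_eq hM.1 |>.mp hHleM).symm
  · obtain ⟨n, hnσ, hnN, hnU⟩ :=
      Cfsg.Agent.Lib.Helper7.BG148.exists_mem_normalizer_not_mem hnil hUσ hne
    have hnH : n ∈ H := sigmaCore_le H hnσ
    have hnM : n ∈ M := hle (Subgroup.mem_inf.mpr ⟨hnH, hnN⟩)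
    have h1 : n ∈ U ⊔ K := hMH (Subgroup.mem_inf.mpr ⟨hnM, hnH⟩)
    obtain ⟨u, hu, κ, hκ, rfl⟩ := exists_mul_of_mem_sup_of_le_normalizer hKU.normal h1
    have hκσ : κ ∈ sigmaCore H := by
      have e : κ = u⁻¹ * (u * κ) := by group
      rw [e]
      exact mul_mem (inv_mem (hUσ hu)) hnσ
    have hcop : (Nat.card K).Coprime (Nat.card (sigmaCore H)) :=
      (coprime_card_sigmaCore hG hH hkp hkσ).symm
    have hbot : K ⊓ sigmaCore H = ⊥ :=
      disjoint_iff.mp (Subgroup.disjoint_of_coprime_natCard hcop)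
    have hκ1 : κ = 1 := by
      have : κ ∈ K ⊓ sigmaCore H := Subgroup.mem_inf.mpr ⟨hκ, hκσ⟩
      rwa [hbot, Subgroup.mem_bot] at this
    apply hnU
    rw [hκ1, mul_one]
    exact hu

/-- **B&G Corollary 14.8** in the form of the frozen row S1435. -/
theorem cor148 (hG : IsMinSimpleOddOrder G)
    (M : Subgroup G) (hM : IsCoatom M) (K U : Subgroup G) (hKU : IsSigmaDecomposition M K U)
    (hK1 : K ≠ ⊥) (hU1 : U ≠ ⊥) (Mstar : Subgroup G) (hMstar : IsCoatom Mstar)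
    (hKst : K = sigmaCore Mstar ⊓ Subgroup.centralizer
      ((sigmaCore M ⊓ Subgroup.centralizer (K : Set G)) : Set G))
    (hKstH : IsPiHallOf (kappa Mstar) (sigmaCore M ⊓ Subgroup.centralizer (K : Set G)) Mstar)
    (r : ℕ) [Fact r.Prime] (hr : r ∣ Nat.card U) (R : Sylow r U) (H : Subgroup G)
    (hH : IsCoatom H)
    (hNR : Subgroup.normalizer (((R : Subgroup U).map U.subtype : Subgroup G) : Set G) ≤ H) :
    kappa H = ∅ ∧ U ≤ sigmaCore H ∧ M ⊓ H = U ⊔ K ∧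
      ¬ H ⊓ Subgroup.normalizer (U : Set G) ≤ M ∧
      K ≤ fittingOf (H ⊓ Mstar) ∧ IsComplIn (H ⊓ Mstar) (sigmaCore H) H := by
  have hUc : IsMulCommutative U := Cfsg.Agent.Lib.Helper3.BG14.s1363a_of hG
    (fun M hM K hK hK1 => Cfsg.Agent.S1430.result hG M hM K hK hK1) M hM K U hKU hK1
  have hUab : ∀ a ∈ U, ∀ b ∈ U, a * b = b * a := fun a ha b hb =>
    congrArg Subtype.val (mul_comm' (⟨a, ha⟩ : U) ⟨b, hb⟩)
  have hR := isSylowIn_of_sylow R
  have hR1 : (R : Subgroup U).map U.subtype ≠ ⊥ := hR.ne_bot_of_dvd hr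
  obtain ⟨hUH, hKH, hHM, hnc, hMH⟩ :=
    Cfsg.Agent.Lib.Helper7.BG148.steps_127 hG hM hKU hUab hR hR1 hH hNR
  obtain ⟨-, hκ, -, -⟩ :=
    Cfsg.Agent.Lib.Helper7.BG148.steps_35 hG hM hKU hK1 hU1 hH hUH hKH hnc
  obtain ⟨he, hf⟩ := cor148_ef hG hM hKU hK1 hU1 hMstar hKst hKstH hH hUH hKH hnc
  refine ⟨hκ, cor148_b hG hM hKU hK1 hU1 hMstar hKst hKstH hH hUH hKH hnc, ?_,
    cor148_d hG hM hKU hK1 hU1 hMstar hKst hKstH hH hUH hKH hnc hHM hMH, he, hf⟩
  exact le_antisymm hMH (sup_le (le_inf hKU.compl.1 hUH) (le_inf hKU.hall.1 hKH))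

end Cfsg.Agent.Lib.Helper10.BG
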