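import Mathlib
import Cfsg.Agent.Lib.Helper15.BlkA

/-!
# BlkMax FO-COMM (for helper15, S5634 `m ≥ 2`): calculus of `InTv`
-/

set_option autoImplicit false

namespace Cfsg.Agent.Lib.Helper10.BlkComm

open Matrix Cfsg.Agent.Lib.Helper15.MonoMax Cfsg.Agent.Lib.Helper15.BlkMax

variable {ι : Type} [Fintype ι] [DecidableEq ι] {F : Type*} [Field F] {M : Subgroup (GL ι F)}

theorem mat_ext_mulVec {A B : Matrix ι ι F} (h : ∀ x : ι → F, A *ᵥ x = B *ᵥ x) : A = B := by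
  ext i j
  have := congrFun (h (Pi.single j 1)) i
  simpa [mulVec_single_one] using this

theorem tvGL_inv_val (a φ : ι → F) (h : φ ⬝ᵥ a = 0) :
    (((tvGL a φ h)⁻¹ : GL ι F) : Matrix ι ι F) = tv a (-φ) := rfl

/-- membership from a matrix identity -/
theorem inTv_of_val {c ψ : ι → F} {g' : GL ι F} (hg' : g' ∈ M)
    (hv : (g' : Matrix ι ι F) = tv c ψ) : InTv M c ψ := by
  intro g hg
  have : g = g' := Units.ext (by rw [hg, hv])
  rw [this]; exact hg'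

/-- (CA)  U T U⁻¹ T⁻¹ = tv((θ·c) b, ψ)  for T = tv c ψ, U = tv b θ, ψ·b = 0 -/
theorem InTv.CA {c ψ b θ : ι → F} (hT : InTv M c ψ) (hU : InTv M b θ) (hψc : ψ ⬝ᵥ c = 0)
    (hθb : θ ⬝ᵥ b = 0) (hψb : ψ ⬝ᵥ b = 0) : InTv M ((θ ⬝ᵥ c) • b) ψ := by
  have hTm : tvGL c ψ hψc ∈ M := hT _ rfl
  have hUm : tvGL b θ hθb ∈ M := hU _ rfl
  refine inTv_of_val (g' := tvGL b θ hθb * tvGL c ψ hψc * (tvGL b θ hθb)⁻¹ * (tvGL c ψ hψc)⁻¹)
    (M.mul_mem (M.mul_mem (M.mul_mem hUm hTm) (M.inv_mem hUm)) (M.inv_mem hTm)) ?_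
  rw [Units.val_mul, Units.val_mul, Units.val_mul, tvGL_inv_val, tvGL_inv_val, tvGL_val, tvGL_val]
  apply mat_ext_mulVec
  intro x
  simp only [← mulVec_mulVec, tv_mulVec, dotProduct_add, dotProduct_smul, neg_dotProduct,
    smul_eq_mul, hψc, hθb, hψb, mul_zero, add_zero, neg_zero, zero_smul, mul_neg]
  module

/-- (CB)  T U T⁻¹ U⁻¹ = tv(c, (ψ·b) θ)  for T = tv c ψ, U = tv b θ, θ·c = 0 -/
theorem InTv.CB {c ψ b θ : ι → F} (hT : InTv M c ψ) (hU : InTv M b θ) (hψc : ψ ⬝ᵥ c = 0)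
    (hθb : θ ⬝ᵥ b = 0) (hθc : θ ⬝ᵥ c = 0) : InTv M c ((ψ ⬝ᵥ b) • θ) := by
  have hTm : tvGL c ψ hψc ∈ M := hT _ rfl
  have hUm : tvGL b θ hθb ∈ M := hU _ rfl
  refine inTv_of_val (g' := tvGL c ψ hψc * tvGL b θ hθb * (tvGL c ψ hψc)⁻¹ * (tvGL b θ hθb)⁻¹)
    (M.mul_mem (M.mul_mem (M.mul_mem hTm hUm) (M.inv_mem hTm)) (M.inv_mem hUm)) ?_
  rw [Units.val_mul, Units.val_mul, Units.val_mul, tvGL_inv_val, tvGL_inv_val, tvGL_val, tvGL_val]
  apply mat_ext_mulVec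
  intro x
  simp only [← mulVec_mulVec, tv_mulVec, dotProduct_add, dotProduct_smul, neg_dotProduct,
    smul_dotProduct, smul_eq_mul, hψc, hθb, hθc, mul_zero, add_zero, neg_zero, zero_smul, mul_neg]
  module

/-- conjugation: k tv(c,ψ) k⁻¹ = tv(k c, ψ k⁻¹) -/
theorem InTv.conj {c ψ : ι → F} (hT : InTv M c ψ) (hψc : ψ ⬝ᵥ c = 0) {k : GL ι F} (hk : k ∈ M) :
    InTv M ((k : Matrix ι ι F) *ᵥ c) (ψ ᵥ* ((k⁻¹ : GL ι F) : Matrix ι ι F)) := by
  have hTm : tvGL c ψ hψc ∈ M := hT _ rfl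
  refine inTv_of_val (g' := k * tvGL c ψ hψc * k⁻¹)
    (M.mul_mem (M.mul_mem hk hTm) (M.inv_mem hk)) ?_
  rw [Units.val_mul, Units.val_mul, tvGL_val]
  have h := conj_tv k c (ψ ᵥ* ((k⁻¹ : GL ι F) : Matrix ι ι F))
  rw [vecMul_vecMul, ← Units.val_mul, inv_mul_cancel, Units.val_one, vecMul_one] at h
  exact h

theorem InTv.add_axis {c ψ ψ' : ι → F} (h : InTv M c ψ) (h' : InTv M c ψ') (hψc : ψ ⬝ᵥ c = 0)
    (hψ'c : ψ' ⬝ᵥ c = 0) : InTv M c (ψ + ψ') := by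
  have h1 : tvGL c ψ hψc ∈ M := h _ rfl
  have h2 : tvGL c ψ' hψ'c ∈ M := h' _ rfl
  refine inTv_of_val (g' := tvGL c ψ hψc * tvGL c ψ' hψ'c) (M.mul_mem h1 h2) ?_
  rw [Units.val_mul, tvGL_val, tvGL_val]
  apply mat_ext_mulVec
  intro x
  simp only [← mulVec_mulVec, tv_mulVec, dotProduct_add, add_dotProduct, dotProduct_smul,
    smul_eq_mul, hψc, hψ'c, mul_zero, add_zero]
  module

theorem InTv.add_centre {c c' ψ : ι → F} (h : InTv M c ψ) (h' : InTv M c' ψ) (hψc : ψ ⬝ᵥ c = 0)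
    (hψc' : ψ ⬝ᵥ c' = 0) : InTv M (c + c') ψ := by
  have h1 : tvGL c ψ hψc ∈ M := h _ rfl
  have h2 : tvGL c' ψ hψc' ∈ M := h' _ rfl
  refine inTv_of_val (g' := tvGL c ψ hψc * tvGL c' ψ hψc') (M.mul_mem h1 h2) ?_
  rw [Units.val_mul, tvGL_val, tvGL_val]
  apply mat_ext_mulVec
  intro x
  simp only [← mulVec_mulVec, tv_mulVec, dotProduct_add, add_dotProduct, dotProduct_smul,
    smul_eq_mul, hψc, hψc', mul_zero, add_zero]
  module

theorem tv_smul_comm (c ψ : ι → F) (r : F) : tv (r • c) ψ = tv c (r • ψ) := by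
  apply mat_ext_mulVec
  intro x
  simp only [tv_mulVec, smul_dotProduct, smul_eq_mul]
  module

theorem inTv_smul_comm (c ψ : ι → F) (r : F) : InTv M (r • c) ψ ↔ InTv M c (r • ψ) := by
  unfold InTv
  rw [tv_smul_comm]

theorem inTv_zero_axis (c : ι → F) : InTv M c 0 := by
  intro g hg
  have : g = 1 := Units.ext (by rw [hg, Units.val_one, tv, vecMulVec_zero, add_zero])
  rw [this]; exact M.one_mem

/-- sum of axes over a finset -/
theorem InTv.sum_axis {α : Type} (s : Finset α) (c : ι → F) (ψ : α → ι → F)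
    (h : ∀ i ∈ s, InTv M c (ψ i)) (hψc : ∀ i ∈ s, ψ i ⬝ᵥ c = 0) : InTv M c (∑ i ∈ s, ψ i) := by
  classical
  induction s using Finset.induction_on with
  | empty => rw [Finset.sum_empty]; exact inTv_zero_axis c
  | insert a s ha ih =>
    rw [Finset.sum_insert ha]
    have h1 : InTv M c (∑ i ∈ s, ψ i) :=
      ih (fun i hi => h i (Finset.mem_insert_of_mem hi))
        (fun i hi => hψc i (Finset.mem_insert_of_mem hi))
    have h2 : (∑ i ∈ s, ψ i) ⬝ᵥ c = 0 := by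
      rw [sum_dotProduct]
      exact Finset.sum_eq_zero (fun i hi => hψc i (Finset.mem_insert_of_mem hi))
    exact InTv.add_axis (h a (Finset.mem_insert_self a s)) h1
      (hψc a (Finset.mem_insert_self a s)) h2

end Cfsg.Agent.Lib.Helper10.BlkComm
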