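import Mathlib
import Cfsg.Agent.Lib.Helper15.BlkA
import Cfsg.Agent.Lib.Helper10.BlkComm

/-!
# BlkMax FO-A (for helper15, S5634 `m ≥ 2`): `goal_of_caseA`
-/

set_option autoImplicit false

namespace Cfsg.Agent.Lib.Helper10.BlkCaseA

open Matrix Cfsg Cfsg.Geo Cfsg.Agent.Lib.Helper13.TNM Cfsg.Agent.Lib.Helper15.MonoMax
  Cfsg.Agent.Lib.Helper15.BlkMax Cfsg.Agent.Lib.Helper10.BlkComm

variable {t m : ℕ} {F : Type*} [Field F]

theorem tv_apply (b θ : Fin t × Fin m → F) (a a' : Fin t × Fin m) :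
    tv b θ a a' = (if a = a' then 1 else 0) + b a * θ a' := by
  rw [tv, Matrix.add_apply, Matrix.one_apply, vecMulVec_apply]

/-- block transvections belong to `SS` (local copy of FO-S) -/
theorem tvGL_mem_SS' (k : Fin t) (b θ : Fin t × Fin m → F) (hb : OnBlk k b) (hθ : OnBlk k θ)
    (h : θ ⬝ᵥ b = 0) : tvGL b θ h ∈ SS t m F := by
  have hθ' : OnBlk k (-θ) := fun a ha => by rw [Pi.neg_apply, hθ a ha, neg_zero]
  have key : ∀ θ' : Fin t × Fin m → F, OnBlk k θ' → ∀ a a' : Fin t × Fin m, a.1 ≠ a'.1 →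
      tv b θ' a a' = 0 := by
    intro θ' hθ' a a' haa'
    rw [tv_apply, if_neg (fun hh => haa' (by rw [hh])), zero_add]
    by_cases hak : a.1 = k
    · rw [hθ' a' (fun hh => haa' (by rw [hak, hh])), mul_zero]
    · rw [hb a hak, zero_mul]
  refine ⟨mem_decStab_of_blockMonomial (F := F) (Prod.fst : Fin t × Fin m → Fin t) (tvGL b θ h) 1
    (fun a a' haa' => ?_) (fun a a' haa' => ?_), tvGL_mem_SL b θ h⟩
  · rw [tvGL_val]
    exact key θ hθ a a' (by simpa using haa')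
  · rw [tvGL_inv_val]
    exact key (-θ) hθ' a a' (by
      rw [Equiv.Perm.one_symm, Equiv.Perm.coe_one, id] at haa'
      exact haa')

theorem inTv_of_onBlk' {M : Subgroup (GL (Fin t × Fin m) F)} (hSM : SS t m F ≤ M) (k : Fin t)
    (b θ : Fin t × Fin m → F) (hb : OnBlk k b) (hθ : OnBlk k θ) (h : θ ⬝ᵥ b = 0) : InTv M b θ :=
  (inTv_iff M b θ h).mpr (hSM (tvGL_mem_SS' k b θ hb hθ h))

theorem goal_of_caseA (hm : 2 ≤ m) (M : Subgroup (GL (Fin t × Fin m) F)) (hSM : SS t m F ≤ M)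
    (c ψ : Fin t × Fin m → F) (hψc : ψ ⬝ᵥ c = 0) (hT : InTv M c ψ) (hψ0 : ψ ≠ 0) (k : Fin t)
    (hψk : ∀ x, ψ (k, x) = 0) (hck : ∃ x, c (k, x) ≠ 0) : Goal M := by
  classical
  obtain ⟨x0, hx0⟩ := hck
  obtain ⟨x1, hx1⟩ : ∃ x1 : Fin m, x1 ≠ x0 := by
    by_cases h0 : x0 = ⟨0, by omega⟩
    · exact ⟨⟨1, by omega⟩, by rw [h0]; simp [Fin.ext_iff]⟩
    · exact ⟨⟨0, by omega⟩, fun hh => h0 hh.symm⟩
  obtain ⟨b, hb⟩ : ∃ b : Fin t × Fin m → F, b = Pi.single (k, x1) 1 := ⟨_, rfl⟩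
  obtain ⟨θ, hθ⟩ : ∃ θ : Fin t × Fin m → F, θ = Pi.single (k, x0) 1 := ⟨_, rfl⟩
  have hbk : OnBlk k b := by
    intro a ha
    rw [hb, Pi.single_apply, if_neg]
    intro hh
    exact ha (by rw [hh])
  have hθk : OnBlk k θ := by
    intro a ha
    rw [hθ, Pi.single_apply, if_neg]
    intro hh
    exact ha (by rw [hh])
  have hθb : θ ⬝ᵥ b = 0 := by
    rw [hθ, hb, single_dotProduct, one_mul, Pi.single_apply, if_neg]
    intro hh
    have h2 : x0 = x1 := congrArg Prod.snd hh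
    exact hx1 h2.symm
  have hψb : ψ ⬝ᵥ b = 0 := by
    rw [hb, dotProduct_single, mul_one, hψk]
  have hθc : θ ⬝ᵥ c = c (k, x0) := by
    rw [hθ, single_dotProduct, one_mul]
  have hU : InTv M b θ := inTv_of_onBlk' hSM k b θ hbk hθk hθb
  have hCA := BlkComm.InTv.CA hT hU hψc hθb hψb
  have hb1 : b (k, x1) = 1 := by rw [hb, Pi.single_eq_same]
  refine ⟨k, (θ ⬝ᵥ c) • b, ψ, ?_, ?_, ?_, ?_, hCA⟩
  · intro h0
    have := congrFun h0 (k, x1)
    rw [Pi.smul_apply, hb1, hθc, smul_eq_mul, mul_one, Pi.zero_apply] at this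
    exact hx0 this
  · intro a ha
    rw [Pi.smul_apply, hbk a ha, smul_zero]
  · rw [dotProduct_smul, hψb, smul_zero]
  · intro hψon
    apply hψ0
    funext a
    by_cases ha : a.1 = k
    · obtain ⟨a1, a2⟩ := a
      simp only at ha
      rw [ha]
      exact hψk a2
    · exact hψon a ha

end Cfsg.Agent.Lib.Helper10.BlkCaseA
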