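import Mathlib
import Cfsg.Agent.Lib.Helper28.CG.Defs
import Cfsg.Agent.S2278

/-!
# S3412 farm, leaf [S2] (helper10): `SL(3,3)` has no subgroup of index two
-/

set_option autoImplicit false

namespace Cfsg.Agent.Lib.Helper28.CG

open Matrix

namespace Helper10

/-- an element `u` of `SL(3,3)` with `u - 1` nilpotent satisfies `u ^ (3 ^ m) = 1` for some `m` -/
theorem exists_pow_three_pow_eq_one (u : S33)
    (hu : IsNilpotent ((u : Matrix (Fin 3) (Fin 3) (ZMod 3)) - 1)) : ∃ m : ℕ, u ^ (3 ^ m) = 1 := by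
  obtain ⟨k, hk⟩ := hu
  have hle : k ≤ 3 ^ k := (Nat.lt_pow_self (by norm_num : 1 < 3)).le
  have h0 : ((u : Matrix (Fin 3) (Fin 3) (ZMod 3)) - 1) ^ (3 ^ k) = 0 :=
    pow_eq_zero_of_le hle hk
  have h1 := sub_pow_char_pow_of_commute (R := Matrix (Fin 3) (Fin 3) (ZMod 3)) 3 k
    (Commute.one_right (u : Matrix (Fin 3) (Fin 3) (ZMod 3)))
  rw [h0, one_pow] at h1
  refine ⟨k, ?_⟩
  apply Subtype.ext
  rw [Matrix.SpecialLinearGroup.coe_pow, Matrix.SpecialLinearGroup.coe_one]
  exact (sub_eq_zero.1 h1.symm)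

/-- an element of odd order lies in every subgroup of index two -/
theorem mem_of_pow_three_pow {N : Subgroup S33} (hN : N.index = 2) (x : S33) (m : ℕ)
    (hx : x ^ (3 ^ m) = 1) : x ∈ N := by
  have hodd : Odd (3 ^ m) := Odd.pow (by decide)
  obtain ⟨j, hj⟩ := hodd
  have h2 : x ^ (2 * (j + 1)) ∈ N := by
    rw [mul_comm, pow_mul]
    exact Subgroup.sq_mem_of_index_two hN _
  have e : x ^ (2 * (j + 1)) = x := by
    have : 2 * (j + 1) = 3 ^ m + 1 := by omega
    rw [this, pow_succ, hx, one_mul]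
  rwa [e] at h2

end Helper10

open Helper10

/-- [S2] `SL(3,3)` has no subgroup of index two -/
theorem S33_no_index_two (N : Subgroup S33) : N.index ≠ 2 := by
  intro hN
  obtain ⟨u, g, hnil, -, hgen⟩ := Cfsg.Agent.S2278.result (F := ZMod 3)
  obtain ⟨m, hm⟩ := exists_pow_three_pow_eq_one u hnil
  have hu : u ∈ N := mem_of_pow_three_pow hN u m hm
  have hgu : g * u * g⁻¹ ∈ N := by
    apply mem_of_pow_three_pow hN _ m
    rw [conj_pow, hm, mul_one, mul_inv_cancel]
  have hle : Subgroup.closure ({u, g * u * g⁻¹} : Set S33) ≤ N := by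
    rw [Subgroup.closure_le]
    intro x hx
    rcases hx with rfl | rfl
    · exact hu
    · exact hgu
  rw [hgen] at hle
  have : N = ⊤ := top_le_iff.1 hle
  rw [this, Subgroup.index_top] at hN
  norm_num at hN

end Cfsg.Agent.Lib.Helper28.CG
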