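import Mathlib
import Cfsg.Agent.Lib.Helper28.CG.Defs

/-!
# S3412 farm, leaf [S5] (helper10): basic facts on the transvections `tv v φ = 1 + v φᵀ`
-/

set_option autoImplicit false

namespace Cfsg.Agent.Lib.Helper28.CG

open Matrix

namespace Helper10

theorem tv_apply (v φ : Vec) (i j : Fin 3) : tv v φ i j = (1 : Matrix (Fin 3) (Fin 3) (ZMod 3)) i j + v i * φ j := by
  simp [tv, Matrix.vecMulVec_apply]

theorem exists_ne_zero {v : Vec} (hv : v ≠ 0) : ∃ i, v i ≠ 0 := by
  by_contra h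
  apply hv
  funext i
  by_contra hi
  exact h ⟨i, hi⟩

theorem vmv_mul_vmv (v φ w ψ : Vec) :
    Matrix.vecMulVec v φ * Matrix.vecMulVec w ψ = (φ ⬝ᵥ w) • Matrix.vecMulVec v ψ := by
  ext i j
  simp only [Matrix.mul_apply, Matrix.vecMulVec_apply, Matrix.smul_apply, smul_eq_mul, dotProduct,
    Fin.sum_univ_three]
  ring

theorem tv_mul_tv (v φ w ψ : Vec) :
    tv v φ * tv w ψ = 1 + Matrix.vecMulVec v φ + Matrix.vecMulVec w ψ
      + (φ ⬝ᵥ w) • Matrix.vecMulVec v ψ := by
  unfold tv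
  rw [add_mul, mul_add, mul_add, one_mul, mul_one, one_mul, vmv_mul_vmv]
  abel

theorem vmv_ne_zero {v ψ : Vec} (hv : v ≠ 0) (hψ : ψ ≠ 0) : Matrix.vecMulVec v ψ ≠ 0 := by
  obtain ⟨i, hi⟩ := exists_ne_zero hv
  obtain ⟨j, hj⟩ := exists_ne_zero hψ
  intro h
  have := congrFun (congrFun h i) j
  rw [Matrix.vecMulVec_apply] at this
  exact mul_ne_zero hi hj this

theorem zmod3_cases (a : ZMod 3) (ha : a ≠ 0) : a = 1 ∨ a = -1 := by
  revert a; decide

end Helper10

open Helper10

/-- [S5] basic facts on transvections -/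
theorem det_tv (v φ : Vec) (h : φ ⬝ᵥ v = 0) : (tv v φ).det = 1 := by
  rw [Matrix.det_fin_three]
  simp only [tv_apply, Matrix.one_apply_eq, Matrix.one_apply_ne, ne_eq, Fin.reduceEq,
    not_false_eq_true]
  simp only [dotProduct, Fin.sum_univ_three] at h
  simp only [Fin.isValue, zero_add]
  linear_combination h

theorem tv_ne_one (v φ : Vec) (h : IsFlagPair v φ) : tv v φ ≠ 1 := by
  intro he
  have h0 : Matrix.vecMulVec v φ = 0 := by
    unfold tv at he
    exact add_eq_left.1 he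
  exact vmv_ne_zero h.1 h.2.1 h0

theorem tv_mul_comm_iff (v φ w ψ : Vec) (h1 : IsFlagPair v φ) (h2 : IsFlagPair w ψ) :
    tv v φ * tv w ψ = tv w ψ * tv v φ ↔ (φ ⬝ᵥ w = 0 ∧ ψ ⬝ᵥ v = 0) := by
  rw [tv_mul_tv, tv_mul_tv]
  constructor
  · intro h
    have hM : (φ ⬝ᵥ w) • Matrix.vecMulVec v ψ = (ψ ⬝ᵥ v) • Matrix.vecMulVec w φ := by
      have e : (1 : Matrix (Fin 3) (Fin 3) (ZMod 3)) + Matrix.vecMulVec w ψ + Matrix.vecMulVec v φ
          = 1 + Matrix.vecMulVec v φ + Matrix.vecMulVec w ψ := by abel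
      rw [e] at h
      exact add_left_cancel h
    -- apply both sides to `v`
    have hv : ((φ ⬝ᵥ w) • Matrix.vecMulVec v ψ) *ᵥ v = ((ψ ⬝ᵥ v) • Matrix.vecMulVec w φ) *ᵥ v := by
      rw [hM]
    have e1 : ((φ ⬝ᵥ w) • Matrix.vecMulVec v ψ) *ᵥ v = ((φ ⬝ᵥ w) * (ψ ⬝ᵥ v)) • v := by
      ext i
      simp only [Matrix.mulVec, dotProduct, Matrix.smul_apply, Matrix.vecMulVec_apply,
        Fin.sum_univ_three, smul_eq_mul, Pi.smul_apply]
      ring
    have e2 : ((ψ ⬝ᵥ v) • Matrix.vecMulVec w φ) *ᵥ v = ((ψ ⬝ᵥ v) * (φ ⬝ᵥ v)) • w := by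
      ext i
      simp only [Matrix.mulVec, dotProduct, Matrix.smul_apply, Matrix.vecMulVec_apply,
        Fin.sum_univ_three, smul_eq_mul, Pi.smul_apply]
      ring
    rw [e1, e2, h1.2.2, mul_zero, zero_smul] at hv
    have hab : (φ ⬝ᵥ w) * (ψ ⬝ᵥ v) = 0 := by
      rcases smul_eq_zero.1 hv with h0 | h0
      · exact h0
      · exact absurd h0 h1.1
    by_cases ha : φ ⬝ᵥ w = 0
    · refine ⟨ha, ?_⟩
      rw [ha, zero_smul] at hM
      rcases smul_eq_zero.1 hM.symm with h0 | h0
      · exact h0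
      · exact absurd h0 (vmv_ne_zero h2.1 h1.2.1)
    · have hb : ψ ⬝ᵥ v = 0 := by
        rcases mul_eq_zero.1 hab with h0 | h0
        · exact absurd h0 ha
        · exact h0
      rw [hb, zero_smul] at hM
      rcases smul_eq_zero.1 hM with h0 | h0
      · exact absurd h0 ha
      · exact absurd h0 (vmv_ne_zero h1.1 h2.2.1)
  · rintro ⟨ha, hb⟩
    rw [ha, hb, zero_smul, zero_smul]
    abel

theorem tv_eq_iff (v φ w ψ : Vec) (h1 : IsFlagPair v φ) (h2 : IsFlagPair w ψ) :
    tv v φ = tv w ψ ↔ (w = v ∧ ψ = φ) ∨ (w = -v ∧ ψ = -φ) := by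
  constructor
  · intro h
    have hM : Matrix.vecMulVec v φ = Matrix.vecMulVec w ψ := by
      unfold tv at h
      exact add_left_cancel h
    have hent : ∀ i j, v i * φ j = w i * ψ j := by
      intro i j
      have := congrFun (congrFun hM i) j
      simpa [Matrix.vecMulVec_apply] using this
    obtain ⟨j, hj⟩ := exists_ne_zero h1.2.1
    obtain ⟨i, hi⟩ := exists_ne_zero h1.1
    have hψj : ψ j ≠ 0 := by
      intro h0
      have := hent i j
      rw [h0, mul_zero] at this
      exact mul_ne_zero hi hj this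
    have hwi : w i ≠ 0 := by
      intro h0
      have := hent i j
      rw [h0, zero_mul] at this
      exact mul_ne_zero hi hj this
    -- `w = lam • v` with `lam = φ j / ψ j`
    set lam : ZMod 3 := φ j * (ψ j)⁻¹ with hlam
    have hlam0 : lam ≠ 0 := mul_ne_zero hj (inv_ne_zero hψj)
    have hw : ∀ k, w k = lam * v k := by
      intro k
      have := hent k j
      rw [hlam]
      field_simp
      rw [← this]; ring
    have hψ : ∀ k, φ k = lam * ψ k := by
      intro k
      have := hent i k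
      rw [hw i] at this
      have hvi : v i ≠ 0 := hi
      have h3 : v i * φ k = v i * (lam * ψ k) := by rw [this]; ring
      exact mul_left_cancel₀ hvi h3
    rcases zmod3_cases lam hlam0 with h1' | h1'
    · left
      constructor
      · funext k; rw [hw k, h1', one_mul]
      · funext k; have := hψ k; rw [h1', one_mul] at this; exact this.symm
    · right
      constructor
      · funext k; rw [hw k, h1']; simp
      · funext k
        have := hψ k
        rw [h1'] at this
        simp only [Pi.neg_apply]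
        rw [this]; ring
  · rintro (⟨rfl, rfl⟩ | ⟨rfl, rfl⟩)
    · rfl
    · unfold tv
      congr 1
      ext i j
      simp [Matrix.vecMulVec_apply]

end Cfsg.Agent.Lib.Helper28.CG
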