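import Mathlib
import Cfsg.Agent.Lib.Helper28.CG.Defs
import Cfsg.Agent.Lib.Helper10.CGS5

/-!
# S3412 farm, leaf [S7b] (spare by helper10): the 26 sets `kap a`
-/

set_option autoImplicit false

namespace Cfsg.Agent.Lib.Helper28.CG

open Matrix

namespace Helper10

theorem ptVec_ne_zero : ∀ i : Fin 13, ptVec i ≠ 0 := by decide

theorem ptVec_inj_pm : ∀ i i' : Fin 13, (ptVec i' = ptVec i ∨ ptVec i' = -ptVec i) → i' = i := by
  decide

theorem exists_ptVec : ∀ v : Vec, v ≠ 0 → ∃ i : Fin 13, v = ptVec i ∨ v = -ptVec i := by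
  decide

theorem exists_other_cov : ∀ i j : Fin 13, ∃ φ : Vec, IsFlagPair (ptVec i) φ ∧ φ ≠ ptVec j ∧
    φ ≠ -ptVec j := by
  decide

theorem exists_other_vec : ∀ i j : Fin 13, ∃ v : Vec, IsFlagPair v (ptVec j) ∧ v ≠ ptVec i ∧
    v ≠ -ptVec i := by
  decide

theorem tv_neg_neg (v φ : Vec) : tv (-v) (-φ) = tv v φ := by
  unfold tv
  congr 1
  ext a b
  simp [Matrix.vecMulVec_apply]

theorem tv_neg_left (v φ : Vec) : tv (-v) φ = tv v (-φ) := by
  unfold tv
  congr 1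
  ext a b
  simp [Matrix.vecMulVec_apply]

theorem flag_neg {v φ : Vec} (h : IsFlagPair v φ) : IsFlagPair (-v) (-φ) := by
  refine ⟨neg_ne_zero.2 h.1, neg_ne_zero.2 h.2.1, ?_⟩
  rw [neg_dotProduct_neg]
  exact h.2.2

theorem flag_neg_right {v φ : Vec} (h : IsFlagPair v φ) : IsFlagPair v (-φ) := by
  refine ⟨h.1, neg_ne_zero.2 h.2.1, ?_⟩
  rw [neg_dotProduct]
  rw [h.2.2, neg_zero]

theorem flag_neg_left {v φ : Vec} (h : IsFlagPair v φ) : IsFlagPair (-v) φ := by
  refine ⟨neg_ne_zero.2 h.1, h.2.1, ?_⟩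
  rw [dotProduct_neg]
  rw [h.2.2, neg_zero]

/-- the vertex of a flag pair -/
def tvV (v φ : Vec) (h : IsFlagPair v φ) : V S33 :=
  ⟨⟨tv v φ, det_tv v φ h.2.2⟩, by
    intro h1
    have := congrArg (fun g : S33 => (g : Matrix (Fin 3) (Fin 3) (ZMod 3))) h1
    exact tv_ne_one v φ h this⟩

theorem tvV_coe (v φ : Vec) (h : IsFlagPair v φ) :
    (((tvV v φ h).1 : S33) : Matrix (Fin 3) (Fin 3) (ZMod 3)) = tv v φ := rfl

theorem V_ext {x y : V S33}
    (h : ((x.1 : S33) : Matrix (Fin 3) (Fin 3) (ZMod 3)) = ((y.1 : S33) : Matrix (Fin 3) (Fin 3) (ZMod 3))) :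
    x = y := Subtype.ext (Subtype.ext h)

theorem kap_inl_inl_disjoint (i i' : Fin 13) (hne : i ≠ i') (x : V S33)
    (h1 : x ∈ kap (Sum.inl i)) (h2 : x ∈ kap (Sum.inl i')) : False := by
  obtain ⟨φ, hφ, e1⟩ := h1
  obtain ⟨φ', hφ', e2⟩ := h2
  rw [e1] at e2
  rcases (tv_eq_iff _ _ _ _ hφ hφ').1 e2 with ⟨h, -⟩ | ⟨h, -⟩
  · exact hne (ptVec_inj_pm i i' (Or.inl h)).symm
  · exact hne (ptVec_inj_pm i i' (Or.inr h)).symm

theorem kap_inr_inr_disjoint (j j' : Fin 13) (hne : j ≠ j') (x : V S33)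
    (h1 : x ∈ kap (Sum.inr j)) (h2 : x ∈ kap (Sum.inr j')) : False := by
  obtain ⟨v, hv, e1⟩ := h1
  obtain ⟨v', hv', e2⟩ := h2
  rw [e1] at e2
  rcases (tv_eq_iff _ _ _ _ hv hv').1 e2 with ⟨-, h⟩ | ⟨-, h⟩
  · exact hne (ptVec_inj_pm j j' (Or.inl h)).symm
  · exact hne (ptVec_inj_pm j j' (Or.inr h)).symm

/-- elements of `kap (inl i) ∩ kap (inr j)` are `tv p (± l)` -/
theorem kap_inl_inr (i j : Fin 13) (x : V S33)
    (h1 : x ∈ kap (Sum.inl i)) (h2 : x ∈ kap (Sum.inr j)) :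
    inc i j ∧ (((x.1 : S33) : Matrix (Fin 3) (Fin 3) (ZMod 3)) = tv (ptVec i) (ptVec j) ∨
      ((x.1 : S33) : Matrix (Fin 3) (Fin 3) (ZMod 3)) = tv (ptVec i) (-ptVec j)) := by
  obtain ⟨φ, hφ, e1⟩ := h1
  obtain ⟨v, hv, e2⟩ := h2
  have e3 : tv (ptVec i) φ = tv v (ptVec j) := by rw [← e1, e2]
  rcases (tv_eq_iff _ _ _ _ hφ hv).1 e3 with ⟨-, h⟩ | ⟨-, h⟩
  · refine ⟨?_, Or.inl ?_⟩
    · unfold inc
      rw [dotProduct_comm, h]
      exact hφ.2.2
    · rw [e1, h]
  · refine ⟨?_, Or.inr ?_⟩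
    · unfold inc
      have : φ = -ptVec j := by rw [h, neg_neg]
      rw [dotProduct_comm]
      have h0 := hφ.2.2
      rw [this, neg_dotProduct, neg_eq_zero] at h0
      exact h0
    · have : φ = -ptVec j := by rw [h, neg_neg]
      rw [e1, this]

theorem flag_of_inc (i j : Fin 13) (h : inc i j) : IsFlagPair (ptVec i) (ptVec j) := by
  refine ⟨ptVec_ne_zero i, ptVec_ne_zero j, ?_⟩
  unfold inc at h
  rw [dotProduct_comm]
  exact h

theorem mem_kap_inl_inr (i j : Fin 13) (h : inc i j) :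
    tvV (ptVec i) (ptVec j) (flag_of_inc i j h) ∈ kap (Sum.inl i) ∩ kap (Sum.inr j) :=
  ⟨⟨ptVec j, flag_of_inc i j h, rfl⟩, ⟨ptVec i, flag_of_inc i j h, rfl⟩⟩

theorem ncard_inl_inr (i j : Fin 13) : (kap (Sum.inl i) ∩ kap (Sum.inr j)).ncard ≤ 2 := by
  by_cases hne : (kap (Sum.inl i) ∩ kap (Sum.inr j)).Nonempty
  · obtain ⟨x0, hx0⟩ := hne
    have hinc := (kap_inl_inr i j x0 hx0.1 hx0.2).1
    have hf := flag_of_inc i j hinc
    have hsub : kap (Sum.inl i) ∩ kap (Sum.inr j) ⊆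
        ({tvV (ptVec i) (ptVec j) hf, tvV (ptVec i) (-ptVec j) (flag_neg_right hf)} : Set (V S33)) := by
      intro x hx
      rcases (kap_inl_inr i j x hx.1 hx.2).2 with h | h
      · left; exact V_ext h
      · right; exact V_ext h
    refine (Set.ncard_le_ncard hsub (Set.toFinite _)).trans ?_
    refine (Set.ncard_insert_le _ _).trans ?_
    rw [Set.ncard_singleton]
  · rw [Set.not_nonempty_iff_eq_empty] at hne
    rw [hne, Set.ncard_empty]
    norm_num

end Helper10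

open Helper10

/-- [S7b] (spare) the sets `kap a`: distinct, meeting exactly along the Levi graph, in at most two
elements; every transvection lies in two of them -/
theorem Helper10.kap_facts_spare :
    Function.Injective kap ∧
    (∀ a b : Om, a ≠ b → ((kap a ∩ kap b).Nonempty ↔ LeviAdj a b)) ∧
    (∀ a b : Om, a ≠ b → (kap a ∩ kap b).ncard ≤ 2) ∧
    (∀ x : V S33, IsTv x → ∃ a b : Om, a ≠ b ∧ x ∈ kap a ∧ x ∈ kap b) := by
  refine ⟨?_, ?_, ?_, ?_⟩
  · -- injectivity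
    intro a b hab
    by_contra hne
    rcases a with i | j <;> rcases b with i' | j'
    · have hii : i ≠ i' := fun h => hne (by rw [h])
      obtain ⟨φ, hφ, -, -⟩ := exists_other_cov i 0
      have hx : tvV (ptVec i) φ hφ ∈ kap (Sum.inl i) := ⟨φ, hφ, rfl⟩
      have hx' : tvV (ptVec i) φ hφ ∈ kap (Sum.inl i') := by rw [← hab]; exact hx
      exact kap_inl_inl_disjoint i i' hii _ hx hx'
    · obtain ⟨φ, hφ, h1, h2⟩ := exists_other_cov i j'
      have hx : tvV (ptVec i) φ hφ ∈ kap (Sum.inl i) := ⟨φ, hφ, rfl⟩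
      have hx' : tvV (ptVec i) φ hφ ∈ kap (Sum.inr j') := by rw [← hab]; exact hx
      obtain ⟨v, hv, e⟩ := hx'
      rw [tvV_coe] at e
      rcases (tv_eq_iff _ _ _ _ hφ hv).1 e with ⟨-, h⟩ | ⟨-, h⟩
      · exact h1 h.symm
      · exact h2 (by rw [h, neg_neg])
    · obtain ⟨φ, hφ, h1, h2⟩ := exists_other_cov i' j
      have hx : tvV (ptVec i') φ hφ ∈ kap (Sum.inl i') := ⟨φ, hφ, rfl⟩
      have hx' : tvV (ptVec i') φ hφ ∈ kap (Sum.inr j) := by rw [hab]; exact hx
      obtain ⟨v, hv, e⟩ := hx'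
      rw [tvV_coe] at e
      rcases (tv_eq_iff _ _ _ _ hφ hv).1 e with ⟨-, h⟩ | ⟨-, h⟩
      · exact h1 h.symm
      · exact h2 (by rw [h, neg_neg])
    · have hjj : j ≠ j' := fun h => hne (by rw [h])
      obtain ⟨v, hv, -, -⟩ := exists_other_vec 0 j
      have hx : tvV v (ptVec j) hv ∈ kap (Sum.inr j) := ⟨v, hv, rfl⟩
      have hx' : tvV v (ptVec j) hv ∈ kap (Sum.inr j') := by rw [← hab]; exact hx
      exact kap_inr_inr_disjoint j j' hjj _ hx hx'
  · intro a b hne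
    rcases a with i | j <;> rcases b with i' | j'
    · have hii : i ≠ i' := fun h => hne (by rw [h])
      constructor
      · rintro ⟨x, hx1, hx2⟩
        exact (kap_inl_inl_disjoint i i' hii x hx1 hx2).elim
      · intro h; exact h.elim
    · constructor
      · rintro ⟨x, hx1, hx2⟩
        exact (kap_inl_inr i j' x hx1 hx2).1
      · intro h
        exact ⟨_, mem_kap_inl_inr i j' h⟩
    · constructor
      · rintro ⟨x, hx1, hx2⟩
        exact (kap_inl_inr i' j x hx2 hx1).1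
      · intro h
        have := mem_kap_inl_inr i' j h
        exact ⟨_, this.2, this.1⟩
    · have hjj : j ≠ j' := fun h => hne (by rw [h])
      constructor
      · rintro ⟨x, hx1, hx2⟩
        exact (kap_inr_inr_disjoint j j' hjj x hx1 hx2).elim
      · intro h; exact h.elim
  · intro a b hne
    rcases a with i | j <;> rcases b with i' | j'
    · have hii : i ≠ i' := fun h => hne (by rw [h])
      have : kap (Sum.inl i) ∩ kap (Sum.inl i') = ∅ := by
        rw [Set.eq_empty_iff_forall_notMem]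
        rintro x ⟨hx1, hx2⟩
        exact kap_inl_inl_disjoint i i' hii x hx1 hx2
      rw [this, Set.ncard_empty]; norm_num
    · exact ncard_inl_inr i j'
    · rw [Set.inter_comm]; exact ncard_inl_inr i' j
    · have hjj : j ≠ j' := fun h => hne (by rw [h])
      have : kap (Sum.inr j) ∩ kap (Sum.inr j') = ∅ := by
        rw [Set.eq_empty_iff_forall_notMem]
        rintro x ⟨hx1, hx2⟩
        exact kap_inr_inr_disjoint j j' hjj x hx1 hx2
      rw [this, Set.ncard_empty]; norm_num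
  · rintro x ⟨v, φ, hf, e⟩
    obtain ⟨i, hi⟩ := exists_ptVec v hf.1
    obtain ⟨j, hj⟩ := exists_ptVec φ hf.2.1
    refine ⟨Sum.inl i, Sum.inr j, by simp, ?_, ?_⟩
    · rcases hi with hi | hi
      · exact ⟨φ, by rw [← hi]; exact hf, by rw [e, hi]⟩
      · refine ⟨-φ, ?_, ?_⟩
        · have := flag_neg hf
          rw [hi, neg_neg] at this
          exact this
        · rw [e, hi, tv_neg_left]
    · rcases hj with hj | hj
      · exact ⟨v, by rw [← hj]; exact hf, by rw [e, hj]⟩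
      · refine ⟨-v, ?_, ?_⟩
        · have := flag_neg hf
          rw [hj, neg_neg] at this
          exact this
        · rw [e, hj]
          exact (tv_neg_left v (ptVec j)).symm

end Cfsg.Agent.Lib.Helper28.CG
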