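import Mathlib
import Cfsg.Agent.Lib.Helper28.CG.Defs
import Cfsg.Agent.Lib.Helper10.CGS5
import Cfsg.Agent.Lib.Helper10.CGS7b

/-!
# S3412 farm, leaf [S7a] (spare by helper10): the family `KK` of `SL(3,3)` is the family of the
26 sets `kap a`
-/

set_option autoImplicit false

namespace Cfsg.Agent.Lib.Helper28.CG

open Matrix

namespace Helper10

set_option maxRecDepth 100000 in
theorem inc_quad : ∀ i i' j j' : Fin 13, inc i j → inc i' j' → inc i' j → inc i j' →
    i = i' ∨ j = j' := by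
  decide

theorem two_lines_through : ∀ i : Fin 13, ∃ j j' : Fin 13, j ≠ j' ∧ inc i j ∧ inc i j' := by decide

theorem two_points_on : ∀ j : Fin 13, ∃ i i' : Fin 13, i ≠ i' ∧ inc i j ∧ inc i' j := by decide

theorem other_point_on : ∀ i j : Fin 13, inc i j → ∃ a : Fin 13, a ≠ i ∧ inc a j := by decide

theorem other_line_through : ∀ i j : Fin 13, inc i j → ∃ b : Fin 13, b ≠ j ∧ inc i b := by decide

/-- `x` is the transvection with centre `ptVec i` and axis `ptVec j` (up to sign) -/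
def HasFlag (x : V S33) (i j : Fin 13) : Prop :=
  inc i j ∧ ∃ φ : Vec, (φ = ptVec j ∨ φ = -ptVec j) ∧
    ((x.1 : S33) : Matrix (Fin 3) (Fin 3) (ZMod 3)) = tv (ptVec i) φ

theorem pm_dot {φ l : Vec} (h : φ = l ∨ φ = -l) (w : Vec) : φ ⬝ᵥ w = 0 ↔ l ⬝ᵥ w = 0 := by
  rcases h with rfl | rfl
  · rfl
  · rw [neg_dotProduct, neg_eq_zero]

theorem pm_ne_zero {φ : Vec} {j : Fin 13} (h : φ = ptVec j ∨ φ = -ptVec j) : φ ≠ 0 := by
  rcases h with rfl | rfl
  · exact ptVec_ne_zero j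
  · exact neg_ne_zero.2 (ptVec_ne_zero j)

theorem flag_of_pm {i j : Fin 13} {φ : Vec} (hinc : inc i j) (h : φ = ptVec j ∨ φ = -ptVec j) :
    IsFlagPair (ptVec i) φ := by
  refine ⟨ptVec_ne_zero i, pm_ne_zero h, ?_⟩
  rw [pm_dot h, dotProduct_comm]
  exact hinc

theorem HasFlag.isTv {x : V S33} {i j : Fin 13} (h : HasFlag x i j) : IsTv x := by
  obtain ⟨hinc, φ, hφ, e⟩ := h
  exact ⟨ptVec i, φ, flag_of_pm hinc hφ, e⟩

theorem exists_hasFlag_of_isTv {x : V S33} (h : IsTv x) : ∃ i j, HasFlag x i j := by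
  obtain ⟨v, φ, hf, e⟩ := h
  obtain ⟨i, hi⟩ := exists_ptVec v hf.1
  obtain ⟨j, hj⟩ := exists_ptVec φ hf.2.1
  have hinc : inc i j := by
    unfold inc
    have h0 := hf.2.2
    rw [pm_dot hj] at h0
    rw [dotProduct_comm] at h0
    rcases hi with rfl | rfl
    · exact h0
    · rw [neg_dotProduct, neg_eq_zero] at h0
      exact h0
  refine ⟨i, j, hinc, ?_⟩
  rcases hi with rfl | rfl
  · exact ⟨φ, hj, e⟩
  · refine ⟨-φ, ?_, ?_⟩
    · rcases hj with rfl | rfl
      · right; rfl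
      · left; rw [neg_neg]
    · rw [e, tv_neg_left]

theorem comm_iff_of_hasFlag {x y : V S33} {i j i' j' : Fin 13} (hx : HasFlag x i j)
    (hy : HasFlag y i' j') : comm x y ↔ inc i' j ∧ inc i j' := by
  obtain ⟨hinc, φ, hφ, e⟩ := hx
  obtain ⟨hinc', ψ, hψ, e'⟩ := hy
  have h1 : comm x y ↔ tv (ptVec i) φ * tv (ptVec i') ψ = tv (ptVec i') ψ * tv (ptVec i) φ := by
    unfold comm
    rw [← e, ← e', ← Matrix.SpecialLinearGroup.coe_mul, ← Matrix.SpecialLinearGroup.coe_mul]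
    constructor
    · intro h; rw [h]
    · intro h; exact Subtype.ext h
  rw [h1, tv_mul_comm_iff _ _ _ _ (flag_of_pm hinc hφ) (flag_of_pm hinc' hψ), pm_dot hφ, pm_dot hψ]
  unfold inc
  rw [dotProduct_comm (ptVec j), dotProduct_comm (ptVec j')]

theorem hasFlag_unique {x : V S33} {i j i' j' : Fin 13} (h : HasFlag x i j) (h' : HasFlag x i' j') :
    i' = i ∧ j' = j := by
  obtain ⟨hinc, φ, hφ, e⟩ := h
  obtain ⟨hinc', ψ, hψ, e'⟩ := h'
  have e2 : tv (ptVec i) φ = tv (ptVec i') ψ := by rw [← e, e']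
  have key := (tv_eq_iff _ _ _ _ (flag_of_pm hinc hφ) (flag_of_pm hinc' hψ)).1 e2
  have hi : i' = i := by
    rcases key with ⟨h1, -⟩ | ⟨h1, -⟩
    · exact ptVec_inj_pm i i' (Or.inl h1)
    · exact ptVec_inj_pm i i' (Or.inr h1)
  refine ⟨hi, ?_⟩
  apply ptVec_inj_pm j j'
  rcases key with ⟨-, h2⟩ | ⟨-, h2⟩
  · rcases hφ with rfl | rfl <;> rcases hψ with rfl | rfl
    · left; exact h2
    · right; rw [← h2, neg_neg]
    · right; exact h2
    · left; exact neg_injective h2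
  · rcases hφ with rfl | rfl <;> rcases hψ with rfl | rfl
    · right; exact h2
    · left; exact neg_injective h2
    · left; rw [h2, neg_neg]
    · right; exact neg_injective h2

theorem mem_kap_inl {x : V S33} {i : Fin 13} : x ∈ kap (Sum.inl i) ↔ ∃ j, HasFlag x i j := by
  constructor
  · rintro ⟨φ, hf, e⟩
    obtain ⟨j, hj⟩ := exists_ptVec φ hf.2.1
    refine ⟨j, ?_, φ, hj, e⟩
    unfold inc
    have h0 := hf.2.2
    rw [pm_dot hj, dotProduct_comm] at h0
    exact h0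
  · rintro ⟨j, hinc, φ, hφ, e⟩
    exact ⟨φ, flag_of_pm hinc hφ, e⟩

theorem mem_kap_inr {x : V S33} {j : Fin 13} : x ∈ kap (Sum.inr j) ↔ ∃ i, HasFlag x i j := by
  constructor
  · rintro ⟨v, hf, e⟩
    obtain ⟨i, hi⟩ := exists_ptVec v hf.1
    have hinc : inc i j := by
      unfold inc
      have h0 := hf.2.2
      rw [dotProduct_comm] at h0
      rcases hi with rfl | rfl
      · exact h0
      · rw [neg_dotProduct, neg_eq_zero] at h0
        exact h0
    refine ⟨i, hinc, ?_⟩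
    rcases hi with rfl | rfl
    · exact ⟨ptVec j, Or.inl rfl, e⟩
    · exact ⟨-ptVec j, Or.inr rfl, by rw [e, tv_neg_left]⟩
  · rintro ⟨i, hinc, φ, hφ, e⟩
    rcases hφ with rfl | rfl
    · exact ⟨ptVec i, flag_of_inc i j hinc, e⟩
    · refine ⟨-ptVec i, flag_neg_left (flag_of_inc i j hinc), ?_⟩
      rw [e, tv_neg_left]

theorem hasFlag_tvV (i j : Fin 13) (h : inc i j) :
    HasFlag (tvV (ptVec i) (ptVec j) (flag_of_inc i j h)) i j :=
  ⟨h, ptVec j, Or.inl rfl, rfl⟩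

section
variable (hT : ∀ x : V S33, x ∈ TT S33 ↔ IsTv x)
include hT

theorem K_eq_inl {t u : V S33} {i j j' : Fin 13} (ht : HasFlag t i j) (hu : HasFlag u i j')
    (hjj : j ≠ j') : {w | w ∈ TT S33 ∧ comm w t ∧ comm w u} = kap (Sum.inl i) := by
  ext w
  show (w ∈ TT S33 ∧ comm w t ∧ comm w u) ↔ _
  constructor
  · rintro ⟨hw, hwt, hwu⟩
    obtain ⟨a, b, hab⟩ := exists_hasFlag_of_isTv ((hT w).1 hw)
    rw [comm_iff_of_hasFlag hab ht] at hwt
    rw [comm_iff_of_hasFlag hab hu] at hwu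
    have hai : a = i := by
      rcases inc_quad a i j j' hwt.2 hu.1 ht.1 hwu.2 with h | h
      · exact h
      · exact absurd h hjj
    rw [mem_kap_inl]
    exact ⟨b, by rw [← hai]; exact hab⟩
  · intro hw
    obtain ⟨b, hb⟩ := mem_kap_inl.1 hw
    refine ⟨(hT w).2 hb.isTv, ?_, ?_⟩
    · rw [comm_iff_of_hasFlag hb ht]
      exact ⟨hb.1, ht.1⟩
    · rw [comm_iff_of_hasFlag hb hu]
      exact ⟨hb.1, hu.1⟩

theorem K_eq_inr {t u : V S33} {i i' j : Fin 13} (ht : HasFlag t i j) (hu : HasFlag u i' j)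
    (hii : i ≠ i') : {w | w ∈ TT S33 ∧ comm w t ∧ comm w u} = kap (Sum.inr j) := by
  ext w
  show (w ∈ TT S33 ∧ comm w t ∧ comm w u) ↔ _
  constructor
  · rintro ⟨hw, hwt, hwu⟩
    obtain ⟨a, b, hab⟩ := exists_hasFlag_of_isTv ((hT w).1 hw)
    rw [comm_iff_of_hasFlag hab ht] at hwt
    rw [comm_iff_of_hasFlag hab hu] at hwu
    have hbj : b = j := by
      rcases inc_quad i i' b j hwt.1 hu.1 hwu.1 ht.1 with h | h
      · exact absurd h hii
      · exact h
    rw [mem_kap_inr]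
    exact ⟨a, by rw [← hbj]; exact hab⟩
  · intro hw
    obtain ⟨a, ha⟩ := mem_kap_inr.1 hw
    refine ⟨(hT w).2 ha.isTv, ?_, ?_⟩
    · rw [comm_iff_of_hasFlag ha ht]
      exact ⟨ht.1, ha.1⟩
    · rw [comm_iff_of_hasFlag ha hu]
      exact ⟨hu.1, ha.1⟩

/-- [S7a] (spare) the family `KK` of `SL(3,3)` consists of the 26 sets `kap a` -/
theorem KK_S33_eq_spare : KK S33 = Set.range kap := by
  ext K
  constructor
  · rintro ⟨t, ht, u, hu, hcomm, hntw, rfl⟩
    obtain ⟨i, j, hti⟩ := exists_hasFlag_of_isTv ((hT t).1 ht)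
    obtain ⟨i', j', hui⟩ := exists_hasFlag_of_isTv ((hT u).1 hu)
    have hc := (comm_iff_of_hasFlag hti hui).1 hcomm
    have hne : ¬ (i = i' ∧ j = j') := by
      rintro ⟨rfl, rfl⟩
      apply hntw
      intro w hw
      obtain ⟨a, b, hab⟩ := exists_hasFlag_of_isTv ((hT w).1 hw)
      rw [comm_iff_of_hasFlag hab hti, comm_iff_of_hasFlag hab hui]
    rcases inc_quad i i' j j' hti.1 hui.1 hc.1 hc.2 with h | h
    · subst h
      have hjj : j ≠ j' := fun h => hne ⟨rfl, h⟩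
      exact ⟨Sum.inl i, (K_eq_inl hT hti hui hjj).symm⟩
    · subst h
      have hii : i ≠ i' := fun h => hne ⟨h, rfl⟩
      exact ⟨Sum.inr j, (K_eq_inr hT hti hui hii).symm⟩
  · rintro ⟨a, rfl⟩
    rcases a with i | j
    · obtain ⟨j, j', hjj, h1, h2⟩ := two_lines_through i
      have ht := hasFlag_tvV i j h1
      have hu := hasFlag_tvV i j' h2
      refine ⟨_, (hT _).2 ht.isTv, _, (hT _).2 hu.isTv, ?_, ?_, (K_eq_inl hT ht hu hjj).symm⟩
      · rw [comm_iff_of_hasFlag ht hu]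
        exact ⟨h1, h2⟩
      · intro htw
        obtain ⟨a, hai, haj⟩ := other_point_on i j h1
        have hw := hasFlag_tvV a j haj
        have h3 := (htw _ ((hT _).2 hw.isTv)).1
          ((comm_iff_of_hasFlag hw ht).2 ⟨h1, haj⟩)
        rw [comm_iff_of_hasFlag hw hu] at h3
        rcases inc_quad a i j j' haj h2 h1 h3.2 with h | h
        · exact hai h
        · exact hjj h
    · obtain ⟨i, i', hii, h1, h2⟩ := two_points_on j
      have ht := hasFlag_tvV i j h1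
      have hu := hasFlag_tvV i' j h2
      refine ⟨_, (hT _).2 ht.isTv, _, (hT _).2 hu.isTv, ?_, ?_, (K_eq_inr hT ht hu hii).symm⟩
      · rw [comm_iff_of_hasFlag ht hu]
        exact ⟨h2, h1⟩
      · intro htw
        obtain ⟨b, hbj, hib⟩ := other_line_through i j h1
        have hw := hasFlag_tvV i b hib
        have h3 := (htw _ ((hT _).2 hw.isTv)).1
          ((comm_iff_of_hasFlag hw ht).2 ⟨hib, h1⟩)
        rw [comm_iff_of_hasFlag hw hu] at h3
        rcases inc_quad i i' b j hib h2 h3.1 h1 with h | h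
        · exact hii h
        · exact hbj h

end

end Helper10

end Cfsg.Agent.Lib.Helper28.CG
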