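import Cfsg.Agent.Lib.Helper8.ChevAu21
import Cfsg.Agent.Lib.Helper8.ChevGA4

set_option autoImplicit false

/-! The six symmetries of the diagram of type `D₄` and their realisation by automorphisms
preserving `U` and `V`. -/

namespace Cfsg.Agent.Lib.Helper10.ChevD4Sym

open Cfsg Cfsg.Lie Matrix Cfsg.Agent.Lib.Helper8.Chev

theorem mem7_D4 : chevD4 ∈ [chevG2, chevB2, chevD4, chevF4, chevE6, chevE7, chevE8] := by simp
theorem mem4_D4 : chevD4 ∈ [chevD4, chevE6, chevE7, chevE8] := by simp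

section Generic

variable {D : ChevalleyDatum} {F : Type*} [Field F] [Finite F]
variable {ρ ρ' π π' : ℕ → ℕ} {ε : ℕ → ℤ}

/-- a graph automorphism given by tables, whose root permutation preserves positivity, preserves
`U` and `V` -/
theorem gaEquiv_mem_presSub (hD : D ∈ [chevG2, chevB2, chevD4, chevF4, chevE6, chevE7, chevE8])
    (h : GAOk D ρ ρ' π π' ε)
    (hpos : ∀ r < D.nroots, (D.nroots / 2 ≤ r → D.nroots / 2 ≤ π r) ∧
      (r < D.nroots / 2 → π r < D.nroots / 2)) :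
    gaEquiv (F := F) (valid0_of_mem hD) (valid1_of_mem hD) h ∈ presSub D F := by
  have V := valid0_of_mem hD
  have V1 := valid1_of_mem hD
  have P := posP_of_mem hD
  refine ⟨?_, ?_⟩
  · apply pres_pos_of_gens
    intro g r t hr hg
    refine ⟨π r, ((ε r : ℤ) : F) * t, ?_, ?_⟩
    · rw [(P _ (h.hπ r hr.1).1).1]
      exact (hpos r hr.1).1 ((P r hr.1).1.mp hr)
    · rw [coe_gaEquiv]
      exact gaU_conj_x V V1 h hr.1 t _ hg
  · apply pres_neg_of_gens
    intro g r t hr hg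
    refine ⟨π r, ((ε r : ℤ) : F) * t, ?_, ?_⟩
    · rw [(P _ (h.hπ r hr.1).1).2]
      exact (hpos r hr.1).2 ((P r hr.1).2.mp hr)
    · rw [coe_gaEquiv]
      exact gaU_conj_x V V1 h hr.1 t _ hg

/-- the action of a graph automorphism given by tables on the fundamental root elements -/
theorem gaEquiv_xEl (hD : D ∈ [chevG2, chevB2, chevD4, chevF4, chevE6, chevE7, chevE8])
    (h : GAOk D ρ ρ' π π' ε) (τ : Equiv.Perm (Fin D.rank))
    (hτ : ∀ i : Fin D.rank, (τ i).val = ρ i.val) (i : Fin D.rank) (t : F) :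
    gaEquiv (F := F) (valid0_of_mem hD) (valid1_of_mem hD) h (xEl hD (D.simple i) t) =
        xEl hD (D.simple (τ i)) t ∧
      gaEquiv (F := F) (valid0_of_mem hD) (valid1_of_mem hD) h (xEl hD (D.neg (D.simple i)) t) =
        xEl hD (D.neg (D.simple (τ i))) t := by
  have J := validJ_of_mem hD
  have V1 := valid1_of_mem hD
  constructor
  · apply eq_xEl_of_coe hD (StdAut.simple_lt hD _)
    rw [hτ i]
    exact (gaEquiv_simple J V1 h _ i.isLt t).1 (coe_xEl hD (StdAut.simple_lt hD i) t)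
  · apply eq_xEl_of_coe hD (StdAut.neg_simple_lt hD _)
    rw [hτ i]
    exact (gaEquiv_simple J V1 h _ i.isLt t).2 (coe_xEl hD (StdAut.neg_simple_lt hD i) t)

end Generic

/-! ### positivity of the six root permutations -/

theorem gaPi_D4i_pos : ∀ r < chevD4.nroots,
    (chevD4.nroots / 2 ≤ r → chevD4.nroots / 2 ≤ gaPi_D4i r) ∧
      (r < chevD4.nroots / 2 → gaPi_D4i r < chevD4.nroots / 2) := by
  decide +kernel

theorem gaPi_D4a_pos : ∀ r < chevD4.nroots,
    (chevD4.nroots / 2 ≤ r → chevD4.nroots / 2 ≤ gaPi_D4a r) ∧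
      (r < chevD4.nroots / 2 → gaPi_D4a r < chevD4.nroots / 2) := by
  decide +kernel

theorem gaPi_D4b_pos : ∀ r < chevD4.nroots,
    (chevD4.nroots / 2 ≤ r → chevD4.nroots / 2 ≤ gaPi_D4b r) ∧
      (r < chevD4.nroots / 2 → gaPi_D4b r < chevD4.nroots / 2) := by
  decide +kernel

theorem gaPi_D4c_pos : ∀ r < chevD4.nroots,
    (chevD4.nroots / 2 ≤ r → chevD4.nroots / 2 ≤ gaPi_D4c r) ∧
      (r < chevD4.nroots / 2 → gaPi_D4c r < chevD4.nroots / 2) := by
  decide +kernel

theorem gaPi_D4d_pos : ∀ r < chevD4.nroots,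
    (chevD4.nroots / 2 ≤ r → chevD4.nroots / 2 ≤ gaPi_D4d r) ∧
      (r < chevD4.nroots / 2 → gaPi_D4d r < chevD4.nroots / 2) := by
  decide +kernel

theorem gaPi_D4e_pos : ∀ r < chevD4.nroots,
    (chevD4.nroots / 2 ≤ r → chevD4.nroots / 2 ≤ gaPi_D4e r) ∧
      (r < chevD4.nroots / 2 → gaPi_D4e r < chevD4.nroots / 2) := by
  decide +kernel

section

variable {F : Type*} [Field F] [Finite F]

/-- every symmetry of the diagram of type `D₄` is realised by an automorphism preserving `U` and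
`V` -/
theorem graphReal_D4 : GraphReal mem7_D4 F := by
  intro π hπ
  rcases classify_D4 π hπ with h | h | h | h | h | h
  · exact ⟨_, gaEquiv_mem_presSub mem7_D4 gaOk_D4i gaPi_D4i_pos,
      fun i t => gaEquiv_xEl mem7_D4 gaOk_D4i π h i t⟩
  · exact ⟨_, gaEquiv_mem_presSub mem7_D4 gaOk_D4a gaPi_D4a_pos,
      fun i t => gaEquiv_xEl mem7_D4 gaOk_D4a π h i t⟩
  · exact ⟨_, gaEquiv_mem_presSub mem7_D4 gaOk_D4b gaPi_D4b_pos,
      fun i t => gaEquiv_xEl mem7_D4 gaOk_D4b π h i t⟩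
  · exact ⟨_, gaEquiv_mem_presSub mem7_D4 gaOk_D4c gaPi_D4c_pos,
      fun i t => gaEquiv_xEl mem7_D4 gaOk_D4c π h i t⟩
  · exact ⟨_, gaEquiv_mem_presSub mem7_D4 gaOk_D4d gaPi_D4d_pos,
      fun i t => gaEquiv_xEl mem7_D4 gaOk_D4d π h i t⟩
  · exact ⟨_, gaEquiv_mem_presSub mem7_D4 gaOk_D4e gaPi_D4e_pos,
      fun i t => gaEquiv_xEl mem7_D4 gaOk_D4e π h i t⟩

end

/-! ### counting the symmetries -/

instance decSym_D4 : DecidablePred (fun π : Equiv.Perm (Fin chevD4.rank) =>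
    chevD4.IsDiagramSymmetry π) := by
  intro π
  unfold ChevalleyDatum.IsDiagramSymmetry
  infer_instance

set_option maxRecDepth 1000000 in
theorem card_sym_D4 :
    Nat.card {π : Equiv.Perm (Fin chevD4.rank) // chevD4.IsDiagramSymmetry π} = 6 := by
  rw [Nat.card_eq_fintype_card]
  decide +kernel

/-- two symmetries of the diagram of type `D₄` that do not commute -/
def sym02 : Equiv.Perm (Fin chevD4.rank) := Equiv.swap ⟨0, by decide⟩ ⟨2, by decide⟩

/-- two symmetries of the diagram of type `D₄` that do not commute -/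
def sym23 : Equiv.Perm (Fin chevD4.rank) := Equiv.swap ⟨2, by decide⟩ ⟨3, by decide⟩

set_option maxRecDepth 1000000 in
theorem sym02_sym : chevD4.IsDiagramSymmetry sym02 := by
  unfold ChevalleyDatum.IsDiagramSymmetry
  decide +kernel

set_option maxRecDepth 1000000 in
theorem sym23_sym : chevD4.IsDiagramSymmetry sym23 := by
  unfold ChevalleyDatum.IsDiagramSymmetry
  decide +kernel

theorem sym02_mul_sym23_ne : sym02 * sym23 ≠ sym23 * sym02 := by
  decide

theorem exists_noncomm_sym_D4 : ∃ π1 π2 : Equiv.Perm (Fin chevD4.rank),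
    chevD4.IsDiagramSymmetry π1 ∧ chevD4.IsDiagramSymmetry π2 ∧ π1 * π2 ≠ π2 * π1 :=
  ⟨sym02, sym23, sym02_sym, sym23_sym, sym02_mul_sym23_ne⟩

end Cfsg.Agent.Lib.Helper10.ChevD4Sym
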