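import Cfsg.Agent.Lib.Helper8.ChevAu14

set_option autoImplicit false

/-! Inner automorphisms of a Chevalley group that preserve `U` and `V` come from `H`. -/

namespace Cfsg.Agent.Lib.Helper10.ChevDiagConj

open Cfsg Cfsg.Lie Matrix Cfsg.Agent.Lib.Helper8.Chev

theorem mem_normalizer_of_conj {G : Type*} [Group G] (S : Subgroup G) (x : G)
    (h1 : ∀ u ∈ S, x * u * x⁻¹ ∈ S) (h2 : ∀ u ∈ S, x⁻¹ * u * x ∈ S) :
    x ∈ Subgroup.normalizer (S : Set G) := by
  rw [Subgroup.mem_normalizer_iff]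
  intro u
  constructor
  · exact h1 u
  · intro hu
    have := h2 _ hu
    have e : x⁻¹ * (x * u * x⁻¹) * x = u := by group
    rwa [e] at this

section

variable {D : ChevalleyDatum} {F : Type*} [Field F]

/-- a preserving inner automorphism, on the level of `GL` -/
theorem conj_mem_of_pres {S : Subgroup (GL D.Idx F)} (hS : S ≤ D.group F)
    (x : ↥(D.group F)) (h : Pres (MulAut.conj x : MulAut ↥(D.group F)) S)
    (u : GL D.Idx F) (hu : u ∈ S) : (x : GL D.Idx F) * u * (x : GL D.Idx F)⁻¹ ∈ S := by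
  have := h ⟨u, hS hu⟩ hu
  rw [MulAut.conj_apply] at this
  simpa using this

theorem conj_inv_mem_of_pres [Finite F] {S : Subgroup (GL D.Idx F)} (hS : S ≤ D.group F)
    (x : ↥(D.group F)) (h : Pres (MulAut.conj x : MulAut ↥(D.group F)) S)
    (u : GL D.Idx F) (hu : u ∈ S) : (x : GL D.Idx F)⁻¹ * u * (x : GL D.Idx F) ∈ S := by
  have := h.inv ⟨u, hS hu⟩ hu
  rw [MulAut.conj_inv_apply] at this
  simpa using this

theorem conj_pres_mem_diagonal [Finite F]
    (hD : D ∈ [chevG2, chevB2, chevD4, chevF4, chevE6, chevE7, chevE8]) (x : ↥(D.group F))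
    (hU : Pres (MulAut.conj x : MulAut ↥(D.group F)) (D.posUnipotent F))
    (hV : Pres (MulAut.conj x : MulAut ↥(D.group F)) (D.negUnipotent F)) :
    (x : GL D.Idx F) ∈ D.diagonalSubgroup F := by
  have V0 := valid0_of_mem hD
  have V1 := valid1_of_mem hD
  have J := validJ_of_mem hD
  have H := validH_of_mem hD
  have hxU := conj_mem_of_pres pos_le_group x hU
  have hxU' := conj_inv_mem_of_pres pos_le_group x hU
  have hxV := conj_mem_of_pres neg_le_group x hV
  have hxV' := conj_inv_mem_of_pres neg_le_group x hV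
  -- `x ∈ B`
  have hxB : (x : GL D.Idx F) ∈ D.borelSubgroup F := by
    rw [← normalizer_pos hD]
    exact Subgroup.mem_inf.mpr ⟨mem_normalizer_of_conj _ _ hxU hxU', x.2⟩
  -- the longest element
  obtain ⟨n₀, hn₀, σ, τ, hσ, hτ, s1, s2, t1, t2, hτσ, hsur, htot⟩ := w0_data (F := F) hD
  have hn₀G := monomial_le_group V0 V1 hn₀
  have A : ∀ u ∈ D.posUnipotent F, n₀ * u * n₀⁻¹ ∈ D.negUnipotent F := by
    intro u hu
    have := conj_pos_le_neg hD hσ s1 (Subgroup.mem_map_of_mem _ hu)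
    simpa using this
  have Bm : ∀ v ∈ D.negUnipotent F, n₀⁻¹ * v * n₀ ∈ D.posUnipotent F := by
    intro v hv
    have := conj_neg_le_pos hD hτ t2 (Subgroup.mem_map_of_mem _ hv)
    simpa using this
  -- `y = n₀⁻¹ x n₀` normalises `U`
  have hyB : n₀⁻¹ * (x : GL D.Idx F) * n₀ ∈ D.borelSubgroup F := by
    rw [← normalizer_pos hD]
    refine Subgroup.mem_inf.mpr ⟨mem_normalizer_of_conj _ _ ?_ ?_,
      mul_mem (mul_mem (inv_mem hn₀G) x.2) hn₀G⟩
    · intro u hu
      have := Bm _ (hxV _ (A u hu))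
      have e : n₀⁻¹ * ((x : GL D.Idx F) * (n₀ * u * n₀⁻¹) * (x : GL D.Idx F)⁻¹) * n₀ =
          n₀⁻¹ * (x : GL D.Idx F) * n₀ * u * (n₀⁻¹ * (x : GL D.Idx F) * n₀)⁻¹ := by group
      rwa [e] at this
    · intro u hu
      have := Bm _ (hxV' _ (A u hu))
      have e : n₀⁻¹ * ((x : GL D.Idx F)⁻¹ * (n₀ * u * n₀⁻¹) * (x : GL D.Idx F)) * n₀ =
          (n₀⁻¹ * (x : GL D.Idx F) * n₀)⁻¹ * u * (n₀⁻¹ * (x : GL D.Idx F) * n₀) := by group
      rwa [e] at this
  obtain ⟨u, hu, h, hh, hy⟩ := borel_decomp J V1 H hyB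
  have hnh : n₀ * h * n₀⁻¹ ∈ D.diagonalSubgroup F :=
    (Subgroup.mem_normalizer_iff.mp (monomial_le_normalizer hD hn₀) h).mp hh
  have hx : (x : GL D.Idx F) = (n₀ * u * n₀⁻¹) * (n₀ * h * n₀⁻¹) := by
    have : (x : GL D.Idx F) = n₀ * (n₀⁻¹ * (x : GL D.Idx F) * n₀) * n₀⁻¹ := by group
    rw [this, hy]
    group
  have hxVH : (x : GL D.Idx F) ∈ D.negUnipotent F ⊔ D.diagonalSubgroup F := by
    rw [hx]
    exact mul_mem (Subgroup.mem_sup_left (A u hu)) (Subgroup.mem_sup_right hnh)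
  rw [← borel_inf_neg_sup_diagonal J V1 H (triP_of_mem hD) (posP_of_mem hD)]
  exact Subgroup.mem_inf.mpr ⟨hxB, hxVH⟩

theorem pres_conj_of_mem_diagonal
    (hD : D ∈ [chevG2, chevB2, chevD4, chevF4, chevE6, chevE7, chevE8]) (x : ↥(D.group F))
    (hx : (x : GL D.Idx F) ∈ D.diagonalSubgroup F) :
    Pres (MulAut.conj x : MulAut ↥(D.group F)) (D.posUnipotent F) ∧
      Pres (MulAut.conj x : MulAut ↥(D.group F)) (D.negUnipotent F) := by
  have V1 := valid1_of_mem hD
  have J := validJ_of_mem hD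
  have H := validH_of_mem hD
  constructor
  · intro g hg
    rw [MulAut.conj_apply]
    have := (Subgroup.mem_normalizer_iff.mp (diagonal_le_normalizer_pos J V1 H hx)
      (g : GL D.Idx F)).mp hg
    simpa using this
  · intro g hg
    rw [MulAut.conj_apply]
    have := (Subgroup.mem_normalizer_iff.mp (diagonal_le_normalizer_neg J V1 H hx)
      (g : GL D.Idx F)).mp hg
    simpa using this

theorem eq_one_of_conj_eq_one
    (hD : D ∈ [chevG2, chevB2, chevD4, chevF4, chevE6, chevE7, chevE8]) (x : ↥(D.group F))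
    (hx : (x : GL D.Idx F) ∈ D.diagonalSubgroup F)
    (h : (MulAut.conj x : MulAut ↥(D.group F)) = 1) : x = 1 := by
  have V0 := valid0_of_mem hD
  have V1 := valid1_of_mem hD
  have J := validJ_of_mem hD
  have H := validH_of_mem hD
  obtain ⟨f, hf, hm⟩ := torusLike_of_mem J V1 H hx
  have hf1 : ∀ r < D.nroots, ((f r : Fˣ) : F) = 1 := by
    intro r hr
    have h1 : (MulAut.conj x : MulAut ↥(D.group F)) (xEl hD r 1) = xEl hD r 1 := by
      rw [h, MulAut.one_apply]
    rw [MulAut.conj_apply] at h1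
    have h2 : x * xEl hD r (1 : F) = xEl hD r 1 * x := by
      calc x * xEl hD r (1 : F) = (x * xEl hD r 1 * x⁻¹) * x := by group
        _ = xEl hD r 1 * x := by rw [h1]
    have h3 : ((x : GL D.Idx F) : Matrix D.Idx D.Idx F) * D.x F r 1 =
        D.x F r 1 * ((x : GL D.Idx F) : Matrix D.Idx D.Idx F) := by
      rw [← coe_xEl hD hr (1 : F), ← Units.val_mul, ← Units.val_mul, ← Subgroup.coe_mul,
        ← Subgroup.coe_mul, h2]
    rw [hm, x_eq_xN, diagC_mul_xN V0 hf hr, mul_one] at h3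
    have hu : IsUnit (diagC D (fun s => ((f s : Fˣ) : F))) := by
      rw [← hm]; exact ⟨(x : GL D.Idx F), rfl⟩
    have h4 := hu.mul_right_cancel h3
    apply x_param_inj hD hr
    rw [x_eq_xN, x_eq_xN]
    exact h4
  apply Subtype.ext
  apply Units.ext
  rw [hm, diagC_congr hf1, diagC_one]
  rfl

end

end Cfsg.Agent.Lib.Helper10.ChevDiagConj
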