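import Cfsg.Agent.Lib.Helper8.ChevAu21
import Cfsg.Agent.Lib.Helper10.ChevDiagConj

set_option autoImplicit false

/-! Diagonal automorphisms of Chevalley groups: inner ones, conjugates, normal form. -/

namespace Cfsg.Agent.Lib.Helper10.ChevDiagAut

open Cfsg Cfsg.Lie Matrix Cfsg.Agent.Lib.Helper8.Chev

variable {D : ChevalleyDatum} {F : Type*} [Field F]

/-- FO-I: every diagonal automorphism is some `diagAut`. -/
theorem eq_diagAut_of_isDiagonalAut
    (hD : D ∈ [chevG2, chevB2, chevD4, chevF4, chevE6, chevE7, chevE8])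
    {d : MulAut ↥(D.group F)} (hd : D.IsDiagonalAut d) :
    ∃ (χ : ℕ → Fˣ) (hχ : D.IsRootCharacter χ), d = diagAut hD hχ := by
  obtain ⟨χ, hχ, h⟩ := hd
  refine ⟨χ, hχ, ?_⟩
  apply MulEquiv.ext
  intro g
  apply Subtype.ext
  apply Units.ext
  rw [h g, diagAut_apply, Units.val_mul, Units.val_mul, coe_charUnit, coe_charUnit_inv]

/-- a character in the sense of the library takes inverse values at opposite roots -/
theorem isChar_neg (V : Valid0 D) {f : ℕ → Fˣ} (hf : IsChar D (fun s => ((f s : Fˣ) : F)))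
    {r : ℕ} (hr : r < D.nroots) : f (D.neg r) = (f r)⁻¹ := by
  have hnr : D.neg r < D.nroots := V.neg_lt hr
  have hne : D.neg r ≠ r := V.neg_ne hr
  have hsum : D.neg r + r + 1 = D.nroots := by
    rw [V.neg_eq r hr]; omega
  have hmem : ((r, (-1 : ℤ), 2) : ℕ × ℤ × ℕ) ∈
      xCol D.nroots D.rank (D.chainEntry r) (cor D r) (fun i => D.cartan i r) r (D.neg r) := by
    unfold xCol
    rw [if_pos hnr, if_neg hne, if_pos hsum]
    simp
  have h := hf r hr (D.neg r) _ hmem
  unfold extC at h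
  rw [if_pos hr, if_pos hnr] at h
  have h' : f r = f (D.neg r) * (f r) ^ 2 := by
    apply Units.ext
    rw [Units.val_mul, Units.val_pow_eq_pow_val]
    exact h
  calc f (D.neg r) = (f (D.neg r) * (f r) ^ 2) * ((f r) ^ 2)⁻¹ := by group
    _ = f r * ((f r) ^ 2)⁻¹ := by rw [← h']
    _ = (f r)⁻¹ := by group

/-- conjugation of a root element by a torus-like element of the group -/
theorem conj_xEl_of_torusLike
    (hD : D ∈ [chevG2, chevB2, chevD4, chevF4, chevE6, chevE7, chevE8])
    (x : ↥(D.group F)) {f : ℕ → Fˣ} (hf : IsChar D (fun s => ((f s : Fˣ) : F)))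
    (hm : ((x : GL D.Idx F) : Matrix D.Idx D.Idx F) = diagC D (fun s => ((f s : Fˣ) : F)))
    {r : ℕ} (hr : r < D.nroots) (t : F) :
    (MulAut.conj x : MulAut ↥(D.group F)) (xEl hD r t) = xEl hD r ((f r : F) * t) := by
  have V0 := valid0_of_mem hD
  rw [MulAut.conj_apply]
  have h2 : x * xEl hD r t = xEl hD r ((f r : F) * t) * x := by
    apply Subtype.ext
    apply Units.ext
    rw [Subgroup.coe_mul, Subgroup.coe_mul, Units.val_mul, Units.val_mul, coe_xEl hD hr,
      coe_xEl hD hr, hm, x_eq_xN, x_eq_xN, diagC_mul_xN V0 hf hr]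
  rw [h2]
  group

/-- FO-H: an inner automorphism preserving `U` and `V` is a diagonal automorphism. -/
theorem isDiagonalAut_conj_of_mem_presSub [Finite F]
    (hD : D ∈ [chevG2, chevB2, chevD4, chevF4, chevE6, chevE7, chevE8])
    (x : ↥(D.group F)) (h : (MulAut.conj x : MulAut ↥(D.group F)) ∈ presSub D F) :
    D.IsDiagonalAut (MulAut.conj x : MulAut ↥(D.group F)) := by
  have V0 := valid0_of_mem hD
  have V1 := valid1_of_mem hD
  have J := validJ_of_mem hD
  have H := validH_of_mem hD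
  obtain ⟨hU, hV⟩ := mem_presSub.mp h
  have hx := Cfsg.Agent.Lib.Helper10.ChevDiagConj.conj_pres_mem_diagonal hD x hU hV
  obtain ⟨f, hf, hm⟩ := torusLike_of_mem J V1 H hx
  obtain ⟨c, hc⟩ : ∃ c : Fin D.rank → Fˣ, c = fun i : Fin D.rank => f (D.simple i.val) := ⟨_, rfl⟩
  have hχ := rcChar_isRootCharacter (F := F) hD c
  have e : (MulAut.conj x : MulAut ↥(D.group F)) = diagAut hD hχ := by
    apply aut_ext_fund hD
    · intro i t
      rw [conj_xEl_of_torusLike hD x hf hm (StdAut.simple_lt hD i),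
        diagAut_xEl hD hχ (StdAut.simple_lt hD i), rcChar_simple hD c i, hc]
    · intro i t
      rw [conj_xEl_of_torusLike hD x hf hm (StdAut.neg_simple_lt hD i),
        diagAut_xEl hD hχ (StdAut.neg_simple_lt hD i), rcChar_neg_simple hD c i,
        isChar_neg V0 hf (StdAut.simple_lt hD i), hc]
  rw [e]
  exact isDiagonalAut_diagAut hD hχ

/-- FO-F: a conjugate of a diagonal automorphism by an automorphism preserving `U` and `V` is a
diagonal automorphism. -/
theorem conj_isDiagonalAut [Finite F]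
    (hD : D ∈ [chevG2, chevB2, chevD4, chevF4, chevE6, chevE7, chevE8])
    (hN : NormalForm hD F) {θ d : MulAut ↥(D.group F)} (hθ : θ ∈ presSub D F)
    (hd : D.IsDiagonalAut d) : D.IsDiagonalAut (θ * d * θ⁻¹) := by
  obtain ⟨hU, hV⟩ := mem_presSub.mp hθ
  obtain ⟨χd, hχd, rfl⟩ := eq_diagAut_of_isDiagonalAut hD hd
  obtain ⟨S⟩ := exists_stdAut hD hU hV
  obtain ⟨χ, hχ, θ', S', hθ', -, h1⟩ := exists_normalized hD S
  obtain ⟨σ, -, hf⟩ := hN θ' S' h1
  obtain ⟨c, hc⟩ : ∃ c : Fin D.rank → Fˣ, c = fun j =>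
      (Units.map ((σ : F →+* F) : F →* F) (χd (D.simple (S'.ρ.symm j)))) ^
        D.graphExp (ringChar F) (S'.ρ.symm j) j := ⟨_, rfl⟩
  have hcρ : ∀ i : Fin D.rank, ((c (S'.ρ i) : Fˣ) : F) =
      (σ ((χd (D.simple i) : Fˣ) : F)) ^ D.graphExp (ringChar F) i (S'.ρ i) := by
    intro i
    rw [hc]
    simp only [Equiv.symm_apply_apply, Units.val_pow_eq_pow_val, Units.coe_map]
    rfl
  have hχc := rcChar_isRootCharacter (F := F) hD c
  have key : θ * diagAut hD hχd = diagAut hD hχc * θ := by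
    apply aut_ext_fund hD
    · intro i t
      rw [MulAut.mul_apply, MulAut.mul_apply, diagAut_xEl hD hχd (StdAut.simple_lt hD i), hθ',
        MulAut.mul_apply, MulAut.mul_apply, S'.hf, S'.hf,
        diagAut_xEl hD hχ (StdAut.simple_lt hD _), diagAut_xEl hD hχ (StdAut.simple_lt hD _),
        diagAut_xEl hD hχc (StdAut.simple_lt hD _), rcChar_simple hD c, hf, hf, hcρ, map_mul,
        mul_pow]
      congr 1
      ring
    · intro i t
      have hneg : χd (D.neg (D.simple i)) = (χd (D.simple i))⁻¹ :=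
        hχd.1 _ (StdAut.simple_lt hD i)
      rw [MulAut.mul_apply, MulAut.mul_apply, diagAut_xEl hD hχd (StdAut.neg_simple_lt hD i),
        hθ', MulAut.mul_apply, MulAut.mul_apply, S'.hg, S'.hg,
        diagAut_xEl hD hχ (StdAut.neg_simple_lt hD _),
        diagAut_xEl hD hχ (StdAut.neg_simple_lt hD _),
        diagAut_xEl hD hχc (StdAut.neg_simple_lt hD _), rcChar_neg_simple hD c,
        S'.g_eq_f i (h1 i), S'.g_eq_f i (h1 i), hf, hf, hneg, Units.val_inv_eq_inv_val,
        Units.val_inv_eq_inv_val, hcρ, map_mul, mul_pow, map_inv₀, inv_pow]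
      congr 1
      have hne : (σ ((χd (D.simple i) : Fˣ) : F)) ^ D.graphExp (ringChar F) i (S'.ρ i) ≠ 0 := by
        apply pow_ne_zero
        rw [ne_eq, map_eq_zero]
        exact Units.ne_zero _
      field_simp
  have e : θ * diagAut hD hχd * θ⁻¹ = diagAut hD hχc := by
    rw [key, mul_assoc, mul_inv_cancel, mul_one]
  rw [e]
  exact isDiagonalAut_diagAut hD hχc

end Cfsg.Agent.Lib.Helper10.ChevDiagAut
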