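import Mathlib
import Cfsg.Agent.Lib.Helper14.Co2CDefs

/-!
# S2136, pieces [T] and [X]: transport of the shape along a group isomorphism

`isExtraspecial_of_mulEquiv` : extraspeciality is invariant under isomorphism.
`Shape.congr` : the S2136 shape is invariant under isomorphism of the ambient group.
-/

set_option autoImplicit false

namespace Cfsg.Agent.Lib.Helper14.Co2C

namespace Helper10

/-- membership in the centre is invariant under an isomorphism -/
theorem mem_center_iff_of_equiv {P P' : Type*} [Group P] [Group P'] (e : P ≃* P') (x : P) :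
    e x ∈ Subgroup.center P' ↔ x ∈ Subgroup.center P := by
  rw [Subgroup.mem_center_iff, Subgroup.mem_center_iff]
  constructor
  · intro hx g
    apply e.injective
    rw [map_mul, map_mul]
    exact hx (e g)
  · intro hx g
    obtain ⟨g', rfl⟩ := e.surjective g
    rw [← map_mul, ← map_mul, hx g']

/-- membership in the Frattini subgroup is invariant under an isomorphism -/
theorem mem_frattini_iff_of_equiv {P P' : Type*} [Group P] [Group P'] (e : P ≃* P') (x : P) :
    e x ∈ frattini P' ↔ x ∈ frattini P := by
  constructor
  · intro hx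
    have h1 := frattini_le_comap_frattini_of_surjective (φ := e.symm.toMonoidHom)
      e.symm.surjective hx
    rw [Subgroup.mem_comap] at h1
    have h2 : e.symm.toMonoidHom (e x) = x := e.symm_apply_apply x
    rwa [h2] at h1
  · intro hx
    exact frattini_le_comap_frattini_of_surjective (φ := e.toMonoidHom) e.surjective hx

/-- the image of the commutator subgroup lies in the commutator subgroup -/
theorem map_commutator_le_commutator {P P' : Type*} [Group P] [Group P'] (f : P →* P') :
    (commutator P).map f ≤ commutator P' := by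
  rw [commutator_def, commutator_def, Subgroup.map_commutator]
  exact Subgroup.commutator_mono le_top le_top

/-- membership in the commutator subgroup is invariant under an isomorphism -/
theorem mem_commutator_iff_of_equiv {P P' : Type*} [Group P] [Group P'] (e : P ≃* P') (x : P) :
    e x ∈ commutator P' ↔ x ∈ commutator P := by
  constructor
  · intro hx
    have h1 := map_commutator_le_commutator e.symm.toMonoidHom
      (Subgroup.mem_map_of_mem e.symm.toMonoidHom hx)
    have h2 : e.symm.toMonoidHom (e x) = x := e.symm_apply_apply x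
    rwa [h2] at h1
  · intro hx
    exact map_commutator_le_commutator e.toMonoidHom (Subgroup.mem_map_of_mem e.toMonoidHom hx)

/-- the `p`-core corresponds under an isomorphism -/
theorem map_pCore {G G' : Type*} [Group G] [Group G'] (p : ℕ) (e : G ≃* G') :
    (Cfsg.pCore p G).map e.toMonoidHom = Cfsg.pCore p G' := by
  apply le_antisymm
  · rw [Subgroup.map_le_iff_le_comap]
    apply sSup_le
    rintro N ⟨hn, hN⟩
    rw [← Subgroup.map_le_iff_le_comap]
    apply le_sSup
    refine ⟨?_, ?_⟩
    · exact Subgroup.Normal.map hn e.toMonoidHom e.surjective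
    · exact hN.map e.toMonoidHom
  · apply sSup_le
    rintro N' ⟨hn', hN'⟩
    have h1 : (N'.comap e.toMonoidHom).map e.toMonoidHom = N' :=
      Subgroup.map_comap_eq_self_of_surjective e.surjective N'
    rw [← h1]
    apply Subgroup.map_mono
    apply le_sSup
    refine ⟨?_, ?_⟩
    · exact Subgroup.Normal.comap hn' e.toMonoidHom
    · exact hN'.comap_of_injective e.toMonoidHom e.injective

/-- the image of a centralizer of a singleton under an isomorphism -/
theorem map_centralizer_singleton {G G' : Type*} [Group G] [Group G'] (e : G ≃* G') (t : G) :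
    (Subgroup.centralizer ({t} : Set G)).map e.toMonoidHom =
      Subgroup.centralizer ({e t} : Set G') := by
  ext x
  obtain ⟨y, rfl⟩ := e.surjective x
  rw [Subgroup.mem_centralizer_singleton_iff, Subgroup.mem_map]
  constructor
  · rintro ⟨y', hy', hyy⟩
    have hyy' : y' = y := e.injective hyy
    subst hyy'
    have h1 : y' * t = t * y' := Subgroup.mem_centralizer_singleton_iff.mp hy'
    rw [← map_mul, ← map_mul, h1]
  · intro h
    refine ⟨y, ?_, rfl⟩
    apply Subgroup.mem_centralizer_singleton_iff.mpr
    apply e.injective
    rw [map_mul, map_mul]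
    exact h

end Helper10

/-- extraspeciality is invariant under isomorphism -/
theorem isExtraspecial_of_mulEquiv {P P' : Type*} [Group P] [Group P'] (e : P ≃* P')
    (h : Cfsg.IsExtraspecial 2 P) : Cfsg.IsExtraspecial 2 P' := by
  obtain ⟨⟨hp, hfc, hcc⟩, hcard⟩ := h
  refine ⟨⟨hp.of_surjective e.toMonoidHom e.surjective, ?_, ?_⟩, ?_⟩
  · ext y
    obtain ⟨x, rfl⟩ := e.surjective y
    rw [Helper10.mem_frattini_iff_of_equiv, Helper10.mem_center_iff_of_equiv, hfc]
  · ext y
    obtain ⟨x, rfl⟩ := e.surjective y
    rw [Helper10.mem_commutator_iff_of_equiv, Helper10.mem_center_iff_of_equiv, hcc]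
  · let eq : ↥(Subgroup.center P) ≃ ↥(Subgroup.center P') :=
      { toFun := fun c => ⟨e c.1, (Helper10.mem_center_iff_of_equiv e c.1).mpr c.2⟩
        invFun := fun d => ⟨e.symm d.1, (Helper10.mem_center_iff_of_equiv e (e.symm d.1)).mp (by
          rw [e.apply_symm_apply]; exact d.2)⟩
        left_inv := fun c => Subtype.ext (e.symm_apply_apply c.1)
        right_inv := fun d => Subtype.ext (e.apply_symm_apply d.1) }
    rw [← Nat.card_congr eq]
    exact hcard

/-- the S2136 shape is invariant under isomorphism of the ambient group -/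
theorem Shape.congr {G G' : Type*} [Group G] [Group G'] {S : Type*} [Group S] (e : G ≃* G')
    (h : Shape G S) : Shape G' S := by
  obtain ⟨t, ht, hex, hcard, ⟨f⟩⟩ := h
  -- the isomorphism of centralizers
  let ec : ↥(Subgroup.centralizer ({t} : Set G)) ≃* ↥(Subgroup.centralizer ({e t} : Set G')) :=
    (e.subgroupMap (Subgroup.centralizer ({t} : Set G))).trans
      (MulEquiv.subgroupCongr (Helper10.map_centralizer_singleton e t))
  have hmap : (Cfsg.pCore 2 ↥(Subgroup.centralizer ({t} : Set G))).map ec.toMonoidHom =
      Cfsg.pCore 2 ↥(Subgroup.centralizer ({e t} : Set G')) := Helper10.map_pCore 2 ec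
  -- the isomorphism of the cores
  let eq : ↥(Cfsg.pCore 2 ↥(Subgroup.centralizer ({t} : Set G))) ≃*
      ↥(Cfsg.pCore 2 ↥(Subgroup.centralizer ({e t} : Set G'))) :=
    (ec.subgroupMap (Cfsg.pCore 2 ↥(Subgroup.centralizer ({t} : Set G)))).trans
      (MulEquiv.subgroupCongr hmap)
  refine ⟨e t, ?_, ?_, ?_, ?_⟩
  · rw [MulEquiv.orderOf_eq]; exact ht
  · exact isExtraspecial_of_mulEquiv eq hex
  · rw [← Nat.card_congr eq.toEquiv]; exact hcard
  · exact ⟨(QuotientGroup.congr _ _ ec hmap).symm.trans f⟩

end Cfsg.Agent.Lib.Helper14.Co2C
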