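import Cfsg.Agent.Lib.Helper10.Co2M3Gen
import Cfsg.Agent.Lib.Helper9.Co2M3REL

/-!
# The 3-part of the multiplier of the second Conway group is trivial

The relator check of helper9 (`rels0_hold`) closes `not_dvd_three_of`.
-/

set_option autoImplicit false

namespace Cfsg.Agent.Lib.Helper10.Co2M3

open Cfsg Cfsg.Agent.Lib.Helper28.BSGS Cfsg.Agent.Lib.Helper25.Co2Out

/-- the 3-part of the kernel of a finite stem extension of the group on 4600 points is trivial -/
theorem not_dvd_three {Γ : Type} [Group Γ] [Finite Γ] (σ : Γ →* ↥(genGroup 4600 13 known1))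
    (hσ : IsStemExtension σ) : ¬ 3 ∣ Nat.card σ.ker :=
  not_dvd_three_of rels0_hold σ hσ

end Cfsg.Agent.Lib.Helper10.Co2M3
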