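import Cfsg.Agent.Lib.Helper10.Co2M5Data
import Cfsg.Agent.Lib.Helper25.Co2OutChk1
import Cfsg.Agent.Lib.Helper25.Co2OutSeq

/-!
# Kernel checks for the prime 5 in the multiplier of the second Conway group
-/

set_option autoImplicit false
set_option Elab.async false

namespace Cfsg.Agent.Lib.Helper10.Co2M5

open Cfsg.Agent.Lib.Helper28.BSGS Cfsg.Agent.Lib.Helper22.SuzOut Cfsg.Agent.Lib.Helper25.Co2Out

/-- all the tables -/
def gens5 : List (ℕ × ℕ) := known1 ++ items5.map (fun it => it.1)

/-- two paths give the same permutation -/
noncomputable def pathEqOKG (n w : ℕ) (gens : List (ℕ × ℕ)) (cs cs' : List ℕ) : Bool :=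
  cs.all (fun c => Nat.blt (c / 2) gens.length) && cs'.all (fun c => Nat.blt (c / 2) gens.length) &&
  allBelow (fun x => Nat.beq (evalF w gens cs x) (evalF w gens cs' x)) n

/-- a path moves the point `q` -/
noncomputable def pathNeOKG (w : ℕ) (gens : List (ℕ × ℕ)) (cs : List ℕ) (q : ℕ) : Bool :=
  cs.all (fun c => Nat.blt (c / 2) gens.length) && !(Nat.beq (evalF w gens cs q) q)

theorem all_lt_of {gens : List (ℕ × ℕ)} {cs : List ℕ}
    (h : cs.all (fun c => Nat.blt (c / 2) gens.length) = true) :
    ∀ c ∈ cs, c / 2 < gens.length := by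
  intro c hc
  have := List.all_eq_true.mp h c hc
  exact Nat.blt_eq.mp this

theorem pathPerm_eq_of (n w : ℕ) [NeZero n] (gens : List (ℕ × ℕ)) (hg : gensOK n w gens = true)
    {cs cs' : List ℕ} (h : pathEqOKG n w gens cs cs' = true) :
    pathPerm n w gens cs = pathPerm n w gens cs' := by
  unfold pathEqOKG at h
  rw [Bool.and_eq_true, Bool.and_eq_true] at h
  obtain ⟨⟨h1, h2⟩, h3⟩ := h
  apply Equiv.ext
  intro x
  apply Fin.ext
  rw [(pathPerm_spec n w gens hg cs (all_lt_of h1) x).1,
    (pathPerm_spec n w gens hg cs' (all_lt_of h2) x).1]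
  exact Nat.eq_of_beq_eq_true (allBelow_spec h3 x.val x.isLt)

theorem pathPerm_ne_one_of (n w : ℕ) [NeZero n] (gens : List (ℕ × ℕ)) (hg : gensOK n w gens = true)
    {cs : List ℕ} {q : ℕ} (hq : q < n) (h : pathNeOKG w gens cs q = true) :
    pathPerm n w gens cs ≠ 1 := by
  unfold pathNeOKG at h
  rw [Bool.and_eq_true] at h
  obtain ⟨h1, h2⟩ := h
  intro he
  have h3 := (pathPerm_spec n w gens hg cs (all_lt_of h1) ⟨q, hq⟩).1
  rw [he] at h3
  have h4 : Nat.beq (evalF w gens cs q) q = true := by
    rw [← h3]
    exact Nat.beq_refl q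
  rw [h4] at h2
  exact absurd h2 (by decide)

set_option maxRecDepth 100000 in
theorem item5_0 : itemOK 4600 13 known1 items5 0 = true := by decide +kernel
set_option maxRecDepth 100000 in
theorem item5_1 : itemOK 4600 13 known1 items5 1 = true := by decide +kernel
set_option maxRecDepth 100000 in
theorem item5_2 : itemOK 4600 13 known1 items5 2 = true := by decide +kernel
set_option maxRecDepth 100000 in
theorem item5_3 : itemOK 4600 13 known1 items5 3 = true := by decide +kernel
set_option maxRecDepth 100000 in
theorem item5_4 : itemOK 4600 13 known1 items5 4 = true := by decide +kernel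
set_option maxRecDepth 100000 in
theorem item5_5 : itemOK 4600 13 known1 items5 5 = true := by decide +kernel
set_option maxRecDepth 100000 in
theorem item5_6 : itemOK 4600 13 known1 items5 6 = true := by decide +kernel
set_option maxRecDepth 100000 in
theorem item5_7 : itemOK 4600 13 known1 items5 7 = true := by decide +kernel
set_option maxRecDepth 100000 in
theorem item5_8 : itemOK 4600 13 known1 items5 8 = true := by decide +kernel
set_option maxRecDepth 100000 in
theorem item5_9 : itemOK 4600 13 known1 items5 9 = true := by decide +kernel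
set_option maxRecDepth 100000 in
theorem item5_10 : itemOK 4600 13 known1 items5 10 = true := by decide +kernel
set_option maxRecDepth 100000 in
theorem item5_11 : itemOK 4600 13 known1 items5 11 = true := by decide +kernel
set_option maxRecDepth 100000 in
theorem item5_12 : itemOK 4600 13 known1 items5 12 = true := by decide +kernel
set_option maxRecDepth 100000 in
theorem item5_13 : itemOK 4600 13 known1 items5 13 = true := by decide +kernel

theorem seq5_ok : seqOK 4600 13 known1 items5 = true := by
  apply seqOK_of_items
  intro j hj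
  have hl : items5.length = 14 := rfl
  rw [hl] at hj
  interval_cases j
  · exact item5_0
  · exact item5_1
  · exact item5_2
  · exact item5_3
  · exact item5_4
  · exact item5_5
  · exact item5_6
  · exact item5_7
  · exact item5_8
  · exact item5_9
  · exact item5_10
  · exact item5_11
  · exact item5_12
  · exact item5_13

/-! ### relations: letters 30, 32, 34 are `a5`, `b5`, `j5` -/

set_option maxRecDepth 100000 in
theorem rel_a5 : pathEqOKG 4600 13 gens5 [30, 30, 30, 30, 30] [] = true := by decide +kernel
set_option maxRecDepth 100000 in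
theorem rel_b5 : pathEqOKG 4600 13 gens5 [32, 32, 32, 32, 32] [] = true := by decide +kernel
set_option maxRecDepth 100000 in
theorem rel_za : pathEqOKG 4600 13 gens5 [30, 32, 31, 33, 30] [30, 30, 32, 31, 33] = true := by
  decide +kernel
set_option maxRecDepth 100000 in
theorem rel_zb : pathEqOKG 4600 13 gens5 [30, 32, 31, 33, 32] [32, 30, 32, 31, 33] = true := by
  decide +kernel
set_option maxRecDepth 100000 in
theorem rel_z : pathNeOKG 13 gens5 [30, 32, 31, 33] 0 = true := by decide +kernel
set_option maxRecDepth 100000 in
theorem rel_ja : pathEqOKG 4600 13 gens5 [34, 30, 35] [31] = true := by decide +kernel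
set_option maxRecDepth 100000 in
theorem rel_jb : pathEqOKG 4600 13 gens5 [34, 32, 35] [33] = true := by decide +kernel

end Cfsg.Agent.Lib.Helper10.Co2M5
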