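import Cfsg.Agent.Lib.Helper10.Co2M3Data
import Cfsg.Agent.Lib.Helper10.Co2M5Chk

/-!
# Kernel checks for the prime 3 in the multiplier of the second Conway group
-/

set_option autoImplicit false
set_option Elab.async false

namespace Cfsg.Agent.Lib.Helper10.Co2M3

open Cfsg.Agent.Lib.Helper28.BSGS Cfsg.Agent.Lib.Helper22.SuzOut Cfsg.Agent.Lib.Helper25.Co2Out
open Cfsg.Agent.Lib.Helper10.Co2M5 Cfsg.H5.TCk

/-- the three generators as items over the tables of the prime 5 file -/
def items3 : List ((ℕ × ℕ) × List ℕ) :=
  [((t_a3, q_a3), paths3.getD 0 []), ((t_b3, q_b3), paths3.getD 1 []),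
   ((t_c3, q_c3), paths3.getD 2 [])]

set_option maxRecDepth 100000 in
theorem item3_0 : itemOK 4600 13 gens5 items3 0 = true := by decide +kernel
set_option maxRecDepth 100000 in
theorem item3_1 : itemOK 4600 13 gens5 items3 1 = true := by decide +kernel
set_option maxRecDepth 100000 in
theorem item3_2 : itemOK 4600 13 gens5 items3 2 = true := by decide +kernel

theorem seq3_ok : seqOK 4600 13 gens5 items3 = true := by
  apply seqOK_of_items
  intro j hj
  have hl : items3.length = 3 := rfl
  rw [hl] at hj
  interval_cases j
  · exact item3_0
  · exact item3_1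
  · exact item3_2

set_option maxRecDepth 100000 in
theorem gabc_ok : gensOK 4600 13 gabc = true := by decide +kernel

/-- all relators hold for the three tables -/
noncomputable def relsTabOK (rs : List (List ℕ)) : Bool :=
  rs.all fun r => pathEqOKG 4600 13 gabc r []

set_option maxRecDepth 100000 in
theorem rels0_tab_a : relsTabOK (rels0.take 12) = true := by decide +kernel
set_option maxRecDepth 100000 in
theorem rels0_tab_b : relsTabOK ((rels0.drop 12).take 10) = true := by decide +kernel
set_option maxRecDepth 100000 in
theorem rels0_tab_c : relsTabOK ((rels0.drop 22).take 10) = true := by decide +kernel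
set_option maxRecDepth 100000 in
theorem rels0_tab_d : relsTabOK (rels0.drop 32) = true := by decide +kernel

theorem rels0_tab : ∀ r ∈ rels0, pathEqOKG 4600 13 gabc r [] = true := by
  intro r hr
  have h : rels0 = rels0.take 12 ++ ((rels0.drop 12).take 10 ++
      ((rels0.drop 22).take 10 ++ rels0.drop 32)) := by
    conv_lhs => rw [← List.take_append_drop 12 rels0, ← List.take_append_drop 10 (rels0.drop 12),
      List.drop_drop, ← List.take_append_drop 10 (rels0.drop (12 + 10)), List.drop_drop]
  rw [h] at hr
  simp only [List.mem_append] at hr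
  rcases hr with hr | hr | hr | hr
  · exact List.all_eq_true.mp rels0_tab_a r hr
  · exact List.all_eq_true.mp rels0_tab_b r hr
  · exact List.all_eq_true.mp rels0_tab_c r hr
  · exact List.all_eq_true.mp rels0_tab_d r hr

set_option maxRecDepth 1000000 in
theorem tc1_ok : check 40 20 (2 * 2) 500 480 defs1 rels1 [[0]] log1 = true := by decide +kernel

set_option maxRecDepth 1000000 in
theorem tc0_ok : check 40 20 (2 * 3) 1077 243 defs0 rels0 [[0], [2]] log0 = true := by decide +kernel

theorem rels1_sub : ∀ r ∈ rels1, r ∈ rels0 := by
  intro r hr
  unfold rels1 at hr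
  unfold rels0
  rw [List.mem_append] at hr
  rcases hr with hr | hr
  · simp only [List.mem_cons, List.not_mem_nil, or_false] at hr
    rcases hr with rfl | rfl
    · exact List.mem_append_left _ (List.mem_append_left _ (by simp))
    · exact List.mem_append_left _ (List.mem_append_left _ (by simp))
  · exact List.mem_append_left _ (List.mem_append_right _ hr)

theorem rels0_letters : ∀ r ∈ rels0, r.all (fun l => decide (l < 2 * 3)) = true := by decide +kernel

theorem rels1_letters : ∀ r ∈ rels1, r.all (fun l => decide (l < 2 * 2)) = true := by decide +kernel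

end Cfsg.Agent.Lib.Helper10.Co2M3
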