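import Cfsg.Agent.Lib.Helper10.Co2M5Chk
import Cfsg.Agent.Lib.Helper25.Co2OutModel
import Cfsg.Agent.Lib.Helper19.HSMultT5
import Cfsg.Agent.Lib.Helper9.HSMultC2Gen

/-!
# The 5-part of the multiplier of the second Conway group is trivial

In the group on 4600 points: `a5`, `b5` of order 5 generate an extraspecial Sylow 5-subgroup and the
involution `j5` inverts both.  No coset enumeration is needed.
-/

set_option autoImplicit false
set_option maxRecDepth 100000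

namespace Cfsg.Agent.Lib.Helper10.Co2M5

open Cfsg Cfsg.Agent.Lib.Helper28.BSGS Cfsg.Agent.Lib.Helper22.SuzOut Cfsg.Agent.Lib.Helper25.Co2Out
open scoped commutatorElement

theorem seq5 : gensOK 4600 13 gens5 = true ∧ genGroup 4600 13 gens5 = genGroup 4600 13 known1 :=
  seq_sound 4600 13 known1 items5 known1_ok seq5_ok

theorem gens5_ok : gensOK 4600 13 gens5 = true := seq5.1

/-- the element `a5` -/
def pa5 : Equiv.Perm (Fin 4600) := letterPerm 4600 13 gens5 30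
/-- the element `b5` -/
def pb5 : Equiv.Perm (Fin 4600) := letterPerm 4600 13 gens5 32
/-- the element `j5` -/
def pj5 : Equiv.Perm (Fin 4600) := letterPerm 4600 13 gens5 34

theorem l30 : letterPerm 4600 13 gens5 30 = pa5 := rfl
theorem l31 : letterPerm 4600 13 gens5 31 = pa5⁻¹ := rfl
theorem l32 : letterPerm 4600 13 gens5 32 = pb5 := rfl
theorem l33 : letterPerm 4600 13 gens5 33 = pb5⁻¹ := rfl
theorem l34 : letterPerm 4600 13 gens5 34 = pj5 := rfl
theorem l35 : letterPerm 4600 13 gens5 35 = pj5⁻¹ := rfl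

theorem gens5_length : gens5.length = 18 := rfl

theorem letter_mem {c : ℕ} (hc : c / 2 < 18) :
    letterPerm 4600 13 gens5 c ∈ genGroup 4600 13 known1 := by
  rw [← seq5.2]
  exact letterPerm_mem 4600 13 gens5 (by rw [gens5_length]; exact hc)

theorem pa5_mem : pa5 ∈ genGroup 4600 13 known1 := letter_mem (c := 30) (by norm_num)
theorem pb5_mem : pb5 ∈ genGroup 4600 13 known1 := letter_mem (c := 32) (by norm_num)
theorem pj5_mem : pj5 ∈ genGroup 4600 13 known1 := letter_mem (c := 34) (by norm_num)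

theorem pa5_pow : pa5 ^ 5 = 1 := by
  have := pathPerm_eq_of 4600 13 gens5 gens5_ok rel_a5
  simp only [pathPerm_cons, pathPerm_nil, l30, mul_one] at this
  rw [← this]; simp only [pow_succ, pow_zero, one_mul, mul_assoc]

theorem pb5_pow : pb5 ^ 5 = 1 := by
  have := pathPerm_eq_of 4600 13 gens5 gens5_ok rel_b5
  simp only [pathPerm_cons, pathPerm_nil, l32, mul_one] at this
  rw [← this]; simp only [pow_succ, pow_zero, one_mul, mul_assoc]

theorem comm_a : ⁅pa5, pb5⁆ * pa5 = pa5 * ⁅pa5, pb5⁆ := by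
  have := pathPerm_eq_of 4600 13 gens5 gens5_ok rel_za
  simp only [pathPerm_cons, pathPerm_nil, l30, l31, l32, l33, mul_one] at this
  rw [commutatorElement_def]
  calc pa5 * pb5 * pa5⁻¹ * pb5⁻¹ * pa5 = pa5 * (pb5 * (pa5⁻¹ * (pb5⁻¹ * pa5))) := by group
    _ = pa5 * (pa5 * (pb5 * (pa5⁻¹ * pb5⁻¹))) := this
    _ = pa5 * (pa5 * pb5 * pa5⁻¹ * pb5⁻¹) := by group

theorem comm_b : ⁅pa5, pb5⁆ * pb5 = pb5 * ⁅pa5, pb5⁆ := by
  have := pathPerm_eq_of 4600 13 gens5 gens5_ok rel_zb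
  simp only [pathPerm_cons, pathPerm_nil, l30, l31, l32, l33, mul_one] at this
  rw [commutatorElement_def]
  calc pa5 * pb5 * pa5⁻¹ * pb5⁻¹ * pb5 = pa5 * (pb5 * (pa5⁻¹ * (pb5⁻¹ * pb5))) := by group
    _ = pb5 * (pa5 * (pb5 * (pa5⁻¹ * pb5⁻¹))) := this
    _ = pb5 * (pa5 * pb5 * pa5⁻¹ * pb5⁻¹) := by group

theorem comm_ne : ⁅pa5, pb5⁆ ≠ 1 := by
  have := pathPerm_ne_one_of 4600 13 gens5 gens5_ok (by norm_num) rel_z
  simp only [pathPerm_cons, pathPerm_nil, l30, l31, l32, l33, mul_one] at this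
  rw [commutatorElement_def]
  intro h
  apply this
  rw [← h]; group

theorem conj_a : pj5 * pa5 * pj5⁻¹ = pa5⁻¹ := by
  have := pathPerm_eq_of 4600 13 gens5 gens5_ok rel_ja
  simp only [pathPerm_cons, pathPerm_nil, l30, l31, l34, l35, mul_one] at this
  rw [← this]; group

theorem conj_b : pj5 * pb5 * pj5⁻¹ = pb5⁻¹ := by
  have := pathPerm_eq_of 4600 13 gens5 gens5_ok rel_jb
  simp only [pathPerm_cons, pathPerm_nil, l32, l33, l34, l35, mul_one] at this
  rw [← this]; group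

/-- the 5-part of the kernel of a finite stem extension of the group on 4600 points is trivial -/
theorem not_dvd_five {Γ : Type*} [Group Γ] [Finite Γ]
    (σ : Γ →* ↥(genGroup 4600 13 known1)) (hσ : IsStemExtension σ) :
    ¬ 5 ∣ Nat.card σ.ker := by
  haveI : Fact (Nat.Prime 5) := ⟨by norm_num⟩
  obtain ⟨A, hAdef⟩ : ∃ A : ↥(genGroup 4600 13 known1), (A : Equiv.Perm (Fin 4600)) = pa5 :=
    ⟨⟨pa5, pa5_mem⟩, rfl⟩
  obtain ⟨B, hBdef⟩ : ∃ B : ↥(genGroup 4600 13 known1), (B : Equiv.Perm (Fin 4600)) = pb5 :=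
    ⟨⟨pb5, pb5_mem⟩, rfl⟩
  obtain ⟨J, hJdef⟩ : ∃ J : ↥(genGroup 4600 13 known1), (J : Equiv.Perm (Fin 4600)) = pj5 :=
    ⟨⟨pj5, pj5_mem⟩, rfl⟩
  have hA : A ^ 5 = 1 := Subtype.ext (by rw [Subgroup.coe_pow, hAdef, Subgroup.coe_one, pa5_pow])
  have hB : B ^ 5 = 1 := Subtype.ext (by rw [Subgroup.coe_pow, hBdef, Subgroup.coe_one, pb5_pow])
  have hcoe : ((⁅A, B⁆ : ↥(genGroup 4600 13 known1)) : Equiv.Perm (Fin 4600)) = ⁅pa5, pb5⁆ := by
    rw [commutatorElement_def, commutatorElement_def, Subgroup.coe_mul, Subgroup.coe_mul,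
      Subgroup.coe_mul, Subgroup.coe_inv, Subgroup.coe_inv, hAdef, hBdef]
  have hza : ⁅A, B⁆ * A = A * ⁅A, B⁆ :=
    Subtype.ext (by rw [Subgroup.coe_mul, Subgroup.coe_mul, hcoe, hAdef, comm_a])
  have hzb : ⁅A, B⁆ * B = B * ⁅A, B⁆ :=
    Subtype.ext (by rw [Subgroup.coe_mul, Subgroup.coe_mul, hcoe, hBdef, comm_b])
  have hz : ⁅A, B⁆ ≠ 1 := by
    intro h
    apply comm_ne
    rw [← hcoe, h, Subgroup.coe_one]
  have hja : J * A * J⁻¹ = A⁻¹ :=
    Subtype.ext (by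
      rw [Subgroup.coe_mul, Subgroup.coe_mul, Subgroup.coe_inv, Subgroup.coe_inv, hAdef, hJdef,
        conj_a])
  have hjb : J * B * J⁻¹ = B⁻¹ :=
    Subtype.ext (by
      rw [Subgroup.coe_mul, Subgroup.coe_mul, Subgroup.coe_inv, Subgroup.coe_inv, hBdef, hJdef,
        conj_b])
  refine Cfsg.Agent.Lib.Helper18.HSMult.not_dvd_card_ker_of_class_two_inverted σ hσ 5 (by norm_num)
    A B J hA hB hza hzb hz hja hjb ?_
  refine Cfsg.Agent.Lib.Helper18.HSMult.Helper9.not_dvd_index_of_pow_dvd 5 _ 3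
    (Cfsg.Agent.Lib.Helper18.HSMult.Helper9.cube_dvd_card_closure_pair 5 A B hA hB hza hzb hz) ?_
  rw [card_known1]
  norm_num

end Cfsg.Agent.Lib.Helper10.Co2M5
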