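import Cfsg.Agent.Lib.Helper10.Co2M3Chk
import Cfsg.Agent.Lib.Helper10.Co2M5
import Cfsg.Agent.Lib.Helper9.Co2M3UB
import Cfsg.Agent.Lib.Helper27.Co2M3Ord
import Cfsg.Agent.Lib.Helper21.WeakL12
import Cfsg.Agent.Lib.Helper1.WeakL4
import Cfsg.Agent.Lib.Helper17.WeakL6

/-!
# The 3-part of the multiplier of the second Conway group is trivial (from the relator check)

`H = ⟨a3, b3, c3⟩ = 3^{1+4}:2^{1+4}.S5` has order 933120 and index prime to 3.  Lifts of `a3, b3, c3` of
orders 8, 5, 8 satisfy the power and conjugation relators, and two coset enumerations bound the group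
they generate by `243 * 480 * 8 = 933120`.
-/

set_option autoImplicit false
set_option maxRecDepth 100000
set_option linter.style.haveILetI false

namespace Cfsg.Agent.Lib.Helper10.Co2M3

open Cfsg Cfsg.Agent.Lib.Helper28.BSGS Cfsg.Agent.Lib.Helper22.SuzOut Cfsg.Agent.Lib.Helper25.Co2Out
open Cfsg.Agent.Lib.Helper10.Co2M5 Cfsg.H5.TCk Cfsg.H5.StemTC Cfsg.Agent.Lib.Helper10.Weak

/-! ### membership -/

theorem seq3 : gensOK 4600 13 (gens5 ++ items3.map (fun it => it.1)) = true ∧
    genGroup 4600 13 (gens5 ++ items3.map (fun it => it.1)) = genGroup 4600 13 gens5 :=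
  seq_sound 4600 13 gens5 items3 gens5_ok seq3_ok

theorem items3_map : items3.map (fun it => it.1) = gabc := rfl

theorem gabc_mem : ∀ g ∈ gabc, permOf 4600 13 g.1 g.2 ∈ genGroup 4600 13 known1 := by
  intro g hg
  rw [← seq5.2, ← seq3.2, items3_map]
  exact Subgroup.subset_closure (mem_semGens 4600 13 (List.mem_append_right _ hg))

theorem gP_mem (i : ℕ) (hi : i < 3) : gP i ∈ genGroup 4600 13 known1 := by
  unfold gP
  apply gabc_mem
  rw [List.getD_eq_getElem _ _ (by show i < 3; exact hi)]
  exact List.getElem_mem _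

/-- the three generators in the group on 4600 points -/
noncomputable def gK (i : ℕ) : ↥(genGroup 4600 13 known1) :=
  if h : i < 3 then ⟨gP i, gP_mem i h⟩ else 1

theorem gK_coe {i : ℕ} (hi : i < 3) : ((gK i : ↥(genGroup 4600 13 known1)) : Equiv.Perm (Fin 4600)) = gP i := by
  unfold gK
  rw [dif_pos hi]

theorem gK_ge {i : ℕ} (hi : 3 ≤ i) : gK i = 1 := by
  unfold gK
  rw [dif_neg (by omega)]

/-- the orders -/
def ordn (i : ℕ) : ℕ := [8, 5, 8].getD i 1

theorem ordn_coprime (i : ℕ) : (ordn i).Coprime 3 := by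
  unfold ordn
  by_cases hi : i < 3
  · interval_cases i <;> decide
  · rw [List.getD_eq_default _ _ (by show 3 ≤ i; omega)]
    decide

section

variable (hrel : ∀ r ∈ rels0, ev gP r = 1)
include hrel

omit hrel in
theorem ev_gK (r : List ℕ) (hl : r.all (fun l => decide (l < 2 * 3)) = true) (hr : ev gP r = 1) :
    ev gK r = 1 := by
  apply Subtype.ext
  have h1 : ((ev gK r : ↥(genGroup 4600 13 known1)) : Equiv.Perm (Fin 4600)) =
      ev (fun i => ((gK i : ↥(genGroup 4600 13 known1)) : Equiv.Perm (Fin 4600))) r :=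
    map_ev (genGroup 4600 13 known1).subtype gK r
  rw [h1, Subgroup.coe_one, ← hr]
  exact Cfsg.Agent.Lib.Helper10.Weak.Helper17.ev_congr_lt _ _ 3 (fun i hi => gK_coe hi) r hl

theorem rels0_gK : ∀ r ∈ rels0, ev gK r = 1 :=
  fun r hr => ev_gK r (rels0_letters r hr) (hrel r hr)

theorem gK_pow (i : ℕ) : gK i ^ ordn i = 1 := by
  by_cases hi : i < 3
  · have key : ∀ n : ℕ, List.replicate n (2 * i) ∈ rels0 → gK i ^ n = 1 := by
      intro n hn
      have := rels0_gK hrel _ hn
      rwa [Helper1.ev_replicate, Helper1.gl_even] at this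
    interval_cases i
    · exact key 8 (by unfold rels0; simp)
    · exact key 5 (by unfold rels0; simp)
    · exact key 8 (by unfold rels0; simp)
  · rw [gK_ge (by omega)]
    exact one_pow _

/-! ### the order of the subgroup -/

theorem card_gabc : Nat.card ↥(genGroup 4600 13 gabc) = 933120 :=
  le_antisymm (card_le_of hrel tc1_ok tc0_ok) card_ge

omit hrel in
theorem map_closure_gK :
    (Subgroup.closure (Set.range fun i : Fin 3 => gK i.val)).map (genGroup 4600 13 known1).subtype =
      genGroup 4600 13 gabc := by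
  rw [genGroup_eq, MonoidHom.map_closure]
  congr 1
  ext s
  simp only [Set.mem_image, Set.mem_range]
  constructor
  · rintro ⟨x, ⟨i, rfl⟩, rfl⟩
    exact ⟨i, (gK_coe i.isLt).symm⟩
  · rintro ⟨i, rfl⟩
    exact ⟨gK i.val, ⟨i, rfl⟩, gK_coe i.isLt⟩

theorem card_closure_gK :
    Nat.card ↥(Subgroup.closure (Set.range fun i : Fin 3 => gK i.val)) = 933120 := by
  rw [← Subgroup.card_subtype, map_closure_gK, card_gabc hrel]

theorem index_gK : ¬ 3 ∣ (Subgroup.closure (Set.range fun i : Fin 3 => gK i.val)).index := by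
  haveI : Finite ↥(genGroup 4600 13 known1) := inferInstance
  apply Cfsg.Agent.Lib.Helper18.HSMult.Helper9.not_dvd_index_of_pow_dvd 3 _ 6
  · rw [card_closure_gK hrel]
    norm_num
  · rw [card_known1]
    norm_num

/-! ### the bound -/

theorem three_part {Γ : Type} [Group Γ] [Finite Γ] (σ : Γ →* ↥(genGroup 4600 13 known1))
    (hσ : IsStemExtension σ) (hk : IsPGroup 3 σ.ker) : Nat.card σ.ker ≤ 1 := by
  haveI : Fact (Nat.Prime 3) := ⟨Nat.prime_three⟩
  have hs := hσ.1
  have hc := hσ.2.1
  -- lifts of the same orders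
  choose γh hγh hγo using fun i =>
    exists_lift_pow_eq_one σ hs hk (gK i) (ordn_coprime i) (gK_pow hrel i)
  have hσγ : (fun k => σ (γh k)) = gK := funext hγh
  -- the relators hold for the lifts
  have hrels0 : ∀ r ∈ rels0, ev γh r = 1 := by
    intro r hr
    have hr' := hr
    unfold rels0 at hr'
    rw [List.mem_append, List.mem_append] at hr'
    rcases hr' with (hr' | hr') | hr'
    · simp only [List.mem_cons, List.not_mem_nil, or_false] at hr'
      rcases hr' with rfl | rfl | rfl
      · have := hγo 0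
        rw [Helper1.ev_replicate]
        exact this
      · have := hγo 1
        rw [Helper1.ev_replicate]
        exact this
      · have := hγo 2
        rw [Helper1.ev_replicate]
        exact this
    · obtain ⟨q, _, rfl⟩ := List.mem_map.mp hr'
      apply ev_conjRel_eq_one σ hc hk γh ordn q.1 q.2.1 q.2.2.1 q.2.2.2 (ordn_coprime _)
        (ordn_coprime _) (hγo _) (hγo _)
      rw [hσγ]
      exact rels0_gK hrel _ hr
    · obtain ⟨q, _, rfl⟩ := List.mem_map.mp hr'
      apply ev_conjRel_eq_one σ hc hk γh ordn q.1 q.2.1 q.2.2.1 q.2.2.2 (ordn_coprime _)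
        (ordn_coprime _) (hγo _) (hγo _)
      rw [hσγ]
      exact rels0_gK hrel _ hr
  have hrels1 : ∀ r ∈ rels1, ev γh r = 1 := fun r hr => hrels0 r (rels1_sub r hr)
  have hz := Helper9.card_zpowers_le (γh 0) (by norm_num : 0 < 8) (hγo 0)
  haveI := hz.1
  have e0 : ev γh [0] = γh 0 := Helper9.ev_single γh 0
  have e2 : ev γh [2] = γh 1 := Helper9.ev_single γh 1
  have hK := card_closure_le γh 2 rels1 rels1_letters hrels1 [[0]] (by decide)
    (Subgroup.zpowers (γh 0))
    (by
      intro g hg
      rw [List.mem_singleton] at hg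
      rw [hg, e0]
      exact Subgroup.mem_zpowers _)
    40 20 500 480 defs1 log1 tc1_ok
  have hN := card_ker_mul_card_le σ hσ 3 hk 3 gK (index_gK hrel) γh (fun i _ => hγh i)
    rels0 rels0_letters hrels0 [[0], [2]] (by decide)
    (Subgroup.closure (Set.range fun i : Fin 2 => γh i.val))
    (by
      intro g hg
      simp only [List.mem_cons, List.not_mem_nil, or_false] at hg
      rcases hg with rfl | rfl
      · rw [e0]; exact Helper9.mem_closure_range γh (by norm_num)
      · rw [e2]; exact Helper9.mem_closure_range γh (by norm_num))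
    40 20 1077 243 defs0 log0 tc0_ok
  rw [card_closure_gK hrel] at hN
  have h2 := hK.2
  have h3 := hz.2
  by_contra hcon
  push Not at hcon
  have h4 : 2 * 933120 ≤ Nat.card σ.ker * 933120 := Nat.mul_le_mul_right _ hcon
  have h5 : 243 * Nat.card ↥(Subgroup.closure (Set.range fun i : Fin 2 => γh i.val)) ≤
      243 * (480 * 8) :=
    Nat.mul_le_mul_left _ (h2.trans (Nat.mul_le_mul_left _ h3))
  omega

/-- the 3-part of the kernel of a finite stem extension of the group on 4600 points is trivial -/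
theorem not_dvd_three_of {Γ : Type} [Group Γ] [Finite Γ] (σ : Γ →* ↥(genGroup 4600 13 known1))
    (hσ : IsStemExtension σ) : ¬ 3 ∣ Nat.card σ.ker := by
  haveI : Fact (Nat.Prime 3) := ⟨Nat.prime_three⟩
  obtain ⟨Δ, _, _, τ, hτ, hkτ, hcard⟩ := exists_pker σ hσ 3
  have h := three_part hrel τ hτ hkτ
  rw [hcard] at h
  intro hdvd
  have hpos : 0 < (Nat.card σ.ker).factorization 3 :=
    (Nat.Prime.factorization_pos_of_dvd Nat.prime_three Nat.card_pos.ne' hdvd)
  have h1 : 3 ^ 1 ≤ 3 ^ (Nat.card σ.ker).factorization 3 :=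
    Nat.pow_le_pow_right (by norm_num) hpos
  omega

end

end Cfsg.Agent.Lib.Helper10.Co2M3
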