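import Mathlib
import Cfsg.Prelude.Def_LocalStructure

open Cfsg

namespace Cfsg.Agent.Lib.Helper10.DihedralModel

/-- A `2`-subgroup of the dihedral group of order `2 r`, `r` odd, has order dividing `2`. -/
theorem card_dvd_two {r : ℕ} (hr : r.Prime) (hr2 : r ≠ 2)
    (P : Subgroup (DihedralGroup r)) (hP : IsPGroup 2 P) : Nat.card P ∣ 2 := by
  haveI : NeZero r := ⟨hr.ne_zero⟩
  obtain ⟨k, hk⟩ := IsPGroup.iff_card.mp hP
  have hdvd : Nat.card P ∣ 2 * r := by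
    have := Subgroup.card_subgroup_dvd_card P
    rwa [DihedralGroup.nat_card] at this
  have hcop : Nat.Coprime (Nat.card P) r := by
    rw [hk]
    apply Nat.Coprime.pow_left
    rw [Nat.coprime_primes Nat.prime_two hr]
    exact fun h => hr2 h.symm
  exact (Nat.Coprime.dvd_mul_right hcop).mp hdvd

theorem card_eq_two {r : ℕ} (hr : r.Prime) (hr2 : r ≠ 2)
    (P : Subgroup (DihedralGroup r)) (hP : IsPGroup 2 P) (hP1 : P ≠ ⊥) : Nat.card P = 2 := by
  haveI : NeZero r := ⟨hr.ne_zero⟩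
  have h := card_dvd_two hr hr2 P hP
  have h1 : Nat.card P ≠ 1 := fun h1 => hP1 (Subgroup.card_eq_one.mp h1)
  rcases (Nat.dvd_prime Nat.prime_two).mp h with h | h
  · exact absurd h h1
  · exact h

/-- FO-3 (dihedral model) -/
theorem dihedral_model {r : ℕ} (hr : r.Prime) (hr2 : r ≠ 2)
    (Y B V : Subgroup (DihedralGroup r))
    (hYp : IsPGroup 2 Y) (hY1 : Y ≠ ⊥)
    (hgen : Subgroup.normalClosure (Y : Set (DihedralGroup r)) = ⊤)
    (hYB : Y ≤ B) (hBN : B ≤ Subgroup.normalizer (Y : Set (DihedralGroup r)))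
    (hmax : ∀ P : Subgroup (DihedralGroup r), Y ≤ P → P ≠ ⊤ → P ≤ B)
    (hVB : V ≤ B) (hVn : ∀ b ∈ B, ∀ v ∈ V, b * v * b⁻¹ ∈ V)
    (hVp : IsPGroup 2 V) (hV1 : V ≠ ⊥) : V = Y := by
  haveI : NeZero r := ⟨hr.ne_zero⟩
  haveI : Finite (DihedralGroup r) := inferInstance
  have hVN : V ≤ Subgroup.normalizer (Y : Set (DihedralGroup r)) := hVB.trans hBN
  have hsup : IsPGroup 2 ↥(V ⊔ Y) := IsPGroup.to_sup_of_normal_right' hVp hYp hVN
  have hsup1 : V ⊔ Y ≠ ⊥ := fun h => hV1 (le_bot_iff.mp (h ▸ le_sup_left))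
  have cS := card_eq_two hr hr2 (V ⊔ Y) hsup hsup1
  have cV := card_eq_two hr hr2 V hVp hV1
  have cY := card_eq_two hr hr2 Y hYp hY1
  have e1 : V = V ⊔ Y :=
    Subgroup.eq_of_le_of_card_ge le_sup_left (by rw [cS, cV])
  have e2 : Y = V ⊔ Y :=
    Subgroup.eq_of_le_of_card_ge le_sup_right (by rw [cS, cY])
  rw [e2]; exact e1

end Cfsg.Agent.Lib.Helper10.DihedralModel
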