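import Mathlib
import Cfsg.Prelude
import Cfsg.Agent.Lib.Helper10.PComponent
import Cfsg.Agent.Lib.Helper10.Transport
import Cfsg.Agent.Lib.Helper13.Sylow
import Cfsg.Agent.Lib.Helper13.Conj

/-!
The extended 2-layer `L*_{2'}(X)` in terms of a single Sylow 2-subgroup of `L_{2'}(X) O_{2',2}(X)`.
-/

set_option autoImplicit false

namespace Cfsg.Agent.Lib.Helper10

open Cfsg Cfsg.Agent.Lib.Helper9 Cfsg.Agent.Lib.Helper1

section

variable {X : Type*} [Group X]

/-- If `O_{p',p}(X) ≤ N₀` and `T` is a Sylow `p`-subgroup of `N₀`, then `T` covers `O_{p',p}(X)`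
modulo `O_{p'}(X)`. -/
theorem exists_mem_sylow_mk_eq [Finite X] (p : ℕ) [Fact p.Prime] {N₀ : Subgroup X}
    (hW : pPrimePCore p X ≤ N₀) (T : Sylow p ↥N₀) {w : X} (hw : w ∈ pPrimePCore p X) :
    ∃ t ∈ (T : Subgroup ↥N₀).map N₀.subtype,
      ((t : X) : X ⧸ pPrimeCore p X) = ((w : X) : X ⧸ pPrimeCore p X) := by
  have hsurj : Function.Surjective ((QuotientGroup.mk' (pPrimeCore p X)).subgroupMap N₀) :=
    MonoidHom.subgroupMap_surjective _ _
  -- the normal `p`-subgroup `O_p(Q) ∩ π(N₀)` of `π(N₀)`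
  have hn : ((pCore p (X ⧸ pPrimeCore p X)).subgroupOf
      (N₀.map (QuotientGroup.mk' (pPrimeCore p X)))).Normal :=
    (inferInstance : (pCore p (X ⧸ pPrimeCore p X)).Normal).subgroupOf _
  have hp : IsPGroup p ↥((pCore p (X ⧸ pPrimeCore p X)).subgroupOf
      (N₀.map (QuotientGroup.mk' (pPrimeCore p X)))) :=
    (Cfsg.Agent.Lib.Helper1.pCore_isPGroup p).comap_subtype
  have hle := hp.le_sylow_of_normal (T.mapSurjective hsurj)
  have hmem : (⟨((w : X) : X ⧸ pPrimeCore p X), Subgroup.mem_map.mpr ⟨w, hW hw, rfl⟩⟩ :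
      ↥(N₀.map (QuotientGroup.mk' (pPrimeCore p X)))) ∈
      (pCore p (X ⧸ pPrimeCore p X)).subgroupOf (N₀.map (QuotientGroup.mk' (pPrimeCore p X))) := by
    rw [Subgroup.mem_subgroupOf]
    exact (mem_pPrimePCore_iff p w).mp hw
  have h1 := hle hmem
  rw [Sylow.coe_mapSurjective] at h1
  obtain ⟨t, ht, hteq⟩ := Subgroup.mem_map.mp h1
  refine ⟨(t : X), Subgroup.mem_map.mpr ⟨t, ht, rfl⟩, ?_⟩
  exact congrArg Subtype.val hteq

/-- the image in `X` of a conjugate Sylow subgroup of a subgroup -/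
theorem map_subtype_smul_sylow {p : ℕ} {N₀ : Subgroup X} (T : Sylow p ↥N₀) (n : ↥N₀) :
    ((n • T : Sylow p ↥N₀) : Subgroup ↥N₀).map N₀.subtype =
      ((T : Subgroup ↥N₀).map N₀.subtype).map (MulAut.conj (n : X)).toMonoidHom := by
  ext x
  rw [Cfsg.Agent.Lib.Helper13.mem_map_conj_iff]
  constructor
  · rintro ⟨y, hy, rfl⟩
    have h1 := (Cfsg.Agent.Lib.Helper13.mem_smul_sylow_iff T n y).mp hy
    exact Subgroup.mem_map.mpr ⟨n⁻¹ * y * n, h1, rfl⟩
  · rintro ⟨y, hy, hyx⟩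
    have hx : x ∈ N₀ := by
      have h2 : x = (n : X) * (y : X) * (n : X)⁻¹ := by
        have : (y : X) = (n : X)⁻¹ * x * (n : X) := hyx
        rw [this]; group
      rw [h2]
      exact N₀.mul_mem (N₀.mul_mem n.2 y.2) (N₀.inv_mem n.2)
    refine Subgroup.mem_map.mpr ⟨⟨x, hx⟩, ?_, rfl⟩
    rw [Cfsg.Agent.Lib.Helper13.mem_smul_sylow_iff]
    have : n⁻¹ * ⟨x, hx⟩ * n = y := by
      apply Subtype.ext
      exact hyx.symm
    rw [this]
    exact hy

/-- **One Sylow subgroup suffices** in the definition of the extended `2`-layer. -/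
theorem extendedTwoLayer_eq_of_sylow [Finite X]
    (T : Sylow 2 ↥(pLayer 2 X ⊔ pPrimePCore 2 X)) :
    extendedTwoLayer X = pLayer 2 X ⊔ pPrimeCore 2 X ⊔
      coreCent 2 ((T : Subgroup ↥(pLayer 2 X ⊔ pPrimePCore 2 X)).map
        (pLayer 2 X ⊔ pPrimePCore 2 X).subtype) := by
  have : Fact (Nat.Prime 2) := ⟨Nat.prime_two⟩
  rw [extendedTwoLayer_eq]
  apply le_antisymm
  · apply sup_le le_sup_left
    apply iSup_le
    intro T₂
    obtain ⟨n, rfl⟩ := MulAction.exists_smul_eq ↥(pLayer 2 X ⊔ pPrimePCore 2 X) T T₂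
    rw [map_subtype_smul_sylow, ← map_coreCent (MulAut.conj (n : X))]
    -- decompose `n`
    have hLn : (pLayer 2 X).Normal := by
      have := pLayer_characteristic (G := X) 2
      exact Subgroup.normal_of_characteristic _
    have hn : (n : X) ∈ pLayer 2 X ⊔ pPrimePCore 2 X := n.2
    obtain ⟨l, hl, w, hw, hlw⟩ := Subgroup.mem_sup_of_normal_right.mp hn
    obtain ⟨t, ht, htw⟩ := exists_mem_sylow_mk_eq 2 le_sup_right T hw
    have ho : w * t⁻¹ ∈ pPrimeCore 2 X := by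
      apply (QuotientGroup.eq_one_iff _).mp
      rw [QuotientGroup.mk_mul, QuotientGroup.mk_inv, htw, mul_inv_cancel]
    have hm : l * (w * t⁻¹) ∈ pLayer 2 X ⊔ pPrimeCore 2 X :=
      Subgroup.mul_mem_sup hl ho
    have hMn : (pLayer 2 X ⊔ pPrimeCore 2 X).Normal := inferInstance
    have hnt : (n : X) = (l * (w * t⁻¹)) * t := by rw [← hlw]; group
    -- `t` normalizes `O(C(T))`
    have htT : ((T : Subgroup ↥(pLayer 2 X ⊔ pPrimePCore 2 X)).map
        (pLayer 2 X ⊔ pPrimePCore 2 X).subtype).map (MulAut.conj t).toMonoidHom =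
        (T : Subgroup ↥(pLayer 2 X ⊔ pPrimePCore 2 X)).map
          (pLayer 2 X ⊔ pPrimePCore 2 X).subtype :=
      (Cfsg.Agent.Lib.Helper13.map_conj_eq_self_iff_mem_normalizer _ t).mpr
        (Subgroup.le_normalizer ht)
    have htD : (coreCent 2 ((T : Subgroup ↥(pLayer 2 X ⊔ pPrimePCore 2 X)).map
        (pLayer 2 X ⊔ pPrimePCore 2 X).subtype)).map (MulAut.conj t).toMonoidHom =
        coreCent 2 ((T : Subgroup ↥(pLayer 2 X ⊔ pPrimePCore 2 X)).map
          (pLayer 2 X ⊔ pPrimePCore 2 X).subtype) := by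
      rw [map_coreCent (MulAut.conj t), htT]
    rw [hnt, Cfsg.Agent.Lib.Helper13.map_conj_mul, htD,
      Cfsg.Agent.Lib.Helper13.map_conj_le_iff]
    intro d hd
    have h1 : l * (w * t⁻¹) * d * (l * (w * t⁻¹))⁻¹ =
        (l * (w * t⁻¹) * (d * (l * (w * t⁻¹))⁻¹ * d⁻¹)) * d := by group
    rw [h1]
    exact Subgroup.mul_mem_sup
      (Subgroup.mul_mem _ hm (hMn.conj_mem _ (Subgroup.inv_mem _ hm) d)) hd
  · apply sup_le le_sup_left
    exact le_trans (le_iSup (fun T' : Sylow 2 ↥(pLayer 2 X ⊔ pPrimePCore 2 X) =>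
      coreCent 2 ((T' : Subgroup ↥(pLayer 2 X ⊔ pPrimePCore 2 X)).map
        (pLayer 2 X ⊔ pPrimePCore 2 X).subtype)) T) le_sup_right

end

end Cfsg.Agent.Lib.Helper10
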