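import Mathlib
import Cfsg.Agent.Lib.Helper16.FHDefs

/-!
# Feit–Higman (S1142), piece ALG-4, part A: generic lemmas

Alternating words, two trigonometric sums, the Chebyshev-type recurrences and the Cayley–Hamilton
recurrence for traces of powers of a two by two matrix.
-/

set_option autoImplicit false

namespace Cfsg.Agent.Lib.Helper10.FHSchur

open Matrix Cfsg.Agent.Lib.Helper16.FH

/-! ### alternating words -/

theorem alt_add_two {E : Type*} [Monoid E] (a b : E) (k : ℕ) :
    alt a b (k + 2) = a * b * alt a b k := by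
  rw [alt_succ, alt_succ, mul_assoc]

theorem alt_even {E : Type*} [Monoid E] (a b : E) (l : ℕ) : alt a b (2 * l) = (a * b) ^ l := by
  induction l with
  | zero => simp
  | succ l ih => rw [show 2 * (l + 1) = 2 * l + 2 by ring, alt_add_two, ih, pow_succ']

theorem alt_odd {E : Type*} [Monoid E] (a b : E) (l : ℕ) :
    alt a b (2 * l + 1) = (a * b) ^ l * a := by
  induction l with
  | zero => simp
  | succ l ih =>
    rw [show 2 * (l + 1) + 1 = (2 * l + 1) + 2 by ring, alt_add_two, ih, pow_succ']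
    simp only [mul_assoc]

/-! ### trigonometry -/

theorem sin_step (x φ : ℝ) :
    Real.sin (x + φ) = 2 * Real.cos φ * Real.sin x - Real.sin (x - φ) := by
  rw [Real.sin_add, Real.sin_sub]; ring

theorem cos_step (x φ : ℝ) :
    Real.cos (x + φ) = 2 * Real.cos φ * Real.cos x - Real.cos (x - φ) := by
  rw [Real.cos_add, Real.cos_sub]; ring

/-- `2 sin φ ∑_{l<m} cos((2l+1)φ) = sin(2mφ)` -/
theorem trig_sum_odd (φ : ℝ) (m : ℕ) :
    2 * Real.sin φ * ∑ l ∈ Finset.range m, Real.cos ((2 * (l : ℝ) + 1) * φ) =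
      Real.sin (2 * (m : ℝ) * φ) := by
  induction m with
  | zero => simp
  | succ m ih =>
    rw [Finset.sum_range_succ, mul_add, ih]
    push_cast
    have h1 : 2 * ((m : ℝ) + 1) * φ = (2 * (m : ℝ) + 1) * φ + φ := by ring
    have h2 : 2 * (m : ℝ) * φ = (2 * (m : ℝ) + 1) * φ - φ := by ring
    rw [h1, h2, Real.sin_add, Real.sin_sub]; ring

/-- `2 sin φ ∑_{l<m} cos(2lφ) = sin((2m-1)φ) + sin φ` -/
theorem trig_sum_even (φ : ℝ) (m : ℕ) :
    2 * Real.sin φ * ∑ l ∈ Finset.range m, Real.cos (2 * (l : ℝ) * φ) =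
      Real.sin ((2 * (m : ℝ) - 1) * φ) + Real.sin φ := by
  induction m with
  | zero => simp
  | succ m ih =>
    rw [Finset.sum_range_succ, mul_add, ih]
    push_cast
    have h1 : (2 * ((m : ℝ) + 1) - 1) * φ = 2 * (m : ℝ) * φ + φ := by ring
    have h2 : (2 * (m : ℝ) - 1) * φ = 2 * (m : ℝ) * φ - φ := by ring
    rw [h1, h2, Real.sin_add, Real.sin_sub]; ring

/-- `sin² x + sin² (x+φ) = 1 - cos φ cos(2x+φ)` -/
theorem sin_sq_add_sin_sq (x φ : ℝ) :
    Real.sin x ^ 2 + Real.sin (x + φ) ^ 2 = 1 - Real.cos φ * Real.cos (2 * x + φ) := by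
  have h1 := Real.cos_sub (x + φ) x
  have h2 := Real.cos_add (x + φ) x
  rw [show x + φ - x = φ by ring] at h1
  rw [show x + φ + x = 2 * x + φ by ring] at h2
  rw [h1, h2]
  have e1 := Real.sin_sq_add_cos_sq x
  have e2 := Real.sin_sq_add_cos_sq (x + φ)
  linear_combination (Real.cos x) ^ 2 * e2 + (1 - Real.sin (x + φ) ^ 2) * e1

/-- `2 sin x sin (x+φ) = cos φ - cos(2x+φ)` -/
theorem two_sin_mul_sin (x φ : ℝ) :
    2 * Real.sin x * Real.sin (x + φ) = Real.cos φ - Real.cos (2 * x + φ) := by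
  have h1 := Real.cos_sub (x + φ) x
  have h2 := Real.cos_add (x + φ) x
  rw [show x + φ - x = φ by ring] at h1
  rw [show x + φ + x = 2 * x + φ by ring] at h2
  rw [h1, h2]; ring

/-! ### recurrences -/

theorem rec_cos (u φ : ℝ) (z : ℕ → ℝ) (h0 : z 0 = 2) (h1 : z 1 = 2 * u * Real.cos φ)
    (hrec : ∀ l, z (l + 2) = 2 * u * Real.cos φ * z (l + 1) - u ^ 2 * z l) :
    ∀ l, z l = 2 * u ^ l * Real.cos ((l : ℝ) * φ) := by
  intro l
  induction l using Nat.strong_induction_on with
  | _ l ih =>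
    match l, ih with
    | 0, _ => simp [h0]
    | 1, _ => simp [h1]
    | (l + 2), ih =>
      rw [hrec, ih (l + 1) (by omega), ih l (by omega)]
      push_cast
      have e1 : ((l : ℝ) + 2) * φ = ((l : ℝ) + 1) * φ + φ := by ring
      have e2 : (l : ℝ) * φ = ((l : ℝ) + 1) * φ - φ := by ring
      rw [e1, cos_step, ← e2]; ring

theorem rec_sin (u φ c1 c2 : ℝ) (z : ℕ → ℝ) (h0 : z 0 = c2)
    (h1 : z 1 = c1 + c2 * (2 * u * Real.cos φ))
    (hrec : ∀ l, z (l + 2) = 2 * u * Real.cos φ * z (l + 1) - u ^ 2 * z l) :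
    ∀ l, u * Real.sin φ * z l =
      u ^ l * (c1 * Real.sin ((l : ℝ) * φ) + c2 * u * Real.sin (((l : ℝ) + 1) * φ)) := by
  intro l
  induction l using Nat.strong_induction_on with
  | _ l ih =>
    match l, ih with
    | 0, _ => simp [h0]; ring
    | 1, _ =>
      simp only [h1, Nat.cast_one, one_mul, pow_one]
      rw [show ((1 : ℝ) + 1) * φ = 2 * φ by ring, Real.sin_two_mul]; ring
    | (l + 2), ih =>
      have i1 := ih (l + 1) (by omega)
      have i0 := ih l (by omega)
      push_cast at i1 i0 ⊢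
      have e1 : ((l : ℝ) + 2) * φ = ((l : ℝ) + 1) * φ + φ := by ring
      have e2 : (l : ℝ) * φ = ((l : ℝ) + 1) * φ - φ := by ring
      have e3 : ((l : ℝ) + 2 + 1) * φ = ((l : ℝ) + 2) * φ + φ := by ring
      have e4 : ((l : ℝ) + 1 + 1) * φ = ((l : ℝ) + 2) * φ := by ring
      have e5 : ((l : ℝ) + 1) * φ = ((l : ℝ) + 2) * φ - φ := by ring
      have s1 := sin_step (((l : ℝ) + 1) * φ) φ
      have s2 := sin_step (((l : ℝ) + 2) * φ) φ
      rw [← e1, ← e2] at s1
      rw [← e3, ← e5] at s2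
      rw [e4] at i1
      rw [hrec]
      linear_combination (2 * u * Real.cos φ) * i1 - u ^ 2 * i0 - u ^ (l + 2) * c1 * s1
        - u ^ (l + 2) * c2 * u * s2

/-! ### two by two matrices -/

theorem cayley2 (M : Matrix (Fin 2) (Fin 2) ℝ) :
    M * M = M.trace • M - M.det • (1 : Matrix (Fin 2) (Fin 2) ℝ) := by
  ext i j
  fin_cases i <;> fin_cases j <;>
    simp [Matrix.mul_apply, Fin.sum_univ_two, Matrix.trace, Matrix.det_fin_two] <;> ring

theorem trace_pow_rec (M X : Matrix (Fin 2) (Fin 2) ℝ) (l : ℕ) :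
    (M ^ (l + 2) * X).trace =
      M.trace * (M ^ (l + 1) * X).trace - M.det * (M ^ l * X).trace := by
  have h : M ^ (l + 2) = M.trace • M ^ (l + 1) - M.det • M ^ l := by
    rw [pow_add, pow_two, cayley2, mul_sub, mul_smul_comm, mul_smul_comm, mul_one, ← pow_succ]
  rw [h, sub_mul, smul_mul_assoc, smul_mul_assoc, trace_sub, trace_smul, trace_smul]
  simp

/-- splitting a sum over `range (2m)` into even and odd indices -/
theorem sum_range_two_mul (f : ℕ → ℝ) (m : ℕ) :
    ∑ k ∈ Finset.range (2 * m), f k = ∑ l ∈ Finset.range m, (f (2 * l) + f (2 * l + 1)) := by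
  induction m with
  | zero => simp
  | succ m ih =>
    rw [show 2 * (m + 1) = 2 * m + 1 + 1 by ring, Finset.sum_range_succ, Finset.sum_range_succ, ih,
      Finset.sum_range_succ]
    ring

end Cfsg.Agent.Lib.Helper10.FHSchur
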