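import Cfsg.Agent.Lib.Helper10.FHSchurA

/-!
# Feit–Higman (S1142), piece ALG-4, part B: traces of the alternating words

For `r1 = rho1 p = diag(p, -1)` and a symmetric `r2 = !![a, b; b, e]` with `a + e = q - 1`,
`a e - b² = -q`, `p a - e = 2 u cos φ`, `u² = p q`, closed forms of the traces of all alternating
words, and of the summands of the Schur sum.
-/

set_option autoImplicit false

namespace Cfsg.Agent.Lib.Helper10.FHSchur

open Matrix Cfsg.Agent.Lib.Helper16.FH

theorem trace_rho1 (p : ℝ) : (rho1 p).trace = p - 1 := by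
  rw [Matrix.trace_fin_two]
  simp [rho1]; ring

theorem trace_sym (a b e : ℝ) : (!![a, b; b, e] : Matrix (Fin 2) (Fin 2) ℝ).trace = a + e := by
  rw [Matrix.trace_fin_two]
  simp

theorem trace_R (p a b e : ℝ) : (rho1 p * !![a, b; b, e]).trace = p * a - e := by
  rw [Matrix.trace_fin_two]
  simp [rho1, Matrix.mul_apply, Fin.sum_univ_two]
  ring

theorem trace_R' (p a b e : ℝ) : (!![a, b; b, e] * rho1 p).trace = p * a - e := by
  rw [Matrix.trace_mul_comm, trace_R]

theorem det_R (p a b e : ℝ) : (rho1 p * !![a, b; b, e]).det = -p * (a * e - b ^ 2) := by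
  rw [Matrix.det_mul, Matrix.det_fin_two, Matrix.det_fin_two]
  simp only [rho1, Matrix.of_apply, Matrix.cons_val', Matrix.cons_val_zero, Matrix.cons_val_one,
    Matrix.cons_val_fin_one]
  ring

theorem det_R' (p a b e : ℝ) : (!![a, b; b, e] * rho1 p).det = -p * (a * e - b ^ 2) := by
  rw [Matrix.det_mul, mul_comm, ← Matrix.det_mul, det_R]

theorem trace_R_rho1 (p a b e : ℝ) :
    (rho1 p * !![a, b; b, e] * rho1 p).trace = p ^ 2 * a + e := by
  rw [Matrix.trace_fin_two]
  simp [rho1, Matrix.mul_apply, Fin.sum_univ_two]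
  ring

theorem trace_R'_sym (p a b e : ℝ) :
    (!![a, b; b, e] * rho1 p * !![a, b; b, e]).trace = p * a ^ 2 - e ^ 2 + (p - 1) * b ^ 2 := by
  rw [Matrix.trace_fin_two]
  simp [rho1, Matrix.mul_apply, Fin.sum_univ_two]
  ring

section closed
variable {p q u φ a b e : ℝ}

theorem trace_alt_even (hu : u ^ 2 = p * q) (h2 : a * e - b ^ 2 = -q)
    (hy : p * a - e = 2 * u * Real.cos φ) (l : ℕ) :
    (alt (rho1 p) !![a, b; b, e] (2 * l)).trace = 2 * u ^ l * Real.cos ((l : ℝ) * φ) := by
  rw [alt_even]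
  have := rec_cos u φ (fun l => ((rho1 p * !![a, b; b, e]) ^ l * 1).trace)
    (by simp) (by rw [pow_one, mul_one, trace_R, hy])
    (fun l => by
      show ((rho1 p * !![a, b; b, e]) ^ (l + 2) * 1).trace = _
      rw [trace_pow_rec, trace_R, det_R, hy, h2, hu]; ring) l
  simpa using this

theorem trace_alt_even' (hu : u ^ 2 = p * q) (h2 : a * e - b ^ 2 = -q)
    (hy : p * a - e = 2 * u * Real.cos φ) (l : ℕ) :
    (alt !![a, b; b, e] (rho1 p) (2 * l)).trace = 2 * u ^ l * Real.cos ((l : ℝ) * φ) := by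
  rw [alt_even]
  have := rec_cos u φ (fun l => ((!![a, b; b, e] * rho1 p) ^ l * 1).trace)
    (by simp) (by rw [pow_one, mul_one, trace_R', hy])
    (fun l => by
      show ((!![a, b; b, e] * rho1 p) ^ (l + 2) * 1).trace = _
      rw [trace_pow_rec, trace_R', det_R', hy, h2, hu]; ring) l
  simpa using this

theorem trace_alt_odd (hu : u ^ 2 = p * q) (h1 : a + e = q - 1) (h2 : a * e - b ^ 2 = -q)
    (hy : p * a - e = 2 * u * Real.cos φ) (l : ℕ) :
    u * Real.sin φ * (alt (rho1 p) !![a, b; b, e] (2 * l + 1)).trace =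
      u ^ l * (p * (q - 1) * Real.sin ((l : ℝ) * φ)
        + (p - 1) * u * Real.sin (((l : ℝ) + 1) * φ)) := by
  rw [alt_odd]
  exact rec_sin u φ (p * (q - 1)) (p - 1)
    (fun l => ((rho1 p * !![a, b; b, e]) ^ l * rho1 p).trace)
    (by simp [trace_rho1])
    (by
      show ((rho1 p * !![a, b; b, e]) ^ 1 * rho1 p).trace = _
      rw [pow_one, trace_R_rho1]
      linear_combination p * h1 + (p - 1) * hy)
    (fun l => by
      show ((rho1 p * !![a, b; b, e]) ^ (l + 2) * rho1 p).trace = _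
      rw [trace_pow_rec, trace_R, det_R, hy, h2, hu]; ring) l

theorem trace_alt_odd' (hu : u ^ 2 = p * q) (h1 : a + e = q - 1) (h2 : a * e - b ^ 2 = -q)
    (hy : p * a - e = 2 * u * Real.cos φ) (l : ℕ) :
    u * Real.sin φ * (alt !![a, b; b, e] (rho1 p) (2 * l + 1)).trace =
      u ^ l * (q * (p - 1) * Real.sin ((l : ℝ) * φ)
        + (q - 1) * u * Real.sin (((l : ℝ) + 1) * φ)) := by
  rw [alt_odd]
  exact rec_sin u φ (q * (p - 1)) (q - 1)
    (fun l => ((!![a, b; b, e] * rho1 p) ^ l * !![a, b; b, e]).trace)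
    (by rw [pow_zero, one_mul, trace_sym, h1])
    (by
      show ((!![a, b; b, e] * rho1 p) ^ 1 * !![a, b; b, e]).trace = _
      rw [pow_one, trace_R'_sym]
      linear_combination (q - 1) * hy + (p * a - e) * h1 - (p - 1) * h2)
    (fun l => by
      show ((!![a, b; b, e] * rho1 p) ^ (l + 2) * !![a, b; b, e]).trace = _
      rw [trace_pow_rec, trace_R', det_R', hy, h2, hu]; ring) l

end closed

end Cfsg.Agent.Lib.Helper10.FHSchur
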