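import Cfsg.Agent.Lib.Helper10.FHSchurB

/-!
# Feit–Higman (S1142), piece ALG-4, part C: the summands of the Schur sum in closed form
-/

set_option autoImplicit false

namespace Cfsg.Agent.Lib.Helper10.FHSchur

open Matrix Cfsg.Agent.Lib.Helper16.FH

/-- the summand of the Schur sum attached to the two words of length `k` -/
noncomputable def summand (p q : ℝ) (r1 r2 : Matrix (Fin 2) (Fin 2) ℝ) (k : ℕ) : ℝ :=
  (alt r1 r2 k).trace ^ 2 / alt p q k + (alt r2 r1 k).trace ^ 2 / alt q p k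

theorem schurSum_eq (n : ℕ) (hn : 1 ≤ n) (p q : ℝ) (r1 r2 : Matrix (Fin 2) (Fin 2) ℝ) :
    schurSum n p q r1 r2 =
      4 + (∑ k ∈ Finset.range n, summand p q r1 r2 k - summand p q r1 r2 0)
        + (alt r1 r2 n).trace ^ 2 / alt p q n := by
  unfold schurSum
  rw [Finset.sum_Ico_eq_sub _ hn, Finset.sum_range_one]
  rfl

section closed
variable {p q u φ a b e : ℝ}

theorem summand_even (hu0 : u ≠ 0) (hu : u ^ 2 = p * q) (h2 : a * e - b ^ 2 = -q)
    (hy : p * a - e = 2 * u * Real.cos φ) (l : ℕ) :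
    summand p q (rho1 p) !![a, b; b, e] (2 * l) = 4 + 4 * Real.cos (2 * (l : ℝ) * φ) := by
  unfold summand
  rw [trace_alt_even hu h2 hy, trace_alt_even' hu h2 hy, alt_even, alt_even, mul_comm q p, ← hu]
  have hul : u ^ l ≠ 0 := pow_ne_zero _ hu0
  rw [show 2 * (l : ℝ) * φ = 2 * ((l : ℝ) * φ) by ring, Real.cos_two_mul, ← pow_mul, mul_comm 2 l,
    pow_mul]
  field_simp
  ring

theorem summand_odd (hp0 : p ≠ 0) (hq0 : q ≠ 0) (hu0 : u ≠ 0) (hs : Real.sin φ ≠ 0)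
    (hu : u ^ 2 = p * q) (h1 : a + e = q - 1) (h2 : a * e - b ^ 2 = -q)
    (hy : p * a - e = 2 * u * Real.cos φ) (l : ℕ) :
    summand p q (rho1 p) !![a, b; b, e] (2 * l + 1) =
      ((p * (q - 1) ^ 2 + q * (p - 1) ^ 2) *
          (1 - Real.cos φ * Real.cos ((2 * (l : ℝ) + 1) * φ))
        + 2 * (p - 1) * (q - 1) * u * (Real.cos φ - Real.cos ((2 * (l : ℝ) + 1) * φ)))
        / (u ^ 2 * Real.sin φ ^ 2) := by
  unfold summand
  have ht := trace_alt_odd (a := a) (b := b) (e := e) hu h1 h2 hy l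
  have ht' := trace_alt_odd' (a := a) (b := b) (e := e) hu h1 h2 hy l
  set t := (alt (rho1 p) !![a, b; b, e] (2 * l + 1)).trace with ht_def
  set s := (alt !![a, b; b, e] (rho1 p) (2 * l + 1)).trace with hs_def
  have hus : u * Real.sin φ ≠ 0 := mul_ne_zero hu0 hs
  have hul : u ^ l ≠ 0 := pow_ne_zero _ hu0
  have e1 : ((l : ℝ) + 1) * φ = (l : ℝ) * φ + φ := by ring
  have e2 : (2 * (l : ℝ) + 1) * φ = 2 * ((l : ℝ) * φ) + φ := by ring
  rw [e1] at ht ht'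
  rw [e2]
  have Ta := sin_sq_add_sin_sq ((l : ℝ) * φ) φ
  have Tb := two_sin_mul_sin ((l : ℝ) * φ) φ
  set S0 := Real.sin ((l : ℝ) * φ) with hS0
  set S1 := Real.sin ((l : ℝ) * φ + φ) with hS1
  set C := Real.cos (2 * ((l : ℝ) * φ) + φ) with hC
  set cφ := Real.cos φ with hcφ
  set sφ := Real.sin φ with hsφ
  have t_eq : t = u ^ l * (p * (q - 1) * S0 + (p - 1) * u * S1) / (u * sφ) := by
    rw [eq_div_iff hus, mul_comm]; exact ht
  have s_eq : s = u ^ l * (q * (p - 1) * S0 + (q - 1) * u * S1) / (u * sφ) := by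
    rw [eq_div_iff hus, mul_comm]; exact ht'
  rw [alt_odd, alt_odd, mul_comm q p, ← hu, ← pow_mul, mul_comm 2 l, pow_mul]
  have f1 : t ^ 2 / ((u ^ l) ^ 2 * p) =
      ((p * (q - 1) * S0 + (p - 1) * u * S1) ^ 2 / p) / (u ^ 2 * sφ ^ 2) := by
    rw [t_eq]; field_simp
  have f2 : s ^ 2 / ((u ^ l) ^ 2 * q) =
      ((q * (p - 1) * S0 + (q - 1) * u * S1) ^ 2 / q) / (u ^ 2 * sφ ^ 2) := by
    rw [s_eq]; field_simp
  have g1 : (p * (q - 1) * S0 + (p - 1) * u * S1) ^ 2 / p =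
      p * (q - 1) ^ 2 * S0 ^ 2 + 2 * (p - 1) * (q - 1) * u * S0 * S1
        + (p - 1) ^ 2 * q * S1 ^ 2 := by
    rw [div_eq_iff hp0]; linear_combination ((p - 1) ^ 2 * S1 ^ 2) * hu
  have g2 : (q * (p - 1) * S0 + (q - 1) * u * S1) ^ 2 / q =
      q * (p - 1) ^ 2 * S0 ^ 2 + 2 * (p - 1) * (q - 1) * u * S0 * S1
        + (q - 1) ^ 2 * p * S1 ^ 2 := by
    rw [div_eq_iff hq0]; linear_combination ((q - 1) ^ 2 * S1 ^ 2) * hu
  rw [f1, f2, g1, g2, ← add_div]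
  congr 1
  linear_combination (p * (q - 1) ^ 2 + q * (p - 1) ^ 2) * Ta
    + (2 * (p - 1) * (q - 1) * u) * Tb

end closed

end Cfsg.Agent.Lib.Helper10.FHSchur
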