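import Cfsg.Agent.Lib.Helper10.FHSchurC

/-!
# Feit–Higman (S1142), piece ALG-4, part D: the Schur sum of the explicit representation
-/

set_option autoImplicit false

namespace Cfsg.Agent.Lib.Helper10.FHSchur

open Matrix Cfsg.Agent.Lib.Helper16.FH

theorem sin_two_pi_mul (j : ℕ) : Real.sin ((j : ℝ) * (2 * Real.pi)) = 0 := by
  have h : (j : ℝ) * (2 * Real.pi) = ((2 * j : ℕ) : ℝ) * Real.pi := by push_cast; ring
  rw [h]; exact Real.sin_nat_mul_pi _

section core
variable {p q u φ a b e : ℝ}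

/-- sum of the even summands -/
theorem sum_summand_even (hu0 : u ≠ 0) (hu : u ^ 2 = p * q) (h2 : a * e - b ^ 2 = -q)
    (hy : p * a - e = 2 * u * Real.cos φ) (m : ℕ) :
    ∑ l ∈ Finset.range m, summand p q (rho1 p) !![a, b; b, e] (2 * l) =
      4 * m + 4 * ∑ l ∈ Finset.range m, Real.cos (2 * (l : ℝ) * φ) := by
  rw [Finset.sum_congr rfl (fun l _ => summand_even hu0 hu h2 hy l), Finset.sum_add_distrib,
    Finset.sum_const, Finset.card_range, nsmul_eq_mul, ← Finset.mul_sum]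
  ring

/-- sum of the odd summands -/
theorem sum_summand_odd (hp0 : p ≠ 0) (hq0 : q ≠ 0) (hu0 : u ≠ 0) (hs : Real.sin φ ≠ 0)
    (hu : u ^ 2 = p * q) (h1 : a + e = q - 1) (h2 : a * e - b ^ 2 = -q)
    (hy : p * a - e = 2 * u * Real.cos φ) (m : ℕ) :
    ∑ l ∈ Finset.range m, summand p q (rho1 p) !![a, b; b, e] (2 * l + 1) =
      ((p * (q - 1) ^ 2 + q * (p - 1) ^ 2) *
          (m - Real.cos φ * ∑ l ∈ Finset.range m, Real.cos ((2 * (l : ℝ) + 1) * φ))
        + 2 * (p - 1) * (q - 1) * u *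
          (m * Real.cos φ - ∑ l ∈ Finset.range m, Real.cos ((2 * (l : ℝ) + 1) * φ)))
        / (u ^ 2 * Real.sin φ ^ 2) := by
  rw [Finset.sum_congr rfl (fun l _ => summand_odd hp0 hq0 hu0 hs hu h1 h2 hy l),
    ← Finset.sum_div]
  congr 1
  rw [Finset.sum_add_distrib, ← Finset.mul_sum, ← Finset.mul_sum, Finset.sum_sub_distrib,
    Finset.sum_sub_distrib, Finset.sum_const, Finset.sum_const, Finset.card_range, nsmul_eq_mul,
    nsmul_eq_mul, ← Finset.mul_sum]
  ring

theorem rpar_eq (hu0 : u ≠ 0) (hs : Real.sin φ ≠ 0) (hu : u ^ 2 = p * q) :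
    rpar p q (2 * u * Real.cos φ) =
      (4 * (u ^ 2 * Real.sin φ ^ 2) + (p * (q - 1) ^ 2 + q * (p - 1) ^ 2)
        + 2 * (p - 1) * (q - 1) * u * Real.cos φ) / (4 * (u ^ 2 * Real.sin φ ^ 2)) := by
  have hden : 4 * p * q - (2 * u * Real.cos φ) ^ 2 = 4 * (u ^ 2 * Real.sin φ ^ 2) := by
    linear_combination (-4) * hu + (-4 * u ^ 2) * (Real.sin_sq_add_cos_sq φ)
  unfold rpar
  rw [hden]
  congr 1
  linear_combination hden

theorem schurSum_core (n j : ℕ) (hn : 1 ≤ n) (hp : 0 < p) (hq : 0 < q) (hu0 : 0 < u)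
    (hu : u ^ 2 = p * q) (hs : Real.sin φ ≠ 0) (hnφ : (n : ℝ) * φ = j * (2 * Real.pi))
    (hodd : Odd n → p = q) (h1 : a + e = q - 1) (h2 : a * e - b ^ 2 = -q)
    (hy : p * a - e = 2 * u * Real.cos φ) :
    schurSum n p q (rho1 p) !![a, b; b, e] = 2 * n * rpar p q (2 * u * Real.cos φ) := by
  have hp0 : p ≠ 0 := hp.ne'
  have hq0 : q ≠ 0 := hq.ne'
  have hu0' : u ≠ 0 := hu0.ne'
  have hD : u ^ 2 * Real.sin φ ^ 2 ≠ 0 := mul_ne_zero (pow_ne_zero _ hu0') (pow_ne_zero _ hs)
  rw [schurSum_eq n hn, rpar_eq hu0' hs hu]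
  have hs0 : summand p q (rho1 p) !![a, b; b, e] 0 = 8 := by
    have := summand_even (p := p) (q := q) (a := a) (b := b) (e := e) hu0' hu h2 hy 0
    simpa using this.trans (by norm_num)
  obtain ⟨m, rfl | rfl⟩ := Nat.even_or_odd' n
  · -- even case
    have hmφ : 2 * (m : ℝ) * φ = j * (2 * Real.pi) := by rw [← hnφ]; push_cast; ring
    have hE := trig_sum_even φ m
    have hO := trig_sum_odd φ m
    rw [hmφ, sin_two_pi_mul] at hO
    rw [show (2 * (m : ℝ) - 1) * φ = j * (2 * Real.pi) - φ by rw [← hmφ]; ring,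
      Real.sin_nat_mul_two_pi_sub, neg_add_cancel] at hE
    have O0 := (mul_eq_zero.mp hO).resolve_left (mul_ne_zero two_ne_zero hs)
    have E0 := (mul_eq_zero.mp hE).resolve_left (mul_ne_zero two_ne_zero hs)
    have hlast : (alt (rho1 p) !![a, b; b, e] (2 * m)).trace ^ 2 / alt p q (2 * m) = 4 := by
      rw [trace_alt_even hu h2 hy, alt_even, ← hu, ← pow_mul, mul_comm 2 m, pow_mul]
      have hul : u ^ m ≠ 0 := pow_ne_zero _ hu0'
      have hc : Real.cos ((m : ℝ) * φ) ^ 2 = 1 := by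
        rw [Real.cos_sq, show 2 * ((m : ℝ) * φ) = j * (2 * Real.pi) by rw [← hmφ]; ring,
          Real.cos_nat_mul_two_pi]
        norm_num
      rw [mul_pow, mul_pow, hc]
      field_simp
      norm_num
    rw [hlast, sum_range_two_mul, Finset.sum_add_distrib, sum_summand_even hu0' hu h2 hy,
      sum_summand_odd hp0 hq0 hu0' hs hu h1 h2 hy, O0, E0, hs0]
    push_cast
    field_simp
    ring
  · -- odd case
    have hpq : p = q := hodd (odd_two_mul_add_one m)
    subst hpq
    have hup : u = p := by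
      have h : (u - p) * (u + p) = 0 := by linear_combination hu
      rcases mul_eq_zero.mp h with h | h
      · linarith
      · linarith
    subst hup
    have hmφ : (2 * (m : ℝ) + 1) * φ = j * (2 * Real.pi) := by rw [← hnφ]; push_cast; ring
    have hE := trig_sum_even φ (m + 1)
    have hO := trig_sum_odd φ m
    rw [show 2 * (m : ℝ) * φ = j * (2 * Real.pi) - φ by rw [← hmφ]; ring,
      Real.sin_nat_mul_two_pi_sub] at hO
    rw [Finset.sum_range_succ] at hE
    push_cast at hE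
    rw [show (2 * ((m : ℝ) + 1) - 1) * φ = j * (2 * Real.pi) by rw [← hmφ]; ring,
      sin_two_pi_mul, zero_add] at hE
    have O0 : ∑ l ∈ Finset.range m, Real.cos ((2 * (l : ℝ) + 1) * φ) = -1 / 2 := by
      have h2s : 2 * Real.sin φ ≠ 0 := mul_ne_zero two_ne_zero hs
      apply mul_left_cancel₀ h2s
      rw [hO]; ring
    have E0 : ∑ l ∈ Finset.range m, Real.cos (2 * (l : ℝ) * φ)
        = 1 / 2 - Real.cos (2 * (m : ℝ) * φ) := by
      have h2s : 2 * Real.sin φ ≠ 0 := mul_ne_zero two_ne_zero hs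
      apply mul_left_cancel₀ h2s
      linear_combination hE
    have hlast : (alt (rho1 u) !![a, b; b, e] (2 * m + 1)).trace = 0 := by
      have ht := trace_alt_odd (a := a) (b := b) (e := e) hu h1 h2 hy m
      rw [show ((m : ℝ) + 1) * φ = j * (2 * Real.pi) - (m : ℝ) * φ by rw [← hmφ]; ring,
        Real.sin_nat_mul_two_pi_sub] at ht
      have : u * Real.sin φ * (alt (rho1 u) !![a, b; b, e] (2 * m + 1)).trace = 0 := by
        rw [ht]; ring
      exact (mul_eq_zero.mp this).resolve_left (mul_ne_zero hu0' hs)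
    rw [hlast, Finset.sum_range_succ, sum_range_two_mul, Finset.sum_add_distrib,
      sum_summand_even hu0' hu h2 hy, sum_summand_odd hp0 hq0 hu0' hs hu h1 h2 hy, O0, E0, hs0,
      summand_even hu0' hu h2 hy]
    push_cast
    field_simp
    ring

end core

end Cfsg.Agent.Lib.Helper10.FHSchur
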