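import Cfsg.Agent.Lib.Helper10.FHSchurD

/-!
# Feit–Higman (S1142), piece ALG-4: `schurSum_rho`
-/

set_option autoImplicit false

namespace Cfsg.Agent.Lib.Helper10.FHSchur

open Matrix Cfsg.Agent.Lib.Helper16.FH

/-- the angle `2πj/n` lies strictly between `0` and `π` when `0 < 2j < n` -/
theorem angle_bounds (n j : ℕ) (hj : 0 < j) (hjn : 2 * j < n) :
    0 < 2 * Real.pi * j / n ∧ 2 * Real.pi * j / n < Real.pi := by
  have hn : (0 : ℝ) < n := by exact_mod_cast (by omega : 0 < n)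
  have hj' : (0 : ℝ) < j := by exact_mod_cast hj
  have hjn' : 2 * (j : ℝ) < n := by exact_mod_cast hjn
  have hpi := Real.pi_pos
  constructor
  · positivity
  · rw [div_lt_iff₀ hn]
    nlinarith

/-- `-1 < cos φ < 1` when `sin φ ≠ 0` -/
theorem cos_bounds {φ : ℝ} (hs : Real.sin φ ≠ 0) : -1 < Real.cos φ ∧ Real.cos φ < 1 := by
  have h := Real.sin_sq_add_cos_sq φ
  have hs2 : 0 < Real.sin φ ^ 2 := by positivity
  constructor <;> nlinarith

/-- bounds on the parameter `c`, and the relations of the entries of `rho2` -/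
theorem cpar_bounds {p q u φ : ℝ} (hp : 1 < p) (hq : 1 < q) (hu0 : 0 < u) (hu : u ^ 2 = p * q)
    (hs : Real.sin φ ≠ 0) :
    0 < cpar p q (2 * u * Real.cos φ) ∧ cpar p q (2 * u * Real.cos φ) < 1 := by
  obtain ⟨hc1, hc2⟩ := cos_bounds hs
  have h2u1 : 2 * u ≤ p + q := by nlinarith [sq_nonneg (p - q), sq_nonneg (p + q - 2 * u)]
  have h2u2 : 2 * u ≤ p * q + 1 := by nlinarith [sq_nonneg (u - 1)]
  have hy1 : -(2 * u) < 2 * u * Real.cos φ := by nlinarith
  have hy2 : 2 * u * Real.cos φ < 2 * u := by nlinarith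
  have hden : 0 < (p + 1) * (q + 1) := by nlinarith
  unfold cpar
  constructor
  · apply div_pos _ hden; linarith
  · rw [div_lt_one hden]; nlinarith

theorem rho2_eq (p q y : ℝ) :
    rho2 p q y = !![(q + 1) * cpar p q y - 1, (q + 1) * Real.sqrt (cpar p q y * (1 - cpar p q y));
      (q + 1) * Real.sqrt (cpar p q y * (1 - cpar p q y)), q - (q + 1) * cpar p q y] := rfl

/-- **S1142, ALG-4.** The Schur element of the explicit two-dimensional representation. -/
theorem schurSum_rho (n j : ℕ) (p q : ℝ) (hp : 1 < p) (hq : 1 < q) (hj : 0 < j) (hjn : 2 * j < n)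
    (hodd : Odd n → p = q) :
    schurSum n p q (rho1 p) (rho2 p q (ypar n j p q)) = 2 * n * rpar p q (ypar n j p q) := by
  have hn1 : 1 ≤ n := by omega
  have hn0 : (n : ℝ) ≠ 0 := by exact_mod_cast (by omega : n ≠ 0)
  obtain ⟨hφ0, hφπ⟩ := angle_bounds n j hj hjn
  have hs : Real.sin (2 * Real.pi * j / n) ≠ 0 := (Real.sin_pos_of_pos_of_lt_pi hφ0 hφπ).ne'
  have hpq : 0 < p * q := by nlinarith
  have hu0 : 0 < Real.sqrt (p * q) := Real.sqrt_pos.mpr hpq
  have hu : Real.sqrt (p * q) ^ 2 = p * q := Real.sq_sqrt hpq.le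
  obtain ⟨hc0, hc1⟩ := cpar_bounds hp hq hu0 hu hs
  have hyp : ypar n j p q = 2 * Real.sqrt (p * q) * Real.cos (2 * Real.pi * j / n) := rfl
  rw [hyp, rho2_eq]
  set y := 2 * Real.sqrt (p * q) * Real.cos (2 * Real.pi * j / n) with hy_def
  set c := cpar p q y with hc_def
  have hd : Real.sqrt (c * (1 - c)) ^ 2 = c * (1 - c) :=
    Real.sq_sqrt (by nlinarith)
  have hden : (p + 1) * (q + 1) ≠ 0 := by nlinarith
  have hcy : (p + 1) * (q + 1) * c = p + q + y := by
    rw [hc_def]; unfold cpar; field_simp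
  refine schurSum_core n j hn1 (by linarith) (by linarith) hu0 hu hs ?_ hodd ?_ ?_ ?_
  · field_simp
  · ring
  · linear_combination (-(q + 1) ^ 2) * hd
  · linear_combination hcy

end Cfsg.Agent.Lib.Helper10.FHSchur
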