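import Cfsg.Agent.H26.SimpleCrit
import Cfsg.Agent.Lib.Helper28.FusionCrit

/-!
# The data for a simple 2-fusion system from a model of an involution centralizer

`K` is a model of the centralizer of the involution `z = φ z₀` of `G` (an injective homomorphism
`φ : K →* G` whose range contains the centralizer of `z`, with `z₀` central in `K`).  If `Sc ≤ K` is a
2-subgroup with centre `{1, z₀}`, generated by involutions, `Qc ≤ Sc` is normal in `K` and
self-centralizing, `Sc ∩ h Sc h⁻¹ ≤ Qc` for some `h`, `K` is generated by 2-elements, and all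
involutions of `G` are conjugate, then `(φ Sc, {φ Qc})` is a `SimpleData`.
-/

set_option autoImplicit false

namespace Cfsg.Agent.Lib.Helper10.FusModel

open Cfsg Cfsg.Agent.H26

variable {G K : Type*} [Group G] [Group K]

theorem simpleData_of_model [Finite K]
    (φ : K →* G) (hφ : Function.Injective φ) (z0 : K) (hz0 : z0 ≠ 1)
    (hzc : ∀ k : K, k * z0 = z0 * k)
    (hrange : ∀ g : G, g * φ z0 = φ z0 * g → g ∈ φ.range)
    (Sc Qc : Subgroup K) (hQS : Qc ≤ Sc) (hzQ : z0 ∈ Qc) (hQn : Qc.Normal)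
    (hS2 : IsPGroup 2 Sc)
    (hcen : ∀ s ∈ Sc, (∀ t ∈ Sc, s * t = t * s) → s = 1 ∨ s = z0)
    (hcq : ∀ c : K, (∀ q ∈ Qc, c * q = q * c) → c ∈ Qc)
    (h : K) (hrad : ∀ x ∈ Sc, h⁻¹ * x * h ∈ Sc → x ∈ Qc)
    (gens2 : Set K) (hg2 : ∀ g ∈ gens2, ∃ k : ℕ, g ^ (2 ^ k) = 1)
    (hgen2 : Subgroup.closure gens2 = ⊤)
    (invs : Set K) (hinvS : invs ⊆ Sc) (hinv2 : ∀ s ∈ invs, s * s = 1 ∧ s ≠ 1)
    (hSgen : Sc ≤ Subgroup.closure invs)
    (hconj : ∀ u : G, orderOf u = 2 → IsConj (φ z0) u) :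
    SimpleData 2 (Sc.map φ) {Qc.map φ} := by
  haveI : Fact (Nat.Prime 2) := ⟨Nat.prime_two⟩
  have hzS : z0 ∈ Sc := hQS hzQ
  have hz1 : φ z0 ≠ 1 := by
    intro h1
    apply hz0
    apply hφ
    rw [h1, map_one]
  -- every element of the range normalizes the image of `Qc`
  have hNQ : ∀ k : K, φ k ∈ Subgroup.normalizer ((Qc.map φ : Subgroup G) : Set G) := by
    intro k
    apply Subgroup.le_normalizer_map φ
    refine ⟨k, ?_, rfl⟩
    rw [Subgroup.normalizer_eq_top]
    exact Subgroup.mem_top k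
  -- the centre of the image of `Sc`
  have hcenter : ∀ s ∈ Sc.map φ, (∀ t ∈ Sc.map φ, s * t = t * s) → s = 1 ∨ s = φ z0 := by
    rintro _ ⟨s, hs, rfl⟩ hst
    have h1 : ∀ t ∈ Sc, s * t = t * s := by
      intro t ht
      apply hφ
      rw [map_mul, map_mul]
      exact hst (φ t) ⟨t, ht, rfl⟩
    rcases hcen s hs h1 with h2 | h2
    · left; rw [h2, map_one]
    · right; rw [h2]
  refine ⟨?_, ?_, ?_, ?_, ?_, ?_, ?_⟩
  · -- nontrivial
    intro hbot
    have h1 : φ z0 ∈ Sc.map φ := ⟨z0, hzS, rfl⟩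
    rw [hbot, Subgroup.mem_bot] at h1
    exact hz1 h1
  · -- strongly closed subgroups
    intro T hTS hT
    haveI : Finite (Sc.map φ) := by
      have h1 : ((Sc.map φ : Subgroup G) : Set G).Finite := by
        rw [Subgroup.coe_map]
        exact Set.Finite.image _ (Set.toFinite _)
      exact h1.to_subtype
    refine Cfsg.Agent.Lib.Helper28.closed_of_center (H := ⊤) le_top (hS2.map φ) (φ z0) hcenter ?_
      T hTS (fun x hx g _ hg => hT x hx g hg)
    intro T' hT'S hT' hzT'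
    have h1 : Sc.map φ ≤ (Subgroup.closure invs).map φ := Subgroup.map_mono hSgen
    refine h1.trans ?_
    rw [MonoidHom.map_closure, Subgroup.closure_le]
    rintro _ ⟨s, hs, rfl⟩
    obtain ⟨hs2, hs1⟩ := hinv2 s hs
    have hord : orderOf (φ s) = 2 := by
      apply orderOf_eq_prime
      · rw [pow_two, ← map_mul, hs2, map_one]
      · intro h2
        apply hs1
        apply hφ
        rw [h2, map_one]
    obtain ⟨g, hg⟩ := isConj_iff.mp (hconj (φ s) hord)
    have h3 : g * φ z0 * g⁻¹ ∈ Sc.map φ := by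
      rw [hg]
      exact ⟨s, hinvS hs, rfl⟩
    have h4 := hT' (φ z0) hzT' g (Subgroup.mem_top g) h3
    rw [hg] at h4
    exact h4
  · -- `Q ≤ S`
    intro R hR
    rw [Set.mem_singleton_iff] at hR
    rw [hR]
    exact Subgroup.map_mono hQS
  · -- `S` normalizes `Q`
    intro R hR
    rw [Set.mem_singleton_iff] at hR
    rw [hR]
    rintro _ ⟨s, _, rfl⟩
    exact hNQ s
  · -- `Q` is self-centralizing
    intro R hR
    rw [Set.mem_singleton_iff] at hR
    rw [hR]
    intro x hx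
    rw [Subgroup.mem_centralizer_iff] at hx
    have h1 : x * φ z0 = φ z0 * x := (hx (φ z0) ⟨z0, hzQ, rfl⟩).symm
    obtain ⟨c, rfl⟩ := hrange x h1
    refine ⟨c, ?_, rfl⟩
    apply hcq
    intro q hq
    apply hφ
    rw [map_mul, map_mul]
    exact (hx (φ q) ⟨q, hq, rfl⟩).symm
  · -- the radical condition
    intro R hR
    rw [Set.mem_singleton_iff] at hR
    rw [hR]
    refine ⟨φ h, hNQ h, ?_⟩
    rintro x ⟨hx1, hx2⟩
    obtain ⟨x', hx', rfl⟩ := hx1
    obtain ⟨s, hs, hsx⟩ := hx2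
    obtain ⟨s', hs', rfl⟩ := hs
    have h1 : φ (h * s' * h⁻¹) = φ x' := by
      rw [map_mul, map_mul, map_inv]
      exact hsx
    have h2 : h * s' * h⁻¹ = x' := hφ h1
    refine ⟨x', ?_, rfl⟩
    apply hrad x' hx'
    rw [← h2]
    have : h⁻¹ * (h * s' * h⁻¹) * h = s' := by group
    rw [this]
    exact hs'
  · -- the normalizer of `S`
    intro n hn
    have hzS' : φ z0 ∈ Sc.map φ := ⟨z0, hzS, rfl⟩
    have hn1 : n * φ z0 * n⁻¹ ∈ Sc.map φ := (Subgroup.mem_normalizer_iff.mp hn (φ z0)).mp hzS'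
    have hn2 : ∀ t ∈ Sc.map φ, n * φ z0 * n⁻¹ * t = t * (n * φ z0 * n⁻¹) := by
      intro t ht
      have h1 : n⁻¹ * t * n ∈ Sc.map φ := by
        have h2 := (Subgroup.mem_normalizer_iff.mp (Subgroup.inv_mem _ hn) t).mp ht
        simpa using h2
      obtain ⟨t', _, ht'⟩ := h1
      have h3 : φ z0 * (n⁻¹ * t * n) = (n⁻¹ * t * n) * φ z0 := by
        rw [← ht', ← map_mul, ← map_mul, hzc t']
      calc n * φ z0 * n⁻¹ * t = n * (φ z0 * (n⁻¹ * t * n)) * n⁻¹ := by group
        _ = n * ((n⁻¹ * t * n) * φ z0) * n⁻¹ := by rw [h3]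
        _ = t * (n * φ z0 * n⁻¹) := by group
    have hn3 : n * φ z0 = φ z0 * n := by
      rcases hcenter _ hn1 hn2 with h1 | h1
      · exfalso
        apply hz1
        calc φ z0 = n⁻¹ * (n * φ z0 * n⁻¹) * n := by group
          _ = 1 := by rw [h1]; group
      · calc n * φ z0 = (n * φ z0 * n⁻¹) * n := by group
          _ = φ z0 * n := by rw [h1]
    have hn4 : n ∈ φ.range := hrange n hn3
    -- the range is generated by 2-elements normalizing `Q`
    have hrg : φ.range ≤ pGen 2 (Qc.map φ) := by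
      rw [MonoidHom.range_eq_map, ← hgen2, MonoidHom.map_closure]
      unfold pGen
      apply Subgroup.closure_mono
      rintro _ ⟨g, hg, rfl⟩
      refine ⟨hNQ g, ?_⟩
      obtain ⟨k, hk⟩ := hg2 g hg
      have h1 : orderOf (φ g) ∣ 2 ^ k := by
        apply orderOf_dvd_of_pow_eq_one
        rw [← map_pow, hk, map_one]
      obtain ⟨m, _, hm⟩ := (Nat.dvd_prime_pow Nat.prime_two).mp h1
      exact ⟨m, hm⟩
    apply Subgroup.subset_closure
    simp only [Set.mem_iUnion]
    exact ⟨Qc.map φ, rfl, hn, hrg hn4⟩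

end Cfsg.Agent.Lib.Helper10.FusModel
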