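import Cfsg.Agent.Lib.Helper28.J3CentDefs
import Cfsg.Agent.Lib.Helper10.J3FusData

/-!
# Certificates for the 2-fusion system of the third Janko group: the Boolean checks

All checks are about codes of 9 × 9 matrices over the field with four elements, in the format of the
tables of the centralizer of an involution (group of order 1920, normal subgroup of order 32).
-/

set_option autoImplicit false

namespace Cfsg.Agent.Lib.Helper10.J3Fus

open Cfsg.Agent.Lib.Helper28.F4 Cfsg.Agent.Lib.Helper28.J3Data Cfsg.Agent.Lib.Helper28.J3AutData
open Cfsg.Agent.Lib.Helper28.J3CentData Cfsg.Agent.Lib.Helper28.J3CentCert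
open Cfsg.Agent.Lib.Helper28.BSGSMat (Tree Entry sortedB)

/-- an involution code -/
def invoB (s : ℕ) : Bool := invOK s && wordEqB [s, s] [] && !(wordEqB [s] [])

/-- an entry of the table of the subgroup of order 128: group table, inside the group of order 1920 -/
def s2OK (e : Entry) : Bool :=
  invOK e.2.1 && tabKey e && tabReach S2TAB s2gens e && tabClosed S2TAB s2gens e &&
    findW CTAB [e.2.1]

/-- the entry is `1` or `t`, or it does not commute with some generator -/
def s2centOK (e : Entry) : Bool :=
  wordEqB [e.2.1] [] || wordEqB [e.2.1] [tc] || s2gens.any (fun s => !(commB s e.2.1))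

/-- the entry lies in the subgroup of order 32, or its conjugate by `h` times some generator has
an order not dividing 128 -/
def s2radOK (e : Entry) : Bool :=
  findW QTAB [e.2.1] ||
    s2gens.any (fun s => !(wordEqB (powW [inv hc, e.2.1, hc, s] 128) []))

/-- the entry of the group of order 1920 lies in the subgroup of order 32, or it does not commute
with one of the generators of that subgroup -/
def cqOK (e : Entry) : Bool :=
  findW QTAB [e.2.1] || qgens.any (fun q => !(commB q e.2.1))

theorem len_S2TAB : S2TAB.toList.length = 128 := by decide +kernel

theorem s2tab_ok : S2TAB.toList.all s2OK = true := by decide +kernel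

theorem s2tab_cent : S2TAB.toList.all s2centOK = true := by decide +kernel

theorem s2tab_rad : S2TAB.toList.all s2radOK = true := by decide +kernel

theorem s2tab_one : findW S2TAB [] = true := by decide +kernel

theorem s2tab_sorted : sortedB (S2TAB.toList.map fun e => e.1) = true := by decide +kernel

theorem s2gens_ok : s2gens.all invoB = true := by decide +kernel

theorem qgens_in : qgens.all (fun g => findW S2TAB [g]) = true := by decide +kernel

set_option maxRecDepth 1000000 in
theorem ctab_cq : CTAB.toList.all cqOK = true := by decide +kernel

theorem hc_ok : (invOK hc && findW CTAB [hc]) = true := by decide +kernel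

theorem fac_ok : ([ia, ib, ic, id'].all (fun s => invoB s && findW CTAB [s])) = true := by
  decide +kernel

theorem u_fac : wordEqB [ia, ib] [uc] = true := by decide +kernel

theorem v_fac : wordEqB [ic, id'] [vc] = true := by decide +kernel

theorem q_four : wordEqB [qc, qc, qc, qc] [] = true := by decide +kernel

end Cfsg.Agent.Lib.Helper10.J3Fus
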