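import Cfsg.Agent.H26.SimpleCrit

/-!
# Transport of the group-theoretic data for a simple fusion system along an isomorphism

`Cfsg.Agent.H26.SimpleData.map` transports the data along an automorphism of `G`; here the same for an
isomorphism `G ≃* G'` between two groups.
-/

set_option autoImplicit false

namespace Cfsg.Agent.Lib.Helper10.SimpleDataMap

open Cfsg Cfsg.Agent.H26

variable {G G' : Type*} [Group G] [Group G'] {p : ℕ}

theorem mem_map_equiv_iff (c : G ≃* G') (H : Subgroup G) (x : G) :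
    c x ∈ H.map c.toMonoidHom ↔ x ∈ H := by
  constructor
  · rintro ⟨y, hy, hyx⟩
    have : y = x := c.injective hyx
    rw [← this]; exact hy
  · intro hx
    exact ⟨x, hx, rfl⟩

theorem normalizer_map_equiv (c : G ≃* G') (H : Subgroup G) (x : G) :
    c x ∈ Subgroup.normalizer ((H.map c.toMonoidHom : Subgroup G') : Set G') ↔
      x ∈ Subgroup.normalizer (H : Set G) := by
  have h := Subgroup.map_equiv_normalizer_eq H c
  rw [← h]
  exact mem_map_equiv_iff c _ x

theorem pGen_map_le (c : G ≃* G') (R : Subgroup G) :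
    (pGen p R).map c.toMonoidHom ≤ pGen p (R.map c.toMonoidHom) := by
  unfold pGen
  rw [MonoidHom.map_closure]
  apply Subgroup.closure_mono
  rintro _ ⟨g, ⟨hgN, k, hk⟩, rfl⟩
  refine ⟨(normalizer_map_equiv c R g).mpr hgN, k, ?_⟩
  rw [← hk]
  exact orderOf_injective c.toMonoidHom c.injective g

/-- The data are preserved by isomorphisms. -/
theorem mapEquiv {S : Subgroup G} {ℛ : Set (Subgroup G)} (h : SimpleData p S ℛ) (c : G ≃* G') :
    SimpleData p (S.map c.toMonoidHom) ((fun R : Subgroup G => R.map c.toMonoidHom) '' ℛ) := by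
  refine ⟨?_, ?_, ?_, ?_, ?_, ?_, ?_⟩
  · intro hbot
    apply h.ne_bot
    rwa [Subgroup.map_eq_bot_iff_of_injective _ c.injective] at hbot
  · intro T hTS hT
    have h1 : T.comap c.toMonoidHom ≤ S := by
      intro x hx
      exact (mem_map_equiv_iff c S x).mp (hTS hx)
    have h2 := h.closed (T.comap c.toMonoidHom) h1 (by
      intro x hx g hg
      rw [Subgroup.mem_comap]
      have h3 : c.toMonoidHom (g * x * g⁻¹) = c g * c x * (c g)⁻¹ := by
        simp
      rw [h3]
      apply hT (c x) hx (c g)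
      rw [← h3]
      exact (mem_map_equiv_iff c S _).mpr hg)
    have h4 : (T.comap c.toMonoidHom).map c.toMonoidHom = T :=
      Subgroup.map_comap_eq_self_of_surjective c.surjective T
    rcases h2 with h2 | h2
    · left
      rw [← h4, h2, Subgroup.map_bot]
    · right
      rw [← h4, h2]
  · rintro _ ⟨R, hR, rfl⟩
    exact Subgroup.map_mono (h.le R hR)
  · rintro _ ⟨R, hR, rfl⟩
    rintro _ ⟨s, hs, rfl⟩
    exact (normalizer_map_equiv c R s).mpr (h.normal R hR hs)
  · rintro _ ⟨R, hR, rfl⟩ y hy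
    obtain ⟨x, rfl⟩ := c.surjective y
    apply (mem_map_equiv_iff c R x).mpr
    apply h.cent R hR
    rw [Subgroup.mem_centralizer_iff]
    intro r hr
    have h1 := (Subgroup.mem_centralizer_iff.mp hy) (c r) ⟨r, hr, rfl⟩
    apply c.injective
    rw [map_mul, map_mul]
    exact h1
  · rintro _ ⟨R, hR, rfl⟩
    obtain ⟨g, hg, hgS⟩ := h.rad R hR
    refine ⟨c g, (normalizer_map_equiv c R g).mpr hg, ?_⟩
    intro y hy
    obtain ⟨x, rfl⟩ := c.surjective y
    apply (mem_map_equiv_iff c R x).mpr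
    apply hgS
    refine ⟨(mem_map_equiv_iff c S x).mp hy.1, ?_⟩
    obtain ⟨z, hz, hzx⟩ := hy.2
    obtain ⟨s, hs, rfl⟩ := hz
    refine ⟨s, hs, ?_⟩
    apply c.injective
    rw [← hzx]
    simp [MulAut.conj_apply]
  · intro y hy
    obtain ⟨x, rfl⟩ := c.surjective y
    have hx := (normalizer_map_equiv c S x).mp hy
    have h1 := h.gen hx
    have h2 : c x ∈ (Subgroup.closure (⋃ R ∈ ℛ,
        {g | g ∈ Subgroup.normalizer (S : Set G) ∧ g ∈ pGen p R})).map c.toMonoidHom := ⟨x, h1, rfl⟩
    rw [MonoidHom.map_closure] at h2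
    refine Subgroup.closure_mono ?_ h2
    rintro _ ⟨g, hg, rfl⟩
    simp only [Set.mem_iUnion] at hg
    obtain ⟨R, hR, hgN, hgK⟩ := hg
    simp only [Set.mem_iUnion]
    refine ⟨R.map c.toMonoidHom, ⟨R, hR, rfl⟩, (normalizer_map_equiv c S g).mpr hgN, ?_⟩
    exact pGen_map_le c R ⟨g, hgK, rfl⟩

end Cfsg.Agent.Lib.Helper10.SimpleDataMap
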