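import Cfsg.Agent.Lib.Helper28.J3Cent
import Cfsg.Agent.Lib.Helper10.J3FusCert
import Cfsg.Agent.Lib.Helper10.FusModel
import Cfsg.Agent.Lib.Helper10.SimpleDataMap

/-!
# The 2-fusion system of the third Janko group is simple

The centralizer `C` of an involution `t` of `J₃` is modelled by a group of order 1920 of the triple
cover (`Cfsg.Agent.Lib.Helper28.J3Cent`).  Inside it: a subgroup of order 128 generated by six
involutions, with centre `{1, t}`, containing the normal subgroup `Q` of order 32, which is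
self-centralizing in `C`; an element `h` with `S ∩ h S h⁻¹ ≤ Q`; `C` is generated by 2-elements.  All
involutions of `J₃` are conjugate.  These are the hypotheses of `FusModel.simpleData_of_model`.
-/

set_option autoImplicit false

namespace Cfsg.Agent.Lib.Helper10.J3Fus

open Cfsg.Spor Cfsg.Agent.Lib.Helper28.F4 Cfsg.Agent.Lib.Helper28.J3Data
open Cfsg.Agent.Lib.Helper28.J3Cert Cfsg.Agent.Lib.Helper28.J3AutData
open Cfsg.Agent.Lib.Helper28.J3AutCert Cfsg.Agent.Lib.Helper28.J3
open Cfsg.Agent.Lib.Helper28.J3Aut Cfsg.Agent.Lib.Helper28.J3CentData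
open Cfsg.Agent.Lib.Helper28.J3CentCert Cfsg.Agent.Lib.Helper28.J3Cent
open Cfsg.Agent.Lib.Helper28.BSGSMat (Tree Entry sortedB sortedB_nodup)
open scoped MatrixGroups

section
variable {F : Type*} [Field F] [Fintype F] {ω : F} [hd : Data F ω]

/-! ### the table of the subgroup of order 128 -/

theorem s2_all : ∀ e ∈ S2TAB.toList, s2OK e = true := by
  have h := s2tab_ok
  rw [List.all_eq_true] at h
  exact h

theorem s2_split {e : Entry} (he : e ∈ S2TAB.toList) :
    invOK e.2.1 = true ∧ tabKey e = true ∧ tabReach S2TAB s2gens e = true ∧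
      tabClosed S2TAB s2gens e = true ∧ findW CTAB [e.2.1] = true := by
  have h := s2_all e he
  unfold s2OK at h
  simp only [Bool.and_eq_true] at h
  exact ⟨h.1.1.1.1, h.1.1.1.2, h.1.1.2, h.1.2, h.2⟩

theorem s2_valid : TableValid S2TAB := fun e he => (s2_split he).1

theorem sg_split {g : ℕ} (hg : g ∈ s2gens) :
    invOK g = true ∧ wordEqB [g, g] [] = true ∧ wordEqB [g] [] = false := by
  have h := s2gens_ok
  rw [List.all_eq_true] at h
  have h1 := h g hg
  unfold invoB at h1
  simp only [Bool.and_eq_true, Bool.not_eq_true'] at h1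
  exact ⟨h1.1.1, h1.1.2, h1.2⟩

theorem sg_valid : ∀ g ∈ s2gens, invOK g = true := fun g hg => (sg_split hg).1

/-- the subgroup of order 128 -/
noncomputable def S2 (F : Type*) [Field F] (ω : F) [Data F ω] : Subgroup (GL F9 F) :=
  genGroup ω s2gens

theorem mem_S2 (z : GL F9 F) : z ∈ S2 F ω ↔ z ∈ codeSet ω S2TAB :=
  ⟨fun hz => tab_le s2_valid s2gens sg_valid s2tab_one (fun e he => (s2_split he).2.2.2.1) z hz,
    fun hz => tab_ge s2_valid s2gens sg_valid (fun e he => (s2_split he).2.2.1) z hz⟩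

theorem card_S2 : Nat.card (S2 F ω) = 128 := by
  unfold S2
  rw [tab_card s2_valid s2gens sg_valid s2tab_one (fun e he => (s2_split he).2.2.2.1)
    (fun e he => (s2_split he).2.2.1) (fun e he => (s2_split he).2.1) s2tab_sorted, len_S2TAB]

theorem S2_le : S2 F ω ≤ C0 F ω := by
  intro z hz
  obtain ⟨e, he, rfl⟩ := (mem_S2 z).mp hz
  rw [mem_C0]
  exact findW_spec ct_valid (glOf_acts (s2_valid e he)) (s2_split he).2.2.2.2

theorem Q0_le_S2 : Q0 F ω ≤ S2 F ω := by
  unfold Q0 genGroup
  rw [Subgroup.closure_le]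
  intro s hs
  have hs' : s ∈ semGens ω qgens := hs
  unfold semGens at hs'
  obtain ⟨g, hg, rfl⟩ := List.mem_map.mp hs'
  rw [SetLike.mem_coe, mem_S2]
  have h := qgens_in
  rw [List.all_eq_true] at h
  exact findW_spec s2_valid (glOf_acts (qg_split hg).1) (h g hg)

theorem sgen_mem {g : ℕ} (hg : g ∈ s2gens) : glOf ω g ∈ S2 F ω := glOf_mem_genGroup hg

/-! ### the centre of the subgroup of order 128 -/

theorem s2_cent_gl (b : GL F9 F) (hb : b ∈ S2 F ω)
    (hc : ∀ a ∈ S2 F ω, b * a = a * b) : b = 1 ∨ b = glOf ω tc := by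
  obtain ⟨e, he, rfl⟩ := (mem_S2 _).mp hb
  have hv := s2_valid e he
  have h := s2tab_cent
  rw [List.all_eq_true] at h
  have h1 := h e he
  unfold s2centOK at h1
  simp only [Bool.or_eq_true, List.any_eq_true, Bool.not_eq_true'] at h1
  rcases h1 with (h1 | h1) | h1
  · left; exact eq_one_of_wordEqB (glOf_acts hv) h1
  · right; exact eq_of_wordEqB (glOf_acts hv) (glOf_acts tc_split.1) h1
  · exfalso
    obtain ⟨s, hs, h2⟩ := h1
    have hsv := sg_valid s hs
    have h3 := hc (glOf ω s) (sgen_mem hs)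
    have h4 : commB s e.2.1 = true := by
      unfold commB
      have hba' : ActsBy ω (glOf ω s * glOf ω e.2.1) [e.2.1, s] := by
        rw [← h3]; exact actsBy_cons (glOf_acts hv) (glOf_acts hsv)
      exact wordEqB_of_acts (actsBy_cons (glOf_acts hsv) (glOf_acts hv)) hba'
    rw [h4] at h2
    exact Bool.noConfusion h2

/-! ### the subgroup of order 32 is self-centralizing -/

theorem c_cent_q_gl (b : GL F9 F) (hb : b ∈ C0 F ω)
    (hc : ∀ a ∈ Q0 F ω, b * a = a * b) : b ∈ Q0 F ω := by
  obtain ⟨e, he, rfl⟩ := (mem_C0 _).mp hb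
  have hv := ct_valid e he
  have h := ctab_cq
  rw [List.all_eq_true] at h
  have h1 := h e he
  unfold cqOK at h1
  simp only [Bool.or_eq_true, List.any_eq_true, Bool.not_eq_true'] at h1
  rcases h1 with h1 | h1
  · exact (mem_Q0 _).mpr (findW_spec qt_valid (glOf_acts hv) h1)
  · exfalso
    obtain ⟨s, hs, h2⟩ := h1
    have hsv := (qg_split hs).1
    have h3 := hc (glOf ω s) (glOf_mem_genGroup hs)
    have h4 : commB s e.2.1 = true := by
      unfold commB
      have hba' : ActsBy ω (glOf ω s * glOf ω e.2.1) [e.2.1, s] := by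
        rw [← h3]; exact actsBy_cons (glOf_acts hv) (glOf_acts hsv)
      exact wordEqB_of_acts (actsBy_cons (glOf_acts hsv) (glOf_acts hv)) hba'
    rw [h4] at h2
    exact Bool.noConfusion h2

/-! ### the radical condition -/

theorem hc_valid : invOK hc = true := by
  have h := hc_ok
  rw [Bool.and_eq_true] at h
  exact h.1

theorem hc_mem : glOf ω hc ∈ C0 F ω := by
  have h := hc_ok
  rw [Bool.and_eq_true] at h
  rw [mem_C0]
  exact findW_spec ct_valid (glOf_acts h.1) h.2

theorem pow_S2 (z : GL F9 F) (hz : z ∈ S2 F ω) : z ^ 128 = 1 := by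
  have h := pow_card_eq_one' (G := S2 F ω) (x := ⟨z, hz⟩)
  rw [card_S2] at h
  have := congrArg Subtype.val h
  simpa using this

theorem s2_rad_gl (x : GL F9 F) (hx : x ∈ S2 F ω)
    (hy : (glOf ω hc)⁻¹ * x * glOf ω hc ∈ S2 F ω) : x ∈ Q0 F ω := by
  obtain ⟨e, he, rfl⟩ := (mem_S2 _).mp hx
  have hv := s2_valid e he
  have h := s2tab_rad
  rw [List.all_eq_true] at h
  have h1 := h e he
  unfold s2radOK at h1
  simp only [Bool.or_eq_true, List.any_eq_true, Bool.not_eq_true'] at h1
  rcases h1 with h1 | h1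
  · exact (mem_Q0 _).mpr (findW_spec qt_valid (glOf_acts hv) h1)
  · exfalso
    obtain ⟨s, hs, h2⟩ := h1
    have hsv := sg_valid s hs
    have hm : (glOf ω hc)⁻¹ * glOf ω e.2.1 * glOf ω hc * glOf ω s ∈ S2 F ω :=
      (S2 F ω).mul_mem hy (sgen_mem hs)
    have hp := pow_S2 _ hm
    have hact : ActsBy ω ((glOf ω hc)⁻¹ * glOf ω e.2.1 * glOf ω hc * glOf ω s)
        [inv hc, e.2.1, hc, s] := by
      have h3 : (glOf ω hc)⁻¹ * glOf ω e.2.1 * glOf ω hc * glOf ω s =
          (glOf ω hc)⁻¹ * (glOf ω e.2.1 * (glOf ω hc * glOf ω s)) := by group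
      rw [h3]
      exact actsBy_cons (glOf_inv_acts hc_valid) (actsBy_cons (glOf_acts hv)
        (actsBy_cons (glOf_acts hc_valid) (glOf_acts hsv)))
    have hact2 := actsBy_powW hact 128
    rw [hp] at hact2
    have h4 := wordEqB_of_acts hact2 actsBy_one
    rw [h4] at h2
    exact Bool.noConfusion h2

/-! ### the group of order 1920 is generated by 2-elements -/

theorem fac_split {s : ℕ} (hs : s ∈ [ia, ib, ic, id']) :
    invOK s = true ∧ wordEqB [s, s] [] = true ∧ findW CTAB [s] = true := by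
  have h := fac_ok
  rw [List.all_eq_true] at h
  have h1 := h s hs
  unfold invoB at h1
  simp only [Bool.and_eq_true, Bool.not_eq_true'] at h1
  exact ⟨h1.1.1.1, h1.1.1.2, h1.2⟩

theorem fac_mem {s : ℕ} (hs : s ∈ [ia, ib, ic, id']) : glOf ω s ∈ C0 F ω := by
  rw [mem_C0]
  exact findW_spec ct_valid (glOf_acts (fac_split hs).1) (fac_split hs).2.2

theorem fac_sq {s : ℕ} (hs : s ∈ [ia, ib, ic, id']) : glOf ω s * glOf ω s = 1 :=
  eq_one_of_wordEqB (actsBy_cons (glOf_acts (fac_split hs).1) (glOf_acts (fac_split hs).1))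
    (fac_split hs).2.1

theorem u_eq : glOf ω ia * glOf ω ib = glOf ω uc :=
  eq_of_wordEqB (actsBy_cons (glOf_acts (fac_split (by simp)).1) (glOf_acts (fac_split (by simp)).1))
    (glOf_acts uc_valid) u_fac

theorem v_eq : glOf ω ic * glOf ω id' = glOf ω vc :=
  eq_of_wordEqB (actsBy_cons (glOf_acts (fac_split (by simp)).1) (glOf_acts (fac_split (by simp)).1))
    (glOf_acts vc_valid) v_fac

theorem qc_valid : invOK qc = true := cg_valid qc (by simp [cgens])

theorem qc_mem : glOf ω qc ∈ C0 F ω := glOf_mem_genGroup (by simp [cgens])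

theorem q_pow : glOf ω qc ^ 4 = 1 :=
  eq_one_of_wordEqB (actsBy_pow (glOf_acts qc_valid) 4) q_four

end

section
variable {F : Type*} [Field F] [Fintype F] {ω : F} [hd : Data F ω]

/-! ### the data in `J₃` -/

/-- the map from the group of order 1920 to `J₃` -/
noncomputable def phi (F : Type*) [Field F] [Fintype F] (ω : F) [Data F ω] :
    C0 F ω →* J3 F ω :=
  (Subgroup.centralizer ({pr F ω (tT F ω)} : Set (J3 F ω))).subtype.comp (centHom F ω)

theorem phi_inj (hF : Fintype.card F = 4) : Function.Injective (phi F ω) := by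
  intro a b hab
  apply centHom_inj hF
  apply Subtype.ext
  exact hab

/-- the involution `t` in the group of order 1920 -/
noncomputable def z0 (F : Type*) [Field F] [Fintype F] (ω : F) [Data F ω] : C0 F ω :=
  ⟨glOf ω tc, Q0_le t_in_Q0⟩

theorem phi_z0 : phi F ω (z0 F ω) = pr F ω (tT F ω) := rfl

theorem phi_range (hF : Fintype.card F = 4) (g : J3 F ω)
    (hg : g * phi F ω (z0 F ω) = phi F ω (z0 F ω) * g) : g ∈ (phi F ω).range := by
  have hgc : g ∈ Subgroup.centralizer ({pr F ω (tT F ω)} : Set (J3 F ω)) := by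
    rw [Subgroup.mem_centralizer_iff]
    intro k hk
    rw [Set.mem_singleton_iff] at hk
    rw [hk, ← phi_z0]
    exact hg.symm
  obtain ⟨c, hc⟩ := (centEquiv (F := F) (ω := ω) hF).surjective ⟨g, hgc⟩
  refine ⟨c, ?_⟩
  have h1 : centHom F ω c = ⟨g, hgc⟩ := hc
  show ((centHom F ω c : Subgroup.centralizer ({pr F ω (tT F ω)} : Set (J3 F ω))) : J3 F ω) = g
  rw [h1]

/-- the data for the fusion system, in `J₃` -/
theorem simpleData (hF : Fintype.card F = 4) :
    Cfsg.Agent.H26.SimpleData 2 (((S2 F ω).subgroupOf (C0 F ω)).map (phi F ω))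
      {((Q0 F ω).subgroupOf (C0 F ω)).map (phi F ω)} := by
  haveI : Finite (C0 F ω) := Nat.finite_of_card_ne_zero (by rw [card_C0]; norm_num)
  have hmem4 : ∀ s ∈ [ia, ib, ic, id'], s ∈ [ia, ib, ic, id'] := fun s hs => hs
  refine FusModel.simpleData_of_model (phi F ω) (phi_inj hF) (z0 F ω) ?_ ?_ (phi_range hF)
    ((S2 F ω).subgroupOf (C0 F ω)) ((Q0 F ω).subgroupOf (C0 F ω)) ?_ ?_ ?_ ?_ ?_ ?_
    ⟨glOf ω hc, hc_mem⟩ ?_
    {g : C0 F ω | (g : GL F9 F) = glOf ω ia ∨ (g : GL F9 F) = glOf ω ib ∨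
      (g : GL F9 F) = glOf ω ic ∨ (g : GL F9 F) = glOf ω id' ∨ (g : GL F9 F) = glOf ω qc}
    ?_ ?_
    {s : C0 F ω | ∃ g ∈ s2gens, (s : GL F9 F) = glOf ω g} ?_ ?_ ?_ (conj_t hF)
  · -- `z0 ≠ 1`
    intro h
    exact t_gl_ne hF (congrArg Subtype.val h)
  · -- `z0` is central
    intro k
    apply Subtype.ext
    simp only [Subgroup.coe_mul]
    exact C0_comm _ k.2
  · -- `Q ≤ S`
    intro x hx
    rw [Subgroup.mem_subgroupOf] at hx ⊢
    exact Q0_le_S2 hx
  · -- `z0 ∈ Q`
    rw [Subgroup.mem_subgroupOf]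
    exact t_in_Q0
  · -- `Q` is normal
    constructor
    intro n hn g
    rw [Subgroup.mem_subgroupOf] at hn ⊢
    simp only [Subgroup.coe_mul, Subgroup.coe_inv]
    exact Q0_normal _ g.2 _ hn
  · -- `S` is a 2-group
    apply IsPGroup.of_card (n := 7)
    rw [Nat.card_congr (Subgroup.subgroupOfEquivOfLe S2_le).toEquiv, card_S2]
    norm_num
  · -- the centre of `S`
    intro s hs hst
    rw [Subgroup.mem_subgroupOf] at hs
    have h1 : ∀ a ∈ S2 F ω, (s : GL F9 F) * a = a * (s : GL F9 F) := by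
      intro a ha
      have h2 := hst ⟨a, S2_le ha⟩ (by rw [Subgroup.mem_subgroupOf]; exact ha)
      have h3 := congrArg Subtype.val h2
      simpa only [Subgroup.coe_mul] using h3
    rcases s2_cent_gl _ hs h1 with h | h
    · left
      apply Subtype.ext
      rw [Subgroup.coe_one]
      exact h
    · right
      apply Subtype.ext
      exact h
  · -- `Q` is self-centralizing
    intro c hcq
    rw [Subgroup.mem_subgroupOf]
    apply c_cent_q_gl _ c.2
    intro a ha
    have h2 := hcq ⟨a, Q0_le ha⟩ (by rw [Subgroup.mem_subgroupOf]; exact ha)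
    have h3 := congrArg Subtype.val h2
    simpa only [Subgroup.coe_mul] using h3
  · -- the radical condition
    intro x hx hy
    rw [Subgroup.mem_subgroupOf] at hx hy ⊢
    apply s2_rad_gl _ hx
    simpa only [Subgroup.coe_mul, Subgroup.coe_inv] using hy
  · -- the generators are 2-elements
    rintro g (hg | hg | hg | hg | hg)
    · refine ⟨1, ?_⟩
      apply Subtype.ext
      rw [pow_one, pow_two, Subgroup.coe_mul, Subgroup.coe_one, hg]
      exact fac_sq (by simp)
    · refine ⟨1, ?_⟩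
      apply Subtype.ext
      rw [pow_one, pow_two, Subgroup.coe_mul, Subgroup.coe_one, hg]
      exact fac_sq (by simp)
    · refine ⟨1, ?_⟩
      apply Subtype.ext
      rw [pow_one, pow_two, Subgroup.coe_mul, Subgroup.coe_one, hg]
      exact fac_sq (by simp)
    · refine ⟨1, ?_⟩
      apply Subtype.ext
      rw [pow_one, pow_two, Subgroup.coe_mul, Subgroup.coe_one, hg]
      exact fac_sq (by simp)
    · refine ⟨2, ?_⟩
      apply Subtype.ext
      rw [Subgroup.coe_pow, Subgroup.coe_one, hg]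
      exact q_pow
  · -- they generate the group of order 1920
    rw [eq_top_iff]
    intro x _
    set T : Set (C0 F ω) := {g : C0 F ω | (g : GL F9 F) = glOf ω ia ∨ (g : GL F9 F) = glOf ω ib ∨
      (g : GL F9 F) = glOf ω ic ∨ (g : GL F9 F) = glOf ω id' ∨ (g : GL F9 F) = glOf ω qc} with hT
    have hle : C0 F ω ≤ (Subgroup.closure T).map (C0 F ω).subtype := by
      unfold C0 genGroup
      rw [Subgroup.closure_le]
      intro s hs
      have hs' : s ∈ semGens ω cgens := hs
      unfold semGens at hs'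
      obtain ⟨g, hg, rfl⟩ := List.mem_map.mp hs'
      have ha : (⟨glOf ω ia, fac_mem (by simp)⟩ : C0 F ω) ∈ Subgroup.closure T :=
        Subgroup.subset_closure (Or.inl rfl)
      have hb : (⟨glOf ω ib, fac_mem (by simp)⟩ : C0 F ω) ∈ Subgroup.closure T :=
        Subgroup.subset_closure (Or.inr (Or.inl rfl))
      have hc' : (⟨glOf ω ic, fac_mem (by simp)⟩ : C0 F ω) ∈ Subgroup.closure T :=
        Subgroup.subset_closure (Or.inr (Or.inr (Or.inl rfl)))
      have hd' : (⟨glOf ω id', fac_mem (by simp)⟩ : C0 F ω) ∈ Subgroup.closure T :=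
        Subgroup.subset_closure (Or.inr (Or.inr (Or.inr (Or.inl rfl))))
      have hq : (⟨glOf ω qc, qc_mem⟩ : C0 F ω) ∈ Subgroup.closure T :=
        Subgroup.subset_closure (Or.inr (Or.inr (Or.inr (Or.inr rfl))))
      simp only [cgens, List.mem_cons, List.not_mem_nil, or_false] at hg
      rcases hg with rfl | rfl | rfl
      · refine ⟨_, Subgroup.mul_mem _ ha hb, ?_⟩
        show glOf ω ia * glOf ω ib = glOf ω uc
        exact u_eq
      · refine ⟨_, Subgroup.mul_mem _ hc' hd', ?_⟩
        show glOf ω ic * glOf ω id' = glOf ω vc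
        exact v_eq
      · exact ⟨_, hq, rfl⟩
    obtain ⟨y, hy, hyx⟩ := hle x.2
    have : y = x := Subtype.ext hyx
    rw [← this]
    exact hy
  · -- the involutions lie in `S`
    rintro s ⟨g, hg, hsg⟩
    show s ∈ (S2 F ω).subgroupOf (C0 F ω)
    rw [Subgroup.mem_subgroupOf, hsg]
    exact sgen_mem hg
  · -- they are involutions
    rintro s ⟨g, hg, hsg⟩
    constructor
    · apply Subtype.ext
      rw [Subgroup.coe_mul, Subgroup.coe_one, hsg]
      exact eq_one_of_wordEqB (actsBy_cons (glOf_acts (sg_valid g hg)) (glOf_acts (sg_valid g hg)))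
        (sg_split hg).2.1
    · intro h1
      have h2 : glOf ω g = 1 := by
        rw [← hsg, h1, Subgroup.coe_one]
      have h3 := wordEqB_of_acts (glOf_acts (ω := ω) (sg_valid g hg)) (h2 ▸ actsBy_one)
      rw [(sg_split hg).2.2] at h3
      exact Bool.noConfusion h3
  · -- they generate `S`
    intro x hx
    rw [Subgroup.mem_subgroupOf] at hx
    set T : Set (C0 F ω) := {s : C0 F ω | ∃ g ∈ s2gens, (s : GL F9 F) = glOf ω g} with hT
    have hle : S2 F ω ≤ (Subgroup.closure T).map (C0 F ω).subtype := by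
      unfold S2 genGroup
      rw [Subgroup.closure_le]
      intro s hs
      have hs' : s ∈ semGens ω s2gens := hs
      unfold semGens at hs'
      obtain ⟨g, hg, rfl⟩ := List.mem_map.mp hs'
      exact ⟨⟨glOf ω g, S2_le (sgen_mem hg)⟩, Subgroup.subset_closure ⟨g, hg, rfl⟩, rfl⟩
    obtain ⟨y, hy, hyx⟩ := hle hx
    have : y = x := Subtype.ext hyx
    rw [← this]
    exact hy

theorem card_S (hF : Fintype.card F = 4) :
    Nat.card (((S2 F ω).subgroupOf (C0 F ω)).map (phi F ω)) = 128 := by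
  rw [Subgroup.card_map_of_injective (phi_inj hF),
    Nat.card_congr (Subgroup.subgroupOfEquivOfLe S2_le).toEquiv, card_S2]

end

/-- the 2-fusion system of a group isomorphic to `J₃` is simple -/
theorem main {G : Type*} [Group G] [Finite G] (hG : Cfsg.Spor.IsoJ3 G) (S : Sylow 2 G) :
    (Cfsg.groupFusionSystem (S : Subgroup G)).IsSimple 2 := by
  haveI : Fact (Nat.Prime 2) := ⟨Nat.prime_two⟩
  obtain ⟨F, _, _, ω, hF, hω, ⟨e⟩⟩ := hG
  haveI := data_of_card F hF ω hω
  have hdata := simpleData (F := F) (ω := ω) hF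
  have hmap := SimpleDataMap.mapEquiv hdata e.symm
  have hcardS : Nat.card ((((S2 F ω).subgroupOf (C0 F ω)).map (phi F ω)).map
      e.symm.toMonoidHom) = 128 := by
    rw [Subgroup.card_map_of_injective e.symm.injective, card_S hF]
  have hcardG : Nat.card G = 50232960 := by
    rw [Nat.card_congr e.toEquiv, card_J3 (F := F) (ω := ω) hF]
  refine Cfsg.Agent.H26.simple_of_simpleData_all ?_ ?_ hmap S
  · apply IsPGroup.of_card (n := 7)
    rw [hcardS]
    norm_num
  · intro h2
    have h3 := Subgroup.index_mul_card ((((S2 F ω).subgroupOf (C0 F ω)).map (phi F ω)).map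
      e.symm.toMonoidHom)
    rw [hcardS, hcardG] at h3
    obtain ⟨k, hk⟩ := h2
    rw [hk] at h3
    omega

end Cfsg.Agent.Lib.Helper10.J3Fus
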