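import Cfsg.Agent.Lib.Helper10.J3MultGrp
import Cfsg.Agent.Lib.Helper20.J3Stem
import Cfsg.Agent.Lib.Helper11.SchurJA
import Cfsg.Agent.Lib.Helper21.WeakL12
import Cfsg.Agent.Lib.Helper1.WeakL3
import Cfsg.Agent.Lib.Helper1.WeakL4
import Cfsg.Agent.Lib.Helper17.WeakL6
import Cfsg.Agent.Lib.Helper17.WeakL9
import Cfsg.Agent.Lib.Helper20.WeakL78

/-!
# The Schur multiplier of the third Janko group: the upper bound

The kernel of a finite stem extension of `J₃` has order dividing 3.  Primes other than 2 and 3: cyclic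
Sylow subgroups.  For `p = 2, 3` reduce to a kernel that is a `p`-group, lift generators of a subgroup of
index prime to `p` to elements of the same orders (prime to `p`), check that conjugation relators between
them stay exact, and bound the order of the preimage of the subgroup by coset enumeration.
-/

set_option autoImplicit false
set_option linter.style.haveILetI false

namespace Cfsg.Agent.Lib.Helper10.J3Mult

open Cfsg Cfsg.Spor Cfsg.Agent.Lib.Helper28.F4 Cfsg.Agent.Lib.Helper28.J3Data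
open Cfsg.Agent.Lib.Helper28.J3Cert Cfsg.Agent.Lib.Helper28.J3AutData
open Cfsg.Agent.Lib.Helper28.J3AutCert Cfsg.Agent.Lib.Helper28.J3
open Cfsg.Agent.Lib.Helper28.J3Aut Cfsg.Agent.Lib.Helper28.J3CentData
open Cfsg.Agent.Lib.Helper28.J3CentCert Cfsg.Agent.Lib.Helper28.J3Cent
open Cfsg.Agent.Lib.Helper28.BSGSMat (Tree Entry sortedB sortedB_nodup)
open Cfsg.H5.TCk Cfsg.H5.StemTC Cfsg.Agent.Lib.Helper10.Weak
open scoped MatrixGroups

universe u v

section generic

/-- lifts of the same orders of a family of elements of orders prime to `p` -/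
theorem lifts_exist {Γ : Type u} {G : Type v} [Group Γ] [Finite Γ] [Group G] (σ : Γ →* G)
    (hs : Function.Surjective σ) {p : ℕ} (hk : IsPGroup p σ.ker) (γ : ℕ → G) (n : ℕ → ℕ)
    (hn : ∀ i, (n i).Coprime p) (hγ : ∀ i, γ i ^ n i = 1) :
    ∃ γh : ℕ → Γ, (∀ i, σ (γh i) = γ i) ∧ ∀ i, γh i ^ n i = 1 := by
  choose f hf using fun i => exists_lift_pow_eq_one σ hs hk (γ i) (hn i) (hγ i)
  exact ⟨f, fun i => (hf i).1, fun i => (hf i).2⟩

theorem lettersOK_mono {s t : ℕ} (hst : s ≤ t) {r : List ℕ} (h : lettersOK s r = true) :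
    lettersOK t r = true := by
  unfold lettersOK at *
  rw [List.all_eq_true] at *
  intro l hl
  have := of_decide_eq_true (h l hl)
  exact decide_eq_true (by omega)

theorem lettersOK_replicate {t i n : ℕ} (hi : i < t) :
    lettersOK t (List.replicate n (2 * i)) = true := by
  unfold lettersOK
  rw [List.all_eq_true]
  intro l hl
  rw [List.mem_replicate] at hl
  exact decide_eq_true (by omega)

theorem card_zpowers_le {Γ : Type u} [Group Γ] (x : Γ) {n : ℕ} (hn : 0 < n) (hx : x ^ n = 1) :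
    Finite (Subgroup.zpowers x) ∧ Nat.card (Subgroup.zpowers x) ≤ n := by
  have hfin : IsOfFinOrder x := isOfFinOrder_iff_pow_eq_one.mpr ⟨n, hn, hx⟩
  refine ⟨?_, ?_⟩
  · exact Nat.finite_of_card_ne_zero (by
      rw [Nat.card_zpowers]; exact (orderOf_pos_iff.mpr hfin).ne')
  · rw [Nat.card_zpowers]
    exact Nat.le_of_dvd hn (orderOf_dvd_of_pow_eq_one hx)

theorem ev_single {Γ : Type u} [Group Γ] (γ : ℕ → Γ) (i : ℕ) : ev γ [2 * i] = γ i := by
  show gl γ (2 * i) * 1 = γ i
  rw [mul_one, Helper1.gl_even]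

theorem mem_closure_range {Γ : Type u} [Group Γ] (γ : ℕ → Γ) {t i : ℕ} (hi : i < t) :
    γ i ∈ Subgroup.closure (Set.range fun k : Fin t => γ k.val) :=
  Subgroup.subset_closure ⟨⟨i, hi⟩, rfl⟩

end generic

section
variable {F : Type u} [Field F] [Fintype F] {ω : F} [hd : Data F ω]

theorem gJ_of_le {cs : List ℕ} {i : ℕ} (hi : cs.length ≤ i) : gJ F ω cs i = 1 := by
  unfold gJ
  rw [gT_of_le hi, map_one]

theorem gJ_pow {cs : List ℕ} (hcs : cs.all memOK = true) {i : ℕ} (hi : i < cs.length) (n : ℕ)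
    (h : relOK cs (List.replicate n (2 * i)) 0 = true) : gJ F ω cs i ^ n = 1 := by
  have h1 := ev_gJ_eq_one (F := F) (ω := ω) hcs _ (lettersOK_replicate hi) 0 h
  rwa [Helper1.ev_replicate, Helper1.gl_even] at h1

theorem finite_J3 (hF : Fintype.card F = 4) : Finite (J3 F ω) :=
  Nat.finite_of_card_ne_zero (by rw [card_J3 hF]; norm_num)


/-- conjugation relators and commutators of central words hold for lifts of the generators of orders
prime to `p` -/
theorem rel_lift {Γ : Type u} [Group Γ] (σ : Γ →* J3 F ω) (hc : σ.ker ≤ Subgroup.center Γ) {p : ℕ}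
    (hk : IsPGroup p σ.ker) {cs : List ℕ} (hcs : cs.all memOK = true) (γh : ℕ → Γ)
    (hγh : ∀ i, σ (γh i) = gJ F ω cs i) (n : ℕ → ℕ) (hn : ∀ i, (n i).Coprime p)
    (hord : ∀ i, γh i ^ n i = 1) :
    (∀ q : List ℕ × ℕ × ℕ × ℕ, lettersOK cs.length (crel q) = true →
      relOK cs (crel q) 0 = true → ev γh (crel q) = 1) ∧
    (∀ (w : List ℕ) (e g : ℕ), lettersOK cs.length w = true → relOK cs w e = true →
      ev γh (cword w g) = 1) := by
  have hσγ : (fun k => σ (γh k)) = gJ F ω cs := funext hγh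
  constructor
  · intro q hl hrel
    apply ev_conjRel_eq_one σ hc hk γh n q.1 q.2.1 q.2.2.1 q.2.2.2 (hn _) (hn _) (hord _) (hord _)
    rw [hσγ]
    exact ev_gJ_eq_one hcs _ hl 0 hrel
  · intro w e g hl hrel
    apply ev_cword
    apply hc
    rw [MonoidHom.mem_ker, ev_comp σ γh w, hσγ]
    exact ev_gJ_eq_one hcs w hl e hrel

/-! ### the 3-part -/

theorem mem_relsN_cases {r : List ℕ} (hr : r ∈ relsN) :
    (∃ i < 3, r = List.replicate 8 (2 * i)) ∨ (∃ q ∈ conjN, r = crel q) ∨
      ∃ q ∈ cenN, ∃ g < 3, r = cword q.1 g := by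
  unfold relsN at hr
  rw [List.mem_append, List.mem_append] at hr
  rcases hr with (hr | hr) | hr
  · left
    simp only [List.mem_cons, List.not_mem_nil, or_false] at hr
    rcases hr with rfl | rfl | rfl
    · exact ⟨0, by norm_num, rfl⟩
    · exact ⟨1, by norm_num, rfl⟩
    · exact ⟨2, by norm_num, rfl⟩
  · right; left
    obtain ⟨q, hq, rfl⟩ := List.mem_map.mp hr
    exact ⟨q, hq, rfl⟩
  · right; right
    unfold cwords at hr
    rw [List.mem_flatMap] at hr
    obtain ⟨w, hw, hr⟩ := hr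
    obtain ⟨q, hq, rfl⟩ := List.mem_map.mp hw
    obtain ⟨g, hg, rfl⟩ := List.mem_map.mp hr
    exact ⟨q, hq, g, List.mem_range.mp hg, rfl⟩

theorem mem_relsK_cases {r : List ℕ} (hr : r ∈ relsK) :
    (∃ i < 2, r = List.replicate 8 (2 * i)) ∨ ∃ q ∈ conjK, r = crel q := by
  unfold relsK at hr
  rw [List.mem_append] at hr
  rcases hr with hr | hr
  · left
    simp only [List.mem_cons, List.not_mem_nil, or_false] at hr
    rcases hr with rfl | rfl
    · exact ⟨0, by norm_num, rfl⟩
    · exact ⟨1, by norm_num, rfl⟩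
  · right
    obtain ⟨q, hq, rfl⟩ := List.mem_map.mp hr
    exact ⟨q, hq, rfl⟩

theorem ordN (i : ℕ) : gJ F ω csN i ^ 8 = 1 := by
  by_cases hi : i < 3
  · have h := ordN_ok
    rw [List.all_eq_true] at h
    apply gJ_pow csN_mem hi 8
    apply h
    interval_cases i <;> simp
  · rw [gJ_of_le (by show 3 ≤ i; omega)]
    exact one_pow _

theorem three_part (hF : Fintype.card F = 4) {Γ : Type u} [Group Γ] [Finite Γ]
    (σ : Γ →* J3 F ω) (hσ : IsStemExtension σ) (hk : IsPGroup 3 σ.ker) :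
    Nat.card σ.ker ≤ 3 := by
  haveI : Fact (Nat.Prime 3) := ⟨Nat.prime_three⟩
  have hs := hσ.1
  have hc := hσ.2.1
  obtain ⟨γh, hγh, hγo⟩ := lifts_exist σ hs hk (gJ F ω csN) (fun _ => 8) (fun _ => by norm_num)
    ordN
  have hR := rel_lift σ hc hk csN_mem γh hγh (fun _ => 8) (fun _ => by norm_num) hγo
  have hrelsN : ∀ r ∈ relsN, ev γh r = 1 := by
    intro r hr
    have hl : lettersOK 3 r = true := (List.all_eq_true.mp relsN_letters) r hr
    rcases mem_relsN_cases hr with ⟨i, _, rfl⟩ | ⟨q, hq, rfl⟩ | ⟨q, hq, g, _, rfl⟩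
    · rw [Helper1.ev_replicate, Helper1.gl_even]
      exact hγo i
    · exact hR.1 q hl ((List.all_eq_true.mp conjN_ok) _ (List.mem_map_of_mem hq))
    · have h := (List.all_eq_true.mp cenN_ok) q hq
      rw [Bool.and_eq_true] at h
      exact hR.2 q.1 q.2 g h.1 h.2
  have hrelsK : ∀ r ∈ relsK, ev γh r = 1 := by
    intro r hr
    have hl : lettersOK 2 r = true := (List.all_eq_true.mp relsK_letters) r hr
    have hok : relOK csN r 0 = true := (List.all_eq_true.mp relsK_ok) r hr
    rcases mem_relsK_cases hr with ⟨i, _, rfl⟩ | ⟨q, _, rfl⟩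
    · rw [Helper1.ev_replicate, Helper1.gl_even]
      exact hγo i
    · exact hR.1 q (lettersOK_mono (show 2 ≤ 3 by norm_num) hl) hok
  have hz := card_zpowers_le (γh 0) (by norm_num : 0 < 8) (hγo 0)
  haveI := hz.1
  have e0 : ev γh [0] = γh 0 := ev_single γh 0
  have e2 : ev γh [2] = γh 1 := ev_single γh 1
  have hK := card_closure_le γh 2 relsK (fun r hr => (List.all_eq_true.mp relsK_letters) r hr)
    hrelsK [[0]] (by decide) (Subgroup.zpowers (γh 0))
    (by
      intro g hg
      rw [List.mem_singleton] at hg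
      rw [hg, e0]
      exact Subgroup.mem_zpowers _)
    40 20 195 27 defsK logK tcK_ok
  have hN := card_ker_mul_card_le σ hσ 3 hk 3 (gJ F ω csN) (index_N hF) γh (fun i _ => hγh i)
    relsN (fun r hr => (List.all_eq_true.mp relsN_letters) r hr) hrelsN [[0], [2]] (by decide)
    (Subgroup.closure (Set.range fun i : Fin 2 => γh i.val))
    (by
      intro g hg
      simp only [List.mem_cons, List.not_mem_nil, or_false] at hg
      rcases hg with rfl | rfl
      · rw [e0]; exact mem_closure_range γh (by norm_num)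
      · rw [e2]; exact mem_closure_range γh (by norm_num))
    40 20 343 27 defsN logN tcN_ok
  have h1 : 1944 ≤ Nat.card (Subgroup.closure (Set.range fun i : Fin 3 => gJ F ω csN i.val)) :=
    card_N_ge hF
  have h2 := hK.2
  have h3 := hz.2
  by_contra hcon
  push Not at hcon
  have h4 : 4 * 1944 ≤ Nat.card σ.ker *
      Nat.card (Subgroup.closure (Set.range fun i : Fin 3 => gJ F ω csN i.val)) :=
    Nat.mul_le_mul hcon h1
  omega


/-! ### the 2-part -/

theorem mem_relsF_cases {r : List ℕ} (hr : r ∈ relsF) :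
    (∃ i < 2, r = List.replicate 15 (2 * i)) ∨ ∃ q ∈ conjF, r = crel q := by
  unfold relsF at hr
  rw [List.mem_append] at hr
  rcases hr with hr | hr
  · left
    simp only [List.mem_cons, List.not_mem_nil, or_false] at hr
    rcases hr with rfl | rfl
    · exact ⟨0, by norm_num, rfl⟩
    · exact ⟨1, by norm_num, rfl⟩
  · right
    obtain ⟨q, hq, rfl⟩ := List.mem_map.mp hr
    exact ⟨q, hq, rfl⟩

theorem mem_relsH_cases {r : List ℕ} (hr : r ∈ relsH) :
    r ∈ [[0, 0, 0], [2, 2, 2], [0, 3, 0, 3], [4, 4, 4, 4, 4]] ∨ (∃ q ∈ conjH, r = crel q) ∨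
      ∃ w ∈ cenH, ∃ g < 3, r = cword w g := by
  unfold relsH at hr
  rw [List.mem_append, List.mem_append] at hr
  rcases hr with (hr | hr) | hr
  · left; exact hr
  · right; left
    obtain ⟨q, hq, rfl⟩ := List.mem_map.mp hr
    exact ⟨q, hq, rfl⟩
  · right; right
    unfold cwords at hr
    rw [List.mem_flatMap] at hr
    obtain ⟨w, hw, hr⟩ := hr
    obtain ⟨g, hg, rfl⟩ := List.mem_map.mp hr
    exact ⟨w, hw, g, List.mem_range.mp hg, rfl⟩

theorem ordF (i : ℕ) : gJ F ω csF i ^ 15 = 1 := by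
  by_cases hi : i < 2
  · have h := relsF_ok
    rw [List.all_eq_true] at h
    apply gJ_pow csF_mem hi 15
    apply h
    interval_cases i
    · exact List.mem_append_left _ (by decide)
    · exact List.mem_append_left _ (by decide)
  · rw [gJ_of_le (by show 2 ≤ i; omega)]
    exact one_pow _

theorem ordH2 : gJ F ω csH 2 ^ 5 = 1 := by
  have h := ordH_ok
  rw [List.all_eq_true] at h
  apply gJ_pow csH_mem (by decide) 5
  apply h
  decide

theorem gJ_pow_eq {cs cs' : List ℕ} (hcs : cs.all memOK = true) (hcs' : cs'.all memOK = true)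
    {i j : ℕ} (hi : i < cs.length) (hj : j < cs'.length) (n : ℕ)
    (h : wordEqB (List.replicate n (cs.getD i 0)) [cs'.getD j 0] = true) :
    gJ F ω cs i ^ n = gJ F ω cs' j := by
  unfold gJ
  rw [← map_pow]
  congr 1
  apply Subtype.ext
  rw [Subgroup.coe_pow, gT_coe hcs hi, gT_coe hcs' hj]
  exact eq_of_wordEqB
    (actsBy_pow (glOf_acts (mem_of_memOK (F := F) (ω := ω) (memOK_getD hcs hi)).1) n)
    (glOf_acts (mem_of_memOK (F := F) (ω := ω) (memOK_getD hcs' hj)).1) h

theorem a_eq : gJ F ω csF 0 ^ 5 = gJ F ω csH 0 ∧ gJ F ω csF 1 ^ 5 = gJ F ω csH 1 := by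
  have h := a_pow
  rw [Bool.and_eq_true] at h
  exact ⟨gJ_pow_eq csF_mem csH_mem (by decide) (by decide) 5 h.1,
    gJ_pow_eq csF_mem csH_mem (by decide) (by decide) 5 h.2⟩

end

section generic

/-- three elements as a sequence -/
def seq3 {Γ : Type u} [One Γ] (a b d : Γ) (i : ℕ) : Γ :=
  if i = 0 then a else if i = 1 then b else if i = 2 then d else 1

theorem seq3_zero {Γ : Type u} [One Γ] (a b d : Γ) : seq3 a b d 0 = a := by
  unfold seq3; rw [if_pos rfl]

theorem seq3_one {Γ : Type u} [One Γ] (a b d : Γ) : seq3 a b d 1 = b := by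
  unfold seq3; rw [if_neg (by norm_num), if_pos rfl]

theorem seq3_two {Γ : Type u} [One Γ] (a b d : Γ) : seq3 a b d 2 = d := by
  unfold seq3; rw [if_neg (by norm_num), if_neg (by norm_num), if_pos rfl]

theorem seq3_ge {Γ : Type u} [One Γ] (a b d : Γ) {i : ℕ} (hi : 3 ≤ i) : seq3 a b d i = 1 := by
  unfold seq3
  rw [if_neg (by omega), if_neg (by omega), if_neg (by omega)]

theorem nat_cases3 (P : ℕ → Prop) (h0 : P 0) (h1 : P 1) (h2 : P 2) (h3 : ∀ i, 3 ≤ i → P i) :
    ∀ i, P i := by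
  intro i
  by_cases hi : 3 ≤ i
  · exact h3 i hi
  · have : i < 3 := by omega
    interval_cases i
    · exact h0
    · exact h1
    · exact h2

/-- the exponents 3, 3, 5 -/
def exp3 (i : ℕ) : ℕ := if i = 2 then 5 else 3

theorem exp3_coprime (i : ℕ) : (exp3 i).Coprime 2 := by
  unfold exp3
  split_ifs <;> norm_num

theorem ev_wA {Γ : Type u} [Group Γ] (γ : ℕ → Γ) :
    ev γ wA = γ 0 ^ 5 * ((γ 1 ^ 5)⁻¹ * (γ 0 ^ 5 * (γ 1 ^ 5)⁻¹)) := by
  have h : wA = List.replicate 5 (2 * 0) ++ (List.replicate 5 (2 * 1 + 1) ++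
      (List.replicate 5 (2 * 0) ++ List.replicate 5 (2 * 1 + 1))) := by decide
  rw [h, ev_append, ev_append, ev_append, Helper1.ev_replicate, Helper1.ev_replicate,
    Helper1.gl_even, Helper1.gl_odd, inv_pow]

end generic

section
variable {F : Type u} [Field F] [Fintype F] {ω : F} [hd : Data F ω]

theorem two_part (hF : Fintype.card F = 4) {Γ : Type u} [Group Γ] [Finite Γ]
    (σ : Γ →* J3 F ω) (hσ : IsStemExtension σ) (hk : IsPGroup 2 σ.ker) :
    Nat.card σ.ker ≤ 1 := by
  haveI : Fact (Nat.Prime 2) := ⟨Nat.prime_two⟩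
  have hs := hσ.1
  have hc := hσ.2.1
  -- the group of order 240
  obtain ⟨γF, hγF, hγFo⟩ := lifts_exist σ hs hk (gJ F ω csF) (fun _ => 15)
    (fun _ => by norm_num) ordF
  have hRF := rel_lift σ hc hk csF_mem γF hγF (fun _ => 15) (fun _ => by norm_num) hγFo
  have hrelsF : ∀ r ∈ relsF, ev γF r = 1 := by
    intro r hr
    have hl : lettersOK 2 r = true := (List.all_eq_true.mp relsF_letters) r hr
    have hok : relOK csF r 0 = true := (List.all_eq_true.mp relsF_ok) r hr
    rcases mem_relsF_cases hr with ⟨i, _, rfl⟩ | ⟨q, _, rfl⟩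
    · rw [Helper1.ev_replicate, Helper1.gl_even]
      exact hγFo i
    · exact hRF.1 q hl hok
  have hz := card_zpowers_le (γF 0) (by norm_num : 0 < 15) (hγFo 0)
  haveI := hz.1
  have e0 : ev γF [0] = γF 0 := ev_single γF 0
  have hFc := card_closure_le γF 2 relsF
    (fun r hr => (List.all_eq_true.mp relsF_letters) r hr) hrelsF [[0]] (by decide)
    (Subgroup.zpowers (γF 0))
    (by
      intro g hg
      rw [List.mem_singleton] at hg
      rw [hg, e0]
      exact Subgroup.mem_zpowers _)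
    40 20 135 16 defsF logF tcF_ok
  have hσγF : (fun k => σ (γF k)) = gJ F ω csF := funext hγF
  have hwA : ev γF wA = 1 := by
    have hw := wA_ok
    rw [Bool.and_eq_true] at hw
    refine ev_eq_one_of_card_le σ γF 2 ?_ wA hw.1 ?_
    · have h240 : Nat.card (Subgroup.closure (Set.range fun i : Fin 2 => σ (γF i.val))) =
          240 := by
        have : (fun i : Fin 2 => σ (γF i.val)) = fun i : Fin 2 => gJ F ω csF i.val :=
          funext fun i => hγF i.val
        rw [this]
        exact card_F hF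
      rw [h240]
      have h1 := hFc.2
      have h2 := hz.2
      omega
    · rw [hσγF]
      exact ev_gJ_eq_one csF_mem wA hw.1 0 hw.2
  rw [ev_wA] at hwA
  -- the group of order 1920
  obtain ⟨D, hD, hDo⟩ := exists_lift_pow_eq_one σ hs hk (gJ F ω csH 2) (n := 5) (by norm_num)
    ordH2
  set A : Γ := γF 0 ^ 5 with hA
  set B : Γ := γF 1 ^ 5 with hB
  have hA3 : A * (A * (A * 1)) = 1 := by
    rw [mul_one, ← pow_three, hA, ← pow_mul]
    exact hγFo 0
  have hB3 : B * (B * (B * 1)) = 1 := by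
    rw [mul_one, ← pow_three, hB, ← pow_mul]
    exact hγFo 1
  have hD5 : D * (D * (D * (D * (D * 1)))) = 1 := by
    have h5 : D ^ 5 = D * (D * (D * (D * (D * 1)))) := by
      rw [pow_succ', pow_succ', pow_succ', pow_succ', pow_succ', pow_zero]
    rw [← h5]
    exact hDo
  have hAB : A * (B⁻¹ * (A * (B⁻¹ * 1))) = 1 := by rw [mul_one]; exact hwA
  have hγH : ∀ i, σ (seq3 A B D i) = gJ F ω csH i := by
    apply nat_cases3
    · rw [seq3_zero, hA, map_pow, hγF 0]; exact a_eq.1
    · rw [seq3_one, hB, map_pow, hγF 1]; exact a_eq.2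
    · rw [seq3_two]; exact hD
    · intro i hi
      rw [seq3_ge _ _ _ hi, map_one, gJ_of_le (by show 3 ≤ i; exact hi)]
  have hγHo : ∀ i, seq3 A B D i ^ exp3 i = 1 := by
    apply nat_cases3
    · rw [seq3_zero]
      show A ^ 3 = 1
      rw [pow_three]; rw [mul_one] at hA3; exact hA3
    · rw [seq3_one]
      show B ^ 3 = 1
      rw [pow_three]; rw [mul_one] at hB3; exact hB3
    · rw [seq3_two]
      exact hDo
    · intro i hi
      rw [seq3_ge _ _ _ hi]
      exact one_pow _
  have g0 : gl (seq3 A B D) 0 = A := (Helper1.gl_even (seq3 A B D) 0).trans (seq3_zero A B D)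
  have g2 : gl (seq3 A B D) 2 = B := (Helper1.gl_even (seq3 A B D) 1).trans (seq3_one A B D)
  have g3 : gl (seq3 A B D) 3 = B⁻¹ := by
    rw [show (3 : ℕ) = 2 * 1 + 1 from rfl, Helper1.gl_odd, seq3_one]
  have g4 : gl (seq3 A B D) 4 = D := (Helper1.gl_even (seq3 A B D) 2).trans (seq3_two A B D)
  have r1 : ev (seq3 A B D) [0, 0, 0] = 1 := by
    show gl (seq3 A B D) 0 * (gl (seq3 A B D) 0 * (gl (seq3 A B D) 0 * 1)) = 1
    rw [g0]; exact hA3
  have r2 : ev (seq3 A B D) [2, 2, 2] = 1 := by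
    show gl (seq3 A B D) 2 * (gl (seq3 A B D) 2 * (gl (seq3 A B D) 2 * 1)) = 1
    rw [g2]; exact hB3
  have r3 : ev (seq3 A B D) [0, 3, 0, 3] = 1 := by
    show gl (seq3 A B D) 0 * (gl (seq3 A B D) 3 * (gl (seq3 A B D) 0 *
      (gl (seq3 A B D) 3 * 1))) = 1
    rw [g0, g3]; exact hAB
  have r4 : ev (seq3 A B D) [4, 4, 4, 4, 4] = 1 := by
    show gl (seq3 A B D) 4 * (gl (seq3 A B D) 4 * (gl (seq3 A B D) 4 *
      (gl (seq3 A B D) 4 * (gl (seq3 A B D) 4 * 1)))) = 1
    rw [g4]; exact hD5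
  have hRH := rel_lift σ hc hk csH_mem (seq3 A B D) hγH exp3 exp3_coprime hγHo
  have hrelsH : ∀ r ∈ relsH, ev (seq3 A B D) r = 1 := by
    intro r hr
    have hl : lettersOK 3 r = true := (List.all_eq_true.mp relsH_letters) r hr
    rcases mem_relsH_cases hr with h4 | ⟨q, hq, rfl⟩ | ⟨w, hw, g, _, rfl⟩
    · simp only [List.mem_cons, List.not_mem_nil, or_false] at h4
      rcases h4 with rfl | rfl | rfl | rfl
      · exact r1
      · exact r2
      · exact r3
      · exact r4
    · exact hRH.1 q hl ((List.all_eq_true.mp conjH_ok) _ (List.mem_map_of_mem hq))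
    · have h := (List.all_eq_true.mp cenH_ok) w hw
      rw [Bool.and_eq_true] at h
      exact hRH.2 w 0 g h.1 h.2
  have hrelsA : ∀ r ∈ relsA, ev (seq3 A B D) r = 1 := by
    intro r hr
    unfold relsA at hr
    simp only [List.mem_cons, List.not_mem_nil, or_false] at hr
    rcases hr with rfl | rfl | rfl
    · exact r1
    · exact r2
    · exact r3
  have hKc := card_closure_le (seq3 A B D) 2 relsA (by decide) hrelsA [] (by simp)
    (⊥ : Subgroup Γ) (by simp) 40 20 12 12 defsA logA tcA_ok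
  have e0' : ev (seq3 A B D) [0] = seq3 A B D 0 := ev_single _ 0
  have e2' : ev (seq3 A B D) [2] = seq3 A B D 1 := ev_single _ 1
  have hH := card_ker_mul_card_le σ hσ 2 hk 3 (gJ F ω csH) (index_H hF) (seq3 A B D)
    (fun i _ => hγH i) relsH (fun r hr => (List.all_eq_true.mp relsH_letters) r hr) hrelsH
    [[0], [2]] (by decide)
    (Subgroup.closure (Set.range fun i : Fin 2 => seq3 A B D i.val))
    (by
      intro g hg
      simp only [List.mem_cons, List.not_mem_nil, or_false] at hg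
      rcases hg with rfl | rfl
      · rw [e0']; exact mem_closure_range _ (by norm_num)
      · rw [e2']; exact mem_closure_range _ (by norm_num))
    40 20 374 160 defsH logH tcH_ok
  have h1 : Nat.card (Subgroup.closure (Set.range fun i : Fin 3 => gJ F ω csH i.val)) = 1920 :=
    card_H hF
  rw [h1] at hH
  have h2 := hKc.2
  rw [Subgroup.card_bot] at h2
  omega

/-! ### the upper bound -/

theorem sq_not_dvd (r : ℕ) (hr : r.Prime) (h2 : r ≠ 2) (h3 : r ≠ 3) : ¬ r ^ 2 ∣ 50232960 := by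
  intro hdvd
  have hc : Nat.Coprime r 31104 := by
    rw [Nat.Prime.coprime_iff_not_dvd hr]
    intro h
    have h' : r ∣ 2 ^ 7 * 3 ^ 5 := by
      have : (31104 : ℕ) = 2 ^ 7 * 3 ^ 5 := by norm_num
      rw [← this]; exact h
    rcases (Nat.Prime.dvd_mul hr).mp h' with h | h
    · exact h2 ((Nat.prime_dvd_prime_iff_eq hr Nat.prime_two).mp (hr.dvd_of_dvd_pow h))
    · exact h3 ((Nat.prime_dvd_prime_iff_eq hr Nat.prime_three).mp (hr.dvd_of_dvd_pow h))
  have hc2 : Nat.Coprime (r ^ 2) 31104 := Nat.Coprime.pow_left 2 hc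
  have h4 : r ^ 2 ∣ 1615 := by
    apply Nat.Coprime.dvd_of_dvd_mul_right hc2
    have : (1615 * 31104 : ℕ) = 50232960 := by norm_num
    rw [this]; exact hdvd
  have h5 : r ^ 2 ≤ 1615 := Nat.le_of_dvd (by norm_num) h4
  have h6 : r ≤ 40 := by
    by_contra hcon
    push Not at hcon
    have : 41 ^ 2 ≤ r ^ 2 := Nat.pow_le_pow_left hcon 2
    omega
  have h7 := hr.two_le
  interval_cases r <;> omega

/-- the kernel of a finite stem extension of `J₃` has order dividing 3 -/
theorem upper (hF : Fintype.card F = 4) {Γ : Type u} [Group Γ] [Finite Γ]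
    (σ : Γ →* J3 F ω) (hσ : IsStemExtension σ) : Nat.card σ.ker ∣ 3 := by
  haveI := finite_J3 (F := F) (ω := ω) hF
  apply dvd_three_of _ Nat.card_pos.ne'
  · haveI : Fact (Nat.Prime 2) := ⟨Nat.prime_two⟩
    obtain ⟨Δ, _, _, τ, hτ, hkτ, hcard⟩ := exists_pker σ hσ 2
    have h := two_part hF τ hτ hkτ
    rw [hcard] at h
    by_contra hne
    have h1 : 2 ^ 1 ≤ 2 ^ (Nat.card σ.ker).factorization 2 :=
      Nat.pow_le_pow_right (by norm_num) (Nat.one_le_iff_ne_zero.mpr hne)
    omega
  · haveI : Fact (Nat.Prime 3) := ⟨Nat.prime_three⟩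
    obtain ⟨Δ, _, _, τ, hτ, hkτ, hcard⟩ := exists_pker σ hσ 3
    have h := three_part hF τ hτ hkτ
    rwa [hcard] at h
  · intro r hr h2 h3
    haveI : Fact r.Prime := ⟨hr⟩
    apply Cfsg.Agent.Lib.Helper11.SchurJ.not_dvd_of_sq_not_dvd σ hσ r
    rw [card_J3 hF]
    exact sq_not_dvd r hr h2 h3

end

end Cfsg.Agent.Lib.Helper10.J3Mult
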