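import Cfsg.Agent.Lib.Helper28.J3CentDefs
import Cfsg.Agent.Lib.Helper10.J3MultData
import Cfsg.Agent.Lib.Helper10.J3MultTabF
import Cfsg.Agent.Lib.Helper10.J3MultTabN

/-!
# The Boolean checks for the upper bound of the Schur multiplier of the third Janko group
-/

set_option autoImplicit false

namespace Cfsg.Agent.Lib.Helper10.J3Mult

open Cfsg.Agent.Lib.Helper28.F4 Cfsg.Agent.Lib.Helper28.J3Data Cfsg.Agent.Lib.Helper28.J3AutData
open Cfsg.Agent.Lib.Helper28.J3CentData Cfsg.Agent.Lib.Helper28.J3CentCert
open Cfsg.Agent.Lib.Helper28.J3AutCert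
open Cfsg.Agent.Lib.Helper28.BSGSMat (Tree Entry sortedB)

/-- the code of a letter: generator `l / 2`, inverted when `l` is odd -/
def lcode (cs : List ℕ) (l : ℕ) : ℕ :=
  bif Nat.beq (l % 2) 0 then cs.getD (l / 2) 0 else inv (cs.getD (l / 2) 0)

/-- the matrix of the word is the given power of the scalar `ω` -/
def relOK (cs : List ℕ) (r : List ℕ) (e : ℕ) : Bool :=
  wordEqB (r.map (lcode cs)) (List.replicate e sc)

/-- all letters of the word are among the first `2 t` -/
def lettersOK (t : ℕ) (r : List ℕ) : Bool := r.all (fun l => decide (l < 2 * t))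

/-- the codes of the generators of the group of order 240 -/
def csF : List ℕ := [c1c, c2c]

/-- the codes of the generators of the group of order 1920 -/
def csH : List ℕ := [ac, a2c, dc]

/-- the codes of the generators of the group of order 1944 -/
def csN : List ℕ := [s1c, s3c, s2c]

/-- an entry of the table of the group of order 240: group table without scalars -/
def fOK (e : Entry) : Bool :=
  invOK e.2.1 && tabKey e && tabReach FTAB csF e && tabClosed FTAB csF e &&
    (!(scalB [e.2.1]) || wordEqB [e.2.1] [])

/-- an entry of the table of the group of order 5832: group table -/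
def nOK (e : Entry) : Bool :=
  invOK e.2.1 && tabKey e && tabReach NTAB csN e && tabClosed NTAB csN e

end Cfsg.Agent.Lib.Helper10.J3Mult
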