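import Cfsg.Agent.Lib.Helper28.J3Cent
import Cfsg.Agent.Lib.Helper10.J3MultDefs
import Cfsg.Agent.Lib.Helper1.WeakL11

/-!
# From codes to elements of the third Janko group

A list of codes of matrices (each one sifting into the triple cover) gives elements of the triple cover and
of `J₃`; a word in them whose matrix is a power of the scalar `ω` is trivial in `J₃`.
-/

set_option autoImplicit false

namespace Cfsg.Agent.Lib.Helper10.J3Mult

open Cfsg.Spor Cfsg.Agent.Lib.Helper28.F4 Cfsg.Agent.Lib.Helper28.J3Data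
open Cfsg.Agent.Lib.Helper28.J3Cert Cfsg.Agent.Lib.Helper28.J3AutData
open Cfsg.Agent.Lib.Helper28.J3AutCert Cfsg.Agent.Lib.Helper28.J3
open Cfsg.Agent.Lib.Helper28.J3Aut Cfsg.Agent.Lib.Helper28.J3CentData
open Cfsg.Agent.Lib.Helper28.J3CentCert Cfsg.Agent.Lib.Helper28.J3Cent
open Cfsg.Agent.Lib.Helper28.BSGSMat (Tree Entry sortedB sortedB_nodup)
open Cfsg.H5.TCk Cfsg.Agent.Lib.Helper10.Weak
open scoped MatrixGroups

section
variable {F : Type*} [Field F] [Fintype F] {ω : F} [hd : Data F ω]

theorem mem_of_memOK {c : ℕ} (h : memOK c = true) :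
    invOK c = true ∧ glOf ω c ∈ threeJ3 F ω := by
  unfold memOK at h
  rw [Bool.and_eq_true] at h
  refine ⟨h.1, ?_⟩
  rw [three_eq]
  exact sift_mem h.1 h.2

/-- the element of the triple cover of the `i`-th code of a list (`1` beyond the list) -/
noncomputable def gT (F : Type*) [Field F] [Fintype F] (ω : F) [Data F ω] (cs : List ℕ) (i : ℕ) :
    threeJ3 F ω :=
  if h : memOK (cs.getD i 0) = true ∧ i < cs.length then
    ⟨glOf ω (cs.getD i 0), (mem_of_memOK h.1).2⟩
  else 1

/-- the element of `J₃` of the `i`-th code of a list -/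
noncomputable def gJ (F : Type*) [Field F] [Fintype F] (ω : F) [Data F ω] (cs : List ℕ) (i : ℕ) :
    J3 F ω :=
  pr F ω (gT F ω cs i)

theorem memOK_getD {cs : List ℕ} (hcs : cs.all memOK = true) {i : ℕ} (hi : i < cs.length) :
    memOK (cs.getD i 0) = true := by
  rw [List.all_eq_true] at hcs
  apply hcs
  rw [List.getD_eq_getElem _ _ hi]
  exact List.getElem_mem hi

theorem gT_coe {cs : List ℕ} (hcs : cs.all memOK = true) {i : ℕ} (hi : i < cs.length) :
    ((gT F ω cs i : threeJ3 F ω) : GL F9 F) = glOf ω (cs.getD i 0) := by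
  unfold gT
  rw [dif_pos ⟨memOK_getD hcs hi, hi⟩]

theorem gT_of_le {cs : List ℕ} {i : ℕ} (hi : cs.length ≤ i) : gT F ω cs i = 1 := by
  unfold gT
  rw [dif_neg]
  intro h
  omega

theorem gl_acts {cs : List ℕ} (hcs : cs.all memOK = true) {l : ℕ} (hl : l < 2 * cs.length) :
    ActsBy ω ((gl (gT F ω cs) l : threeJ3 F ω) : GL F9 F) [lcode cs l] := by
  have hi : l / 2 < cs.length := by omega
  have hinv : invOK (cs.getD (l / 2) 0) = true := (mem_of_memOK (F := F) (ω := ω)
    (memOK_getD hcs hi)).1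
  unfold gl lcode
  by_cases h : l % 2 = 0
  · rw [if_pos h, gT_coe hcs hi]
    have hb : Nat.beq (l % 2) 0 = true := by rw [h]; rfl
    rw [hb, cond_true]
    exact glOf_acts hinv
  · rw [if_neg h, Subgroup.coe_inv, gT_coe hcs hi]
    have hb : Nat.beq (l % 2) 0 = false := by
      cases hbb : Nat.beq (l % 2) 0
      · rfl
      · exact absurd (Nat.eq_of_beq_eq_true hbb) h
    rw [hb, cond_false]
    exact glOf_inv_acts hinv

theorem ev_acts {cs : List ℕ} (hcs : cs.all memOK = true) (w : List ℕ)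
    (hw : lettersOK cs.length w = true) :
    ActsBy ω ((ev (gT F ω cs) w : threeJ3 F ω) : GL F9 F) (w.map (lcode cs)) := by
  induction w with
  | nil => exact actsBy_one
  | cons l w ih =>
    unfold lettersOK at hw
    rw [List.all_cons, Bool.and_eq_true] at hw
    have hl : l < 2 * cs.length := of_decide_eq_true hw.1
    rw [List.map_cons]
    show ActsBy ω ((gl (gT F ω cs) l * ev (gT F ω cs) w : threeJ3 F ω) : GL F9 F) _
    rw [Subgroup.coe_mul]
    exact actsBy_cons (gl_acts hcs hl) (ih hw.2)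

/-- a word whose matrix is a power of the scalar `ω` -/
theorem ev_gT_eq {cs : List ℕ} (hcs : cs.all memOK = true) (r : List ℕ)
    (hr : lettersOK cs.length r = true) (e : ℕ) (h : relOK cs r e = true) :
    ev (gT F ω cs) r = sThree F ω ^ e := by
  apply Subtype.ext
  rw [Subgroup.coe_pow]
  exact eq_of_wordEqB (ev_acts hcs r hr) (actsBy_pow (glOf_acts sc_split.2.1) e) h

/-- ... is trivial in `J₃` -/
theorem ev_gJ_eq_one {cs : List ℕ} (hcs : cs.all memOK = true) (r : List ℕ)
    (hr : lettersOK cs.length r = true) (e : ℕ) (h : relOK cs r e = true) :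
    ev (gJ F ω cs) r = 1 := by
  have h1 : ev (gJ F ω cs) r = pr F ω (ev (gT F ω cs) r) := (ev_comp (pr F ω) (gT F ω cs) r).symm
  rw [h1, ev_gT_eq hcs r hr e h]
  exact pr_eq_one.mpr (Subgroup.pow_mem _ sThree_central e)

/-- an exact matrix identity gives an identity in the triple cover -/
theorem ev_gT_eq_one {cs : List ℕ} (hcs : cs.all memOK = true) (r : List ℕ)
    (hr : lettersOK cs.length r = true) (h : relOK cs r 0 = true) :
    ev (gT F ω cs) r = 1 := by
  rw [ev_gT_eq hcs r hr 0 h, pow_zero]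

end

end Cfsg.Agent.Lib.Helper10.J3Mult
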