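import Cfsg.Agent.Lib.Helper10.J3MultDefs

/-!
# Certificates for the upper bound of the Schur multiplier of the third Janko group:
the groups of orders 240, 12 and 1920
-/

set_option autoImplicit false

namespace Cfsg.Agent.Lib.Helper10.J3Mult

open Cfsg.Agent.Lib.Helper28.F4 Cfsg.Agent.Lib.Helper28.J3Data Cfsg.Agent.Lib.Helper28.J3AutData
open Cfsg.Agent.Lib.Helper28.J3CentData Cfsg.Agent.Lib.Helper28.J3CentCert
open Cfsg.Agent.Lib.Helper28.J3AutCert Cfsg.H5.TCk Cfsg.H5.StemTC
open Cfsg.Agent.Lib.Helper28.BSGSMat (Tree Entry sortedB)

/-! ### the group of order 240 -/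

theorem len_FTAB : FTAB.toList.length = 240 := by decide +kernel

theorem ftab_ok : FTAB.toList.all fOK = true := by decide +kernel

theorem ftab_one : findW FTAB [] = true := by decide +kernel

theorem ftab_sorted : sortedB (FTAB.toList.map fun e => e.1) = true := by decide +kernel

theorem csF_mem : csF.all memOK = true := by decide +kernel

theorem relsF_letters : relsF.all (lettersOK 2) = true := by decide +kernel

theorem relsF_ok : relsF.all (fun r => relOK csF r 0) = true := by decide +kernel

theorem wA_ok : (lettersOK 2 wA && relOK csF wA 0) = true := by decide +kernel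

theorem tcF_ok : check 40 20 (2 * 2) 135 16 defsF relsF [[0]] logF = true := by decide +kernel

/-! ### the group of order 12 -/

theorem tcA_ok : check 40 20 (2 * 2) 12 12 defsA relsA [] logA = true := by decide +kernel

/-! ### the group of order 1920 -/

theorem csH_mem : csH.all memOK = true := by decide +kernel

theorem csH_in : csH.all (fun c => invOK c && findW CTAB [c]) = true := by decide +kernel

theorem a_pow : (wordEqB (List.replicate 5 c1c) [ac] && wordEqB (List.replicate 5 c2c) [a2c]) = true := by
  decide +kernel

theorem relsH_letters : relsH.all (lettersOK 3) = true := by decide +kernel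

theorem conjH_ok : (conjH.map crel).all (fun r => relOK csH r 0) = true := by decide +kernel

theorem cenH_ok : cenH.all (fun r => lettersOK 3 r && relOK csH r 0) = true := by decide +kernel

theorem ordH_ok : ([[0, 0, 0], [2, 2, 2], [4, 4, 4, 4, 4]].all (fun r => relOK csH r 0)) = true := by
  decide +kernel

theorem cgens_words : (lettersOK 3 wU && lettersOK 3 wV && lettersOK 3 wQ &&
    wordEqB (wU.map (lcode csH)) [uc] && wordEqB (wV.map (lcode csH)) [vc] &&
    wordEqB (wQ.map (lcode csH)) [qc]) = true := by decide +kernel

theorem tcH_ok : check 40 20 (2 * 3) 374 160 defsH relsH [[0], [2]] logH = true := by decide +kernel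

end Cfsg.Agent.Lib.Helper10.J3Mult
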