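import Cfsg.Agent.Lib.Helper10.J3MultDefs

/-!
# Certificates for the upper bound of the Schur multiplier of the third Janko group:
the group of order 1944
-/

set_option autoImplicit false

namespace Cfsg.Agent.Lib.Helper10.J3Mult

open Cfsg.Agent.Lib.Helper28.F4 Cfsg.Agent.Lib.Helper28.J3Data Cfsg.Agent.Lib.Helper28.J3AutData
open Cfsg.Agent.Lib.Helper28.J3CentData Cfsg.Agent.Lib.Helper28.J3CentCert
open Cfsg.Agent.Lib.Helper28.J3AutCert Cfsg.H5.TCk Cfsg.H5.StemTC
open Cfsg.Agent.Lib.Helper28.BSGSMat (Tree Entry sortedB)

set_option maxRecDepth 1000000 in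
theorem len_NTAB : NTAB.toList.length = 5832 := by decide +kernel

theorem ntab_one : findW NTAB [] = true := by decide +kernel

set_option maxRecDepth 1000000 in
theorem ntab_sorted : sortedB (NTAB.toList.map fun e => e.1) = true := by decide +kernel

theorem csN_mem : csN.all memOK = true := by decide +kernel

theorem relsK_letters : relsK.all (lettersOK 2) = true := by decide +kernel

theorem relsK_ok : relsK.all (fun r => relOK csN r 0) = true := by decide +kernel

theorem tcK_ok : check 40 20 (2 * 2) 195 27 defsK relsK [[0]] logK = true := by decide +kernel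

theorem relsN_letters : relsN.all (lettersOK 3) = true := by decide +kernel

theorem ordN_ok : ([List.replicate 8 0, List.replicate 8 2, List.replicate 8 4].all (fun r => relOK csN r 0)) = true := by
  decide +kernel

theorem conjN_ok : (conjN.map crel).all (fun r => relOK csN r 0) = true := by decide +kernel

theorem cenN_ok : cenN.all (fun q => lettersOK 3 q.1 && relOK csN q.1 q.2) = true := by decide +kernel

set_option maxRecDepth 1000000 in
theorem tcN_ok : check 40 20 (2 * 3) 343 27 defsN relsN [[0], [2]] logN = true := by decide +kernel

end Cfsg.Agent.Lib.Helper10.J3Mult
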