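import Cfsg.Agent.Lib.Helper10.J3MultDefs

/-!
# Certificates for the table of the group of order 5832: chunk 1

Generated by a script.
-/

set_option autoImplicit false

namespace Cfsg.Agent.Lib.Helper10.J3Mult

open Cfsg.Agent.Lib.Helper28.F4 Cfsg.Agent.Lib.Helper28.J3Data Cfsg.Agent.Lib.Helper28.J3AutData
open Cfsg.Agent.Lib.Helper28.BSGSMat (Tree Entry sortedB)

set_option maxRecDepth 1000000 in
theorem ntab1_ok : (chunkN 1024 NTAB.toList 1).all nOK = true := by decide +kernel

end Cfsg.Agent.Lib.Helper10.J3Mult
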