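import Cfsg.Agent.Lib.Helper10.J3MultBridge
import Cfsg.Agent.Lib.Helper10.J3MultCertF
import Cfsg.Agent.Lib.Helper10.J3MultCertN
import Cfsg.Agent.Lib.Helper10.J3MultCertN0
import Cfsg.Agent.Lib.Helper10.J3MultCertN1
import Cfsg.Agent.Lib.Helper10.J3MultCertN2
import Cfsg.Agent.Lib.Helper10.J3MultCertN3
import Cfsg.Agent.Lib.Helper10.J3MultCertN4
import Cfsg.Agent.Lib.Helper10.J3MultCertN5
import Cfsg.Agent.Lib.Helper13.WeakL10

/-!
# Three local subgroups of the third Janko group

The subgroups of `J₃` generated by the images of three lists of codes: a Frobenius group of order 240, the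
centralizer of an involution (order 1920, odd index) and a group of order divisible by 1944 whose index is
prime to 3.
-/

set_option autoImplicit false

namespace Cfsg.Agent.Lib.Helper10.J3Mult

open Cfsg.Spor Cfsg.Agent.Lib.Helper28.F4 Cfsg.Agent.Lib.Helper28.J3Data
open Cfsg.Agent.Lib.Helper28.J3Cert Cfsg.Agent.Lib.Helper28.J3AutData
open Cfsg.Agent.Lib.Helper28.J3AutCert Cfsg.Agent.Lib.Helper28.J3
open Cfsg.Agent.Lib.Helper28.J3Aut Cfsg.Agent.Lib.Helper28.J3CentData
open Cfsg.Agent.Lib.Helper28.J3CentCert Cfsg.Agent.Lib.Helper28.J3Cent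
open Cfsg.Agent.Lib.Helper28.BSGSMat (Tree Entry sortedB sortedB_nodup)
open Cfsg.H5.TCk Cfsg.Agent.Lib.Helper10.Weak
open scoped MatrixGroups

section
variable {F : Type*} [Field F] [Fintype F] {ω : F} [hd : Data F ω]

/-- the subgroup of the triple cover generated by the codes of a list -/
noncomputable def Tsub (F : Type*) [Field F] [Fintype F] (ω : F) [Data F ω] (cs : List ℕ) :
    Subgroup (threeJ3 F ω) :=
  Subgroup.closure (Set.range fun i : Fin cs.length => gT F ω cs i.val)

/-- the subgroup of `J₃` generated by the codes of a list -/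
noncomputable def Jsub (F : Type*) [Field F] [Fintype F] (ω : F) [Data F ω] (cs : List ℕ) :
    Subgroup (J3 F ω) :=
  Subgroup.closure (Set.range fun i : Fin cs.length => gJ F ω cs i.val)

theorem Jsub_eq_map (cs : List ℕ) : Jsub F ω cs = (Tsub F ω cs).map (pr F ω) :=
  closure_map_range (pr F ω) (gT F ω cs) cs.length

theorem Tsub_map {cs : List ℕ} (hcs : cs.all memOK = true) :
    (Tsub F ω cs).map (threeJ3 F ω).subtype = genGroup ω cs := by
  unfold Tsub genGroup
  rw [MonoidHom.map_closure]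
  congr 1
  ext s
  constructor
  · rintro ⟨x, ⟨i, rfl⟩, rfl⟩
    show ((gT F ω cs i.val : threeJ3 F ω) : GL F9 F) ∈ semGens ω cs
    rw [gT_coe hcs i.2, List.getD_eq_getElem _ _ i.2]
    exact mem_semGens (List.getElem_mem i.2)
  · intro hs
    have hs' : s ∈ semGens ω cs := hs
    unfold semGens at hs'
    obtain ⟨g, hg, rfl⟩ := List.mem_map.mp hs'
    obtain ⟨k, hk, rfl⟩ := List.mem_iff_getElem.mp hg
    refine ⟨gT F ω cs k, ⟨⟨k, hk⟩, rfl⟩, ?_⟩
    show ((gT F ω cs k : threeJ3 F ω) : GL F9 F) = _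
    rw [gT_coe hcs hk, List.getD_eq_getElem _ _ hk]

theorem card_Tsub {cs : List ℕ} (hcs : cs.all memOK = true) :
    Nat.card (Tsub F ω cs) = Nat.card (genGroup ω cs) := by
  rw [← Tsub_map hcs]
  exact (Subgroup.card_map_of_injective (Subgroup.subtype_injective _)).symm

theorem coe_mem_genGroup {cs : List ℕ} (hcs : cs.all memOK = true) {z : threeJ3 F ω}
    (hz : z ∈ Tsub F ω cs) : (z : GL F9 F) ∈ genGroup ω cs := by
  rw [← Tsub_map hcs]
  exact ⟨z, hz, rfl⟩

omit hd in
theorem valid_of_mem {cs : List ℕ} (hcs : cs.all memOK = true) : ∀ g ∈ cs, invOK g = true := by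
  intro g hg
  rw [List.all_eq_true] at hcs
  have h := hcs g hg
  unfold memOK at h
  rw [Bool.and_eq_true] at h
  exact h.1

theorem ker_pr : (pr F ω).ker = Subgroup.center (threeJ3 F ω) := QuotientGroup.ker_mk' _

/-! ### the group of order 1944 -/

theorem nt_chunks : ∀ i, i < 6 → ((chunkN 1024 NTAB.toList i).all nOK) = true := by
  intro i hi
  interval_cases i
  · exact ntab0_ok
  · exact ntab1_ok
  · exact ntab2_ok
  · exact ntab3_ok
  · exact ntab4_ok
  · exact ntab5_ok

theorem nt_all : ∀ e ∈ NTAB.toList, nOK e = true :=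
  all_of_chunks (s := 1024) (by norm_num) NTAB.toList nOK 6 (by rw [len_NTAB]; norm_num) nt_chunks

theorem nt_split {e : Entry} (he : e ∈ NTAB.toList) :
    invOK e.2.1 = true ∧ tabKey e = true ∧ tabReach NTAB csN e = true ∧
      tabClosed NTAB csN e = true := by
  have h := nt_all e he
  unfold nOK at h
  simp only [Bool.and_eq_true] at h
  exact ⟨h.1.1.1, h.1.1.2, h.1.2, h.2⟩

theorem nt_valid : TableValid NTAB := fun e he => (nt_split he).1

theorem card_genN : Nat.card (genGroup ω csN) = 5832 := by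
  rw [tab_card nt_valid csN (valid_of_mem csN_mem) ntab_one
    (fun e he => (nt_split he).2.2.2) (fun e he => (nt_split he).2.2.1)
    (fun e he => (nt_split he).2.1) ntab_sorted, len_NTAB]

theorem dvd_card_N (hF : Fintype.card F = 4) : 1944 ∣ Nat.card (Jsub F ω csN) := by
  haveI := finite_three (F := F) (ω := ω)
  have h := card_dvd_card_map_mul_card_ker (pr F ω) (Tsub F ω csN)
  rw [← Jsub_eq_map, ker_pr, center_card hF, card_Tsub csN_mem, card_genN] at h
  have h2 : (1944 * 3 : ℕ) ∣ Nat.card (Jsub F ω csN) * 3 := by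
    have : (1944 * 3 : ℕ) = 5832 := by norm_num
    rw [this]; exact h
  exact Nat.dvd_of_mul_dvd_mul_right (by norm_num) h2

theorem index_N (hF : Fintype.card F = 4) : ¬ 3 ∣ (Jsub F ω csN).index := by
  intro h3
  obtain ⟨k, hk⟩ := dvd_card_N (F := F) (ω := ω) hF
  have h := Subgroup.card_mul_index (Jsub F ω csN)
  rw [card_J3 hF, hk] at h
  obtain ⟨m, hm⟩ := h3
  rw [hm] at h
  have h4 : (3 : ℕ) ∣ 25840 := by
    refine ⟨k * m, ?_⟩
    have : 1944 * (k * (3 * m)) = 1944 * 25840 := by rw [← mul_assoc, h]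
    have := Nat.eq_of_mul_eq_mul_left (by norm_num) this
    rw [← this]; ring
  norm_num at h4

theorem card_N_ge (hF : Fintype.card F = 4) : 1944 ≤ Nat.card (Jsub F ω csN) := by
  haveI := finite_three (F := F) (ω := ω)
  haveI : Finite (J3 F ω) := Nat.finite_of_card_ne_zero (by rw [card_J3 hF]; norm_num)
  exact Nat.le_of_dvd Nat.card_pos (dvd_card_N hF)

/-! ### the group of order 240 -/

theorem ft_all : ∀ e ∈ FTAB.toList, fOK e = true := by
  have h := ftab_ok
  rw [List.all_eq_true] at h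
  exact h

theorem ft_split {e : Entry} (he : e ∈ FTAB.toList) :
    invOK e.2.1 = true ∧ tabKey e = true ∧ tabReach FTAB csF e = true ∧
      tabClosed FTAB csF e = true ∧ (scalB [e.2.1] = false ∨ wordEqB [e.2.1] [] = true) := by
  have h := ft_all e he
  unfold fOK at h
  simp only [Bool.and_eq_true, Bool.or_eq_true, Bool.not_eq_true'] at h
  exact ⟨h.1.1.1.1, h.1.1.1.2, h.1.1.2, h.1.2, h.2⟩

theorem ft_valid : TableValid FTAB := fun e he => (ft_split he).1

theorem card_genF : Nat.card (genGroup ω csF) = 240 := by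
  rw [tab_card ft_valid csF (valid_of_mem csF_mem) ftab_one
    (fun e he => (ft_split he).2.2.2.1) (fun e he => (ft_split he).2.2.1)
    (fun e he => (ft_split he).2.1) ftab_sorted, len_FTAB]

theorem F_central (hF : Fintype.card F = 4) (z : threeJ3 F ω)
    (hz : z ∈ Subgroup.center (threeJ3 F ω)) (hzC : z ∈ Tsub F ω csF) : z = 1 := by
  have hzG := coe_mem_genGroup csF_mem hzC
  obtain ⟨e, he, hze⟩ := tab_le ft_valid csF (valid_of_mem csF_mem) ftab_one
    (fun e he => (ft_split he).2.2.2.1) _ hzG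
  obtain ⟨c, hc, hcs⟩ := central_cases hF z hz
  rw [hze] at hcs
  have h1 := scalB_of_scalar (glOf_acts (ft_split he).1) hc hcs
  rcases (ft_split he).2.2.2.2 with h2 | h2
  · rw [h2] at h1
    exact absurd h1 Bool.false_ne_true
  · apply Subtype.ext
    rw [hze]
    exact eq_one_of_wordEqB (glOf_acts (ft_split he).1) h2

theorem card_F (hF : Fintype.card F = 4) : Nat.card (Jsub F ω csF) = 240 := by
  rw [Jsub_eq_map, card_map_eq_of_inf_ker, card_Tsub csF_mem, card_genF]
  rw [eq_bot_iff]
  intro z hz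
  rw [Subgroup.mem_inf, ker_pr] at hz
  rw [Subgroup.mem_bot]
  exact F_central hF z hz.2 hz.1

/-! ### the group of order 1920 -/

theorem csH_split {c : ℕ} (hc : c ∈ csH) : invOK c = true ∧ findW CTAB [c] = true := by
  have h := csH_in
  rw [List.all_eq_true] at h
  have h1 := h c hc
  rwa [Bool.and_eq_true] at h1

theorem genH_eq : genGroup ω csH = C0 F ω := by
  apply le_antisymm
  · unfold genGroup
    rw [Subgroup.closure_le]
    intro s hs
    have hs' : s ∈ semGens ω csH := hs
    unfold semGens at hs'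
    obtain ⟨g, hg, rfl⟩ := List.mem_map.mp hs'
    rw [SetLike.mem_coe, mem_C0]
    exact findW_spec ct_valid (glOf_acts (csH_split hg).1) (csH_split hg).2
  · have hw := cgens_words
    simp only [Bool.and_eq_true] at hw
    obtain ⟨⟨⟨⟨⟨lU, lV⟩, lQ⟩, eU⟩, eV⟩, eQ⟩ := hw
    have key : ∀ (w : List ℕ) (c : ℕ), lettersOK 3 w = true → invOK c = true →
        wordEqB (w.map (lcode csH)) [c] = true → glOf ω c ∈ genGroup ω csH := by
      intro w c lw hc hwc
      have h1 : ((ev (gT F ω csH) w : threeJ3 F ω) : GL F9 F) = glOf ω c :=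
        eq_of_wordEqB (ev_acts csH_mem w lw) (glOf_acts hc) hwc
      rw [← h1]
      exact coe_mem_genGroup csH_mem (ev_mem_closure (gT F ω csH) 3 w lw)
    unfold C0 genGroup
    rw [Subgroup.closure_le]
    intro s hs
    have hs' : s ∈ semGens ω cgens := hs
    unfold semGens at hs'
    obtain ⟨g, hg, rfl⟩ := List.mem_map.mp hs'
    simp only [cgens, List.mem_cons, List.not_mem_nil, or_false] at hg
    rcases hg with rfl | rfl | rfl
    · exact key wU uc lU uc_valid eU
    · exact key wV vc lV vc_valid eV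
    · exact key wQ qc lQ (cg_valid qc (by simp [cgens])) eQ

theorem H_central (hF : Fintype.card F = 4) (z : threeJ3 F ω)
    (hz : z ∈ Subgroup.center (threeJ3 F ω)) (hzC : z ∈ Tsub F ω csH) : z = 1 := by
  apply C0_central hF z hz
  rw [← genH_eq]
  exact coe_mem_genGroup csH_mem hzC

theorem card_H (hF : Fintype.card F = 4) : Nat.card (Jsub F ω csH) = 1920 := by
  rw [Jsub_eq_map, card_map_eq_of_inf_ker, card_Tsub csH_mem, genH_eq, card_C0]
  rw [eq_bot_iff]
  intro z hz
  rw [Subgroup.mem_inf, ker_pr] at hz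
  rw [Subgroup.mem_bot]
  exact H_central hF z hz.2 hz.1

theorem index_H (hF : Fintype.card F = 4) : ¬ 2 ∣ (Jsub F ω csH).index := by
  intro h2
  have h := Subgroup.card_mul_index (Jsub F ω csH)
  rw [card_J3 hF, card_H hF] at h
  obtain ⟨m, hm⟩ := h2
  rw [hm] at h
  omega

end

end Cfsg.Agent.Lib.Helper10.J3Mult
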