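import Mathlib
import Cfsg.Agent.Lib.Helper15.PSpI3

/-!
# Frames adapted to an isometry with square `±1` of an alternating space
-/

set_option autoImplicit false

namespace Cfsg.Agent.Lib.Helper10.Kron

open Module Submodule
open Cfsg.Agent.Lib.Helper15 Cfsg.Agent.Lib.Helper15.PSpI

section frames

variable {F V : Type*} [Field F] [AddCommGroup V] [Module F V] [FiniteDimensional F V]
variable {B : V →ₗ[F] V →ₗ[F] F}

/-- **Frames for `x² = -1`**: vectors `u j` with `B (u j) (x (u k)) = δ σ`. -/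
theorem exists_frame_neg [Fintype F] (hodd : Fintype.card F % 2 = 1) (h2 : (2 : F) ≠ 0)
    (halt : ∀ x, B x x = 0) (x : V →ₗ[F] V)
    (hx2 : ∀ v, x (x v) = (-1 : F) • v) (hiso : ∀ u v, B (x u) (x v) = B u v) :
    ∀ (n : ℕ) (V' : Submodule F V), V'.map x = V' → NondegOn B V' → finrank F V' = 2 * n →
      ∀ σ : Fin n → F, (∀ j, σ j ≠ 0) →
      ∃ u : Fin n → V, (∀ j, u j ∈ V') ∧ (∀ j k, B (u j) (u k) = 0) ∧
        (∀ j k, B (u j) (x (u k)) = if j = k then σ j else 0) := by
  have hm1 : (-1 : F) ≠ 0 := neg_ne_zero.mpr one_ne_zero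
  have hxx : ∀ v, x (x v) = -v := fun v => by rw [hx2, neg_one_smul]
  intro n
  induction n with
  | zero =>
    intro V' _ _ _ σ _
    exact ⟨Fin.elim0, fun j => j.elim0, fun j => j.elim0, fun j => j.elim0⟩
  | succ n ih =>
    intro V' hV'x hV'n hfr σ hσ
    have hxV' : ∀ v ∈ V', x v ∈ V' := fun v hv => by rw [← hV'x]; exact ⟨v, hv, rfl⟩
    have hV'0 : V' ≠ ⊥ := by
      intro h
      rw [h, finrank_bot] at hfr
      omega
    -- a vector with `B u (x u) ≠ 0`
    have hex : ∃ u₁ ∈ V', B u₁ (x u₁) ≠ 0 := by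
      by_contra hcon
      push Not at hcon
      apply hV'0
      rw [eq_bot_iff]
      intro u hu
      rw [mem_bot]
      apply hV'n u hu
      intro v hv
      rw [← hV'x] at hv
      obtain ⟨v', hv', rfl⟩ := hv
      have h1 := hcon (u + v') (V'.add_mem hu hv')
      simp only [map_add, LinearMap.add_apply] at h1
      rw [hcon u hu, hcon v' hv', zero_add, add_zero] at h1
      have h3 : B v' (x u) = B u (x v') := by
        rw [← hiso v' (x u), hxx, map_neg, alt_swap B halt, neg_neg]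
      rw [h3] at h1
      have h4 : (2 : F) * B u (x v') = 0 := by linear_combination h1
      exact (mul_eq_zero.mp h4).resolve_left h2
    obtain ⟨u₁, hu₁, hα⟩ := hex
    set α := B u₁ (x u₁) with hαdef
    obtain ⟨ξ, η, hξη⟩ : ∃ ξ η : F, ξ ^ 2 + η ^ 2 = σ 0 / α := by
      have h1 : (Polynomial.X ^ 2 : Polynomial F).degree = 2 := Polynomial.degree_X_pow 2
      have h2' : (Polynomial.X ^ 2 - Polynomial.C (σ 0 / α) : Polynomial F).degree = 2 :=
        Polynomial.degree_X_pow_sub_C (by norm_num) _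
      obtain ⟨a, b, hab⟩ := FiniteField.exists_root_sum_quadratic h1 h2' hodd
      refine ⟨a, b, ?_⟩
      simp only [Polynomial.eval_pow, Polynomial.eval_X, Polynomial.eval_sub,
        Polynomial.eval_C] at hab
      linear_combination hab
    obtain ⟨u₀, hu₀def⟩ : ∃ u₀ : V, u₀ = ξ • u₁ + η • x u₁ := ⟨_, rfl⟩
    have hu₀ : u₀ ∈ V' := by
      rw [hu₀def]
      exact V'.add_mem (V'.smul_mem _ hu₁) (V'.smul_mem _ (hxV' _ hu₁))
    have hu₀σ : B u₀ (x u₀) = σ 0 := by
      have h3 : B (x u₁) u₁ = -α := by rw [alt_swap B halt]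
      rw [hu₀def]
      simp only [map_add, map_smul, LinearMap.add_apply, LinearMap.smul_apply, smul_eq_mul, hxx,
        map_neg, halt, h3, ← hαdef]
      have : α * (ξ ^ 2 + η ^ 2) = σ 0 := by rw [hξη]; field_simp
      linear_combination this
    have hpl := plane_props halt u₀ (x u₀) (by rw [hu₀σ]; exact hσ 0)
    set P := span F ({u₀, x u₀} : Set V) with hP
    have hPV' : P ≤ V' := span_pair_le hu₀ (hxV' _ hu₀)
    have hu₀P : u₀ ∈ P := subset_span (by simp)
    have hxu₀P : x u₀ ∈ P := subset_span (by simp)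
    have hPx : P.map x = P := by
      apply map_eq_of_le x (-1) hm1 hx2
      rw [hP, Submodule.map_span_le]
      intro v hv
      rcases hv with rfl | rfl
      · exact hxu₀P
      · rw [hxx]
        exact P.neg_mem hu₀P
    have hTx := map_perpIn x (-1) hm1 hx2 hiso hV'x hPx
    have hTn := nondegOn_perpIn halt hPV' hpl.2 hV'n
    have hTf := finrank_perpIn halt hPV' hpl.2 (V' := V')
    rw [hpl.1] at hTf
    obtain ⟨u', hu'T, hu'0, hu'σ⟩ := ih (perpIn B V' P) hTx hTn (by omega)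
      (fun j => σ j.succ) (fun j => hσ j.succ)
    have hperp : ∀ j, ∀ s ∈ P, B s (u' j) = 0 := fun j => (mem_perpIn.mp (hu'T j)).2
    have hperpx : ∀ j, ∀ s ∈ P, B s (x (u' j)) = 0 := by
      intro j s hs
      have : x (u' j) ∈ perpIn B V' P := by rw [← hTx]; exact ⟨_, hu'T j, rfl⟩
      exact (mem_perpIn.mp this).2 s hs
    refine ⟨Fin.cons u₀ u', ?_, ?_, ?_⟩
    · intro j
      refine Fin.cases ?_ (fun j => ?_) j
      · rw [Fin.cons_zero]; exact hu₀
      · rw [Fin.cons_succ]; exact perpIn_le V' P (hu'T j)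
    · intro j k
      refine Fin.cases ?_ (fun j => ?_) j <;> refine Fin.cases ?_ (fun k => ?_) k
      · rw [Fin.cons_zero]; exact halt _
      · rw [Fin.cons_zero, Fin.cons_succ]; exact hperp k u₀ hu₀P
      · rw [Fin.cons_zero, Fin.cons_succ, alt_swap B halt, hperp j u₀ hu₀P, neg_zero]
      · rw [Fin.cons_succ, Fin.cons_succ]; exact hu'0 j k
    · intro j k
      refine Fin.cases ?_ (fun j => ?_) j <;> refine Fin.cases ?_ (fun k => ?_) k
      · rw [Fin.cons_zero, if_pos rfl]; exact hu₀σ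
      · rw [Fin.cons_zero, Fin.cons_succ, if_neg (Fin.succ_ne_zero k).symm]
        exact hperpx k u₀ hu₀P
      · rw [Fin.cons_zero, Fin.cons_succ, if_neg (Fin.succ_ne_zero j), alt_swap B halt,
          hperp j _ hxu₀P, neg_zero]
      · rw [Fin.cons_succ, Fin.cons_succ, hu'σ j k]
        by_cases hjk : j = k
        · rw [if_pos hjk, if_pos (by rw [hjk])]
        · rw [if_neg hjk, if_neg (fun h => hjk (Fin.succ_injective _ h))]

/-- **Frames for `x² = 1`**: hyperbolic pairs of eigenvectors. -/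
theorem exists_frame_pos (h2 : (2 : F) ≠ 0) (halt : ∀ x, B x x = 0) (x : V →ₗ[F] V)
    (hx2 : ∀ v, x (x v) = (1 : F) • v) (hiso : ∀ u v, B (x u) (x v) = B u v) :
    ∀ (n : ℕ) (V' : Submodule F V), V'.map x = V' → NondegOn B V' → finrank F V' = 2 * n →
      ∀ σ : Fin n → F, (∀ j, σ j ≠ 0) →
      ∃ (ε : Fin n → F) (u v : Fin n → V), (∀ j, ε j = 1 ∨ ε j = -1) ∧
        (∀ j, u j ∈ V') ∧ (∀ j, v j ∈ V') ∧ (∀ j, x (u j) = ε j • u j) ∧
        (∀ j, x (v j) = ε j • v j) ∧ (∀ j k, B (u j) (u k) = 0) ∧ (∀ j k, B (v j) (v k) = 0) ∧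
        (∀ j k, B (u j) (v k) = if j = k then σ j else 0) := by
  have hxx : ∀ v, x (x v) = v := fun v => by rw [hx2, one_smul]
  intro n
  induction n with
  | zero =>
    intro V' _ _ _ σ _
    exact ⟨Fin.elim0, Fin.elim0, Fin.elim0, fun j => j.elim0, fun j => j.elim0, fun j => j.elim0,
      fun j => j.elim0, fun j => j.elim0, fun j => j.elim0, fun j => j.elim0, fun j => j.elim0⟩
  | succ n ih =>
    intro V' hV'x hV'n hfr σ hσ
    have hxV' : ∀ v ∈ V', x v ∈ V' := fun v hv => by rw [← hV'x]; exact ⟨v, hv, rfl⟩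
    have hV'0 : V' ≠ ⊥ := by
      intro h
      rw [h, finrank_bot] at hfr
      omega
    obtain ⟨t, htV', ht0⟩ := Submodule.exists_mem_ne_zero_of_ne_bot hV'0
    -- an eigenvector
    obtain ⟨ε₀, u₀, hε₀, hu₀V', hu₀0, hxu₀⟩ : ∃ (ε₀ : F) (u₀ : V), (ε₀ = 1 ∨ ε₀ = -1) ∧ u₀ ∈ V' ∧
        u₀ ≠ 0 ∧ x u₀ = ε₀ • u₀ := by
      by_cases hp : t + x t = 0
      · refine ⟨-1, t - x t, Or.inr rfl, V'.sub_mem htV' (hxV' t htV'), ?_, ?_⟩
        · intro hm
          apply ht0
          have h3 : (2 : F) • t = 0 := by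
            rw [two_smul]
            have : t + t = (t + x t) + (t - x t) := by abel
            rw [this, hp, hm, add_zero]
          exact (smul_eq_zero.mp h3).resolve_left h2
        · rw [map_sub, hxx, neg_one_smul]; abel
      · refine ⟨1, t + x t, Or.inl rfl, V'.add_mem htV' (hxV' t htV'), hp, ?_⟩
        rw [map_add, hxx, one_smul, add_comm]
    have hε₀sq : ε₀ * ε₀ = 1 := by rcases hε₀ with h | h <;> rw [h] <;> ring
    obtain ⟨w, hwV', hw⟩ : ∃ w ∈ V', B u₀ w ≠ 0 := by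
      by_contra hcon
      push Not at hcon
      exact hu₀0 (hV'n u₀ hu₀V' hcon)
    obtain ⟨w', hw'def⟩ : ∃ w' : V, w' = w + ε₀ • x w := ⟨_, rfl⟩
    have hw'V' : w' ∈ V' := by
      rw [hw'def]; exact V'.add_mem hwV' (V'.smul_mem _ (hxV' w hwV'))
    have hxw' : x w' = ε₀ • w' := by
      rw [hw'def, map_add, map_smul, hxx, smul_add, smul_smul, hε₀sq, one_smul, add_comm]
    have hBw' : B u₀ w' = 2 * B u₀ w := by
      have h3 : B u₀ (x w) = ε₀ * B u₀ w := by
        rw [← hiso u₀ (x w), hxx, hxu₀, map_smul, LinearMap.smul_apply, smul_eq_mul]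
      rw [hw'def, map_add, map_smul, smul_eq_mul, h3, ← mul_assoc, hε₀sq]
      ring
    have hBw'0 : B u₀ w' ≠ 0 := by rw [hBw']; exact mul_ne_zero h2 hw
    obtain ⟨v₀, hv₀def⟩ : ∃ v₀ : V, v₀ = (σ 0 / B u₀ w') • w' := ⟨_, rfl⟩
    have hv₀V' : v₀ ∈ V' := by rw [hv₀def]; exact V'.smul_mem _ hw'V'
    have hxv₀ : x v₀ = ε₀ • v₀ := by
      rw [hv₀def, map_smul, hxw', smul_comm]
    have huv₀ : B u₀ v₀ = σ 0 := by
      rw [hv₀def, map_smul, smul_eq_mul]
      field_simp
    have hpl := plane_props halt u₀ v₀ (by rw [huv₀]; exact hσ 0)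
    set P := span F ({u₀, v₀} : Set V) with hP
    have hPV' : P ≤ V' := span_pair_le hu₀V' hv₀V'
    have hu₀P : u₀ ∈ P := subset_span (by simp)
    have hv₀P : v₀ ∈ P := subset_span (by simp)
    have hPx : P.map x = P := by
      apply map_eq_of_le x 1 one_ne_zero hx2
      rw [hP, Submodule.map_span_le]
      intro v hv
      rcases hv with rfl | rfl
      · rw [hxu₀]; exact P.smul_mem _ hu₀P
      · rw [hxv₀]; exact P.smul_mem _ hv₀P
    have hTx := map_perpIn x 1 one_ne_zero hx2 hiso hV'x hPx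
    have hTn := nondegOn_perpIn halt hPV' hpl.2 hV'n
    have hTf := finrank_perpIn halt hPV' hpl.2 (V' := V')
    rw [hpl.1] at hTf
    obtain ⟨ε', u', v', hε', hu'T, hv'T, hxu', hxv', hu'0, hv'0, hu'v'⟩ :=
      ih (perpIn B V' P) hTx hTn (by omega) (fun j => σ j.succ) (fun j => hσ j.succ)
    have hperpu : ∀ j, ∀ s ∈ P, B s (u' j) = 0 := fun j => (mem_perpIn.mp (hu'T j)).2
    have hperpv : ∀ j, ∀ s ∈ P, B s (v' j) = 0 := fun j => (mem_perpIn.mp (hv'T j)).2
    refine ⟨Fin.cons ε₀ ε', Fin.cons u₀ u', Fin.cons v₀ v', ?_, ?_, ?_, ?_, ?_, ?_, ?_, ?_⟩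
    · intro j
      refine Fin.cases ?_ (fun j => ?_) j
      · rw [Fin.cons_zero]; exact hε₀
      · rw [Fin.cons_succ]; exact hε' j
    · intro j
      refine Fin.cases ?_ (fun j => ?_) j
      · rw [Fin.cons_zero]; exact hu₀V'
      · rw [Fin.cons_succ]; exact perpIn_le V' P (hu'T j)
    · intro j
      refine Fin.cases ?_ (fun j => ?_) j
      · rw [Fin.cons_zero]; exact hv₀V'
      · rw [Fin.cons_succ]; exact perpIn_le V' P (hv'T j)
    · intro j
      refine Fin.cases ?_ (fun j => ?_) j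
      · rw [Fin.cons_zero, Fin.cons_zero]; exact hxu₀
      · rw [Fin.cons_succ, Fin.cons_succ]; exact hxu' j
    · intro j
      refine Fin.cases ?_ (fun j => ?_) j
      · rw [Fin.cons_zero, Fin.cons_zero]; exact hxv₀
      · rw [Fin.cons_succ, Fin.cons_succ]; exact hxv' j
    · intro j k
      refine Fin.cases ?_ (fun j => ?_) j <;> refine Fin.cases ?_ (fun k => ?_) k
      · rw [Fin.cons_zero]; exact halt _
      · rw [Fin.cons_zero, Fin.cons_succ]; exact hperpu k u₀ hu₀P
      · rw [Fin.cons_zero, Fin.cons_succ, alt_swap B halt, hperpu j u₀ hu₀P, neg_zero]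
      · rw [Fin.cons_succ, Fin.cons_succ]; exact hu'0 j k
    · intro j k
      refine Fin.cases ?_ (fun j => ?_) j <;> refine Fin.cases ?_ (fun k => ?_) k
      · rw [Fin.cons_zero]; exact halt _
      · rw [Fin.cons_zero, Fin.cons_succ]; exact hperpv k v₀ hv₀P
      · rw [Fin.cons_zero, Fin.cons_succ, alt_swap B halt, hperpv j v₀ hv₀P, neg_zero]
      · rw [Fin.cons_succ, Fin.cons_succ]; exact hv'0 j k
    · intro j k
      refine Fin.cases ?_ (fun j => ?_) j <;> refine Fin.cases ?_ (fun k => ?_) k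
      · rw [Fin.cons_zero, Fin.cons_zero, if_pos rfl]; exact huv₀
      · rw [Fin.cons_zero, Fin.cons_succ, if_neg (Fin.succ_ne_zero k).symm]
        exact hperpv k u₀ hu₀P
      · rw [Fin.cons_zero, Fin.cons_succ, if_neg (Fin.succ_ne_zero j), alt_swap B halt,
          hperpu j v₀ hv₀P, neg_zero]
      · rw [Fin.cons_succ, Fin.cons_succ, hu'v' j k]
        by_cases hjk : j = k
        · rw [if_pos hjk, if_pos (by rw [hjk])]
        · rw [if_neg hjk, if_neg (fun h => hjk (Fin.succ_injective _ h))]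

end frames

end Cfsg.Agent.Lib.Helper10.Kron
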