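import Mathlib
import Cfsg.Prelude.Def_GeometricClasses
import Cfsg.Agent.Lib.Helper10.Kron1

/-!
# Endomorphisms conjugate to Kronecker products, and the tensor product subgroups
-/

set_option autoImplicit false

namespace Cfsg.Agent.Lib.Helper10.Kron

open Matrix Module Polynomial
open scoped Kronecker MatrixGroups

section conj

variable {F : Type*} [Field F] {V : Type*} [AddCommGroup V] [Module F V]

/-- `X` is conjugate to a Kronecker product of invertible matrices of sizes `a` and `b` -/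
def KronConj (X : V →ₗ[F] V) (a b : ℕ) : Prop :=
  ∃ (A : GL (Fin a) F) (B : GL (Fin b) F) (Θ : (Fin a × Fin b → F) ≃ₗ[F] V),
    ∀ u, X (Θ u) = Θ (((A : Matrix (Fin a) (Fin a) F) ⊗ₖ (B : Matrix (Fin b) (Fin b) F)) *ᵥ u)

/-- `X` is conjugate to `1 ⊗ M` -/
def KronOne (X : V →ₗ[F] V) (a b : ℕ) (M : Matrix (Fin b) (Fin b) F) : Prop :=
  ∃ Θ : (Fin a × Fin b → F) ≃ₗ[F] V,
    ∀ u, X (Θ u) = Θ (((1 : Matrix (Fin a) (Fin a) F) ⊗ₖ M) *ᵥ u)

theorem KronOne.finrank_ker {X : V →ₗ[F] V} {a b : ℕ} {M : Matrix (Fin b) (Fin b) F}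
    (h : KronOne X a b M) (G : F[X]) :
    finrank F (LinearMap.ker (aeval X G)) =
      a * finrank F (LinearMap.ker (aeval (Matrix.toLin' M) G)) := by
  obtain ⟨Θ, hΘ⟩ := h
  have h1 := finrank_ker_aeval_conj (Matrix.toLin' ((1 : Matrix (Fin a) (Fin a) F) ⊗ₖ M)) X Θ
    (fun v => by rw [Matrix.toLin'_apply]; exact (hΘ v).symm) G
  rw [h1, finrank_ker_aeval_one_kron, Fintype.card_fin]

theorem KronOne.dvd_finrank_eigenspace {X : V →ₗ[F] V} {a b : ℕ} {M : Matrix (Fin b) (Fin b) F}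
    (h : KronOne X a b M) (μ : F) : a ∣ finrank F (Module.End.eigenspace X μ) := by
  rw [eigenspace_eq_ker_aeval, h.finrank_ker]
  exact Dvd.intro _ rfl

theorem KronOne.finrank_eigenspace {X : V →ₗ[F] V} {a b : ℕ} {M : Matrix (Fin b) (Fin b) F}
    (h : KronOne X a b M) (μ : F) :
    finrank F (Module.End.eigenspace X μ) =
      a * finrank F (Module.End.eigenspace (Matrix.toLin' M) μ) := by
  rw [eigenspace_eq_ker_aeval, h.finrank_ker, eigenspace_eq_ker_aeval]

/-- transport of `X ^ r = 1` to the second factor -/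
theorem KronOne.pow_eq_one {X : V →ₗ[F] V} {a b : ℕ} {M : Matrix (Fin b) (Fin b) F}
    (h : KronOne X a b M) (ha : 0 < a) (r : ℕ) (hX : X ^ r = 1) : (Matrix.toLin' M) ^ r = 1 := by
  obtain ⟨Θ, hΘ⟩ := h
  set T := Matrix.toLin' ((1 : Matrix (Fin a) (Fin a) F) ⊗ₖ M) with hT
  have hTX : ∀ v, Θ (T v) = X (Θ v) := fun v => by
    rw [hT, Matrix.toLin'_apply]; exact (hΘ v).symm
  have hTr : ∀ u, (T ^ r) u = u := by
    intro u
    apply Θ.injective
    have h1 := aeval_intertwine T X (Θ : (Fin a × Fin b → F) →ₗ[F] V) hTX (Polynomial.X ^ r) u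
    rw [map_pow, aeval_X, map_pow, aeval_X, hX, Module.End.one_apply] at h1
    exact h1
  apply LinearMap.ext
  intro w
  rw [Module.End.one_apply]
  let i : Fin a := ⟨0, ha⟩
  have h2 := aeval_intertwine T (Matrix.toLin' M) (slice i) (slice_one_kron M i)
    (Polynomial.X ^ r) (fun p : Fin a × Fin b => w p.2)
  rw [map_pow, aeval_X, map_pow, aeval_X, hTr] at h2
  have h3 : slice i (fun p : Fin a × Fin b => w p.2) = w := by
    funext k
    rfl
  rw [h3] at h2
  exact h2.symm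

/-- **Main lemma** for conjugates: small codimension of an eigenspace forces the first factor to
be scalar. -/
theorem KronConj.toOne_of_small_codim {X : V →ₗ[F] V} {a b : ℕ} (h : KronConj X a b) (c : F)
    (hc : c ≠ 0) (hK : a * b < finrank F (Module.End.eigenspace X c) + b) :
    ∃ M : Matrix (Fin b) (Fin b) F, KronOne X a b M := by
  obtain ⟨A, B, Θ, hΘ⟩ := h
  set T := Matrix.toLin' ((A : Matrix (Fin a) (Fin a) F) ⊗ₖ (B : Matrix (Fin b) (Fin b) F)) with hT
  have h1 := finrank_ker_aeval_conj T X Θ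
    (fun v => by rw [hT, Matrix.toLin'_apply]; exact (hΘ v).symm) (Polynomial.X - C c)
  rw [← eigenspace_eq_ker_aeval, ← eigenspace_eq_ker_aeval] at h1
  obtain ⟨z, hz⟩ := scalar_of_small_codim (A : Matrix (Fin a) (Fin a) F)
    (B : Matrix (Fin b) (Fin b) F) c hc (by
      rw [Fintype.card_fin, Fintype.card_fin, ← hT, ← h1]
      exact hK)
  refine ⟨z • (B : Matrix (Fin b) (Fin b) F), Θ, fun u => ?_⟩
  rw [hΘ u, hz, Matrix.smul_kronecker, Matrix.kronecker_smul]

/-- the scalar matrix `c` as an element of the general linear group -/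
def scalarGL (a : ℕ) (c : F) (hc : c ≠ 0) : GL (Fin a) F :=
  ⟨c • (1 : Matrix (Fin a) (Fin a) F), c⁻¹ • (1 : Matrix (Fin a) (Fin a) F),
    by rw [Matrix.smul_mul, Matrix.mul_smul, smul_smul, one_mul, mul_inv_cancel₀ hc, one_smul],
    by rw [Matrix.smul_mul, Matrix.mul_smul, smul_smul, one_mul, inv_mul_cancel₀ hc, one_smul]⟩

theorem scalarGL_val (a : ℕ) (c : F) (hc : c ≠ 0) :
    ((scalarGL a c hc : GL (Fin a) F) : Matrix (Fin a) (Fin a) F) = c • 1 := rfl

theorem scalarGL_commute (a : ℕ) (c : F) (hc : c ≠ 0) (A : GL (Fin a) F) :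
    Commute A (scalarGL a c hc) := by
  apply Units.ext
  rw [Units.val_mul, Units.val_mul, scalarGL_val, Matrix.mul_smul, Matrix.smul_mul, mul_one, one_mul]

/-- order argument: if `X ^ r = 1`, `r`-th roots exist in `F` and `r` does not divide the order of
`GL_a(F)`, then the first factor is scalar. -/
theorem KronConj.toOne_of_pow [Fintype F] {X : V →ₗ[F] V} {a b : ℕ} (h : KronConj X a b)
    (ha : 0 < a) (hb : 0 < b) (r : ℕ) (hr : r.Prime) (hX : X ^ r = 1)
    (hroot : ∀ z : F, z ≠ 0 → ∃ c : F, c ^ r = z)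
    (hra : ¬ r ∣ Nat.card (GL (Fin a) F)) :
    ∃ M : Matrix (Fin b) (Fin b) F, KronOne X a b M := by
  obtain ⟨A, B, Θ, hΘ⟩ := h
  have : Nonempty (Fin a) := ⟨⟨0, ha⟩⟩
  have : Nonempty (Fin b) := ⟨⟨0, hb⟩⟩
  set T := Matrix.toLin' ((A : Matrix (Fin a) (Fin a) F) ⊗ₖ (B : Matrix (Fin b) (Fin b) F)) with hT
  have hTX : ∀ v, Θ (T v) = X (Θ v) := fun v => by
    rw [hT, Matrix.toLin'_apply]; exact (hΘ v).symm
  have hTr : T ^ r = 1 := by
    apply LinearMap.ext
    intro u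
    apply Θ.injective
    have h1 := aeval_intertwine T X (Θ : (Fin a × Fin b → F) →ₗ[F] V) hTX (Polynomial.X ^ r) u
    rw [map_pow, aeval_X, map_pow, aeval_X, hX, Module.End.one_apply] at h1
    rw [Module.End.one_apply]
    exact h1
  have hABr : ((A : Matrix (Fin a) (Fin a) F) ^ r) ⊗ₖ ((B : Matrix (Fin b) (Fin b) F) ^ r) =
      (1 : F) • (1 : Matrix (Fin a × Fin b) (Fin a × Fin b) F) := by
    rw [← kron_pow, one_smul]
    apply Matrix.toLin'.injective
    rw [Matrix.toLin'_pow, ← hT, hTr, Matrix.toLin'_one]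
    rfl
  obtain ⟨z₁, z₂, hA, -, hz⟩ := kron_eq_smul_one _ _ 1 one_ne_zero hABr
  have hz₁ : z₁ ≠ 0 := by
    rintro rfl
    rw [zero_mul] at hz
    exact zero_ne_one hz
  obtain ⟨c, hc⟩ := hroot z₁ hz₁
  have hc0 : c ≠ 0 := by
    rintro rfl
    rw [zero_pow hr.ne_zero] at hc
    exact hz₁ hc.symm
  have hAZ : A ^ r = (scalarGL a c hc0) ^ r := by
    apply Units.ext
    rw [Units.val_pow_eq_pow_val, Units.val_pow_eq_pow_val, hA, scalarGL_val, _root_.smul_pow, one_pow, hc]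
  have hD : (A * (scalarGL a c hc0)⁻¹) ^ r = 1 := by
    rw [((scalarGL_commute a c hc0 A).inv_right).mul_pow, hAZ, inv_pow, mul_inv_cancel]
  have hD1 : A * (scalarGL a c hc0)⁻¹ = 1 := by
    have h1 := orderOf_dvd_of_pow_eq_one hD
    rcases (Nat.dvd_prime hr).mp h1 with h2 | h2
    · exact orderOf_eq_one_iff.mp h2
    · exfalso
      apply hra
      rw [← h2]
      exact orderOf_dvd_natCard _
  have hAc : A = scalarGL a c hc0 := by
    rw [mul_inv_eq_one] at hD1
    exact hD1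
  refine ⟨c • (B : Matrix (Fin b) (Fin b) F), Θ, fun u => ?_⟩
  rw [hΘ u, hAc, scalarGL_val, Matrix.smul_kronecker, Matrix.kronecker_smul]

end conj

section bridge

variable {F : Type*} [Field F] {n : ℕ}

theorem mem_specialLinear_iff (g : GL (Fin n) F) :
    g ∈ Cfsg.Geo.specialLinear (Fin n) F ↔ (g : Matrix (Fin n) (Fin n) F).det = 1 := by
  unfold Cfsg.Geo.specialLinear
  rw [MonoidHom.mem_ker]
  constructor
  · intro h
    have := congrArg Units.val h
    simpa using this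
  · intro h
    apply Units.ext
    simpa using h

/-- the linear equivalence of an invertible matrix -/
noncomputable def glEquiv (g : GL (Fin n) F) : (Fin n → F) ≃ₗ[F] (Fin n → F) :=
  LinearEquiv.ofLinearMap (Matrix.toLin' (g : Matrix (Fin n) (Fin n) F))
    (Matrix.toLin' ((g⁻¹ : GL (Fin n) F) : Matrix (Fin n) (Fin n) F))
    (by rw [← Matrix.toLin'_mul, ← Units.val_mul, mul_inv_cancel, Units.val_one, Matrix.toLin'_one])
    (by rw [← Matrix.toLin'_mul, ← Units.val_mul, inv_mul_cancel, Units.val_one, Matrix.toLin'_one])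

theorem glEquiv_apply (g : GL (Fin n) F) (v : Fin n → F) :
    glEquiv g v = (g : Matrix (Fin n) (Fin n) F) *ᵥ v := by
  show Matrix.toLin' (g : Matrix (Fin n) (Fin n) F) v = _
  rw [Matrix.toLin'_apply]

theorem glReindex_val {a b : ℕ} (e : Fin n ≃ Fin a × Fin b) (k : GL (Fin a × Fin b) F) :
    ((Cfsg.Geo.glReindex e.symm k : GL (Fin n) F) : Matrix (Fin n) (Fin n) F) =
      (k : Matrix (Fin a × Fin b) (Fin a × Fin b) F).submatrix e e := by
  unfold Cfsg.Geo.glReindex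
  rw [Units.coe_mapEquiv]
  rfl

theorem glReindex_mulVec {a b : ℕ} (e : Fin n ≃ Fin a × Fin b) (k : GL (Fin a × Fin b) F)
    (u : Fin a × Fin b → F) :
    ((Cfsg.Geo.glReindex e.symm k : GL (Fin n) F) : Matrix (Fin n) (Fin n) F) *ᵥ (u ∘ e) =
      ((k : Matrix (Fin a × Fin b) (Fin a × Fin b) F) *ᵥ u) ∘ e := by
  rw [glReindex_val, Matrix.submatrix_mulVec_equiv]
  congr 2
  funext p
  simp

/-- the Kronecker product of two invertible matrices as an invertible matrix -/
def kronGL {a b : ℕ} (A : GL (Fin a) F) (B : GL (Fin b) F) : GL (Fin a × Fin b) F :=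
  ⟨(A : Matrix (Fin a) (Fin a) F) ⊗ₖ (B : Matrix (Fin b) (Fin b) F),
    ((A⁻¹ : GL (Fin a) F) : Matrix (Fin a) (Fin a) F) ⊗ₖ ((B⁻¹ : GL (Fin b) F) : Matrix (Fin b) (Fin b) F),
    by rw [← Matrix.mul_kronecker_mul, ← Units.val_mul, ← Units.val_mul, mul_inv_cancel,
      mul_inv_cancel, Units.val_one, Units.val_one, Matrix.one_kronecker_one],
    by rw [← Matrix.mul_kronecker_mul, ← Units.val_mul, ← Units.val_mul, inv_mul_cancel,
      inv_mul_cancel, Units.val_one, Units.val_one, Matrix.one_kronecker_one]⟩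

theorem kronGL_mem {a b : ℕ} (A : GL (Fin a) F) (B : GL (Fin b) F) :
    kronGL A B ∈ Cfsg.Geo.kroneckerSubgroup a b F := ⟨A, B, rfl⟩

/-- **Bridge 1**: a conjugate lying in the tensor product subgroup gives a Kronecker structure. -/
theorem kronConj_of_mem {a b : ℕ} (e : Fin n ≃ Fin a × Fin b) (P x g : GL (Fin n) F)
    (h : g⁻¹ * x * g ∈ Cfsg.Geo.tensorProductSubgroup a b e P) :
    KronConj (Matrix.toLin' (x : Matrix (Fin n) (Fin n) F)) a b := by
  unfold Cfsg.Geo.tensorProductSubgroup at h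
  rw [Subgroup.mem_map] at h
  obtain ⟨k1, hk1, hk1eq⟩ := h
  rw [Subgroup.mem_map] at hk1
  obtain ⟨k, ⟨A, B, hk⟩, rfl⟩ := hk1
  have hconj : P * (Cfsg.Geo.glReindex e.symm k) * P⁻¹ = g⁻¹ * x * g := hk1eq
  have hx : x * (g * P) = (g * P) * (Cfsg.Geo.glReindex e.symm k) := by
    have : x = g * (P * (Cfsg.Geo.glReindex e.symm k) * P⁻¹) * g⁻¹ := by
      rw [hconj]; group
    rw [this]; group
  refine ⟨A, B, (LinearEquiv.funCongrLeft F F e).trans (glEquiv (g * P)), fun u => ?_⟩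
  have h1 : ∀ w : Fin a × Fin b → F,
      ((LinearEquiv.funCongrLeft F F e).trans (glEquiv (g * P))) w =
        ((g * P : GL (Fin n) F) : Matrix (Fin n) (Fin n) F) *ᵥ (w ∘ e) := by
    intro w
    rw [LinearEquiv.trans_apply, glEquiv_apply]
    rfl
  rw [h1, h1, Matrix.toLin'_apply, Matrix.mulVec_mulVec, ← Units.val_mul, hx, Units.val_mul,
    ← Matrix.mulVec_mulVec, glReindex_mulVec, hk]

/-- **Bridge 2**: an element conjugate to a Kronecker product, whose centraliser has all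
determinants, is conjugate under the special linear group into the tensor product subgroup. -/
theorem exists_sl_conj_of_kronConj {a b : ℕ} (e : Fin n ≃ Fin a × Fin b) (P x : GL (Fin n) F)
    (hK : KronConj (Matrix.toLin' (x : Matrix (Fin n) (Fin n) F)) a b)
    (hcent : ∀ δ : F, δ ≠ 0 → ∃ C : (Fin n → F) →ₗ[F] (Fin n → F),
      C ∘ₗ Matrix.toLin' (x : Matrix (Fin n) (Fin n) F) =
        Matrix.toLin' (x : Matrix (Fin n) (Fin n) F) ∘ₗ C ∧ LinearMap.det C = δ) :
    ∃ g ∈ Cfsg.Geo.specialLinear (Fin n) F,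
      g⁻¹ * x * g ∈ Cfsg.Geo.tensorProductSubgroup a b e P := by
  classical
  obtain ⟨A, B, Θ, hΘ⟩ := hK
  set X := Matrix.toLin' (x : Matrix (Fin n) (Fin n) F) with hX
  let L₀ : (Fin n → F) ≃ₗ[F] (Fin n → F) :=
    (glEquiv P).symm.trans ((LinearEquiv.funCongrLeft F F e).symm.trans Θ)
  have hL₀ : ∀ v : Fin n → F, L₀ ((P : Matrix (Fin n) (Fin n) F) *ᵥ v) = Θ (v ∘ e.symm) := by
    intro v
    show Θ ((LinearEquiv.funCongrLeft F F e).symm ((glEquiv P).symm
      ((P : Matrix (Fin n) (Fin n) F) *ᵥ v))) = _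
    rw [← glEquiv_apply, LinearEquiv.symm_apply_apply]
    rfl
  have hdet₀ : LinearMap.det (L₀ : (Fin n → F) →ₗ[F] (Fin n → F)) ≠ 0 :=
    (LinearEquiv.isUnit_det' L₀).ne_zero
  obtain ⟨C, hCX, hCdet⟩ := hcent _ (inv_ne_zero hdet₀)
  obtain ⟨L, hLdef⟩ : ∃ L : (Fin n → F) →ₗ[F] (Fin n → F),
      L = C ∘ₗ (L₀ : (Fin n → F) →ₗ[F] (Fin n → F)) := ⟨_, rfl⟩
  have hLdet : LinearMap.det L = 1 := by
    rw [hLdef, LinearMap.det_comp, hCdet, inv_mul_cancel₀ hdet₀]
  have hunit : IsUnit (LinearMap.toMatrix' L).det := by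
    rw [LinearMap.det_toMatrix', hLdet]
    exact isUnit_one
  let g : GL (Fin n) F := Matrix.GeneralLinearGroup.mk'' (LinearMap.toMatrix' L) hunit
  have hgval : (g : Matrix (Fin n) (Fin n) F) = LinearMap.toMatrix' L := rfl
  have hgL : ∀ v : Fin n → F, (g : Matrix (Fin n) (Fin n) F) *ᵥ v = L v := by
    intro v
    rw [hgval, ← Matrix.toLin'_apply, Matrix.toLin'_toMatrix']
  refine ⟨g, ?_, ?_⟩
  · rw [mem_specialLinear_iff, hgval, LinearMap.det_toMatrix', hLdet]
  · have hkey : x * (g * P) = (g * P) * Cfsg.Geo.glReindex e.symm (kronGL A B) := by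
      apply Units.ext
      apply Matrix.toLin'.injective
      apply LinearMap.ext
      intro v
      rw [Matrix.toLin'_apply, Matrix.toLin'_apply, Units.val_mul, Units.val_mul, Units.val_mul,
        Units.val_mul, ← Matrix.mulVec_mulVec, ← Matrix.mulVec_mulVec, ← Matrix.mulVec_mulVec,
        ← Matrix.mulVec_mulVec, hgL, hgL, hLdef, LinearMap.comp_apply, LinearMap.comp_apply,
        LinearEquiv.coe_coe, hL₀, hL₀]
      have hv : v = (v ∘ e.symm) ∘ e := by
        funext i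
        simp
      have h1 : ((Cfsg.Geo.glReindex e.symm (kronGL A B) : GL (Fin n) F) :
          Matrix (Fin n) (Fin n) F) *ᵥ v =
          ((((A : Matrix (Fin a) (Fin a) F) ⊗ₖ (B : Matrix (Fin b) (Fin b) F)) *ᵥ
            (v ∘ e.symm)) ∘ e) := by
        conv_lhs => rw [hv]
        rw [glReindex_mulVec]
        rfl
      rw [h1]
      have h2 : ((((A : Matrix (Fin a) (Fin a) F) ⊗ₖ (B : Matrix (Fin b) (Fin b) F)) *ᵥ
            (v ∘ e.symm)) ∘ e) ∘ e.symm =
          ((A : Matrix (Fin a) (Fin a) F) ⊗ₖ (B : Matrix (Fin b) (Fin b) F)) *ᵥ (v ∘ e.symm) := by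
        funext p
        simp
      rw [h2, ← hΘ, ← Matrix.toLin'_apply, ← hX]
      exact (LinearMap.congr_fun hCX _).symm
    unfold Cfsg.Geo.tensorProductSubgroup
    rw [Subgroup.mem_map]
    refine ⟨Cfsg.Geo.glReindex e.symm (kronGL A B), ?_, ?_⟩
    · rw [Subgroup.mem_map]
      exact ⟨kronGL A B, kronGL_mem A B, rfl⟩
    · show P * Cfsg.Geo.glReindex e.symm (kronGL A B) * P⁻¹ = g⁻¹ * x * g
      have h3 : g⁻¹ * x * g = g⁻¹ * (x * (g * P)) * P⁻¹ := by group
      rw [h3, hkey]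
      group

end bridge

end Cfsg.Agent.Lib.Helper10.Kron
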