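import Mathlib
import Cfsg.Agent.Lib.Helper10.Kron2
import Cfsg.Agent.Lib.Helper15.PSub8
import Cfsg.Agent.Lib.Helper15.PDec5

/-!
# Endomorphisms which are not conjugate to a Kronecker product
-/

set_option autoImplicit false

namespace Cfsg.Agent.Lib.Helper10.Kron

open Matrix Module Polynomial
open scoped Kronecker MatrixGroups

section nk

variable {F : Type*} [Field F] {V : Type*} [AddCommGroup V] [Module F V] [FiniteDimensional F V]

theorem finrank_eigenspace_add_range (X : V →ₗ[F] V) (c : F) :
    finrank F (LinearMap.range (X - c • (1 : V →ₗ[F] V))) +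
      finrank F (Module.End.eigenspace X c) = finrank F V := by
  rw [Module.End.eigenspace_def]
  exact LinearMap.finrank_range_add_finrank_ker _

theorem eq_smul_one_of_eigenspace_top (X : V →ₗ[F] V) (c : F)
    (h : finrank F (Module.End.eigenspace X c) = finrank F V) : X = c • (1 : V →ₗ[F] V) := by
  have htop : Module.End.eigenspace X c = ⊤ := Submodule.eq_top_of_finrank_eq h
  apply LinearMap.ext
  intro v
  have hv : v ∈ Module.End.eigenspace X c := by rw [htop]; trivial
  rw [Module.End.mem_eigenspace_iff.mp hv]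
  rfl

/-- an endomorphism `c + (rank one)` is not conjugate to a Kronecker product -/
theorem not_kronConj_of_rank_one (X : V →ₗ[F] V) (a b : ℕ) (hV : finrank F V = a * b)
    (ha : 2 ≤ a) (hab : a < b) (c : F) (hc : c ≠ 0) (hX : X ≠ c • (1 : V →ₗ[F] V))
    (hrk : finrank F (LinearMap.range (X - c • (1 : V →ₗ[F] V))) ≤ 1) : ¬ KronConj X a b := by
  intro hK
  have h1 := finrank_eigenspace_add_range X c
  have h2 : finrank F (Module.End.eigenspace X c) ≠ finrank F V :=
    fun h => hX (eq_smul_one_of_eigenspace_top X c h)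
  rw [hV] at h1 h2
  have hpos : 0 < a * b := Nat.mul_pos (by omega) (by omega)
  have h3 : finrank F (Module.End.eigenspace X c) = a * b - 1 := by omega
  obtain ⟨M, hM⟩ := hK.toOne_of_small_codim c hc (by omega)
  have h4 := hM.dvd_finrank_eigenspace c
  rw [h3] at h4
  have h5 : a ∣ a * b := Dvd.intro _ rfl
  have h6 : a ∣ 1 := by
    have := (Nat.dvd_sub h5 h4)
    rwa [Nat.sub_sub_self (by omega)] at this
  have := Nat.le_of_dvd one_pos h6
  omega

/-- an endomorphism `c + (rank two)` is not conjugate to a Kronecker product, if `3 ≤ a` or some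
eigenspace is a line -/
theorem not_kronConj_of_rank_two (X : V →ₗ[F] V) (a b : ℕ) (hV : finrank F V = a * b)
    (ha : 2 ≤ a) (hab : a < b) (c : F) (hc : c ≠ 0) (hX : X ≠ c • (1 : V →ₗ[F] V))
    (hrk : finrank F (LinearMap.range (X - c • (1 : V →ₗ[F] V))) ≤ 2)
    (hextra : 3 ≤ a ∨ ∃ μ : F, finrank F (Module.End.eigenspace X μ) = 1) : ¬ KronConj X a b := by
  intro hK
  have h1 := finrank_eigenspace_add_range X c
  have h2 : finrank F (Module.End.eigenspace X c) ≠ finrank F V :=
    fun h => hX (eq_smul_one_of_eigenspace_top X c h)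
  rw [hV] at h1 h2
  have hpos : 6 ≤ a * b := by nlinarith
  obtain ⟨M, hM⟩ := hK.toOne_of_small_codim c hc (by omega)
  have h4 := hM.dvd_finrank_eigenspace c
  have h5 : a ∣ a * b := Dvd.intro _ rfl
  have h6 : a ∣ a * b - finrank F (Module.End.eigenspace X c) := Nat.dvd_sub h5 h4
  have h7 : a * b - finrank F (Module.End.eigenspace X c) = 1 ∨
      a * b - finrank F (Module.End.eigenspace X c) = 2 := by omega
  rcases h7 with h7 | h7
  · rw [h7] at h6
    have := Nat.le_of_dvd one_pos h6
    omega
  · rw [h7] at h6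
    have h8 := Nat.le_of_dvd two_pos h6
    rcases hextra with h3 | ⟨μ, hμ⟩
    · omega
    · have h9 := hM.dvd_finrank_eigenspace μ
      rw [hμ] at h9
      have := Nat.le_of_dvd one_pos h9
      omega

end nk

section ord

variable {F : Type*} [Field F] [Fintype F] {V : Type*} [AddCommGroup V] [Module F V]
  [FiniteDimensional F V]

/-- an element of prime order `r` (not the characteristic, `r ∤ q - 1`) whose fixed space has
codimension at most `ord_r(q)` is not conjugate to a Kronecker product -/
theorem not_kronConj_of_order (p : ℕ) [Fact p.Prime] [CharP F p] (r : ℕ) [hr : Fact r.Prime]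
    (hrp : r ≠ p) (hrq : ¬ r ∣ Fintype.card F - 1) (X : V →ₗ[F] V) (a b : ℕ)
    (hV : finrank F V = a * b) (ha : 2 ≤ a) (hab : a < b) (hXr : X ^ r = 1)
    (hX1 : X ≠ 1)
    (hfix : a * b ≤ finrank F (Module.End.eigenspace X 1) +
      orderOf ((Fintype.card F : ℕ) : ZMod r)) : ¬ KronConj X a b := by
  intro hK
  set i := orderOf ((Fintype.card F : ℕ) : ZMod r) with hi
  have hipos : 0 < i := Cfsg.Agent.Lib.Helper15.PSub.orderOf_pos_of_ne p r hrp
  have hone : ∃ M : Matrix (Fin b) (Fin b) F, KronOne X a b M := by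
    by_cases hia : i ≤ a
    · exact hK.toOne_of_small_codim 1 one_ne_zero (by omega)
    · apply hK.toOne_of_pow (by omega) (by omega) r hr.out hXr
      · intro z hz
        obtain ⟨c, -, hc⟩ :=
          Cfsg.Agent.Lib.Helper15.PSub.exists_pow_eq_of_not_dvd r hr.out hrq z hz
        exact ⟨c, hc⟩
      · intro hdvd
        have := Cfsg.Agent.Lib.Helper15.PDec.ord_le_of_dvd_card_GL p r hr.out hrp hdvd
        omega
  obtain ⟨M, hM⟩ := hone
  have hg := hM.pow_eq_one (by omega) r hXr
  obtain ⟨s, hs⟩ := Cfsg.Agent.Lib.Helper15.PSub.exists_structure p r hrp (Matrix.toLin' M) hg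
  rw [Module.finrank_fin_fun, ← hi] at hs
  have hd := hM.finrank_eigenspace 1
  obtain ⟨m₁, hm₁⟩ : ∃ m₁ : ℕ, m₁ = finrank F (Module.End.eigenspace (Matrix.toLin' M) 1) :=
    ⟨_, rfl⟩
  rw [← hm₁] at hs hd
  have hs0 : s = 0 := by
    by_contra hne
    have hs1 : 1 ≤ s := Nat.one_le_iff_ne_zero.mpr hne
    have h1 : a * b = finrank F (Module.End.eigenspace X 1) + a * (s * i) := by
      rw [hd, hs]; ring
    have h2 : 2 * i ≤ a * (s * i) := by
      calc 2 * i ≤ a * i := Nat.mul_le_mul_right _ ha
        _ = a * (1 * i) := by rw [one_mul]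
        _ ≤ a * (s * i) := Nat.mul_le_mul_left _ (Nat.mul_le_mul_right _ hs1)
    omega
  rw [hs0, zero_mul, add_zero] at hs
  have h3 : finrank F (Module.End.eigenspace X 1) = finrank F V := by
    rw [hd, ← hs, hV]
  have := eq_smul_one_of_eigenspace_top X 1 h3
  rw [one_smul] at this
  exact hX1 this

end ord

end Cfsg.Agent.Lib.Helper10.Kron
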