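import Mathlib
import Cfsg.Agent.Lib.Helper10.Kron3
import Cfsg.Agent.Lib.Helper15.PSub8

/-!
# Fixed points of Kronecker products of elements of prime order

The space of fixed vectors of `A ⊗ B`, for `A` and `B` of prime order `r` prime to the
characteristic, is bounded through generators of the module defined by `B`.
-/

set_option autoImplicit false

namespace Cfsg.Agent.Lib.Helper10.Kron

open Matrix Module Polynomial
open scoped Kronecker MatrixGroups

section small

variable {F : Type*} [Field F] {V : Type*} [AddCommGroup V] [Module F V] [FiniteDimensional F V]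

/-- an endomorphism with an eigenspace of codimension less than `b` and an eigenspace of
dimension prime to `a` is not conjugate to a Kronecker product -/
theorem not_kronConj_of_codim_lt (X : V →ₗ[F] V) (a b : ℕ) (c : F) (hc : c ≠ 0)
    (hcod : a * b < finrank F (Module.End.eigenspace X c) + b) (μ : F)
    (hμ : ¬ a ∣ finrank F (Module.End.eigenspace X μ)) : ¬ KronConj X a b := by
  intro hK
  obtain ⟨M, hM⟩ := hK.toOne_of_small_codim c hc hcod
  exact hμ (hM.dvd_finrank_eigenspace μ)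

end small

section cyc

variable {F : Type*} [Field F] {V : Type*} [AddCommGroup V] [Module F V]

theorem isCoprime_cyclotomic_X_sub_one (r : ℕ) [hr : Fact r.Prime] (hr0 : (r : F) ≠ 0) :
    IsCoprime (cyclotomic r F) (X - 1 : F[X]) := by
  apply Polynomial.Separable.isCoprime
  rw [cyclotomic_prime_mul_X_sub_one]
  have := separable_X_pow_sub_C (1 : F) hr0 one_ne_zero
  rwa [map_one] at this

theorem eigenspace_one_eq_ker (f : V →ₗ[F] V) :
    Module.End.eigenspace f 1 = LinearMap.ker (aeval f (X - 1 : F[X])) := by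
  rw [eigenspace_eq_ker_aeval, map_one]

theorem ker_cyclotomic_inf (r : ℕ) [hr : Fact r.Prime] (hr0 : (r : F) ≠ 0) (f : V →ₗ[F] V) :
    LinearMap.ker (aeval f (cyclotomic r F)) ⊓ Module.End.eigenspace f 1 = ⊥ := by
  rw [eigenspace_one_eq_ker]
  exact (disjoint_ker_aeval_of_isCoprime f (isCoprime_cyclotomic_X_sub_one r hr0)).eq_bot

theorem ker_cyclotomic_sup (r : ℕ) [hr : Fact r.Prime] (hr0 : (r : F) ≠ 0) (f : V →ₗ[F] V)
    (hf : f ^ r = 1) :
    LinearMap.ker (aeval f (cyclotomic r F)) ⊔ Module.End.eigenspace f 1 = ⊤ := by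
  rw [eigenspace_one_eq_ker,
    sup_ker_aeval_eq_ker_aeval_mul_of_coprime f (isCoprime_cyclotomic_X_sub_one r hr0),
    cyclotomic_prime_mul_X_sub_one, map_sub, map_pow, aeval_X, map_one, hf, sub_self,
    LinearMap.ker_zero]

theorem finrank_ker_cyclotomic [FiniteDimensional F V] (r : ℕ) [hr : Fact r.Prime]
    (hr0 : (r : F) ≠ 0) (f : V →ₗ[F] V) (hf : f ^ r = 1) :
    finrank F (LinearMap.ker (aeval f (cyclotomic r F))) +
      finrank F (Module.End.eigenspace f 1) = finrank F V := by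
  have h := Submodule.finrank_sup_add_finrank_inf_eq
    (LinearMap.ker (aeval f (cyclotomic r F))) (Module.End.eigenspace f 1)
  rw [ker_cyclotomic_sup r hr0 f hf, ker_cyclotomic_inf r hr0 f, finrank_bot, finrank_top,
    add_zero] at h
  exact h.symm

theorem ker_aeval_invt (f : V →ₗ[F] V) (G : F[X]) :
    LinearMap.ker (aeval f G) ∈ Module.End.invtSubmodule f := by
  intro v hv
  rw [Submodule.mem_comap, LinearMap.mem_ker]
  rw [LinearMap.mem_ker] at hv
  have h1 : aeval f G (f v) = f (aeval f G v) := by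
    have h2 : aeval f G * f = f * aeval f G := by
      have : f = aeval f (X : F[X]) := (aeval_X f).symm
      nth_rewrite 2 [this]
      nth_rewrite 3 [this]
      rw [← map_mul, ← map_mul, mul_comm]
    exact LinearMap.congr_fun h2 v
  rw [h1, hv, map_zero]

end cyc

section gens

variable {F : Type*} [Field F] {V : Type*} [AddCommGroup V] [Module F V] [FiniteDimensional F V]

open Cfsg.Agent.Lib.Helper15.PSub in
/-- a module killed by a polynomial all of whose irreducible factors have degree `e` is generated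
by `dim / e` elements -/
theorem exists_gens (f : V →ₗ[F] V) (hss : Module.End.IsSemisimple f) (Q : F[X]) (hQ0 : Q ≠ 0)
    (e : ℕ) (hQ : ∀ P : F[X], Irreducible P → P ∣ Q → P.natDegree = e) :
    ∀ (n : ℕ) (W : Submodule F V), W ∈ Module.End.invtSubmodule f →
      (∀ w ∈ W, aeval f Q w = 0) → finrank F W = n →
      ∃ (k : ℕ) (g : Fin k → V), n = k * e ∧ (∀ j, g j ∈ W) ∧
        ∀ W₂ : Submodule F V, W₂ ∈ Module.End.invtSubmodule f → (∀ j, g j ∈ W₂) → W ≤ W₂ := by
  intro n
  induction n using Nat.strong_induction_on with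
  | _ n ih =>
    intro W hW hWQ hn
    by_cases hW0 : W = ⊥
    · refine ⟨0, Fin.elim0, ?_, fun j => j.elim0, fun W₂ _ _ => ?_⟩
      · rw [← hn, hW0, finrank_bot, zero_mul]
      · rw [hW0]; exact bot_le
    · obtain ⟨w, hwW, hw0⟩ := Submodule.exists_mem_ne_zero_of_ne_bot hW0
      obtain ⟨P, hP, hPQ, v, hv0, hPv, hvW⟩ :=
        exists_irreducible_killer f Q hQ0 w hw0 (hWQ w hwW)
      obtain ⟨W₁, hW₁inv, hvW₁, hW₁dim, hW₁min⟩ := exists_cyclic f P hP v hv0 hPv
      have hW₁W : W₁ ≤ W := hW₁min W hW (hvW W hW hwW)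
      obtain ⟨W'', hW''W, hW''inv, -, hsup, hdim⟩ := exists_compl_in f hss W W₁ hW hW₁inv hW₁W
      have he : P.natDegree = e := hQ P hP hPQ
      have hepos : 0 < e := by
        rw [← he]
        exact hP.natDegree_pos
      obtain ⟨k, g, hk, hgW, hgmin⟩ := ih (finrank F W'') (by omega) W'' hW''inv
        (fun w hw => hWQ w (hW''W hw)) rfl
      refine ⟨k + 1, Fin.cons v g, ?_, ?_, ?_⟩
      · rw [← hn, hdim, hW₁dim, he, hk]; ring
      · intro j
        refine Fin.cases ?_ (fun j => ?_) j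
        · rw [Fin.cons_zero]; exact hvW W hW hwW
        · rw [Fin.cons_succ]; exact hW''W (hgW j)
      · intro W₂ hW₂ hg
        rw [← hsup]
        apply sup_le
        · apply hW₁min W₂ hW₂
          have := hg 0
          rwa [Fin.cons_zero] at this
        · apply hgmin W₂ hW₂
          intro j
          have := hg j.succ
          rwa [Fin.cons_succ] at this

end gens

section ctr

variable {F : Type*} [Field F] {α β : Type*} [Fintype α] [DecidableEq α] [Fintype β]
  [DecidableEq β]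

/-- contraction of a tensor with a vector of the second factor -/
def ctr : (α × β → F) →ₗ[F] (β → F) →ₗ[F] (α → F) :=
  LinearMap.mk₂ F (fun u w => fun j => ∑ k, u (j, k) * w k)
    (fun u u' w => by
      funext j
      simp only [Pi.add_apply, add_mul, Finset.sum_add_distrib])
    (fun c u w => by
      funext j
      simp only [Pi.smul_apply, smul_eq_mul, Finset.mul_sum, mul_assoc])
    (fun u w w' => by
      funext j
      simp only [Pi.add_apply, mul_add, Finset.sum_add_distrib])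
    (fun c u w => by
      funext j
      simp only [Pi.smul_apply, smul_eq_mul, Finset.mul_sum]
      apply Finset.sum_congr rfl
      intro k _
      ring)

omit [DecidableEq α] [Fintype α] [DecidableEq β] in
theorem ctr_apply (u : α × β → F) (w : β → F) (j : α) :
    ctr u w j = ∑ k, u (j, k) * w k := rfl

omit [DecidableEq α] [Fintype α] in
theorem ctr_single (u : α × β → F) (k : β) (j : α) :
    ctr u (Pi.single k 1) j = u (j, k) := by
  rw [ctr_apply, Finset.sum_eq_single k]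
  · rw [Pi.single_eq_same, mul_one]
  · intro k' _ hk'
    rw [Pi.single_eq_of_ne hk', mul_zero]
  · intro h
    exact absurd (Finset.mem_univ k) h

theorem ctr_kron (A : Matrix α α F) (B : Matrix β β F) (u : α × β → F) (w : β → F) :
    ctr ((A ⊗ₖ B) *ᵥ u) w = A *ᵥ ctr u (Bᵀ *ᵥ w) := by
  funext j
  simp only [ctr_apply, Matrix.mulVec, dotProduct, Matrix.kroneckerMap_apply,
    Fintype.sum_prod_type, Matrix.transpose_apply, Finset.sum_mul, Finset.mul_sum]
  rw [Finset.sum_comm]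
  apply Finset.sum_congr rfl
  intro j' _
  rw [Finset.sum_comm]
  apply Finset.sum_congr rfl
  intro k' _
  apply Finset.sum_congr rfl
  intro k _
  ring

end ctr

section fix

variable {F : Type*} [Field F] [Fintype F] {α β : Type*} [Fintype α] [DecidableEq α] [Fintype β]
  [DecidableEq β]

open Cfsg.Agent.Lib.Helper15.PSub in
/-- **Fixed points of a Kronecker product** of two elements of prime order `r` -/
theorem finrank_fix_kron_le (p : ℕ) [Fact p.Prime] [CharP F p] (r : ℕ) [hr : Fact r.Prime]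
    (hrp : r ≠ p) (A : Matrix α α F) (B : Matrix β β F) (hA : A ^ r = 1) (hB : B ^ r = 1) :
    ∃ a₁ b₀ b₁ : ℕ,
      Fintype.card α = finrank F (Module.End.eigenspace (Matrix.toLin' A) 1) +
        a₁ * orderOf ((Fintype.card F : ℕ) : ZMod r) ∧
      Fintype.card β = b₀ + b₁ * orderOf ((Fintype.card F : ℕ) : ZMod r) ∧
      finrank F (Module.End.eigenspace (Matrix.toLin' (A ⊗ₖ B)) 1) ≤
        finrank F (Module.End.eigenspace (Matrix.toLin' A) 1) * b₀ +
          (a₁ * orderOf ((Fintype.card F : ℕ) : ZMod r)) * b₁ := by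
  classical
  set i := orderOf ((Fintype.card F : ℕ) : ZMod r) with hi
  have hr0 : (r : F) ≠ 0 := ne_zero_of_ne p r hr.out hrp
  have hr1 : r - 1 + 1 = r := Nat.sub_add_cancel hr.out.one_le
  obtain ⟨𝒜, h𝒜⟩ : ∃ 𝒜 : (α → F) →ₗ[F] (α → F), 𝒜 = Matrix.toLin' A := ⟨_, rfl⟩
  have h𝒜r : 𝒜 ^ r = 1 := by rw [h𝒜, ← Matrix.toLin'_pow, hA, Matrix.toLin'_one]; rfl
  obtain ⟨a₁, ha₁⟩ := exists_structure p r hrp 𝒜 h𝒜r
  rw [Module.finrank_fintype_fun_eq_card, ← hi] at ha₁
  obtain ⟨D, hD⟩ : ∃ D : (β → F) →ₗ[F] (β → F), D = Matrix.toLin' Bᵀ := ⟨_, rfl⟩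
  have hDr : D ^ r = 1 := by
    rw [hD, ← Matrix.toLin'_pow, ← Matrix.transpose_pow, hB, Matrix.transpose_one,
      Matrix.toLin'_one]; rfl
  have hssD : Module.End.IsSemisimple D :=
    isSemisimple_of_pow_eq_smul D r hr0 1 one_ne_zero (by rw [hDr, one_smul])
  obtain ⟨b₁, g₁, hb₁, hg₁W, hg₁min⟩ := exists_gens D hssD (cyclotomic r F)
    (cyclotomic_ne_zero r F) i
    (fun P hP hPd => cyclotomic_factor_degree p r hr.out hrp P hP hPd) _
    (LinearMap.ker (aeval D (cyclotomic r F))) (ker_aeval_invt D _)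
    (fun w hw => LinearMap.mem_ker.mp hw) rfl
  obtain ⟨b₀, hb₀⟩ : ∃ b₀ : ℕ, b₀ = finrank F (Module.End.eigenspace D 1) := ⟨_, rfl⟩
  have hbsum := finrank_ker_cyclotomic r hr0 D hDr
  rw [Module.finrank_fintype_fun_eq_card, hb₁, ← hb₀] at hbsum
  obtain ⟨g₀, -⟩ : ∃ g₀ : Basis (Fin b₀) F (Module.End.eigenspace D 1), True := by
    rw [hb₀]
    exact ⟨Module.finBasis F _, trivial⟩
  -- the inverse of `𝒜`
  obtain ⟨𝒜', h𝒜'⟩ : ∃ 𝒜' : (α → F) →ₗ[F] (α → F), 𝒜' = Matrix.toLin' (A ^ (r - 1)) := ⟨_, rfl⟩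
  have h1 : ∀ v, 𝒜' (𝒜 v) = v := by
    intro v
    rw [h𝒜', h𝒜, Matrix.toLin'_apply, Matrix.toLin'_apply, Matrix.mulVec_mulVec, ← pow_succ, hr1,
      hA, Matrix.one_mulVec]
  have h2 : ∀ v, 𝒜 (𝒜' v) = v := by
    intro v
    rw [h𝒜', h𝒜, Matrix.toLin'_apply, Matrix.toLin'_apply, Matrix.mulVec_mulVec, ← pow_succ', hr1,
      hA, Matrix.one_mulVec]
  have h𝒜'r : 𝒜' ^ r = 1 := by
    rw [h𝒜', ← Matrix.toLin'_pow, ← pow_mul, mul_comm, pow_mul, hA, one_pow, Matrix.toLin'_one]
    rfl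
  have hS₀ : Module.End.eigenspace 𝒜' 1 = Module.End.eigenspace 𝒜 1 := by
    ext v
    rw [Module.End.mem_eigenspace_iff, Module.End.mem_eigenspace_iff, one_smul]
    constructor
    · intro h
      nth_rewrite 1 [← h]
      exact h2 v
    · intro h
      nth_rewrite 1 [← h]
      exact h1 v
  have hS₁ := finrank_ker_cyclotomic r hr0 𝒜' h𝒜'r
  rw [Module.finrank_fintype_fun_eq_card, hS₀] at hS₁
  refine ⟨a₁, b₀, b₁, by rw [← h𝒜]; exact ha₁, by omega, ?_⟩
  -- the fixed vectors
  obtain ⟨K, hK⟩ : ∃ K : Submodule F (α × β → F),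
      K = Module.End.eigenspace (Matrix.toLin' (A ⊗ₖ B)) 1 := ⟨_, rfl⟩
  have hKfix : ∀ u ∈ K, ∀ w, ctr u (D w) = 𝒜' (ctr u w) := by
    intro u hu w
    rw [hK, Module.End.mem_eigenspace_iff, one_smul, Matrix.toLin'_apply] at hu
    have h3 := ctr_kron A B u w
    rw [hu] at h3
    calc ctr u (D w) = ctr u (Bᵀ *ᵥ w) := by rw [hD, Matrix.toLin'_apply]
      _ = 𝒜' (𝒜 (ctr u (Bᵀ *ᵥ w))) := (h1 _).symm
      _ = 𝒜' (ctr u w) := by rw [h𝒜, Matrix.toLin'_apply, ← h3]
  have hK₀ : ∀ u ∈ K, ∀ w ∈ Module.End.eigenspace D 1, ctr u w ∈ Module.End.eigenspace 𝒜' 1 := by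
    intro u hu w hw
    rw [Module.End.mem_eigenspace_iff, one_smul] at hw ⊢
    rw [← hKfix u hu w, hw]
  have hK₁ : ∀ u ∈ K, ∀ w ∈ LinearMap.ker (aeval D (cyclotomic r F)),
      ctr u w ∈ LinearMap.ker (aeval 𝒜' (cyclotomic r F)) := by
    intro u hu w hw
    rw [LinearMap.mem_ker] at hw ⊢
    rw [← aeval_intertwine D 𝒜' (ctr u) (hKfix u hu) (cyclotomic r F) w, hw, map_zero]
  let L : K →ₗ[F] (Fin b₀ → Module.End.eigenspace 𝒜' 1) ×
      (Fin b₁ → LinearMap.ker (aeval 𝒜' (cyclotomic r F))) :=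
    LinearMap.prod
      (LinearMap.pi fun j => LinearMap.codRestrict (Module.End.eigenspace 𝒜' 1)
        ((ctr.flip ((g₀ j : Module.End.eigenspace D 1) : β → F)) ∘ₗ K.subtype)
        (fun u => hK₀ u.1 u.2 _ (g₀ j).2))
      (LinearMap.pi fun j => LinearMap.codRestrict (LinearMap.ker (aeval 𝒜' (cyclotomic r F)))
        ((ctr.flip (g₁ j)) ∘ₗ K.subtype)
        (fun u => hK₁ u.1 u.2 _ (hg₁W j)))
  have hLinj : Function.Injective L := by
    rw [← LinearMap.ker_eq_bot, LinearMap.ker_eq_bot']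
    intro u hu
    have hu0 : ∀ j, ctr (u : α × β → F) ((g₀ j : Module.End.eigenspace D 1) : β → F) = 0 := by
      intro j
      have := congrArg (fun z => ((z.1 j : Module.End.eigenspace 𝒜' 1) : α → F)) hu
      exact this
    have hu1 : ∀ j, ctr (u : α × β → F) (g₁ j) = 0 := by
      intro j
      have := congrArg (fun z =>
        ((z.2 j : LinearMap.ker (aeval 𝒜' (cyclotomic r F))) : α → F)) hu
      exact this
    have hNinv : LinearMap.ker (ctr (u : α × β → F)) ∈ Module.End.invtSubmodule D := by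
      intro w hw
      rw [Submodule.mem_comap, LinearMap.mem_ker, hKfix u.1 u.2 w, LinearMap.mem_ker.mp hw,
        map_zero]
    have hN1 : LinearMap.ker (aeval D (cyclotomic r F)) ≤ LinearMap.ker (ctr (u : α × β → F)) :=
      hg₁min _ hNinv (fun j => LinearMap.mem_ker.mpr (hu1 j))
    have hN0 : Module.End.eigenspace D 1 ≤ LinearMap.ker (ctr (u : α × β → F)) := by
      intro v hv
      have hv' := g₀.sum_repr ⟨v, hv⟩
      have hv'' : v = ∑ j, (g₀.repr ⟨v, hv⟩ j) • ((g₀ j : Module.End.eigenspace D 1) : β → F) := by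
        have := congrArg (fun z : Module.End.eigenspace D 1 => (z : β → F)) hv'
        simp only [Submodule.coe_sum, Submodule.coe_smul] at this
        exact this.symm
      rw [LinearMap.mem_ker, hv'', map_sum]
      apply Finset.sum_eq_zero
      intro j _
      rw [map_smul, hu0 j, smul_zero]
    have hNtop : LinearMap.ker (ctr (u : α × β → F)) = ⊤ := by
      rw [eq_top_iff, ← ker_cyclotomic_sup r hr0 D hDr]
      exact sup_le hN1 hN0
    apply Subtype.ext
    funext jk
    obtain ⟨j, k⟩ := jk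
    have h3 : (Pi.single k 1 : β → F) ∈ LinearMap.ker (ctr (u : α × β → F)) := by
      rw [hNtop]; trivial
    have h4 := ctr_single (u : α × β → F) k j
    rw [LinearMap.mem_ker.mp h3] at h4
    exact h4.symm
  have hle := LinearMap.finrank_le_finrank_of_injective hLinj
  rw [Module.finrank_prod, Module.finrank_pi_fintype, Module.finrank_pi_fintype, Finset.sum_const,
    Finset.sum_const, Finset.card_univ, Finset.card_univ, Fintype.card_fin, Fintype.card_fin,
    smul_eq_mul, smul_eq_mul, hS₀] at hle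
  rw [← hK]
  have h5 : finrank F (LinearMap.ker (aeval 𝒜' (cyclotomic r F))) = a₁ * i := by omega
  rw [h5] at hle
  calc finrank F K ≤ b₀ * finrank F (Module.End.eigenspace 𝒜 1) + b₁ * (a₁ * i) := hle
    _ = finrank F (Module.End.eigenspace (Matrix.toLin' A) 1) * b₀ + a₁ * i * b₁ := by
        rw [h𝒜]; ring

end fix

section main

variable {F : Type*} [Field F] [Fintype F] {V : Type*} [AddCommGroup V] [Module F V]
  [FiniteDimensional F V]

theorem arith_min (a b i ρ a₀ a₁ b₀ b₁ fx : ℕ) (ha : 2 ≤ a) (hae : Even a) (hb : 3 ≤ b)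
    (hi : 2 ≤ i) (hρ : ρ = 1 ∨ (ρ = 2 ∧ Odd i)) (ha₁ : a = a₀ + a₁ * i) (hb₁ : b = b₀ + b₁ * i)
    (hle : fx ≤ a₀ * b₀ + (a₁ * i) * b₁) (hfix : a * b ≤ fx + ρ * i) : a₁ = 0 := by
  by_contra hne
  have ha1 : 1 ≤ a₁ := Nat.one_le_iff_ne_zero.mpr hne
  have hexp : a * b = a₀ * b₀ + i * (a₀ * b₁ + a₁ * b₀ + a₁ * b₁ * i) := by
    rw [ha₁, hb₁]; ring
  have h1 : i * (a₀ * b₁ + a₁ * b₀ + a₁ * b₁ * i) ≤ i * (a₁ * b₁ + ρ) := by
    have h2 : a₀ * b₀ + i * (a₀ * b₁ + a₁ * b₀ + a₁ * b₁ * i) ≤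
        a₀ * b₀ + i * (a₁ * b₁ + ρ) := by
      calc a₀ * b₀ + i * (a₀ * b₁ + a₁ * b₀ + a₁ * b₁ * i) = a * b := hexp.symm
        _ ≤ fx + ρ * i := hfix
        _ ≤ a₀ * b₀ + (a₁ * i) * b₁ + ρ * i := Nat.add_le_add_right hle _
        _ = a₀ * b₀ + i * (a₁ * b₁ + ρ) := by ring
    omega
  have h3 : a₀ * b₁ + a₁ * b₀ + a₁ * b₁ * i ≤ a₁ * b₁ + ρ :=
    Nat.le_of_mul_le_mul_left h1 (by omega)
  have hρ2 : ρ ≤ 2 := by rcases hρ with h | ⟨h, -⟩ <;> omega
  rcases Nat.eq_zero_or_pos b₁ with hb0 | hb1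
  · rw [hb0] at h3 hb₁
    simp only [mul_zero, zero_mul, add_zero, zero_add] at h3 hb₁
    have : 3 ≤ a₁ * b₀ := by
      calc 3 ≤ b₀ := by omega
        _ = 1 * b₀ := (one_mul _).symm
        _ ≤ a₁ * b₀ := Nat.mul_le_mul_right _ ha1
    omega
  · have hn1 : 1 ≤ a₁ * b₁ := Nat.mul_pos ha1 hb1
    have h4 : a₁ * b₁ * 2 ≤ a₁ * b₁ * i := Nat.mul_le_mul_left _ hi
    have hab1 : a₁ * b₁ = 1 ∨ a₁ * b₁ = 2 := by omega
    have ha₀b₁ : a₀ ≤ a₀ * b₁ := Nat.le_mul_of_pos_right _ hb1
    have ha₁b₀ : b₀ ≤ a₁ * b₀ := Nat.le_mul_of_pos_left _ ha1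
    rcases hρ with hρ1 | ⟨hρ2', hodd⟩
    · -- ρ = 1
      have h5 : a₁ * b₁ = 1 := by omega
      rw [h5] at h3 h4
      have ha1' : a₁ = 1 := (mul_eq_one.mp h5).1
      have hb1' : b₁ = 1 := (mul_eq_one.mp h5).2
      rw [ha1', hb1'] at h3
      rw [hb1'] at hb₁
      omega
    · have hi3 : 3 ≤ i := by
        obtain ⟨k, hk⟩ := hodd
        omega
      have h6 : a₁ * b₁ * 3 ≤ a₁ * b₁ * i := Nat.mul_le_mul_left _ hi3
      have h5 : a₁ * b₁ = 1 := by omega
      rw [h5] at h3 h6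
      have ha1' : a₁ = 1 := (mul_eq_one.mp h5).1
      have hb1' : b₁ = 1 := (mul_eq_one.mp h5).2
      rw [ha1', hb1'] at h3
      rw [ha1'] at ha₁
      have hi3' : i = 3 := by omega
      have ha0 : a₀ = 0 := by omega
      rw [ha0, hi3'] at ha₁
      obtain ⟨k, hk⟩ := hae
      omega

open Cfsg.Agent.Lib.Helper15.PSub in
/-- for an element of order `r` whose moved part is minimal, a Kronecker structure has a scalar
first factor -/
theorem KronConj.toOne_of_min (p : ℕ) [Fact p.Prime] [CharP F p] (r : ℕ) [hr : Fact r.Prime]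
    (hrp : r ≠ p) {X : V →ₗ[F] V} {a b : ℕ} (hK : KronConj X a b) (ha : 2 ≤ a) (hae : Even a)
    (hb : 3 ≤ b) (hXr : X ^ r = 1) (ρ : ℕ)
    (hρ : ρ = 1 ∨ (ρ = 2 ∧ Odd (orderOf ((Fintype.card F : ℕ) : ZMod r))))
    (hfix : a * b ≤ finrank F (Module.End.eigenspace X 1) +
      ρ * orderOf ((Fintype.card F : ℕ) : ZMod r)) :
    ∃ M : Matrix (Fin b) (Fin b) F, KronOne X a b M := by
  set i := orderOf ((Fintype.card F : ℕ) : ZMod r) with hi
  have hipos : 0 < i := orderOf_pos_of_ne p r hrp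
  have hρ2 : ρ ≤ 2 := by rcases hρ with h | ⟨h, -⟩ <;> omega
  by_cases hrq : r ∣ Fintype.card F - 1
  · have hi1 : i = 1 := (orderOf_zmod_eq_one_iff (Fintype.card F) r Fintype.card_pos).mpr hrq
    rw [hi1, mul_one] at hfix
    exact hK.toOne_of_small_codim 1 one_ne_zero (by omega)
  · have hi2 : 2 ≤ i := by
      have : i ≠ 1 := fun h =>
        hrq ((orderOf_zmod_eq_one_iff (Fintype.card F) r Fintype.card_pos).mp h)
      omega
    obtain ⟨A, B, Θ, hΘ⟩ := hK
    have : Nonempty (Fin a) := ⟨⟨0, by omega⟩⟩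
    have : Nonempty (Fin b) := ⟨⟨0, by omega⟩⟩
    set T := Matrix.toLin' ((A : Matrix (Fin a) (Fin a) F) ⊗ₖ (B : Matrix (Fin b) (Fin b) F))
      with hT
    have hTX : ∀ v, Θ (T v) = X (Θ v) := fun v => by
      rw [hT, Matrix.toLin'_apply]; exact (hΘ v).symm
    have hTr : T ^ r = 1 := by
      apply LinearMap.ext
      intro u
      apply Θ.injective
      have h1 := aeval_intertwine T X (Θ : (Fin a × Fin b → F) →ₗ[F] V) hTX (Polynomial.X ^ r) u
      rw [map_pow, aeval_X, map_pow, aeval_X, hXr, Module.End.one_apply] at h1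
      rw [Module.End.one_apply]
      exact h1
    have hABr : ((A : Matrix (Fin a) (Fin a) F) ^ r) ⊗ₖ ((B : Matrix (Fin b) (Fin b) F) ^ r) =
        (1 : F) • (1 : Matrix (Fin a × Fin b) (Fin a × Fin b) F) := by
      rw [← kron_pow, one_smul]
      apply Matrix.toLin'.injective
      rw [Matrix.toLin'_pow, ← hT, hTr, Matrix.toLin'_one]
      rfl
    obtain ⟨z₁, z₂, hA, hB, hz⟩ := kron_eq_smul_one _ _ 1 one_ne_zero hABr
    have hz₁ : z₁ ≠ 0 := by
      rintro rfl
      rw [zero_mul] at hz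
      exact zero_ne_one hz
    obtain ⟨c, hc0, hc⟩ := exists_pow_eq_of_not_dvd r hr.out hrq z₁ hz₁
    obtain ⟨A', hA'⟩ : ∃ A' : Matrix (Fin a) (Fin a) F,
        A' = c⁻¹ • (A : Matrix (Fin a) (Fin a) F) := ⟨_, rfl⟩
    obtain ⟨B', hB'⟩ : ∃ B' : Matrix (Fin b) (Fin b) F,
        B' = c • (B : Matrix (Fin b) (Fin b) F) := ⟨_, rfl⟩
    have hAB' : (A : Matrix (Fin a) (Fin a) F) ⊗ₖ (B : Matrix (Fin b) (Fin b) F) = A' ⊗ₖ B' := by
      rw [hA', hB', Matrix.smul_kronecker, Matrix.kronecker_smul, smul_smul, inv_mul_cancel₀ hc0,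
        one_smul]
    have hA'r : A' ^ r = 1 := by
      rw [hA', _root_.smul_pow, hA, smul_smul, inv_pow, hc, inv_mul_cancel₀ hz₁, one_smul]
    have hB'r : B' ^ r = 1 := by
      rw [hB', _root_.smul_pow, hB, smul_smul, hc, hz, one_smul]
    obtain ⟨a₁, b₀, b₁, ha₁, hb₁, hle⟩ := finrank_fix_kron_le p r hrp A' B' hA'r hB'r
    rw [Fintype.card_fin, ← hi] at ha₁ hb₁
    rw [← hi, ← hAB', ← hT] at hle
    have hfx := finrank_ker_aeval_conj T X Θ hTX (Polynomial.X - C 1)
    rw [← eigenspace_eq_ker_aeval, ← eigenspace_eq_ker_aeval] at hfx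
    rw [hfx] at hfix
    have ha₁0 : a₁ = 0 := arith_min a b i ρ _ a₁ b₀ b₁ _ ha hae hb hi2 hρ ha₁ hb₁ hle hfix
    rw [ha₁0, zero_mul, add_zero] at ha₁
    have hA'1 : A' = 1 := by
      have h1 := eq_smul_one_of_eigenspace_top (Matrix.toLin' A') 1 (by
        rw [Module.finrank_fintype_fun_eq_card, Fintype.card_fin]; exact ha₁.symm)
      rw [one_smul] at h1
      apply Matrix.toLin'.injective
      rw [h1, Matrix.toLin'_one]
      rfl
    refine ⟨B', Θ, fun u => ?_⟩
    rw [hΘ u, hAB', hA'1]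

open Cfsg.Agent.Lib.Helper15.PSub in
/-- **The obstruction for elements of order `r` with minimal moved part.** -/
theorem not_kronConj_of_min (p : ℕ) [Fact p.Prime] [CharP F p] (r : ℕ) [hr : Fact r.Prime]
    (hrp : r ≠ p) (X : V →ₗ[F] V) (a b : ℕ) (hV : finrank F V = a * b) (ha : 2 ≤ a)
    (hae : Even a) (hb : 3 ≤ b) (hXr : X ^ r = 1) (hX1 : X ≠ 1) (ρ : ℕ)
    (hρ : ρ = 1 ∨ (ρ = 2 ∧ Odd (orderOf ((Fintype.card F : ℕ) : ZMod r)) ∧
      ∀ P : F[X], Irreducible P → P ∣ cyclotomic r F →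
        finrank F (LinearMap.ker (aeval X P)) ≠ 2 * orderOf ((Fintype.card F : ℕ) : ZMod r)))
    (hfix : a * b ≤ finrank F (Module.End.eigenspace X 1) +
      ρ * orderOf ((Fintype.card F : ℕ) : ZMod r)) : ¬ KronConj X a b := by
  intro hK
  set i := orderOf ((Fintype.card F : ℕ) : ZMod r) with hi
  have hipos : 0 < i := orderOf_pos_of_ne p r hrp
  have hr0 : (r : F) ≠ 0 := ne_zero_of_ne p r hr.out hrp
  obtain ⟨M, hM⟩ := hK.toOne_of_min p r hrp ha hae hb hXr ρ
    (by rcases hρ with h | ⟨h1, h2, -⟩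
        · exact Or.inl h
        · exact Or.inr ⟨h1, h2⟩) hfix
  have hMr := hM.pow_eq_one (by omega) r hXr
  obtain ⟨s, hs⟩ := exists_structure p r hrp (Matrix.toLin' M) hMr
  rw [Module.finrank_fintype_fun_eq_card, Fintype.card_fin, ← hi] at hs
  have hd := hM.finrank_eigenspace 1
  obtain ⟨m₀, hm₀⟩ : ∃ m₀ : ℕ, m₀ = finrank F (Module.End.eigenspace (Matrix.toLin' M) 1) :=
    ⟨_, rfl⟩
  rw [← hm₀] at hs hd
  rw [hd, hs] at hfix
  have h1 : i * (a * s) ≤ i * ρ := by
    have : a * (m₀ + s * i) = a * m₀ + i * (a * s) := by ring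
    rw [this] at hfix
    have h2 : ρ * i = i * ρ := mul_comm _ _
    omega
  have h2 : a * s ≤ ρ := Nat.le_of_mul_le_mul_left h1 hipos
  rcases Nat.eq_zero_or_pos s with hs0 | hs1
  · rw [hs0, zero_mul, add_zero] at hs
    have h3 : finrank F (Module.End.eigenspace X 1) = finrank F V := by
      rw [hd, ← hs, hV]
    have := eq_smul_one_of_eigenspace_top X 1 h3
    rw [one_smul] at this
    exact hX1 this
  · have h3 : a ≤ a * s := Nat.le_mul_of_pos_right _ hs1
    rcases hρ with hρ1 | ⟨hρ2, -, hP⟩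
    · omega
    · have ha2 : a = 2 := by omega
      have hs1' : s = 1 := by
        rw [ha2] at h2
        omega
      rw [hs1', one_mul] at hs
      -- the moved part of `M`
      have hW := finrank_ker_cyclotomic r hr0 (Matrix.toLin' M) hMr
      rw [Module.finrank_fintype_fun_eq_card, Fintype.card_fin, ← hm₀] at hW
      have hWi : finrank F (LinearMap.ker (aeval (Matrix.toLin' M) (cyclotomic r F))) = i := by
        omega
      have hWne : LinearMap.ker (aeval (Matrix.toLin' M) (cyclotomic r F)) ≠ ⊥ := by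
        intro h0
        rw [h0, finrank_bot] at hWi
        omega
      obtain ⟨w, hwW, hw0⟩ := Submodule.exists_mem_ne_zero_of_ne_bot hWne
      obtain ⟨P, hPirr, hPQ, v, hv0, hPv, -⟩ :=
        exists_irreducible_killer (Matrix.toLin' M) (cyclotomic r F) (cyclotomic_ne_zero r F) w hw0
          (LinearMap.mem_ker.mp hwW)
      have hKle : LinearMap.ker (aeval (Matrix.toLin' M) P) ≤
          LinearMap.ker (aeval (Matrix.toLin' M) (cyclotomic r F)) := by
        intro u hu
        obtain ⟨g, hg⟩ := hPQ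
        rw [LinearMap.mem_ker] at hu ⊢
        rw [hg, mul_comm, map_mul, Module.End.mul_apply, hu, map_zero]
      have hss : Module.End.IsSemisimple (Matrix.toLin' M) :=
        isSemisimple_of_pow_eq_smul _ r hr0 1 one_ne_zero (by rw [hMr, one_smul])
      have hdvd := dvd_finrank_of_killed (Matrix.toLin' M) hss (cyclotomic r F)
        (cyclotomic_ne_zero r F) i
        (fun P' hP' hPd => cyclotomic_factor_degree p r hr.out hrp P' hP' hPd)
        (LinearMap.ker (aeval (Matrix.toLin' M) P)) (ker_aeval_invt _ _)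
        (fun u hu => LinearMap.mem_ker.mp (hKle hu))
      have hpos : 0 < finrank F (LinearMap.ker (aeval (Matrix.toLin' M) P)) := by
        rw [Module.finrank_pos_iff_exists_ne_zero]
        exact ⟨⟨v, LinearMap.mem_ker.mpr hPv⟩, fun h => hv0 (congrArg Subtype.val h)⟩
      have hle := Submodule.finrank_mono hKle
      rw [hWi] at hle
      have heq : finrank F (LinearMap.ker (aeval (Matrix.toLin' M) P)) = i := by
        obtain ⟨k, hk⟩ := hdvd
        rw [hk] at hle hpos ⊢
        have hk1 : k = 1 := by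
          rcases Nat.eq_zero_or_pos k with h0 | h1
          · rw [h0, mul_zero] at hpos; omega
          · by_contra hne
            have : 2 ≤ k := by omega
            have : i * 2 ≤ i * k := Nat.mul_le_mul_left _ this
            omega
        rw [hk1, mul_one]
      have := hM.finrank_ker P
      rw [heq, ha2] at this
      exact hP P hPirr hPQ this

end main

end Cfsg.Agent.Lib.Helper10.Kron
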