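import Mathlib
import Cfsg.Agent.Lib.Helper10.Kron7
import Cfsg.Agent.Lib.Helper15.PSpJ5

/-!
# Isometries of odd prime order of an alternating space: the moved part is not isotypic for an
irreducible polynomial of odd degree
-/

set_option autoImplicit false

namespace Cfsg.Agent.Lib.Helper10.Kron

open Matrix Module Polynomial
open scoped Kronecker MatrixGroups

section rev

variable {F : Type*} [Field F]

theorem eval_reverse_mul_pow (P : F[X]) (x : F) (hx : x ≠ 0) :
    eval x⁻¹ P.reverse * x ^ P.natDegree = eval x P := by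
  letI : Invertible x := invertibleOfNonzero hx
  have h := eval₂_reverse_mul_pow (RingHom.id F) x P
  rw [invOf_eq_inv] at h
  exact h

variable {V : Type*} [AddCommGroup V] [Module F V]

/-- the reversed polynomial evaluated at an invertible endomorphism -/
theorem aeval_reverse (y y' : V →ₗ[F] V) (hyy' : y * y' = 1) (hcomm : Commute y y') (P : F[X]) :
    aeval y P.reverse = y ^ P.natDegree * aeval y' P := by
  set n := P.natDegree with hn
  have hR : P.reverse.natDegree < n + 1 :=
    Nat.lt_succ_of_le (by rw [hn]; exact reverse_natDegree_le P)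
  rw [aeval_eq_sum_range' hR, aeval_eq_sum_range, Finset.mul_sum, ← hn]
  rw [← Finset.sum_range_reflect]
  apply Finset.sum_congr rfl
  intro m hm
  have hm' : m ≤ n := Nat.lt_succ_iff.mp (Finset.mem_range.mp hm)
  have h1 : n + 1 - 1 - m = n - m := by omega
  have h3 : n - (n - m) = m := by omega
  rw [h1, coeff_reverse, revAt_le (by rw [← hn]; omega), ← hn, h3, mul_smul_comm]
  congr 1
  have h2 : y ^ n = y ^ (n - m) * y ^ m := by rw [← pow_add]; congr 1; omega
  rw [h2, mul_assoc, ← hcomm.mul_pow, hyy', one_pow, mul_one]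

end rev

section iso

variable {F V : Type*} [Field F] [Fintype F] [AddCommGroup V] [Module F V] [FiniteDimensional F V]
variable {B : V →ₗ[F] V →ₗ[F] F}

open Cfsg.Agent.Lib.Helper15 Cfsg.Agent.Lib.Helper15.PSpI Cfsg.Agent.Lib.Helper15.PSpJ
  Cfsg.Agent.Lib.Helper15.PSub in
/-- an irreducible factor of odd degree of the cyclotomic polynomial does not kill the whole
moved part of an isometry of odd prime order -/
theorem not_kills_moved (p : ℕ) [Fact p.Prime] [CharP F p] (hp2 : p ≠ 2) (r : ℕ)
    [hr : Fact r.Prime] (hr2 : r ≠ 2) (hrp : r ≠ p) (halt : ∀ x, B x x = 0)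
    (hnd : ∀ x, (∀ y, B x y = 0) → x = 0) (y : V →ₗ[F] V)
    (hiso : ∀ u v, B (y u) (y v) = B u v) (hy : y ^ r = 1)
    (hmov : finrank F (Module.End.eigenspace y 1) < finrank F V)
    (P : F[X]) (hP : Irreducible P) (hPd : P ∣ cyclotomic r F) (hodd : Odd P.natDegree) :
    ¬ LinearMap.ker (aeval y (cyclotomic r F)) ≤ LinearMap.ker (aeval y P) := by
  intro hkill
  have hr0 : (r : F) ≠ 0 := ne_zero_of_ne p r hr.out hrp
  have h20 : (2 : F) ≠ 0 := by
    intro h
    have h2 : ((2 : ℕ) : F) = 0 := by exact_mod_cast h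
    rw [CharP.cast_eq_zero_iff F p 2] at h2
    exact hp2 ((Nat.prime_dvd_prime_iff_eq Fact.out Nat.prime_two).mp h2)
  have hr1 : r - 1 + 1 = r := Nat.sub_add_cancel hr.out.one_le
  obtain ⟨y', hy'⟩ : ∃ y' : V →ₗ[F] V, y' = y ^ (r - 1) := ⟨_, rfl⟩
  have hyy' : y * y' = 1 := by rw [hy', ← pow_succ', hr1, hy]
  have hcomm : Commute y y' := by rw [hy']; exact Commute.self_pow y _
  have hinv : ∀ w, y (y' w) = w := fun w => by
    have := LinearMap.congr_fun hyy' w
    exact this
  have htop : (⊤ : Submodule F V).map y = ⊤ := by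
    rw [Submodule.map_top, LinearMap.range_eq_top]
    intro w
    exact ⟨y' w, hinv w⟩
  have hndtop : NondegOn B (⊤ : Submodule F V) := fun u _ h => hnd u (fun v => h v trivial)
  obtain ⟨hNx, hNn, hNE, hNdim, -, -⟩ :=
    movPart_props halt y hiso r hr.out.ne_zero hr0 hy ⊤ htop hndtop
  set N := movPart B y ⊤ with hN
  rw [top_inf_eq, finrank_top] at hNdim
  have hNinv : N ∈ Module.End.invtSubmodule y := by
    rw [Module.End.mem_invtSubmodule_iff_map_le, hNx]
  have hNcyc : ∀ v ∈ N, aeval y (cyclotomic r F) v = 0 := cyclotomic_kills y r hy N hNinv hNE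
  have hNP : ∀ v ∈ N, aeval y P v = 0 := fun v hv =>
    LinearMap.mem_ker.mp (hkill (LinearMap.mem_ker.mpr (hNcyc v hv)))
  have hN0 : N ≠ ⊥ := by
    intro h0
    rw [h0, finrank_bot] at hNdim
    omega
  have hNinv' : N ∈ Module.End.invtSubmodule y' := by
    intro v hv
    rw [Submodule.mem_comap, hy']
    exact pow_mem_of_map_eq y hNx _ hv
  -- the polynomial in the inverse kills the moved part
  have hNP' : ∀ v ∈ N, aeval y' P v = 0 := by
    intro v hv
    have hmem : aeval y' P v ∈ N := aeval_mem_of_invt y' hNinv' P hv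
    apply hNn _ hmem
    intro u hu
    rw [alt_swap B halt, ← adj_aeval y y' hiso hinv P u v, hNP u hu]
    simp
  have hNR : ∀ v ∈ N, aeval y P.reverse v = 0 := by
    intro v hv
    rw [aeval_reverse y y' hyy' hcomm P, Module.End.mul_apply, hNP' v hv, map_zero]
  obtain ⟨v, hvN, hv0⟩ := Submodule.exists_mem_ne_zero_of_ne_bot hN0
  rcases hP.isCoprime_or_dvd P.reverse with hco | hdvd
  · obtain ⟨a, b, hab⟩ := hco
    apply hv0
    have h1 : aeval y (a * P + b * P.reverse) v = v := by
      rw [hab, map_one, Module.End.one_apply]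
    rw [map_add, map_mul, map_mul, LinearMap.add_apply, Module.End.mul_apply,
      Module.End.mul_apply, hNP v hvN, hNR v hvN, map_zero, map_zero, add_zero] at h1
    exact h1.symm
  · obtain ⟨g, hg⟩ := hdvd
    have hP0 : P ≠ 0 := hP.ne_zero
    have hR0 : P.reverse ≠ 0 := by
      intro h
      exact hP0 (reverse_eq_zero.mp h)
    have hg0 : g ≠ 0 := by
      rintro rfl
      rw [mul_zero] at hg
      exact hR0 hg
    have hdeg : g.natDegree = 0 := by
      have h1 := natDegree_mul hP0 hg0
      rw [← hg] at h1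
      have h2 := reverse_natDegree_le P
      omega
    obtain ⟨u, hu⟩ : ∃ u : F, g = C u := ⟨g.coeff 0, eq_C_of_natDegree_eq_zero hdeg⟩
    -- values at `1` and `-1`
    have hP1 : eval 1 P ≠ 0 := by
      intro h
      obtain ⟨k, hk⟩ := hPd
      have := congrArg (eval 1) hk
      rw [eval_one_cyclotomic_prime, eval_mul, h, zero_mul] at this
      exact hr0 this
    have hPm1 : eval (-1) P ≠ 0 := by
      intro h
      obtain ⟨k, hk⟩ := hPd
      have h1 := congrArg (eval (-1)) (cyclotomic_prime_mul_X_sub_one F r)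
      rw [hk, eval_mul, eval_mul, h, zero_mul, zero_mul, eval_sub, eval_pow, eval_X, eval_one,
        (hr.out.odd_of_ne_two hr2).neg_one_pow] at h1
      apply h20
      linear_combination h1
    have e1 := eval_reverse_mul_pow P 1 one_ne_zero
    rw [inv_one, one_pow, mul_one, hg, hu, eval_mul, eval_C] at e1
    have hu1 : u = 1 := by
      have : eval 1 P * (u - 1) = 0 := by linear_combination e1
      rcases mul_eq_zero.mp this with h | h
      · exact absurd h hP1
      · exact sub_eq_zero.mp h
    have e2 := eval_reverse_mul_pow P (-1) (neg_ne_zero.mpr one_ne_zero)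
    rw [inv_neg_one, hodd.neg_one_pow, hg, hu, hu1, eval_mul, eval_C, mul_one] at e2
    apply hPm1
    have : (2 : F) * eval (-1) P = 0 := by linear_combination -e2
    exact (mul_eq_zero.mp this).resolve_left h20

end iso

end Cfsg.Agent.Lib.Helper10.Kron
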