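import Mathlib
import Cfsg.Agent.Lib.Helper10.Kron8
import Cfsg.Agent.Lib.Helper6.Symp
import Cfsg.Agent.Lib.Helper15.SympOrder
import Cfsg.Agent.Lib.Helper15.PSpJ7

/-!
# Elements of prime order of the symplectic group which are not conjugate to a Kronecker product
-/

set_option autoImplicit false

namespace Cfsg.Agent.Lib.Helper10.Kron

open Matrix Module Polynomial
open scoped Kronecker MatrixGroups

section bridgeι

variable {F : Type*} [Field F] {ι : Type} [Fintype ι] [DecidableEq ι]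

/-- the linear equivalence of an invertible matrix, for an arbitrary index type -/
noncomputable def glEquivι (g : GL ι F) : (ι → F) ≃ₗ[F] (ι → F) :=
  LinearEquiv.ofLinearMap (Matrix.toLin' (g : Matrix ι ι F))
    (Matrix.toLin' ((g⁻¹ : GL ι F) : Matrix ι ι F))
    (by rw [← Matrix.toLin'_mul, ← Units.val_mul, mul_inv_cancel, Units.val_one, Matrix.toLin'_one])
    (by rw [← Matrix.toLin'_mul, ← Units.val_mul, inv_mul_cancel, Units.val_one, Matrix.toLin'_one])

theorem glEquivι_apply (g : GL ι F) (v : ι → F) :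
    glEquivι g v = (g : Matrix ι ι F) *ᵥ v := by
  show Matrix.toLin' (g : Matrix ι ι F) v = _
  rw [Matrix.toLin'_apply]

theorem glReindexι_val {a b : ℕ} (e : ι ≃ Fin a × Fin b) (k : GL (Fin a × Fin b) F) :
    ((Cfsg.Geo.glReindex e.symm k : GL ι F) : Matrix ι ι F) =
      (k : Matrix (Fin a × Fin b) (Fin a × Fin b) F).submatrix e e := by
  unfold Cfsg.Geo.glReindex
  rw [Units.coe_mapEquiv]
  rfl

theorem glReindexι_mulVec {a b : ℕ} (e : ι ≃ Fin a × Fin b) (k : GL (Fin a × Fin b) F)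
    (u : Fin a × Fin b → F) :
    ((Cfsg.Geo.glReindex e.symm k : GL ι F) : Matrix ι ι F) *ᵥ (u ∘ e) =
      ((k : Matrix (Fin a × Fin b) (Fin a × Fin b) F) *ᵥ u) ∘ e := by
  rw [glReindexι_val, Matrix.submatrix_mulVec_equiv]
  congr 2
  funext p
  simp

/-- **Bridge 1** for an arbitrary index type -/
theorem kronConj_of_memι {a b : ℕ} (e : ι ≃ Fin a × Fin b) (P x g : GL ι F)
    (h : g⁻¹ * x * g ∈ Cfsg.Geo.tensorProductSubgroup a b e P) :
    KronConj (Matrix.toLin' (x : Matrix ι ι F)) a b := by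
  unfold Cfsg.Geo.tensorProductSubgroup at h
  rw [Subgroup.mem_map] at h
  obtain ⟨k1, hk1, hk1eq⟩ := h
  rw [Subgroup.mem_map] at hk1
  obtain ⟨k, ⟨A, B, hk⟩, rfl⟩ := hk1
  have hconj : P * (Cfsg.Geo.glReindex e.symm k) * P⁻¹ = g⁻¹ * x * g := hk1eq
  have hx : x * (g * P) = (g * P) * (Cfsg.Geo.glReindex e.symm k) := by
    have : x = g * (P * (Cfsg.Geo.glReindex e.symm k) * P⁻¹) * g⁻¹ := by
      rw [hconj]; group
    rw [this]; group
  refine ⟨A, B, (LinearEquiv.funCongrLeft F F e).trans (glEquivι (g * P)), fun u => ?_⟩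
  have h1 : ∀ w : Fin a × Fin b → F,
      ((LinearEquiv.funCongrLeft F F e).trans (glEquivι (g * P))) w =
        ((g * P : GL ι F) : Matrix ι ι F) *ᵥ (w ∘ e) := by
    intro w
    rw [LinearEquiv.trans_apply, glEquivι_apply]
    rfl
  rw [h1, h1, Matrix.toLin'_apply, Matrix.mulVec_mulVec, ← Units.val_mul, hx, Units.val_mul,
    ← Matrix.mulVec_mulVec, glReindexι_mulVec, hk]

end bridgeι

section diagι

variable {F : Type*} [Field F] {ι : Type*} [Fintype ι] [DecidableEq ι]

theorem toLin'_diagonal_subι (d : ι → F) (c : F) :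
    Matrix.toLin' (Matrix.diagonal d) - c • (1 : (ι → F) →ₗ[F] (ι → F)) =
      Matrix.toLin' (Matrix.diagonal (fun k => d k - c)) := by
  apply LinearMap.ext
  intro v
  funext k
  simp only [LinearMap.sub_apply, LinearMap.smul_apply, Module.End.one_apply, Matrix.toLin'_apply,
    Matrix.mulVec_diagonal, Pi.sub_apply, Pi.smul_apply, smul_eq_mul]
  ring

theorem finrank_eigenspace_diagonalι [DecidableEq F] (d : ι → F) (μ : F) :
    finrank F (Module.End.eigenspace (Matrix.toLin' (Matrix.diagonal d)) μ) =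
      Fintype.card {k // d k = μ} := by
  have h1 := finrank_eigenspace_add_range (Matrix.toLin' (Matrix.diagonal d)) μ
  have h0 : finrank F (LinearMap.range (Matrix.toLin' (Matrix.diagonal d) -
      μ • (1 : (ι → F) →ₗ[F] (ι → F)))) = Fintype.card {k // d k ≠ μ} := by
    rw [toLin'_diagonal_subι, Matrix.toLin'_apply']
    have h1 := Matrix.rank_diagonal (fun k => d k - μ)
    rw [Matrix.rank] at h1
    rw [h1]
    apply Fintype.card_congr
    exact Equiv.subtypeEquivRight (fun k => by simp [sub_eq_zero])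
  rw [h0, Module.finrank_fintype_fun_eq_card] at h1
  have h2 := Fintype.card_subtype_compl (fun k : ι => d k = μ)
  have h3 := Fintype.card_subtype_le (fun k : ι => d k = μ)
  have h4 : Fintype.card {k // d k ≠ μ} = Fintype.card {k // ¬ d k = μ} := rfl
  omega

end diagι

section sp

variable {F : Type*} [Field F] {d : ℕ}

open Cfsg.Agent.Lib.Helper6 Cfsg.Agent.Lib.Helper15

theorem finrank_sum_fun : finrank F (Fin d ⊕ Fin d → F) = 2 * d := by
  rw [Module.finrank_fintype_fun_eq_card, Fintype.card_sum, Fintype.card_fin, two_mul]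

theorem sympTransvection_zero' (v : Fin d ⊕ Fin d → F) : Cfsg.sympTransvection d v (0 : F) = 1 := by
  apply matrix_ext_mulVec
  intro x
  rw [sympTransvection_mulVec, zero_mul, zero_smul, add_zero, Matrix.one_mulVec]

theorem sympTransvection_pow (v : Fin d ⊕ Fin d → F) (k : ℕ) :
    (Cfsg.sympTransvection d v (1 : F)) ^ k = Cfsg.sympTransvection d v (k : F) := by
  induction k with
  | zero => rw [pow_zero, Nat.cast_zero, sympTransvection_zero']
  | succ k ih => rw [pow_succ, ih, sympTransvection_mul, Nat.cast_succ]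

/-- `r = p`: a symplectic transvection -/
theorem exists_bad_sp_char (p : ℕ) [Fact p.Prime] [CharP F p] (hd : 1 ≤ d) (a b : ℕ)
    (hab : 2 * d = a * b) (ha : 2 ≤ a) (hb : 2 ≤ b) :
    ∃ x : GL (Fin d ⊕ Fin d) F, x ∈ Cfsg.spGL d F ∧
      (∃ z : F, ((x ^ p : GL (Fin d ⊕ Fin d) F) : Matrix (Fin d ⊕ Fin d) (Fin d ⊕ Fin d) F) =
        z • (1 : Matrix (Fin d ⊕ Fin d) (Fin d ⊕ Fin d) F)) ∧
      (∀ z : F, (x : Matrix (Fin d ⊕ Fin d) (Fin d ⊕ Fin d) F) ≠
        z • (1 : Matrix (Fin d ⊕ Fin d) (Fin d ⊕ Fin d) F)) ∧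
      ¬ KronConj (Matrix.toLin' (x : Matrix (Fin d ⊕ Fin d) (Fin d ⊕ Fin d) F)) a b := by
  classical
  let i₀ : Fin d := ⟨0, hd⟩
  obtain ⟨v, hv⟩ : ∃ v : Fin d ⊕ Fin d → F, v = Pi.single (Sum.inl i₀) 1 := ⟨_, rfl⟩
  let x : GL (Fin d ⊕ Fin d) F :=
    ⟨Cfsg.sympTransvection d v 1, Cfsg.sympTransvection d v (-1),
      by rw [sympTransvection_mul, add_neg_cancel, sympTransvection_zero'],
      by rw [sympTransvection_mul, neg_add_cancel, sympTransvection_zero']⟩
  have hxval : (x : Matrix (Fin d ⊕ Fin d) (Fin d ⊕ Fin d) F) = Cfsg.sympTransvection d v 1 := rfl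
  have hxmul : ∀ u : Fin d ⊕ Fin d → F,
      (x : Matrix (Fin d ⊕ Fin d) (Fin d ⊕ Fin d) F) *ᵥ u = u + (u (Sum.inr i₀)) • v := by
    intro u
    rw [hxval, sympTransvection_mulVec, one_mul, hv, sympForm_single_right_inl]
  have hns : ∀ z : F, (x : Matrix (Fin d ⊕ Fin d) (Fin d ⊕ Fin d) F) ≠
      z • (1 : Matrix (Fin d ⊕ Fin d) (Fin d ⊕ Fin d) F) := by
    intro z hz
    have h1 := hxmul (Pi.single (Sum.inr i₀) 1)
    rw [hz, Matrix.smul_mulVec, Matrix.one_mulVec] at h1
    have h2 := congrFun h1 (Sum.inl i₀)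
    rw [hv] at h2
    simp at h2
  refine ⟨x, ?_, ⟨1, ?_⟩, hns, ?_⟩
  · exact (mem_symplecticGroup_iff_preserves _).mp (sympTransvection_mem v 1)
  · rw [Units.val_pow_eq_pow_val, hxval, sympTransvection_pow, CharP.cast_eq_zero,
      sympTransvection_zero', one_smul]
  · set X := Matrix.toLin' (x : Matrix (Fin d ⊕ Fin d) (Fin d ⊕ Fin d) F) with hX
    have hle : LinearMap.range (X - (1 : F) • (1 : (Fin d ⊕ Fin d → F) →ₗ[F] _)) ≤
        Submodule.span F {v} := by
      rintro _ ⟨u, rfl⟩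
      rw [Submodule.mem_span_singleton]
      refine ⟨u (Sum.inr i₀), ?_⟩
      rw [LinearMap.sub_apply, LinearMap.smul_apply, Module.End.one_apply, one_smul, hX,
        Matrix.toLin'_apply, hxmul, add_sub_cancel_left]
    have hrk : finrank F (LinearMap.range (X - (1 : F) • (1 : (Fin d ⊕ Fin d → F) →ₗ[F] _))) ≤ 1 := by
      refine (Submodule.finrank_mono hle).trans ?_
      have := finrank_span_le_card (R := F) ({v} : Set (Fin d ⊕ Fin d → F))
      simpa using this
    have h1 := finrank_eigenspace_add_range X 1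
    rw [finrank_sum_fun, hab] at h1
    have h2 : finrank F (Module.End.eigenspace X 1) ≠ a * b := by
      intro h
      have h3 := eq_smul_one_of_eigenspace_top X 1 (by rw [h, finrank_sum_fun, hab])
      apply hns 1
      apply Matrix.toLin'.injective
      rw [← hX, h3, map_smul, Matrix.toLin'_one]
      rfl
    have hpos : 4 ≤ a * b := by nlinarith
    have h3 : finrank F (Module.End.eigenspace X 1) = a * b - 1 := by omega
    apply not_kronConj_of_codim_lt X a b 1 one_ne_zero (by omega) 1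
    rw [h3]
    intro h4
    have h5 : a ∣ a * b := Dvd.intro _ rfl
    have h6 : a ∣ 1 := by
      have := Nat.dvd_sub h5 h4
      rwa [Nat.sub_sub_self (by omega)] at this
    have := Nat.le_of_dvd one_pos h6
    omega

/-- `r = 2`, `4 ≤ a`: minus one on a hyperbolic plane -/
theorem exists_bad_sp_two (h2 : (2 : F) ≠ 0) (hd : 2 ≤ d) (a b : ℕ)
    (hab : 2 * d = a * b) (ha : 3 ≤ a) (hb : 3 ≤ b) :
    ∃ x : GL (Fin d ⊕ Fin d) F, x ∈ Cfsg.spGL d F ∧
      (∃ z : F, ((x ^ 2 : GL (Fin d ⊕ Fin d) F) : Matrix (Fin d ⊕ Fin d) (Fin d ⊕ Fin d) F) =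
        z • (1 : Matrix (Fin d ⊕ Fin d) (Fin d ⊕ Fin d) F)) ∧
      (∀ z : F, (x : Matrix (Fin d ⊕ Fin d) (Fin d ⊕ Fin d) F) ≠
        z • (1 : Matrix (Fin d ⊕ Fin d) (Fin d ⊕ Fin d) F)) ∧
      ¬ KronConj (Matrix.toLin' (x : Matrix (Fin d ⊕ Fin d) (Fin d ⊕ Fin d) F)) a b := by
  classical
  let i₀ : Fin d := ⟨0, by omega⟩
  let i₁ : Fin d := ⟨1, by omega⟩
  have h01 : i₁ ≠ i₀ := by
    intro h
    have := congrArg Fin.val h
    simp [i₀, i₁] at this
  have hm1 : (1 : F) ≠ -1 := by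
    intro h
    apply h2
    linear_combination h
  obtain ⟨ε, hε⟩ : ∃ ε : Fin d → F, ε = fun i => if i = i₀ then -1 else 1 := ⟨_, rfl⟩
  have hεsq : ∀ i, ε i * ε i = 1 := by
    intro i
    rw [hε]
    by_cases hi : i = i₀ <;> simp [hi]
  have hεm : ∀ i, ε i = -1 ↔ i = i₀ := by
    intro i
    rw [hε]
    by_cases hi : i = i₀
    · simp [hi]
    · simp [hi, hm1]
  have hε1 : ∀ i, ε i = 1 ↔ ¬ ε i = -1 := by
    intro i
    rw [hε]
    by_cases hi : i = i₀
    · simp [hi, hm1.symm]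
    · simp [hi, hm1]
  obtain ⟨δ, hδ⟩ : ∃ δ : Fin d ⊕ Fin d → F, δ = Sum.elim ε ε := ⟨_, rfl⟩
  have hδsq : δ * δ = 1 := by
    funext s
    rw [hδ]
    rcases s with i | i <;> simp [hεsq]
  let x : GL (Fin d ⊕ Fin d) F :=
    ⟨Matrix.diagonal δ, Matrix.diagonal δ,
      by rw [Matrix.diagonal_mul_diagonal]
         have : (fun s => δ s * δ s) = fun _ => (1 : F) := by
           funext s; exact congrFun hδsq s
         rw [this, Matrix.diagonal_one],
      by rw [Matrix.diagonal_mul_diagonal]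
         have : (fun s => δ s * δ s) = fun _ => (1 : F) := by
           funext s; exact congrFun hδsq s
         rw [this, Matrix.diagonal_one]⟩
  have hxval : (x : Matrix (Fin d ⊕ Fin d) (Fin d ⊕ Fin d) F) = Matrix.diagonal δ := rfl
  have hns : ∀ z : F, (x : Matrix (Fin d ⊕ Fin d) (Fin d ⊕ Fin d) F) ≠
      z • (1 : Matrix (Fin d ⊕ Fin d) (Fin d ⊕ Fin d) F) := by
    intro z hz
    rw [hxval, Matrix.smul_one_eq_diagonal] at hz
    have h3 := Matrix.diagonal_injective hz
    have h4 := (congrFun h3 (Sum.inl i₀)).trans (congrFun h3 (Sum.inl i₁)).symm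
    rw [hδ, Sum.elim_inl, Sum.elim_inl, hε] at h4
    simp [h01] at h4
    exact hm1 h4.symm
  -- the numbers of diagonal entries
  have hcm : Fintype.card {s : Fin d ⊕ Fin d // δ s = -1} = 2 := by
    rw [Fintype.card_congr (Equiv.subtypeSum (p := fun s : Fin d ⊕ Fin d => δ s = -1)),
      Fintype.card_sum]
    have h5 : Fintype.card {i : Fin d // δ (Sum.inl i) = -1} = 1 := by
      rw [Fintype.card_congr (Equiv.subtypeEquivRight (q := fun i => i = i₀)
        (fun i => by rw [hδ, Sum.elim_inl]; exact hεm i))]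
      exact Fintype.card_subtype_eq i₀
    have h6 : Fintype.card {i : Fin d // δ (Sum.inr i) = -1} = 1 := by
      rw [Fintype.card_congr (Equiv.subtypeEquivRight (q := fun i => i = i₀)
        (fun i => by rw [hδ, Sum.elim_inr]; exact hεm i))]
      exact Fintype.card_subtype_eq i₀
    rw [h5, h6]
  have hc1 : Fintype.card {s : Fin d ⊕ Fin d // δ s = 1} = 2 * d - 2 := by
    rw [Fintype.card_congr (Equiv.subtypeEquivRight (q := fun s => ¬ δ s = -1)
      (fun s => by
        rw [hδ]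
        rcases s with i | i
        · rw [Sum.elim_inl]; exact hε1 i
        · rw [Sum.elim_inr]; exact hε1 i)),
      Fintype.card_subtype_compl, hcm, Fintype.card_sum, Fintype.card_fin, two_mul]
  refine ⟨x, ?_, ⟨1, ?_⟩, hns, ?_⟩
  · intro u v
    show Cfsg.sympForm d F ((x : Matrix (Fin d ⊕ Fin d) (Fin d ⊕ Fin d) F) *ᵥ u)
      ((x : Matrix (Fin d ⊕ Fin d) (Fin d ⊕ Fin d) F) *ᵥ v) = _
    rw [hxval, sympForm_eq_sum, sympForm_eq_sum]
    apply Finset.sum_congr rfl
    intro i _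
    rw [Matrix.mulVec_diagonal, Matrix.mulVec_diagonal, Matrix.mulVec_diagonal,
      Matrix.mulVec_diagonal, hδ, Sum.elim_inl, Sum.elim_inr]
    have := hεsq i
    linear_combination (u (Sum.inr i) * v (Sum.inl i) - u (Sum.inl i) * v (Sum.inr i)) * this
  · rw [Units.val_pow_eq_pow_val, hxval, Matrix.diagonal_pow, one_smul]
    have : δ ^ 2 = 1 := by rw [pow_two]; exact hδsq
    rw [this]
    exact Matrix.diagonal_one
  · rw [hxval]
    have hf1 := finrank_eigenspace_diagonalι δ 1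
    have hfm := finrank_eigenspace_diagonalι δ (-1)
    rw [hc1] at hf1
    rw [hcm] at hfm
    apply not_kronConj_of_codim_lt _ a b 1 one_ne_zero (by rw [hf1]; omega) (-1)
    rw [hfm]
    intro h4
    have := Nat.le_of_dvd two_pos h4
    omega

/-- `r` odd, different from the characteristic: an element with minimal moved part -/
theorem exists_bad_sp_block [Fintype F] (p : ℕ) [Fact p.Prime] [CharP F p] (hp2 : p ≠ 2) (r : ℕ)
    [hr : Fact r.Prime] (hr2 : r ≠ 2) (hrp : r ≠ p)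
    (hc : Cfsg.Agent.Lib.Helper15.PSpJ.cOf (orderOf ((Fintype.card F : ℕ) : ZMod r)) ≤ 2 * d)
    (a b : ℕ) (hab : 2 * d = a * b) (ha : 2 ≤ a) (hae : Even a) (hb : 3 ≤ b) :
    ∃ x : GL (Fin d ⊕ Fin d) F, x ∈ Cfsg.spGL d F ∧
      (∃ z : F, ((x ^ r : GL (Fin d ⊕ Fin d) F) : Matrix (Fin d ⊕ Fin d) (Fin d ⊕ Fin d) F) =
        z • (1 : Matrix (Fin d ⊕ Fin d) (Fin d ⊕ Fin d) F)) ∧
      (∀ z : F, (x : Matrix (Fin d ⊕ Fin d) (Fin d ⊕ Fin d) F) ≠
        z • (1 : Matrix (Fin d ⊕ Fin d) (Fin d ⊕ Fin d) F)) ∧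
      ¬ KronConj (Matrix.toLin' (x : Matrix (Fin d ⊕ Fin d) (Fin d ⊕ Fin d) F)) a b := by
  classical
  set i := orderOf ((Fintype.card F : ℕ) : ZMod r) with hi
  have hipos : 0 < i := Cfsg.Agent.Lib.Helper15.PSub.orderOf_pos_of_ne p r hrp
  have hr0 : (r : F) ≠ 0 := Cfsg.Agent.Lib.Helper15.PSub.ne_zero_of_ne p r hr.out hrp
  obtain ⟨y, hyr, hyfix, hyns⟩ := Cfsg.Agent.Lib.Helper15.PSpJ.exists_elt (F := F) p r hr2 hrp d 1
    le_rfl (by rw [mul_one]; exact hc)
  rw [← hi, mul_one] at hyfix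
  let x : GL (Fin d ⊕ Fin d) F := (Matrix.symplecticGroup (Fin d) F).subtype.toHomUnits y
  have hxval : (x : Matrix (Fin d ⊕ Fin d) (Fin d ⊕ Fin d) F) =
      (y : Matrix (Fin d ⊕ Fin d) (Fin d ⊕ Fin d) F) := rfl
  have hcpos : 0 < Cfsg.Agent.Lib.Helper15.PSpJ.cOf i := Cfsg.Agent.Lib.Helper15.PSpJ.cOf_pos hipos
  refine ⟨x, ?_, ⟨1, ?_⟩, ?_, ?_⟩
  · exact (mem_symplecticGroup_iff_preserves _).mp y.2
  · rw [Units.val_pow_eq_pow_val, hxval, one_smul]
    apply Matrix.toLin'.injective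
    rw [Matrix.toLin'_pow, hyr, Matrix.toLin'_one]
    rfl
  · rw [hxval]; exact hyns
  · rw [hxval]
    set X := Matrix.toLin' (y : Matrix (Fin d ⊕ Fin d) (Fin d ⊕ Fin d) F) with hX
    have hX1 : X ≠ 1 := by
      intro h
      apply hyns 1
      apply Matrix.toLin'.injective
      rw [← hX, h, map_smul, Matrix.toLin'_one, one_smul]
      rfl
    have hiso : ∀ u v, stdSymp d F (X u) (X v) = stdSymp d F u v := by
      intro u v
      rw [stdSymp_apply, stdSymp_apply, hX, Matrix.toLin'_apply, Matrix.toLin'_apply]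
      exact (mem_symplecticGroup_iff_preserves _).mp y.2 u v
    by_cases hie : Even i
    · have hci : Cfsg.Agent.Lib.Helper15.PSpJ.cOf i = i := by
        unfold Cfsg.Agent.Lib.Helper15.PSpJ.cOf
        rw [if_pos hie]
      rw [hci] at hyfix hc
      apply not_kronConj_of_min p r hrp X a b (by rw [finrank_sum_fun, hab]) ha hae hb hyr hX1 1
        (Or.inl rfl)
      rw [hyfix, ← hi, one_mul, ← hab]
      omega
    · have hci : Cfsg.Agent.Lib.Helper15.PSpJ.cOf i = 2 * i := by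
        unfold Cfsg.Agent.Lib.Helper15.PSpJ.cOf
        rw [if_neg hie]
      rw [hci] at hyfix hc
      have hio : Odd i := Nat.not_even_iff_odd.mp hie
      apply not_kronConj_of_min p r hrp X a b (by rw [finrank_sum_fun, hab]) ha hae hb hyr hX1 2
      · refine Or.inr ⟨rfl, hio, ?_⟩
        intro P hP hPd hfin
        have hdeg : P.natDegree = i :=
          Cfsg.Agent.Lib.Helper15.PSub.cyclotomic_factor_degree p r hr.out hrp P hP hPd
        have hker := finrank_ker_cyclotomic r hr0 X hyr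
        rw [finrank_sum_fun, hyfix] at hker
        have hle : LinearMap.ker (aeval X P) ≤ LinearMap.ker (aeval X (cyclotomic r F)) := by
          intro u hu
          obtain ⟨g, hg⟩ := hPd
          rw [LinearMap.mem_ker] at hu ⊢
          rw [hg, mul_comm, map_mul, Module.End.mul_apply, hu, map_zero]
        have heq : LinearMap.ker (aeval X P) = LinearMap.ker (aeval X (cyclotomic r F)) := by
          apply Submodule.eq_of_le_of_finrank_eq hle
          rw [hfin, ← hi]
          omega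
        apply not_kills_moved (B := stdSymp d F) p hp2 r hr2 hrp stdSymp_alt
          (fun u hu => stdSymp_nondeg u hu) X hiso hyr
          (by rw [finrank_sum_fun, hyfix]; omega) P hP hPd (by rw [hdeg]; exact hio)
        rw [heq]
      · rw [hyfix, ← hi, ← hab]
        omega

theorem card_spGL' [Fintype F] :
    Nat.card (Cfsg.spGL d F) =
      Fintype.card F ^ (d ^ 2) * ∏ i ∈ Finset.range d, (Fintype.card F ^ (2 * (i + 1)) - 1) := by
  rw [← card_symplecticGroup]
  apply Nat.card_congr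
  exact
    { toFun := fun x => ⟨(x.1 : Matrix (Fin d ⊕ Fin d) (Fin d ⊕ Fin d) F),
        (mem_symplecticGroup_iff_preserves _).mpr x.2⟩
      invFun := fun a => ⟨(Matrix.symplecticGroup (Fin d) F).subtype.toHomUnits a,
        (mem_symplecticGroup_iff_preserves _).mp a.2⟩
      left_inv := fun x => Subtype.ext (Units.ext rfl)
      right_inv := fun a => Subtype.ext rfl }

theorem two_ne_zero_of_char (p : ℕ) [Fact p.Prime] [CharP F p] (hp2 : p ≠ 2) : (2 : F) ≠ 0 := by
  intro h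
  have h2 : ((2 : ℕ) : F) = 0 := by exact_mod_cast h
  rw [CharP.cast_eq_zero_iff F p 2] at h2
  exact hp2 ((Nat.prime_dvd_prime_iff_eq Fact.out Nat.prime_two).mp h2)

theorem char_ne_two_of_odd [Fintype F] (p : ℕ) [Fact p.Prime] [CharP F p]
    (hodd : Odd (Fintype.card F)) : p ≠ 2 := by
  rintro rfl
  obtain ⟨⟨n, hn0⟩, -, hn⟩ := FiniteField.card F 2
  rw [hn] at hodd
  have : Even (2 ^ (n : ℕ)) := (Nat.even_pow.mpr ⟨even_two, by simpa using hn0.ne'⟩)
  exact (Nat.not_odd_iff_even.mpr this) hodd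

/-- **The forward direction**: if every element of order `r` is conjugate into the tensor product
subgroup then `r = 2` and `a = 2`. -/
theorem forward_sp [Fintype F] (p : ℕ) [Fact p.Prime] [CharP F p] (hodd : Odd (Fintype.card F))
    (hd : 2 ≤ d) (a b : ℕ) (hab : 2 * d = a * b) (hae : Even a) (ha2 : 2 ≤ a) (hb : 3 ≤ b)
    (e : (Fin d ⊕ Fin d) ≃ Fin a × Fin b) (P : GL (Fin d ⊕ Fin d) F) (r : ℕ) [hr : Fact r.Prime]
    (hΩ : r ∣ Nat.card (Cfsg.spGL d F))
    (hgood : ∀ x ∈ Cfsg.spGL d F,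
      (∃ z : F, ((x ^ r : GL (Fin d ⊕ Fin d) F) : Matrix (Fin d ⊕ Fin d) (Fin d ⊕ Fin d) F) =
        z • (1 : Matrix (Fin d ⊕ Fin d) (Fin d ⊕ Fin d) F)) →
      (∀ z : F, (x : Matrix (Fin d ⊕ Fin d) (Fin d ⊕ Fin d) F) ≠
        z • (1 : Matrix (Fin d ⊕ Fin d) (Fin d ⊕ Fin d) F)) →
      ∃ g ∈ Cfsg.spGL d F, g⁻¹ * x * g ∈ Cfsg.Geo.tensorProductSubgroup a b e P) :
    r = 2 ∧ a = 2 := by
  by_contra hne
  have hp2 : p ≠ 2 := char_ne_two_of_odd p hodd
  have hbad : ∃ x : GL (Fin d ⊕ Fin d) F, x ∈ Cfsg.spGL d F ∧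
      (∃ z : F, ((x ^ r : GL (Fin d ⊕ Fin d) F) : Matrix (Fin d ⊕ Fin d) (Fin d ⊕ Fin d) F) =
        z • (1 : Matrix (Fin d ⊕ Fin d) (Fin d ⊕ Fin d) F)) ∧
      (∀ z : F, (x : Matrix (Fin d ⊕ Fin d) (Fin d ⊕ Fin d) F) ≠
        z • (1 : Matrix (Fin d ⊕ Fin d) (Fin d ⊕ Fin d) F)) ∧
      ¬ KronConj (Matrix.toLin' (x : Matrix (Fin d ⊕ Fin d) (Fin d ⊕ Fin d) F)) a b := by
    by_cases hrp : r = p
    · subst hrp
      exact exists_bad_sp_char r (by omega) a b hab ha2 (by omega)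
    · by_cases hr2 : r = 2
      · subst hr2
        have ha3 : 3 ≤ a := by
          have : a ≠ 2 := fun h => hne ⟨rfl, h⟩
          omega
        exact exists_bad_sp_two (two_ne_zero_of_char p hp2) hd a b hab ha3 hb
      · apply exists_bad_sp_block p hp2 r hr2 hrp _ a b hab ha2 hae hb
        rw [card_spGL'] at hΩ
        have hnq : ¬ r ∣ Fintype.card F ^ (d ^ 2) := by
          intro hdv
          have h1 := hr.out.dvd_of_dvd_pow hdv
          obtain ⟨⟨f, _⟩, hpp, hf⟩ := FiniteField.card F p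
          rw [hf] at h1
          have h2 := hr.out.dvd_of_dvd_pow h1
          exact hrp ((Nat.prime_dvd_prime_iff_eq hr.out hpp).mp h2)
        have h2 := ((Nat.Prime.dvd_mul hr.out).mp hΩ).resolve_left hnq
        obtain ⟨j, hj, hjd⟩ := (Nat.Prime.prime hr.out).exists_mem_finset_dvd h2
        have hjd' : j < d := Finset.mem_range.mp hj
        have h1 := (Cfsg.Agent.Lib.Helper15.PSub.orderOf_zmod_dvd_iff (Fintype.card F) r
          (2 * (j + 1)) Fintype.card_pos).mpr hjd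
        have := Cfsg.Agent.Lib.Helper15.PSpJ.cOf_le_of_dvd (Nat.succ_pos j) h1
        omega
  obtain ⟨x, hx, hxr, hxns, hxK⟩ := hbad
  obtain ⟨g, -, hg⟩ := hgood x hx hxr hxns
  exact hxK (kronConj_of_memι e P x g hg)

end sp

end Cfsg.Agent.Lib.Helper10.Kron
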