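import Mathlib
import Cfsg.Agent.Lib.Helper10.Kron9
import Cfsg.Agent.Lib.Helper10.Kron10
import Cfsg.Agent.Lib.Helper13.TensorF3

/-!
# Conjugating an element with square `±1` of the symplectic group into the stabiliser of a tensor
decomposition `Sp_2 ⊗ O_b`
-/

set_option autoImplicit false

namespace Cfsg.Agent.Lib.Helper10.Kron

open Matrix Module
open scoped Kronecker MatrixGroups

section frameiso

variable {F V : Type*} [Field F] [AddCommGroup V] [Module F V] [FiniteDimensional F V]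
variable {B : V →ₗ[F] V →ₗ[F] F}

/-- the matrix of the standard alternating form on a plane -/
def EE (F : Type*) [Field F] : Matrix (Fin 2) (Fin 2) F := !![0, 1; -1, 0]

theorem frame_form {N : Type} [Fintype N] [DecidableEq N] (w : N → V) (G : Matrix N N F)
    (hG : ∀ m m', B (w m) (w m') = G m m') (t t' : N → F) :
    B (Fintype.linearCombination F w t) (Fintype.linearCombination F w t') =
      Cfsg.Geo.formOfGram id G t t' := by
  rw [Fintype.linearCombination_apply, Fintype.linearCombination_apply]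
  unfold Cfsg.Geo.formOfGram
  simp only [map_sum, LinearMap.sum_apply, map_smul, LinearMap.smul_apply, smul_eq_mul, hG, id]
  rw [Finset.sum_comm]
  apply Finset.sum_congr rfl
  intro m _
  rw [Finset.mul_sum]
  apply Finset.sum_congr rfl
  intro m' _
  ring

theorem frame_intertwine {N : Type} [Fintype N] [DecidableEq N] (w : N → V) (X : V →ₗ[F] V)
    (K : Matrix N N F) (hK : ∀ m, X (w m) = ∑ m', K m' m • w m') (t : N → F) :
    X (Fintype.linearCombination F w t) = Fintype.linearCombination F w (K *ᵥ t) := by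
  rw [Fintype.linearCombination_apply, Fintype.linearCombination_apply, map_sum]
  simp only [map_smul, hK, Finset.smul_sum, smul_smul, Matrix.mulVec, dotProduct, Finset.sum_smul]
  rw [Finset.sum_comm]
  apply Finset.sum_congr rfl
  intro m' _
  apply Finset.sum_congr rfl
  intro m _
  rw [mul_comm]

/-- a frame with Gram matrix `E ⊗ diag σ` gives an isometric linear equivalence -/
theorem exists_iso_of_frame (b : ℕ) (hV : finrank F V = 2 * b) (w : Fin 2 × Fin b → V)
    (σ : Fin b → F) (hσ : ∀ j, σ j ≠ 0)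
    (hG : ∀ m m', B (w m) (w m') = (EE F ⊗ₖ Matrix.diagonal σ) m m') :
    ∃ Θ : (Fin 2 × Fin b → F) ≃ₗ[F] V,
      (∀ t, Θ t = Fintype.linearCombination F w t) ∧
      ∀ t t', B (Θ t) (Θ t') = Cfsg.Geo.formOfGram id (EE F ⊗ₖ Matrix.diagonal σ) t t' := by
  have hinj : Function.Injective (Fintype.linearCombination F w) := by
    rw [← LinearMap.ker_eq_bot, LinearMap.ker_eq_bot']
    intro t ht
    have h1 : ∀ m', ∑ m, t m * (EE F ⊗ₖ Matrix.diagonal σ) m m' = 0 := by
      intro m'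
      have h2 : B (Fintype.linearCombination F w t) (w m') = 0 := by rw [ht]; simp
      rw [Fintype.linearCombination_apply] at h2
      simp only [map_sum, LinearMap.sum_apply, map_smul, LinearMap.smul_apply, smul_eq_mul,
        hG] at h2
      exact h2
    funext m
    obtain ⟨i, j⟩ := m
    have h3 := h1 (1, j)
    have h4 := h1 (0, j)
    simp only [Fintype.sum_prod_type, Fin.sum_univ_two, Matrix.kroneckerMap_apply,
      Matrix.diagonal_apply, mul_ite, mul_zero, Finset.sum_ite_eq', Finset.mem_univ, if_true,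
      EE, Matrix.of_apply, Matrix.cons_val', Matrix.cons_val_zero, Matrix.cons_val_one,
      Matrix.cons_val_fin_one] at h3 h4
    simp only [zero_mul, mul_zero, add_zero, zero_add, one_mul, mul_one] at h3 h4
    fin_cases i
    · exact (mul_eq_zero.mp h3).resolve_right (hσ j)
    · have h5 : t (1, j) * σ j = 0 := by linear_combination -h4
      exact (mul_eq_zero.mp h5).resolve_right (hσ j)
  have hdim : finrank F (Fin 2 × Fin b → F) = finrank F V := by
    rw [hV, Module.finrank_fintype_fun_eq_card, Fintype.card_prod, Fintype.card_fin,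
      Fintype.card_fin]
  refine ⟨LinearMap.linearEquivOfInjective (Fintype.linearCombination F w) hinj hdim,
    fun t => rfl, fun t t' => ?_⟩
  exact frame_form w _ hG t t'

end frameiso

section bridge2

variable {F : Type*} [Field F] {ι : Type} [Fintype ι] [DecidableEq ι]

/-- **Bridge 2 with a form**: an isometric Kronecker structure gives a conjugating element which
preserves the form. -/
theorem exists_conj_of_isometric {a b : ℕ} (e : ι ≃ Fin a × Fin b) (P x : GL ι F)
    (f : (ι → F) → (ι → F) → F) (A : GL (Fin a) F) (Bm : GL (Fin b) F)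
    (Θ : (Fin a × Fin b → F) ≃ₗ[F] (ι → F))
    (hΘ : ∀ u, (x : Matrix ι ι F) *ᵥ (Θ u) =
      Θ (((A : Matrix (Fin a) (Fin a) F) ⊗ₖ (Bm : Matrix (Fin b) (Fin b) F)) *ᵥ u))
    (hiso : ∀ u v, f (Θ u) (Θ v) =
      f ((P : Matrix ι ι F) *ᵥ (u ∘ e)) ((P : Matrix ι ι F) *ᵥ (v ∘ e))) :
    ∃ g : GL ι F, (∀ u v, f ((g : Matrix ι ι F) *ᵥ u) ((g : Matrix ι ι F) *ᵥ v) = f u v) ∧
      g⁻¹ * x * g ∈ Cfsg.Geo.tensorProductSubgroup a b e P := by
  classical
  let L₀ : (ι → F) ≃ₗ[F] (ι → F) :=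
    (glEquivι P).symm.trans ((LinearEquiv.funCongrLeft F F e).symm.trans Θ)
  have hL₀ : ∀ v : ι → F, L₀ ((P : Matrix ι ι F) *ᵥ v) = Θ (v ∘ e.symm) := by
    intro v
    show Θ ((LinearEquiv.funCongrLeft F F e).symm ((glEquivι P).symm
      ((P : Matrix ι ι F) *ᵥ v))) = _
    rw [← glEquivι_apply, LinearEquiv.symm_apply_apply]
    rfl
  have hunit : IsUnit (LinearMap.toMatrix' (L₀ : (ι → F) →ₗ[F] (ι → F))).det := by
    rw [LinearMap.det_toMatrix']
    exact LinearEquiv.isUnit_det' L₀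
  let g : GL ι F := Matrix.GeneralLinearGroup.mk''
    (LinearMap.toMatrix' (L₀ : (ι → F) →ₗ[F] (ι → F))) hunit
  have hgval : (g : Matrix ι ι F) = LinearMap.toMatrix' (L₀ : (ι → F) →ₗ[F] (ι → F)) := rfl
  have hgL : ∀ v : ι → F, (g : Matrix ι ι F) *ᵥ v = L₀ v := by
    intro v
    rw [hgval, ← Matrix.toLin'_apply, Matrix.toLin'_toMatrix']
    rfl
  have hPsurj : ∀ u : ι → F, ∃ u', u = (P : Matrix ι ι F) *ᵥ u' := by
    intro u
    refine ⟨((P⁻¹ : GL ι F) : Matrix ι ι F) *ᵥ u, ?_⟩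
    rw [Matrix.mulVec_mulVec, ← Units.val_mul, mul_inv_cancel, Units.val_one, Matrix.one_mulVec]
  have hcomp : ∀ v : ι → F, (v ∘ e.symm) ∘ e = v := by
    intro v
    funext i
    simp
  refine ⟨g, ?_, ?_⟩
  · intro u v
    obtain ⟨u', rfl⟩ := hPsurj u
    obtain ⟨v', rfl⟩ := hPsurj v
    rw [hgL, hgL, hL₀, hL₀, hiso, hcomp, hcomp]
  · have hkey : x * (g * P) = (g * P) * Cfsg.Geo.glReindex e.symm (kronGL A Bm) := by
      apply Units.ext
      apply Matrix.toLin'.injective
      apply LinearMap.ext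
      intro v
      rw [Matrix.toLin'_apply, Matrix.toLin'_apply, Units.val_mul, Units.val_mul, Units.val_mul,
        Units.val_mul, ← Matrix.mulVec_mulVec, ← Matrix.mulVec_mulVec, ← Matrix.mulVec_mulVec,
        ← Matrix.mulVec_mulVec, hgL, hgL, hL₀, hL₀]
      have h1 : ((Cfsg.Geo.glReindex e.symm (kronGL A Bm) : GL ι F) : Matrix ι ι F) *ᵥ v =
          ((((A : Matrix (Fin a) (Fin a) F) ⊗ₖ (Bm : Matrix (Fin b) (Fin b) F)) *ᵥ
            (v ∘ e.symm)) ∘ e) := by
        conv_lhs => rw [← hcomp v]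
        rw [glReindexι_mulVec]
        rfl
      rw [h1]
      have h2 : ((((A : Matrix (Fin a) (Fin a) F) ⊗ₖ (Bm : Matrix (Fin b) (Fin b) F)) *ᵥ
            (v ∘ e.symm)) ∘ e) ∘ e.symm =
          ((A : Matrix (Fin a) (Fin a) F) ⊗ₖ (Bm : Matrix (Fin b) (Fin b) F)) *ᵥ (v ∘ e.symm) := by
        funext p
        simp
      rw [h2, hΘ]
    unfold Cfsg.Geo.tensorProductSubgroup
    rw [Subgroup.mem_map]
    refine ⟨Cfsg.Geo.glReindex e.symm (kronGL A Bm), ?_, ?_⟩
    · rw [Subgroup.mem_map]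
      exact ⟨kronGL A Bm, kronGL_mem A Bm, rfl⟩
    · show P * Cfsg.Geo.glReindex e.symm (kronGL A Bm) * P⁻¹ = g⁻¹ * x * g
      have h3 : g⁻¹ * x * g = g⁻¹ * (x * (g * P)) * P⁻¹ := by group
      rw [h3, hkey]
      group

end bridge2

section normal

variable {F : Type*} [Field F]

open Cfsg Cfsg.Geo Cfsg.Agent.Lib.Helper13.TNM

/-- diagonalisation of a symmetric form in odd characteristic -/
theorem exists_diag_gram (h2 : (2 : F) ≠ 0) {b : ℕ} {f₂ : (Fin b → F) → (Fin b → F) → F}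
    (hf : IsSymmetricForm f₂) :
    ∃ (C : GL (Fin b) F) (γ : Fin b → F), (∀ j, γ j ≠ 0) ∧
      (C : Matrix (Fin b) (Fin b) F)ᵀ * gramMatrix f₂ * (C : Matrix (Fin b) (Fin b) F) =
        Matrix.diagonal γ := by
  classical
  obtain ⟨B, hBdef⟩ : ∃ B : (Fin b → F) →ₗ[F] (Fin b → F) →ₗ[F] F, B = toBilin hf.bilinear :=
    ⟨_, rfl⟩
  have hBf : ∀ x y, B x y = f₂ x y := by intro x y; rw [hBdef]; rfl
  have hs : ∀ x y, B x y = B y x := by intro x y; rw [hBf, hBf, hf.symm]
  have hsymm : LinearMap.IsSymm B :=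
    LinearMap.isSymm_def.mpr (fun x y => by rw [RingHom.id_apply]; exact hs x y)
  have hnd : LinearMap.BilinForm.Nondegenerate B := by
    constructor
    · intro x hx
      by_contra hx0
      obtain ⟨y, hy⟩ := (hf.nondegenerate x hx0).2
      exact hy (by rw [← hBf]; exact hx y)
    · intro x hx
      by_contra hx0
      obtain ⟨y, hy⟩ := (hf.nondegenerate x hx0).1
      exact hy (by rw [← hBf]; exact hx y)
  letI : Invertible (2 : F) := invertibleOfNonzero h2
  obtain ⟨v, hv⟩ := LinearMap.BilinForm.exists_orthogonal_basis hsymm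
  have h3 : Module.finrank F (Fin b → F) = b := Module.finrank_fin_fun F
  obtain ⟨w, hw⟩ : ∃ w : Fin b → (Fin b → F), w = fun i => v (Fin.cast h3.symm i) := ⟨_, rfl⟩
  have o : ∀ i j, i ≠ j → B (w i) (w j) = 0 := by
    intro i j hij
    rw [hw]
    apply LinearMap.isOrthoᵢ_def.mp hv
    intro h
    apply hij
    have := congrArg Fin.val h
    exact Fin.ext (by simpa using this)
  have nz : ∀ i, B (w i) (w i) ≠ 0 := by
    intro i
    rw [hw]
    exact LinearMap.BilinForm.iIsOrtho.not_isOrtho_basis_self_of_nondegenerate hv hnd _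
  obtain ⟨C₀, hC₀⟩ : ∃ C₀ : Matrix (Fin b) (Fin b) F, C₀ = Matrix.of (fun i k => w k i) :=
    ⟨_, rfl⟩
  have hCGC : C₀ᵀ * gramMatrix f₂ * C₀ = Matrix.diagonal (fun k => B (w k) (w k)) := by
    ext k l
    have h4 : (C₀ᵀ * gramMatrix f₂ * C₀) k l = B (w k) (w l) := by
      rw [hBf, bilin_eq_formOfGram hf.bilinear]
      unfold formOfGram
      rw [Matrix.mul_apply]
      simp only [Matrix.mul_apply, Matrix.transpose_apply, hC₀, Matrix.of_apply, id,
        Finset.sum_mul]
      rw [Finset.sum_comm]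
    rw [h4, Matrix.diagonal_apply]
    by_cases hkl : k = l
    · rw [if_pos hkl, hkl]
    · rw [if_neg hkl, o k l hkl]
  have hdet : C₀.det ≠ 0 := by
    intro h0
    have := congrArg Matrix.det hCGC
    rw [Matrix.det_mul, Matrix.det_mul, Matrix.det_transpose, h0, zero_mul, zero_mul,
      Matrix.det_diagonal] at this
    exact Finset.prod_ne_zero_iff.mpr (fun i _ => nz i) this.symm
  exact ⟨Matrix.GeneralLinearGroup.mkOfDetNeZero C₀ hdet, _, nz, hCGC⟩

/-- the Gram matrix of an alternating form on a plane -/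
theorem gram_symplectic_two {f₁ : (Fin 2 → F) → (Fin 2 → F) → F} (hf : IsSymplecticForm f₁) :
    ∃ τ : F, τ ≠ 0 ∧ gramMatrix f₁ = τ • EE F := by
  have hG : gramMatrix f₁ = (gramMatrix f₁ 0 1) • EE F := by
    ext i j
    fin_cases i <;> fin_cases j
    · show f₁ _ _ = _
      rw [hf.alternating]
      simp [EE]
    · simp [EE]
    · show f₁ (Pi.single 1 1) (Pi.single 0 1) = _
      rw [hf.skew]
      simp [EE, gramMatrix]
    · show f₁ _ _ = _
      rw [hf.alternating]
      simp [EE]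
  refine ⟨gramMatrix f₁ 0 1, ?_, hG⟩
  intro h0
  rw [h0, zero_smul] at hG
  have hne : (Pi.single 0 1 : Fin 2 → F) ≠ 0 := by
    intro h
    have := congrFun h 0
    simp at this
  obtain ⟨x, hx⟩ := (hf.nondegenerate _ hne).1
  apply hx
  rw [bilin_eq_formOfGram hf.bilinear, hG]
  unfold formOfGram
  simp

/-- **Normal form** of a tensor form structure `Sp_2 ⊗ O_b` -/
theorem exists_normal_structure (h2 : (2 : F) ≠ 0) {d b : ℕ}
    (e : (Fin d ⊕ Fin d) ≃ Fin 2 × Fin b) (P : GL (Fin d ⊕ Fin d) F)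
    (f₁ : (Fin 2 → F) → (Fin 2 → F) → F) (f₂ : (Fin b → F) → (Fin b → F) → F)
    (hf₁ : IsSymplecticForm f₁) (hf₂ : IsSymmetricForm f₂)
    (hS : IsTensorFormStructure id (Cfsg.sympForm d F) f₁ f₂ e P) :
    ∃ (P' : GL (Fin d ⊕ Fin d) F) (σ : Fin b → F), (∀ j, σ j ≠ 0) ∧
      tensorProductSubgroup 2 b e P' = tensorProductSubgroup 2 b e P ∧
      ∀ x y : Fin 2 × Fin b → F,
        Cfsg.sympForm d F ((P' : Matrix (Fin d ⊕ Fin d) (Fin d ⊕ Fin d) F) *ᵥ (x ∘ e))
          ((P' : Matrix (Fin d ⊕ Fin d) (Fin d ⊕ Fin d) F) *ᵥ (y ∘ e)) =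
          formOfGram id (EE F ⊗ₖ Matrix.diagonal σ) x y := by
  obtain ⟨c, hc, hS⟩ := hS
  obtain ⟨C, γ, hγ, hC⟩ := exists_diag_gram h2 hf₂
  obtain ⟨τ, hτ, hG₁⟩ := gram_symplectic_two hf₁
  refine ⟨P * glReindex e.symm (Cfsg.Agent.Lib.Helper13.TNM.kronGL 1 C),
    fun j => c * τ * γ j, fun j => mul_ne_zero (mul_ne_zero hc hτ) (hγ j),
    tps_change 2 b e P _ (Cfsg.Agent.Lib.Helper13.TNM.kronGL_mem 1 C), ?_⟩
  intro x y
  have h1 := TT_change e P (Cfsg.Agent.Lib.Helper13.TNM.kronGL 1 C) x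
  have h1' := TT_change e P (Cfsg.Agent.Lib.Helper13.TNM.kronGL 1 C) y
  unfold TT at h1 h1'
  rw [h1, h1', hS, formOfGram_mulVec id rfl (fun _ _ => rfl) (fun _ _ => rfl), Matrix.map_id,
    Cfsg.Agent.Lib.Helper13.TNM.kronGL_val, ← Matrix.kroneckerMap_transpose, Units.val_one,
    ← Matrix.mul_kronecker_mul, ← Matrix.mul_kronecker_mul, Matrix.transpose_one, one_mul, mul_one,
    hC, hG₁, Matrix.smul_kronecker, formOfGram_smul, ← mul_assoc, ← formOfGram_smul,
    ← Matrix.kronecker_smul, ← Matrix.diagonal_smul]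
  rfl

end normal

section backward

variable {F : Type*} [Field F] {d : ℕ}

open Cfsg Cfsg.Geo Cfsg.Agent.Lib.Helper6 Cfsg.Agent.Lib.Helper15
  Cfsg.Agent.Lib.Helper15.PSpI

theorem EE_apply_00 : EE F 0 0 = 0 := by simp [EE]
theorem EE_apply_01 : EE F 0 1 = 1 := by simp [EE]
theorem EE_apply_10 : EE F 1 0 = -1 := by simp [EE]
theorem EE_apply_11 : EE F 1 1 = 0 := by simp [EE]

/-- the rotation of the plane -/
def rotGL (F : Type*) [Field F] : GL (Fin 2) F :=
  ⟨!![0, -1; 1, 0], !![0, 1; -1, 0],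
    by ext i j; fin_cases i <;> fin_cases j <;> simp [Matrix.mul_apply, Fin.sum_univ_two],
    by ext i j; fin_cases i <;> fin_cases j <;> simp [Matrix.mul_apply, Fin.sum_univ_two]⟩

theorem rotGL_val : ((rotGL F : GL (Fin 2) F) : Matrix (Fin 2) (Fin 2) F) = !![0, -1; 1, 0] := rfl

/-- a diagonal matrix of signs -/
def signGL (ε : Fin d → F) (hε : ∀ j, ε j * ε j = 1) : GL (Fin d) F :=
  ⟨Matrix.diagonal ε, Matrix.diagonal ε,
    by rw [Matrix.diagonal_mul_diagonal]
       have : (fun j => ε j * ε j) = fun _ => (1 : F) := funext hε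
       rw [this]; exact Matrix.diagonal_one,
    by rw [Matrix.diagonal_mul_diagonal]
       have : (fun j => ε j * ε j) = fun _ => (1 : F) := funext hε
       rw [this]; exact Matrix.diagonal_one⟩

theorem signGL_val (ε : Fin d → F) (hε : ∀ j, ε j * ε j = 1) :
    ((signGL ε hε : GL (Fin d) F) : Matrix (Fin d) (Fin d) F) = Matrix.diagonal ε := rfl

/-- **The converse direction**: an element of the symplectic group whose square is a scalar is
conjugate into the stabiliser of the tensor decomposition `Sp_2 ⊗ O_d`. -/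
theorem backward_sp [Fintype F] (p : ℕ) [Fact p.Prime] [CharP F p] (hodd : Odd (Fintype.card F))
    (hd : 1 ≤ d) (e : (Fin d ⊕ Fin d) ≃ Fin 2 × Fin d) (P : GL (Fin d ⊕ Fin d) F)
    (f₁ : (Fin 2 → F) → (Fin 2 → F) → F) (f₂ : (Fin d → F) → (Fin d → F) → F)
    (hf₁ : IsSymplecticForm f₁) (hf₂ : IsSymmetricForm f₂)
    (hS : IsTensorFormStructure id (Cfsg.sympForm d F) f₁ f₂ e P)
    (x : GL (Fin d ⊕ Fin d) F) (hx : x ∈ Cfsg.spGL d F)
    (hx2 : ∃ z : F, ((x ^ 2 : GL (Fin d ⊕ Fin d) F) : Matrix (Fin d ⊕ Fin d) (Fin d ⊕ Fin d) F) =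
      z • (1 : Matrix (Fin d ⊕ Fin d) (Fin d ⊕ Fin d) F)) :
    ∃ g ∈ Cfsg.spGL d F, g⁻¹ * x * g ∈ tensorProductSubgroup 2 d e P := by
  classical
  have hp2 : p ≠ 2 := char_ne_two_of_odd p hodd
  have h2 : (2 : F) ≠ 0 := two_ne_zero_of_char p hp2
  have hodd' : Fintype.card F % 2 = 1 := Nat.odd_iff.mp hodd
  obtain ⟨P', σ, hσ, htps, hP'⟩ := exists_normal_structure h2 e P f₁ f₂ hf₁ hf₂ hS
  rw [← htps]
  obtain ⟨z, hz⟩ := hx2
  obtain ⟨X, hX⟩ : ∃ X : (Fin d ⊕ Fin d → F) →ₗ[F] (Fin d ⊕ Fin d → F),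
      X = Matrix.toLin' (x : Matrix (Fin d ⊕ Fin d) (Fin d ⊕ Fin d) F) := ⟨_, rfl⟩
  have hXv : ∀ v, X v = (x : Matrix (Fin d ⊕ Fin d) (Fin d ⊕ Fin d) F) *ᵥ v := by
    intro v; rw [hX, Matrix.toLin'_apply]
  have hXX : ∀ v, X (X v) = z • v := by
    intro v
    rw [hXv, hXv, Matrix.mulVec_mulVec, ← pow_two, ← Units.val_pow_eq_pow_val, hz,
      Matrix.smul_mulVec, Matrix.one_mulVec]
  have hiso : ∀ u v, stdSymp d F (X u) (X v) = stdSymp d F u v := by
    intro u v
    rw [stdSymp_apply, stdSymp_apply, hXv, hXv]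
    exact hx u v
  -- `z = ±1`
  have hzsq : z * z = 1 := by
    let i₀ : Fin d := ⟨0, hd⟩
    have h1 := hiso (X (Pi.single (Sum.inr i₀) 1)) (X (Pi.single (Sum.inl i₀) 1))
    rw [hXX, hXX, hiso, map_smul, map_smul, LinearMap.smul_apply, stdSymp_apply,
      sympForm_single_right_inl, Pi.single_eq_same, smul_eq_mul, smul_eq_mul, mul_one] at h1
    exact h1
  have hz0 : z ≠ 0 := by
    rintro rfl
    rw [mul_zero] at hzsq
    exact zero_ne_one hzsq
  have hzcases : z = 1 ∨ z = -1 := by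
    have : (z - 1) * (z + 1) = 0 := by linear_combination hzsq
    rcases mul_eq_zero.mp this with h | h
    · exact Or.inl (sub_eq_zero.mp h)
    · exact Or.inr (eq_neg_of_add_eq_zero_left h)
  have htop : (⊤ : Submodule F (Fin d ⊕ Fin d → F)).map X = ⊤ :=
    map_eq_of_le X z hz0 hXX le_top
  have hndtop : NondegOn (stdSymp d F) (⊤ : Submodule F (Fin d ⊕ Fin d → F)) :=
    fun u _ h => stdSymp_nondeg u (fun v => h v trivial)
  have hfr : Module.finrank F (⊤ : Submodule F (Fin d ⊕ Fin d → F)) = 2 * d := by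
    rw [finrank_top, finrank_sum_fun]
  -- the final step, common to both cases
  have hfinal : ∀ (w : Fin 2 × Fin d → (Fin d ⊕ Fin d → F)) (A : GL (Fin 2) F) (Bm : GL (Fin d) F),
      (∀ m m', stdSymp d F (w m) (w m') = (EE F ⊗ₖ Matrix.diagonal σ) m m') →
      (∀ m, X (w m) = ∑ m', ((A : Matrix (Fin 2) (Fin 2) F) ⊗ₖ
        (Bm : Matrix (Fin d) (Fin d) F)) m' m • w m') →
      ∃ g ∈ Cfsg.spGL d F, g⁻¹ * x * g ∈ tensorProductSubgroup 2 d e P' := by
    intro w A Bm hG hK
    obtain ⟨Θ, hΘ1, hΘ2⟩ := exists_iso_of_frame (B := stdSymp d F) d finrank_sum_fun w σ hσ hG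
    obtain ⟨g, hg1, hg2⟩ := exists_conj_of_isometric e P' x (Cfsg.sympForm d F) A Bm Θ
      (fun t => by
        rw [hΘ1, hΘ1, ← hXv]
        exact frame_intertwine w X _ hK t)
      (fun t t' => by
        rw [hP', ← hΘ2, stdSymp_apply])
    exact ⟨g, hg1, hg2⟩
  rcases hzcases with rfl | rfl
  · -- involutions
    obtain ⟨ε, u, v, hε, -, -, hxu, hxv, hu0, hv0, huv⟩ :=
      exists_frame_pos h2 stdSymp_alt X hXX hiso d ⊤ htop hndtop hfr σ hσ
    have hεsq : ∀ j, ε j * ε j = 1 := by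
      intro j
      rcases hε j with h | h <;> rw [h] <;> ring
    apply hfinal (fun m => if m.1 = 0 then u m.2 else v m.2) 1 (signGL ε hεsq)
    · rintro ⟨i, j⟩ ⟨i', j'⟩
      rw [Matrix.kroneckerMap_apply, Matrix.diagonal_apply]
      fin_cases i <;> fin_cases i'
      · simp [hu0, EE_apply_00]
      · simp [huv, EE_apply_01]
      · simp only [Fin.mk_one, Fin.isValue, one_ne_zero, ↓reduceIte, Fin.zero_eta, EE_apply_10]
        rw [alt_swap (stdSymp d F) stdSymp_alt, huv]
        by_cases hjj : j = j'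
        · rw [if_pos hjj, if_pos hjj.symm, hjj]; ring
        · rw [if_neg hjj, if_neg (fun h => hjj h.symm)]; ring
      · simp [hv0, EE_apply_11]
    · rintro ⟨i, j⟩
      rw [Units.val_one, signGL_val]
      simp only [Fintype.sum_prod_type, Matrix.kroneckerMap_apply, Matrix.one_apply,
        Matrix.diagonal_apply]
      rw [Finset.sum_eq_single i, Finset.sum_eq_single j]
      · simp only [if_true, one_mul]
        fin_cases i
        · simp [hxu]
        · simp [hxv]
      · intro j' _ hj'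
        simp [hj']
      · intro h; exact absurd (Finset.mem_univ j) h
      · intro i' _ hi'
        apply Finset.sum_eq_zero
        intro j' _
        simp [hi']
      · intro h; exact absurd (Finset.mem_univ i) h
  · -- square minus one
    obtain ⟨u, -, hu0, huσ⟩ :=
      exists_frame_neg hodd' h2 stdSymp_alt X hXX hiso d ⊤ htop hndtop hfr σ hσ
    have hXXn : ∀ v, X (X v) = -v := fun v => by rw [hXX, neg_one_smul]
    apply hfinal (fun m => if m.1 = 0 then u m.2 else X (u m.2)) (rotGL F) 1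
    · rintro ⟨i, j⟩ ⟨i', j'⟩
      rw [Matrix.kroneckerMap_apply, Matrix.diagonal_apply]
      fin_cases i <;> fin_cases i'
      · simp [hu0, EE_apply_00]
      · simp [huσ, EE_apply_01]
      · simp only [Fin.mk_one, Fin.isValue, one_ne_zero, ↓reduceIte, Fin.zero_eta, EE_apply_10]
        rw [alt_swap (stdSymp d F) stdSymp_alt, huσ]
        by_cases hjj : j = j'
        · rw [if_pos hjj, if_pos hjj.symm, hjj]; ring
        · rw [if_neg hjj, if_neg (fun h => hjj h.symm)]; ring
      · simp [hiso, hu0, EE_apply_11]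
    · rintro ⟨i, j⟩
      rw [Units.val_one, rotGL_val]
      simp only [Fintype.sum_prod_type, Matrix.kroneckerMap_apply, Matrix.one_apply]
      have hsum : ∀ i' : Fin 2, ∑ j' : Fin d,
          ((!![0, -1; 1, 0] : Matrix (Fin 2) (Fin 2) F) i' i * if j' = j then 1 else 0) •
            (if (i', j').1 = 0 then u (i', j').2 else X (u (i', j').2)) =
          (!![0, -1; 1, 0] : Matrix (Fin 2) (Fin 2) F) i' i •
            (if i' = 0 then u j else X (u j)) := by
        intro i'
        rw [Finset.sum_eq_single j]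
        · simp
        · intro j' _ hj'
          simp [hj']
        · intro h; exact absurd (Finset.mem_univ j) h
      rw [Fin.sum_univ_two, hsum 0, hsum 1]
      fin_cases i
      · simp
      · simp [hXXn]

end backward

end Cfsg.Agent.Lib.Helper10.Kron
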