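import Mathlib
import Cfsg.Agent.Lib.Helper10.Kron3
import Cfsg.Agent.Lib.Helper15.PInv5

/-!
# Explicit elements of `SL_n` which are not conjugate into a tensor product subgroup
-/

set_option autoImplicit false

namespace Cfsg.Agent.Lib.Helper10.Kron

open Matrix Module Polynomial
open scoped Kronecker MatrixGroups

section diag

variable {F : Type*} [Field F] {n : ℕ}

/-- a diagonal element of the general linear group -/
def diagGL (d : Fin n → F) (hd : ∀ k, d k ≠ 0) : GL (Fin n) F :=
  ⟨Matrix.diagonal d, Matrix.diagonal (fun k => (d k)⁻¹),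
    by
      rw [Matrix.diagonal_mul_diagonal, ← Matrix.diagonal_one]
      congr 1
      funext k
      exact mul_inv_cancel₀ (hd k),
    by
      rw [Matrix.diagonal_mul_diagonal, ← Matrix.diagonal_one]
      congr 1
      funext k
      exact inv_mul_cancel₀ (hd k)⟩

theorem diagGL_val (d : Fin n → F) (hd : ∀ k, d k ≠ 0) :
    ((diagGL d hd : GL (Fin n) F) : Matrix (Fin n) (Fin n) F) = Matrix.diagonal d := rfl

theorem diagGL_mem_sl (d : Fin n → F) (hd : ∀ k, d k ≠ 0) (h : ∏ k, d k = 1) :
    diagGL d hd ∈ Cfsg.Geo.specialLinear (Fin n) F := by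
  rw [mem_specialLinear_iff, diagGL_val, Matrix.det_diagonal, h]

theorem diagGL_pow_val (d : Fin n → F) (hd : ∀ k, d k ≠ 0) (r : ℕ) :
    (((diagGL d hd) ^ r : GL (Fin n) F) : Matrix (Fin n) (Fin n) F) =
      Matrix.diagonal (fun k => d k ^ r) := by
  rw [Units.val_pow_eq_pow_val, diagGL_val, Matrix.diagonal_pow]
  rfl

theorem diagonal_ne_smul_one (d : Fin n → F) (k l : Fin n) (h : d k ≠ d l) (z : F) :
    Matrix.diagonal d ≠ z • (1 : Matrix (Fin n) (Fin n) F) := by
  intro hz
  rw [Matrix.smul_one_eq_diagonal] at hz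
  have h3 := Matrix.diagonal_injective hz
  exact h ((congrFun h3 k).trans (congrFun h3 l).symm)

theorem toLin'_diagonal_sub (d : Fin n → F) (c : F) :
    Matrix.toLin' (Matrix.diagonal d) - c • (1 : (Fin n → F) →ₗ[F] (Fin n → F)) =
      Matrix.toLin' (Matrix.diagonal (fun k => d k - c)) := by
  apply LinearMap.ext
  intro v
  funext k
  simp only [LinearMap.sub_apply, LinearMap.smul_apply, Module.End.one_apply, Matrix.toLin'_apply,
    Matrix.mulVec_diagonal, Pi.sub_apply, Pi.smul_apply, smul_eq_mul]
  ring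

theorem finrank_range_diagonal_sub [DecidableEq F] (d : Fin n → F) (c : F) :
    finrank F (LinearMap.range (Matrix.toLin' (Matrix.diagonal d) -
      c • (1 : (Fin n → F) →ₗ[F] (Fin n → F)))) = Fintype.card {k // d k ≠ c} := by
  rw [toLin'_diagonal_sub, Matrix.toLin'_apply']
  have h1 := Matrix.rank_diagonal (fun k => d k - c)
  rw [Matrix.rank] at h1
  rw [h1]
  apply Fintype.card_congr
  exact Equiv.subtypeEquivRight (fun k => by simp [sub_eq_zero])

theorem finrank_eigenspace_diagonal [DecidableEq F] (d : Fin n → F) (μ : F) :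
    finrank F (Module.End.eigenspace (Matrix.toLin' (Matrix.diagonal d)) μ) =
      Fintype.card {k // d k = μ} := by
  have h1 := finrank_eigenspace_add_range (Matrix.toLin' (Matrix.diagonal d)) μ
  rw [finrank_range_diagonal_sub, Module.finrank_fin_fun] at h1
  have h2 := Fintype.card_subtype_compl (fun k : Fin n => d k = μ)
  rw [Fintype.card_fin] at h2
  have h3 := Fintype.card_subtype_le (fun k : Fin n => d k = μ)
  rw [Fintype.card_fin] at h3
  have h4 : Fintype.card {k // d k ≠ μ} = Fintype.card {k // ¬ d k = μ} := rfl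
  omega

end diag

section bad

variable {F : Type*} [Field F] {n : ℕ}

/-- `r = 2`, rank one type: `w · diag(-1, 1, …, 1)` with `w ^ n = -1` -/
theorem exists_bad_two_one [Fintype F] (a b : ℕ) (hn : n = a * b) (ha : 2 ≤ a) (hab : a < b)
    (h2 : (2 : F) ≠ 0) (h : padicValNat 2 n < padicValNat 2 (Fintype.card F - 1)) :
    ∃ x : GL (Fin n) F, x ∈ Cfsg.Geo.specialLinear (Fin n) F ∧
      (∃ z : F, ((x ^ 2 : GL (Fin n) F) : Matrix (Fin n) (Fin n) F) =
        z • (1 : Matrix (Fin n) (Fin n) F)) ∧
      (∀ z : F, (x : Matrix (Fin n) (Fin n) F) ≠ z • (1 : Matrix (Fin n) (Fin n) F)) ∧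
      ¬ KronConj (Matrix.toLin' (x : Matrix (Fin n) (Fin n) F)) a b := by
  classical
  have hn6 : 6 ≤ n := by rw [hn]; nlinarith
  obtain ⟨w, hw⟩ := Cfsg.Agent.Lib.Helper15.PInv.exists_pow_eq_neg_one (F := F) n (by omega) h
  have hw0 : w ≠ 0 := by
    rintro rfl
    rw [zero_pow (by omega)] at hw
    have : (1 : F) = 0 := by
      have := congrArg Neg.neg hw
      simpa using this.symm
    exact one_ne_zero this
  let i₀ : Fin n := ⟨0, by omega⟩
  let i₁ : Fin n := ⟨1, by omega⟩
  have h01 : i₁ ≠ i₀ := by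
    intro h
    have := congrArg Fin.val h
    simp [i₀, i₁] at this
  set d : Fin n → F := fun i => if i = i₀ then -w else w with hd
  have hd0 : ∀ k, d k ≠ 0 := by
    intro k
    rw [hd]
    by_cases hk : k = i₀
    · simp [hk, hw0]
    · simp [hk, hw0]
  have hprod : ∏ k, d k = 1 := by
    have h1 : ∀ i, d i = w * (if i = i₀ then -1 else 1) := by
      intro i
      rw [hd]
      by_cases hi : i = i₀
      · simp [hi]
      · simp [hi]
    rw [Finset.prod_congr rfl (fun i _ => h1 i), Finset.prod_mul_distrib, Finset.prod_const,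
      Finset.card_univ, Fintype.card_fin, hw, Finset.prod_ite_eq' Finset.univ i₀ (fun _ => (-1 : F))]
    simp
  have hne : d i₀ ≠ d i₁ := by
    rw [hd]
    simp only [if_true, if_neg h01]
    intro h5
    have h6 : (2 : F) * w = 0 := by linear_combination -h5
    rcases mul_eq_zero.mp h6 with h7 | h7
    · exact h2 h7
    · exact hw0 h7
  refine ⟨diagGL d hd0, diagGL_mem_sl d hd0 hprod, ⟨w * w, ?_⟩, ?_, ?_⟩
  · rw [diagGL_pow_val, Matrix.smul_one_eq_diagonal]
    congr 1
    funext i
    rw [hd]
    by_cases hi : i = i₀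
    · simp [hi]; ring
    · simp [hi]; ring
  · intro z
    rw [diagGL_val]
    exact diagonal_ne_smul_one d i₀ i₁ hne z
  · rw [diagGL_val]
    apply not_kronConj_of_rank_one _ a b (by rw [Module.finrank_fin_fun, hn]) ha hab w hw0
    · intro hX
      have h3 : Matrix.diagonal d = w • (1 : Matrix (Fin n) (Fin n) F) := by
        apply Matrix.toLin'.injective
        rw [hX, map_smul, Matrix.toLin'_one]
        rfl
      exact diagonal_ne_smul_one d i₀ i₁ hne w h3
    · rw [finrank_range_diagonal_sub, Fintype.card_subtype]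
      have hsub : Finset.univ.filter (fun k => d k ≠ w) ⊆ {i₀} := by
        intro k hk
        rw [Finset.mem_filter] at hk
        rw [Finset.mem_singleton]
        by_contra hne'
        apply hk.2
        rw [hd]
        simp [hne']
      exact (Finset.card_le_card hsub).trans (by simp)

/-- `r = 2`, rank two type: `diag(-1, -1, 1, …, 1)` when `3 ≤ a` -/
theorem exists_bad_two_two (a b : ℕ) (hn : n = a * b) (ha : 3 ≤ a) (hab : a < b)
    (h2 : (2 : F) ≠ 0) :
    ∃ x : GL (Fin n) F, x ∈ Cfsg.Geo.specialLinear (Fin n) F ∧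
      (∃ z : F, ((x ^ 2 : GL (Fin n) F) : Matrix (Fin n) (Fin n) F) =
        z • (1 : Matrix (Fin n) (Fin n) F)) ∧
      (∀ z : F, (x : Matrix (Fin n) (Fin n) F) ≠ z • (1 : Matrix (Fin n) (Fin n) F)) ∧
      ¬ KronConj (Matrix.toLin' (x : Matrix (Fin n) (Fin n) F)) a b := by
  classical
  have hn6 : 6 ≤ n := by rw [hn]; nlinarith
  let i₀ : Fin n := ⟨0, by omega⟩
  let i₁ : Fin n := ⟨1, by omega⟩
  let i₂ : Fin n := ⟨2, by omega⟩
  have h01 : i₀ ≠ i₁ := by
    intro h
    have := congrArg Fin.val h
    simp [i₀, i₁] at this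
  have h20 : i₂ ≠ i₀ := by
    intro h
    have := congrArg Fin.val h
    simp [i₀, i₂] at this
  have h21 : i₂ ≠ i₁ := by
    intro h
    have := congrArg Fin.val h
    simp [i₁, i₂] at this
  set d : Fin n → F := fun i => if i = i₀ then -1 else if i = i₁ then -1 else 1 with hd
  have hd0 : ∀ k, d k ≠ 0 := by
    intro k
    rw [hd]
    by_cases hk : k = i₀
    · simp [hk]
    · by_cases hk1 : k = i₁
      · simp [hk1]
      · simp [hk, hk1]
  have hprod : ∏ k, d k = 1 := by
    rw [Finset.prod_eq_mul i₀ i₁ h01]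
    · rw [hd]
      simp [h01.symm]
    · intro c _ hc
      rw [hd]
      simp [hc.1, hc.2]
    · intro h; exact absurd (Finset.mem_univ _) h
    · intro h; exact absurd (Finset.mem_univ _) h
  have hne : d i₀ ≠ d i₂ := by
    rw [hd]
    simp only [if_true, if_neg h20, if_neg h21]
    intro h5
    apply h2
    linear_combination -h5
  refine ⟨diagGL d hd0, diagGL_mem_sl d hd0 hprod, ⟨1, ?_⟩, ?_, ?_⟩
  · rw [diagGL_pow_val, Matrix.smul_one_eq_diagonal]
    congr 1
    funext i
    rw [hd]
    by_cases hi : i = i₀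
    · simp [hi]
    · by_cases hi1 : i = i₁
      · simp [hi1]
      · simp [hi, hi1]
  · intro z
    rw [diagGL_val]
    exact diagonal_ne_smul_one d i₀ i₂ hne z
  · rw [diagGL_val]
    apply not_kronConj_of_rank_two _ a b (by rw [Module.finrank_fin_fun, hn]) (by omega) hab 1
      one_ne_zero
    · intro hX
      have h3 : Matrix.diagonal d = (1 : F) • (1 : Matrix (Fin n) (Fin n) F) := by
        apply Matrix.toLin'.injective
        rw [hX, map_smul, Matrix.toLin'_one]
        rfl
      exact diagonal_ne_smul_one d i₀ i₂ hne 1 h3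
    · rw [finrank_range_diagonal_sub, Fintype.card_subtype]
      have hsub : Finset.univ.filter (fun k => d k ≠ 1) ⊆ {i₀, i₁} := by
        intro k hk
        rw [Finset.mem_filter] at hk
        rw [Finset.mem_insert, Finset.mem_singleton]
        by_contra hne'
        rw [not_or] at hne'
        apply hk.2
        rw [hd]
        simp [hne'.1, hne'.2]
      exact (Finset.card_le_card hsub).trans (Finset.card_le_two)
    · exact Or.inl ha

/-- `r` odd dividing `q - 1`: `diag(λ, λ⁻¹, 1, …, 1)` -/
theorem exists_bad_split [Fintype F] (a b : ℕ) (hn : n = a * b) (ha : 2 ≤ a) (hab : a < b)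
    (r : ℕ) (hr : r.Prime) (hr2 : r ≠ 2) (hrq : r ∣ Fintype.card F - 1) :
    ∃ x : GL (Fin n) F, x ∈ Cfsg.Geo.specialLinear (Fin n) F ∧
      (∃ z : F, ((x ^ r : GL (Fin n) F) : Matrix (Fin n) (Fin n) F) =
        z • (1 : Matrix (Fin n) (Fin n) F)) ∧
      (∀ z : F, (x : Matrix (Fin n) (Fin n) F) ≠ z • (1 : Matrix (Fin n) (Fin n) F)) ∧
      ¬ KronConj (Matrix.toLin' (x : Matrix (Fin n) (Fin n) F)) a b := by
  classical
  have hn6 : 6 ≤ n := by rw [hn]; nlinarith
  have : Fact r.Prime := ⟨hr⟩
  have hcu : r ∣ Nat.card Fˣ := by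
    rw [Nat.card_units, Nat.card_eq_fintype_card]
    exact hrq
  obtain ⟨u, hu⟩ := exists_prime_orderOf_dvd_card' r hcu
  obtain ⟨lam, hlamdef⟩ : ∃ lam : F, lam = (u : F) := ⟨_, rfl⟩
  have hlam0 : lam ≠ 0 := by rw [hlamdef]; exact u.ne_zero
  have hlamr : lam ^ r = 1 := by
    have h0 : u ^ r = 1 := by
      have := pow_orderOf_eq_one u
      rwa [hu] at this
    rw [hlamdef, ← Units.val_pow_eq_pow_val, h0, Units.val_one]
  have hlam1 : lam ≠ 1 := by
    rw [hlamdef]
    intro h
    have h1 : u = 1 := Units.ext h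
    rw [h1, orderOf_one] at hu
    exact hr.one_lt.ne hu
  have hlam2 : lam * lam ≠ 1 := by
    rw [hlamdef]
    intro h
    have h1 : u ^ 2 = 1 := by
      apply Units.ext
      rw [Units.val_pow_eq_pow_val, pow_two, h, Units.val_one]
    have h3 := orderOf_dvd_of_pow_eq_one h1
    rw [hu] at h3
    exact hr2 ((Nat.prime_dvd_prime_iff_eq hr Nat.prime_two).mp h3)
  have hlaminv : lam⁻¹ ≠ lam := by
    intro h
    apply hlam2
    have h1 : lam * lam⁻¹ = 1 := mul_inv_cancel₀ hlam0
    rw [h] at h1
    exact h1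
  let i₀ : Fin n := ⟨0, by omega⟩
  let i₁ : Fin n := ⟨1, by omega⟩
  let i₂ : Fin n := ⟨2, by omega⟩
  have h01 : i₀ ≠ i₁ := by
    intro h
    have := congrArg Fin.val h
    simp [i₀, i₁] at this
  have h20 : i₂ ≠ i₀ := by
    intro h
    have := congrArg Fin.val h
    simp [i₀, i₂] at this
  have h21 : i₂ ≠ i₁ := by
    intro h
    have := congrArg Fin.val h
    simp [i₁, i₂] at this
  set d : Fin n → F := fun i => if i = i₀ then lam else if i = i₁ then lam⁻¹ else 1 with hd
  have hd0 : ∀ k, d k ≠ 0 := by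
    intro k
    rw [hd]
    by_cases hk : k = i₀
    · simp [hk, hlam0]
    · by_cases hk1 : k = i₁
      · simp [hk1, h01.symm, hlam0]
      · simp [hk, hk1]
  have hprod : ∏ k, d k = 1 := by
    rw [Finset.prod_eq_mul i₀ i₁ h01]
    · rw [hd]
      simp [h01.symm, hlam0]
    · intro c _ hc
      rw [hd]
      simp [hc.1, hc.2]
    · intro h; exact absurd (Finset.mem_univ _) h
    · intro h; exact absurd (Finset.mem_univ _) h
  have hne : d i₀ ≠ d i₂ := by
    rw [hd]
    simp only [if_true, if_neg h20, if_neg h21]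
    exact hlam1
  refine ⟨diagGL d hd0, diagGL_mem_sl d hd0 hprod, ⟨1, ?_⟩, ?_, ?_⟩
  · rw [diagGL_pow_val, Matrix.smul_one_eq_diagonal]
    congr 1
    funext i
    rw [hd]
    by_cases hi : i = i₀
    · simp [hi, hlamr]
    · by_cases hi1 : i = i₁
      · simp [hi1, h01.symm, hlamr]
      · simp [hi, hi1]
  · intro z
    rw [diagGL_val]
    exact diagonal_ne_smul_one d i₀ i₂ hne z
  · rw [diagGL_val]
    apply not_kronConj_of_rank_two _ a b (by rw [Module.finrank_fin_fun, hn]) ha hab 1
      one_ne_zero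
    · intro hX
      have h3 : Matrix.diagonal d = (1 : F) • (1 : Matrix (Fin n) (Fin n) F) := by
        apply Matrix.toLin'.injective
        rw [hX, map_smul, Matrix.toLin'_one]
        rfl
      exact diagonal_ne_smul_one d i₀ i₂ hne 1 h3
    · rw [finrank_range_diagonal_sub, Fintype.card_subtype]
      have hsub : Finset.univ.filter (fun k => d k ≠ 1) ⊆ {i₀, i₁} := by
        intro k hk
        rw [Finset.mem_filter] at hk
        rw [Finset.mem_insert, Finset.mem_singleton]
        by_contra hne'
        rw [not_or] at hne'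
        apply hk.2
        rw [hd]
        simp [hne'.1, hne'.2]
      exact (Finset.card_le_card hsub).trans (Finset.card_le_two)
    · refine Or.inr ⟨lam, ?_⟩
      rw [finrank_eigenspace_diagonal, Fintype.card_subtype]
      have heq : Finset.univ.filter (fun k => d k = lam) = {i₀} := by
        ext k
        rw [Finset.mem_filter, Finset.mem_singleton]
        constructor
        · intro hk
          by_contra hne'
          have hk2 := hk.2
          rw [hd] at hk2
          by_cases hk1 : k = i₁
          · simp only [hk1, if_neg h01.symm, if_true] at hk2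
            exact hlaminv hk2
          · simp only [if_neg hne', if_neg hk1] at hk2
            exact hlam1 hk2.symm
        · rintro rfl
          exact ⟨Finset.mem_univ _, by rw [hd]; simp⟩
      rw [heq, Finset.card_singleton]

end bad

end Cfsg.Agent.Lib.Helper10.Kron
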