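import Mathlib
import Cfsg.Agent.Lib.Helper10.Kron4

/-!
# Transvections and single-block elements are not conjugate into a tensor product subgroup
-/

set_option autoImplicit false

namespace Cfsg.Agent.Lib.Helper10.Kron

open Matrix Module Polynomial
open scoped Kronecker MatrixGroups

section trv

variable {F : Type*} [Field F] {n : ℕ}

theorem transvection_pow (i j : Fin n) (hij : i ≠ j) (c : F) (k : ℕ) :
    (Matrix.transvection i j c) ^ k = Matrix.transvection i j ((k : F) * c) := by
  induction k with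
  | zero => simp
  | succ k ih =>
    rw [pow_succ, ih, Matrix.transvection_mul_transvection_same i j hij]
    congr 1
    push_cast
    ring

/-- `r = p`: a transvection -/
theorem exists_bad_char (p : ℕ) [Fact p.Prime] [CharP F p] (a b : ℕ) (hn : n = a * b)
    (ha : 2 ≤ a) (hab : a < b) :
    ∃ x : GL (Fin n) F, x ∈ Cfsg.Geo.specialLinear (Fin n) F ∧
      (∃ z : F, ((x ^ p : GL (Fin n) F) : Matrix (Fin n) (Fin n) F) =
        z • (1 : Matrix (Fin n) (Fin n) F)) ∧
      (∀ z : F, (x : Matrix (Fin n) (Fin n) F) ≠ z • (1 : Matrix (Fin n) (Fin n) F)) ∧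
      ¬ KronConj (Matrix.toLin' (x : Matrix (Fin n) (Fin n) F)) a b := by
  classical
  have hn6 : 6 ≤ n := by rw [hn]; nlinarith
  let i₀ : Fin n := ⟨0, by omega⟩
  let i₁ : Fin n := ⟨1, by omega⟩
  have h01 : i₀ ≠ i₁ := by
    intro h
    have := congrArg Fin.val h
    simp [i₀, i₁] at this
  let x : GL (Fin n) F :=
    ⟨Matrix.transvection i₀ i₁ 1, Matrix.transvection i₀ i₁ (-1),
      by rw [Matrix.transvection_mul_transvection_same i₀ i₁ h01, add_neg_cancel,
        Matrix.transvection_zero],
      by rw [Matrix.transvection_mul_transvection_same i₀ i₁ h01, neg_add_cancel,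
        Matrix.transvection_zero]⟩
  have hxval : (x : Matrix (Fin n) (Fin n) F) = Matrix.transvection i₀ i₁ 1 := rfl
  have hns : ∀ z : F, (x : Matrix (Fin n) (Fin n) F) ≠ z • (1 : Matrix (Fin n) (Fin n) F) := by
    intro z hz
    have h1 := congrFun (congrFun hz i₀) i₁
    rw [hxval, Matrix.transvection, Matrix.add_apply, Matrix.one_apply_ne h01,
      Matrix.single_apply_same, Matrix.smul_apply, Matrix.one_apply_ne h01] at h1
    simp at h1
  refine ⟨x, ?_, ⟨1, ?_⟩, hns, ?_⟩
  · rw [mem_specialLinear_iff, hxval, Matrix.det_transvection_of_ne i₀ i₁ h01]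
  · rw [Units.val_pow_eq_pow_val, hxval, transvection_pow i₀ i₁ h01, CharP.cast_eq_zero, zero_mul,
      Matrix.transvection_zero, one_smul]
  · apply not_kronConj_of_rank_one _ a b (by rw [Module.finrank_fin_fun, hn]) ha hab 1 one_ne_zero
    · intro hX
      apply hns 1
      apply Matrix.toLin'.injective
      rw [hX, map_smul, Matrix.toLin'_one]
      rfl
    · have hle : LinearMap.range (Matrix.toLin' (x : Matrix (Fin n) (Fin n) F) -
          (1 : F) • (1 : (Fin n → F) →ₗ[F] (Fin n → F))) ≤
          Submodule.span F {(Pi.single i₀ (1 : F) : Fin n → F)} := by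
        rintro _ ⟨v, rfl⟩
        rw [Submodule.mem_span_singleton]
        refine ⟨v i₁, ?_⟩
        rw [LinearMap.sub_apply, LinearMap.smul_apply, Module.End.one_apply, one_smul,
          Matrix.toLin'_apply, hxval, Matrix.transvection, Matrix.add_mulVec, Matrix.one_mulVec,
          add_sub_cancel_left, Matrix.single_mulVec]
        funext k
        by_cases hk : k = i₀
        · subst hk
          simp
        · simp [hk]
      refine (Submodule.finrank_mono hle).trans ?_
      rw [finrank_span_singleton]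
      intro h0
      have := congrFun h0 i₀
      simp at this

end trv

section block

variable {F : Type*} [Field F] [Fintype F] {n : ℕ}

/-- `r ≠ p` odd or even with `ord_r(q) ≥ 2`: a single irreducible block -/
theorem exists_bad_block (p : ℕ) [Fact p.Prime] [CharP F p] (r : ℕ) [hr : Fact r.Prime]
    (hrp : r ≠ p) (hrq : ¬ r ∣ Fintype.card F - 1)
    (hin : orderOf ((Fintype.card F : ℕ) : ZMod r) ≤ n) (a b : ℕ) (hn : n = a * b)
    (ha : 2 ≤ a) (hab : a < b) :
    ∃ x : GL (Fin n) F, x ∈ Cfsg.Geo.specialLinear (Fin n) F ∧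
      (∃ z : F, ((x ^ r : GL (Fin n) F) : Matrix (Fin n) (Fin n) F) =
        z • (1 : Matrix (Fin n) (Fin n) F)) ∧
      (∀ z : F, (x : Matrix (Fin n) (Fin n) F) ≠ z • (1 : Matrix (Fin n) (Fin n) F)) ∧
      ¬ KronConj (Matrix.toLin' (x : Matrix (Fin n) (Fin n) F)) a b := by
  classical
  set i := orderOf ((Fintype.card F : ℕ) : ZMod r) with hi
  have hipos : 0 < i := Cfsg.Agent.Lib.Helper15.PSub.orderOf_pos_of_ne p r hrp
  have hq1 : 1 ≤ Fintype.card F := Fintype.card_pos
  have hi1 : i ≠ 1 := by
    intro h1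
    exact hrq ((Cfsg.Agent.Lib.Helper15.PSub.orderOf_zmod_eq_one_iff _ r hq1).mp h1)
  have hn0 : n ≠ 0 := by omega
  have hnu : ¬ IsUnit (cyclotomic r F) := by
    intro hu
    have := natDegree_eq_zero_of_isUnit hu
    rw [natDegree_cyclotomic, Nat.totient_prime hr.out] at this
    have := hr.out.two_le
    omega
  obtain ⟨P, hP, hPd⟩ := WfDvdMonoid.exists_irreducible_factor hnu (cyclotomic_ne_zero r F)
  have hdeg : P.natDegree = i :=
    Cfsg.Agent.Lib.Helper15.PSub.cyclotomic_factor_degree p r hr.out hrp P hP hPd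
  have : Fact (Irreducible P) := ⟨hP⟩
  obtain ⟨y, e, hy⟩ := Cfsg.Agent.Lib.Helper15.PSub.exists_model P 1 (n - i) n
    (by rw [hdeg]; omega)
  have hroot : AdjoinRoot.root P ^ r = 1 := by
    have h1 : P ∣ X ^ r - 1 := by
      rw [← cyclotomic_prime_mul_X_sub_one F r]
      exact Dvd.dvd.mul_right hPd _
    have h2 := AdjoinRoot.mk_eq_zero.mpr h1
    rw [map_sub, map_pow, AdjoinRoot.mk_X, map_one, sub_eq_zero] at h2
    exact h2
  have hroot1 : AdjoinRoot.root P ≠ 1 := by
    intro h0
    have h1 : AdjoinRoot.mk P (X - 1) = 0 := by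
      rw [map_sub, AdjoinRoot.mk_X, map_one, h0, sub_self]
    rw [AdjoinRoot.mk_eq_zero] at h1
    have h2 : (X - 1 : F[X]) ≠ 0 := by
      have := X_sub_C_ne_zero (1 : F)
      rwa [C_1] at this
    have h3 := natDegree_le_of_dvd h1 h2
    have h4 : (X - 1 : F[X]).natDegree = 1 := by
      have := natDegree_X_sub_C (1 : F)
      rwa [C_1] at this
    omega
  have hyr : y ^ r = 1 := by
    apply LinearMap.ext
    intro v
    apply e.injective
    rw [Cfsg.Agent.Lib.Helper15.PSub.model_pow y e hy, hroot, one_smul, Module.End.one_apply]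
  have hy1 : y ≠ 1 := by
    intro h1
    let w : (Fin 1 → AdjoinRoot P) × (Fin (n - i) → F) := (fun _ => 1, 0)
    have h2 := hy (e.symm w)
    rw [h1, Module.End.one_apply, LinearEquiv.apply_symm_apply] at h2
    have h3 := congrFun (congrArg Prod.fst h2) 0
    simp only [w, Pi.smul_apply, smul_eq_mul, mul_one] at h3
    exact hroot1 h3.symm
  have hdet : LinearMap.det y = 1 := by
    apply Cfsg.Agent.Lib.Helper15.PSub.eq_one_of_pow_eq_one r hr.out hrq
    rw [← map_pow, hyr, map_one]
  have hfix : n - i ≤ finrank F (Module.End.eigenspace y 1) := by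
    let ι : (Fin (n - i) → F) →ₗ[F] (Fin n → F) :=
      (e.symm : _ →ₗ[F] (Fin n → F)) ∘ₗ LinearMap.inr F (Fin 1 → AdjoinRoot P) (Fin (n - i) → F)
    have hinj : Function.Injective ι := by
      intro w w' h
      have h1 : e.symm (0, w) = e.symm (0, w') := h
      have h2 := e.symm.injective h1
      exact (Prod.ext_iff.mp h2).2
    have hle : LinearMap.range ι ≤ Module.End.eigenspace y 1 := by
      rintro _ ⟨w, rfl⟩
      rw [Module.End.mem_eigenspace_iff, one_smul]
      apply e.injective
      rw [hy]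
      show (AdjoinRoot.root P • (e (e.symm (0, w))).1, (e (e.symm (0, w))).2) = e (e.symm (0, w))
      rw [LinearEquiv.apply_symm_apply]
      simp
    have h1 := Submodule.finrank_mono hle
    rw [LinearMap.finrank_range_of_inj hinj, Module.finrank_fin_fun] at h1
    exact h1
  have hunit : IsUnit (LinearMap.toMatrix' y).det := by
    rw [LinearMap.det_toMatrix', hdet]
    exact isUnit_one
  let x : GL (Fin n) F := Matrix.GeneralLinearGroup.mk'' (LinearMap.toMatrix' y) hunit
  have hxval : (x : Matrix (Fin n) (Fin n) F) = LinearMap.toMatrix' y := rfl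
  have hxy : Matrix.toLin' (x : Matrix (Fin n) (Fin n) F) = y := by
    rw [hxval, Matrix.toLin'_toMatrix']
  have hns : ∀ z : F, (x : Matrix (Fin n) (Fin n) F) ≠ z • (1 : Matrix (Fin n) (Fin n) F) := by
    intro z hz
    have h1 : y = z • (1 : (Fin n → F) →ₗ[F] (Fin n → F)) := by
      rw [← hxy, hz, map_smul, Matrix.toLin'_one]
      rfl
    have h2 : z ^ r = 1 := by
      have h3 := hyr
      rw [h1, _root_.smul_pow, one_pow] at h3
      exact Cfsg.Agent.Lib.Helper15.PSub.smul_one_injective n hn0 _ _ (by rw [h3, one_smul])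
    have h4 := Cfsg.Agent.Lib.Helper15.PSub.eq_one_of_pow_eq_one r hr.out hrq z h2
    rw [h4, one_smul] at h1
    exact hy1 h1
  refine ⟨x, ?_, ⟨1, ?_⟩, hns, ?_⟩
  · rw [mem_specialLinear_iff, hxval, LinearMap.det_toMatrix', hdet]
  · rw [Units.val_pow_eq_pow_val, one_smul]
    apply Matrix.toLin'.injective
    rw [Matrix.toLin'_pow, hxy, hyr, Matrix.toLin'_one]
    rfl
  · rw [hxy]
    apply not_kronConj_of_order p r hrp hrq y a b (by rw [Module.finrank_fin_fun, hn]) ha hab hyr hy1
    rw [← hi, ← hn]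
    omega

end block

end Cfsg.Agent.Lib.Helper10.Kron
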