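import Mathlib
import Cfsg.Agent.Lib.Helper10.Kron4
import Cfsg.Agent.Lib.Helper15.PInv7

/-!
# Plane bases with a fixed block shape, and involutions modulo scalars in `GL_2 ⊗ GL_b`
-/

set_option autoImplicit false

namespace Cfsg.Agent.Lib.Helper10.Kron

open Matrix Module Submodule Polynomial
open scoped Kronecker MatrixGroups

section tpb

variable {F V : Type*} [Field F] [AddCommGroup V] [Module F V]

/-- `W` has a basis of pairs `(e j, f j)` spanning planes on which `X` acts as `s j • A` -/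
def TPB (X : V →ₗ[F] V) (A : Matrix (Fin 2) (Fin 2) F) (W : Submodule F V) (κ : Type) : Prop :=
  ∃ (e f : κ → V) (s : κ → F), LinearIndependent F (Sum.elim e f) ∧
    span F (Set.range (Sum.elim e f)) = W ∧ (∀ j, s j ≠ 0) ∧
    (∀ j, X (e j) = s j • (A 0 0 • e j + A 1 0 • f j)) ∧
    (∀ j, X (f j) = s j • (A 0 1 • e j + A 1 1 • f j))

theorem TPB.empty (X : V →ₗ[F] V) (A : Matrix (Fin 2) (Fin 2) F) : TPB X A ⊥ Empty := by
  refine ⟨fun e => e.elim, fun e => e.elim, fun e => e.elim, linearIndependent_empty_type, ?_,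
    fun e => e.elim, fun e => e.elim, fun e => e.elim⟩
  rw [Set.range_eq_empty, span_empty]

theorem TPB.series {κ₁ κ₂ : Type} {X : V →ₗ[F] V} {A : Matrix (Fin 2) (Fin 2) F}
    {W₁ W₂ : Submodule F V}
    (h₁ : TPB X A W₁ κ₁) (h₂ : TPB X A W₂ κ₂) (hd : Disjoint W₁ W₂) :
    TPB X A (W₁ ⊔ W₂) (κ₁ ⊕ κ₂) := by
  obtain ⟨e₁, f₁, s₁, hli₁, hsp₁, hs₁, he₁, hf₁⟩ := h₁
  obtain ⟨e₂, f₂, s₂, hli₂, hsp₂, hs₂, he₂, hf₂⟩ := h₂
  refine ⟨Sum.elim e₁ e₂, Sum.elim f₁ f₂, Sum.elim s₁ s₂, ?_, ?_, ?_, ?_, ?_⟩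
  · have hg : LinearIndependent F (Sum.elim (Sum.elim e₁ f₁) (Sum.elim e₂ f₂)) := by
      apply LinearIndependent.sum_type hli₁ hli₂
      rw [hsp₁, hsp₂]
      exact hd
    have hcomp : Sum.elim (Sum.elim e₁ e₂) (Sum.elim f₁ f₂) =
        Sum.elim (Sum.elim e₁ f₁) (Sum.elim e₂ f₂) ∘ (Equiv.sumSumSumComm κ₁ κ₂ κ₁ κ₂) := by
      funext i
      rcases i with (i | i) | (i | i) <;> rfl
    rw [hcomp]
    exact hg.comp _ (Equiv.injective _)
  · rw [Set.Sum.elim_range, Set.Sum.elim_range, Set.Sum.elim_range, span_union, span_union,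
      span_union, ← hsp₁, ← hsp₂, Set.Sum.elim_range, Set.Sum.elim_range, span_union, span_union]
    exact sup_sup_sup_comm _ _ _ _
  · rintro (j | j)
    · exact hs₁ j
    · exact hs₂ j
  · rintro (j | j)
    · exact he₁ j
    · exact he₂ j
  · rintro (j | j)
    · exact hf₁ j
    · exact hf₂ j

theorem TPB.congr {κ : Type} {X : V →ₗ[F] V} {A : Matrix (Fin 2) (Fin 2) F} {W W' : Submodule F V}
    (h : TPB X A W κ) (hW : W = W') : TPB X A W' κ := by
  subst hW; exact h

/-- A single plane. -/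
theorem TPB.plane (X : V →ₗ[F] V) (A : Matrix (Fin 2) (Fin 2) F) (e₀ f₀ : V) (s : F) (hs : s ≠ 0)
    (hli : LinearIndependent F (Sum.elim (fun _ : Unit => e₀) (fun _ : Unit => f₀)))
    (he : X e₀ = s • (A 0 0 • e₀ + A 1 0 • f₀)) (hf : X f₀ = s • (A 0 1 • e₀ + A 1 1 • f₀)) :
    TPB X A (span F {e₀, f₀}) Unit := by
  refine ⟨fun _ => e₀, fun _ => f₀, fun _ => s, hli, ?_, fun _ => hs, fun _ => he, fun _ => hf⟩
  rw [Set.Sum.elim_range, Set.range_const, Set.range_const]
  rfl

/-- transport along a bijection of index types -/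
theorem TPB.reindex {κ κ' : Type} {X : V →ₗ[F] V} {A : Matrix (Fin 2) (Fin 2) F}
    {W : Submodule F V} (h : TPB X A W κ) (σ : κ' ≃ κ) : TPB X A W κ' := by
  obtain ⟨e, f, s, hli, hsp, hs, he, hf⟩ := h
  refine ⟨e ∘ σ, f ∘ σ, s ∘ σ, ?_, ?_, fun j => hs (σ j), fun j => he (σ j), fun j => hf (σ j)⟩
  · have hcomp : Sum.elim (e ∘ σ) (f ∘ σ) = Sum.elim e f ∘ (Equiv.sumCongr σ σ) := by
      funext i
      rcases i with i | i <;> rfl
    rw [hcomp]
    exact hli.comp _ (Equiv.injective _)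
  · have hcomp : Sum.elim (e ∘ σ) (f ∘ σ) = Sum.elim e f ∘ (Equiv.sumCongr σ σ) := by
      funext i
      rcases i with i | i <;> rfl
    rw [hcomp, Set.range_comp, Set.range_eq_univ.mpr (Equiv.surjective _), Set.image_univ, hsp]

variable [FiniteDimensional F V]

/-- An even-dimensional subspace of an eigenspace. -/
theorem TPB.of_eigen (X : V →ₗ[F] V) (lam : F) (hlam : lam ≠ 0) (U : Submodule F V)
    (hU : U ≤ Module.End.eigenspace X lam) (k : ℕ) (hk : finrank F U = 2 * k) :
    TPB X 1 U (Fin k) := by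
  classical
  have hcard : Fintype.card (Fin (finrank F U)) = Fintype.card (Fin k ⊕ Fin k) := by
    rw [Fintype.card_fin, Fintype.card_sum, Fintype.card_fin, hk]
    ring
  let b := (Module.finBasis F U).reindex (Fintype.equivOfCardEq hcard)
  let v : Fin k ⊕ Fin k → V := fun i => (b i : V)
  have hli : LinearIndependent F v :=
    b.linearIndependent.map' U.subtype (Submodule.ker_subtype U)
  have hspan : span F (Set.range v) = U := by
    have h1 : Set.range v = U.subtype '' Set.range b := by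
      rw [← Set.range_comp]
      rfl
    rw [h1, ← Submodule.map_span, b.span_eq, Submodule.map_subtype_top]
  have hv : Sum.elim (fun j => v (Sum.inl j)) (fun j => v (Sum.inr j)) = v := by
    funext i
    rcases i with i | i <;> rfl
  have hX : ∀ i, X (v i) = lam • v i := by
    intro i
    have h1 := hU (b i).2
    rwa [Module.End.mem_eigenspace_iff] at h1
  refine ⟨fun j => v (Sum.inl j), fun j => v (Sum.inr j), fun _ => lam, ?_, ?_, fun _ => hlam,
    ?_, ?_⟩
  · rw [hv]; exact hli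
  · rw [hv]; exact hspan
  · intro j
    rw [hX]
    simp
  · intro j
    rw [hX]
    simp

/-- adapted plane basis for the diagonal type with even-dimensional eigenspaces -/
theorem typeD_TPB (X : V →ₗ[F] V) (w : F) (hw : w ≠ 0) (h2 : (2 : F) ≠ 0)
    (hX : X ^ 2 = (w * w) • (1 : V →ₗ[F] V)) (k₁ k₂ : ℕ)
    (h₁ : finrank F (Module.End.eigenspace X w) = 2 * k₁)
    (h₂ : finrank F (Module.End.eigenspace X (-w)) = 2 * k₂) :
    TPB X 1 ⊤ (Fin k₁ ⊕ Fin k₂) := by
  have hc := Cfsg.Agent.Lib.Helper15.PInv.typeD_isCompl X w hw h2 hX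
  have s₁ := TPB.of_eigen X w hw _ le_rfl k₁ h₁
  have s₂ := TPB.of_eigen X (-w) (neg_ne_zero.mpr hw) _ le_rfl k₂ h₂
  exact (s₁.series s₂ hc.disjoint).congr hc.sup_eq_top

/-- adapted plane bases for the irreducible type -/
theorem typeI_TPB (X : V →ₗ[F] V) (z : F) (hz : z ≠ 0) (h2 : (2 : F) ≠ 0)
    (hX : X ^ 2 = z • (1 : V →ₗ[F] V))
    (hirr : Irreducible (Polynomial.X ^ 2 - C z : F[X])) (k : ℕ) :
    ∀ W : Submodule F V, W ∈ Module.End.invtSubmodule X → finrank F W = 2 * k →
      ∃ (κ : Type) (_ : Fintype κ), Fintype.card κ = k ∧ TPB X !![0, z; 1, 0] W κ := by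
  have hss : Module.End.IsSemisimple X :=
    Cfsg.Agent.Lib.Helper15.PSub.isSemisimple_of_pow_eq_smul X 2 (by exact_mod_cast h2) z hz hX
  induction k with
  | zero =>
    intro W _ hdim
    have hW0 : W = ⊥ := Submodule.finrank_eq_zero.mp (by omega)
    subst hW0
    exact ⟨Empty, inferInstance, by simp, TPB.empty X _⟩
  | succ k ih =>
    intro W hW hdim
    have hWne : W ≠ ⊥ := by
      intro h0
      rw [h0, finrank_bot] at hdim
      omega
    obtain ⟨v, hvW, hv0⟩ := Submodule.exists_mem_ne_zero_of_ne_bot hWne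
    obtain ⟨hZinv, hZdim⟩ := Cfsg.Agent.Lib.Helper15.PInv.typeI_plane X z hX hirr v hv0
    have hXX : X (X v) = z • v := by
      have := LinearMap.congr_fun hX v
      rw [pow_two, Module.End.mul_apply] at this
      rw [this]
      simp
    have hZW : span F {v, X v} ≤ W := by
      rw [span_le]
      rintro x (rfl | hx)
      · exact hvW
      · rw [Set.mem_singleton_iff.mp hx]
        exact hW hvW
    have hrange : Set.range (Sum.elim (fun _ : Unit => v) (fun _ : Unit => X v)) = {v, X v} := by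
      rw [Set.Sum.elim_range, Set.range_const, Set.range_const]
      rfl
    have hli : LinearIndependent F (Sum.elim (fun _ : Unit => v) (fun _ : Unit => X v)) := by
      rw [linearIndependent_iff_card_eq_finrank_span, Set.finrank, hrange, hZdim]
      simp
    have hP₁ := TPB.plane X !![0, z; 1, 0] v (X v) 1 one_ne_zero hli (by simp) (by simp [hXX])
    obtain ⟨W', hW'W, hW'inv, hinf, hsup, hdim'⟩ :=
      Cfsg.Agent.Lib.Helper15.PSub.exists_compl_in X hss W _ hW hZinv hZW
    have hW'dim : finrank F W' = 2 * k := by omega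
    obtain ⟨κ, hκ, hcard, hP₂⟩ := ih W' hW'inv hW'dim
    have hser := hP₁.series hP₂ (disjoint_iff.mpr hinf)
    refine ⟨Unit ⊕ κ, inferInstance, ?_, hser.congr hsup⟩
    rw [Fintype.card_sum, Fintype.card_unit, hcard, add_comm]

/-- the index bijection `Fin b ⊕ Fin b ≃ Fin 2 × Fin b` -/
def tau (b : ℕ) : Fin b ⊕ Fin b ≃ Fin 2 × Fin b where
  toFun := Sum.elim (fun j => (0, j)) (fun j => (1, j))
  invFun := fun p => if p.1 = 0 then Sum.inl p.2 else Sum.inr p.2
  left_inv := by
    rintro (j | j) <;> simp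
  right_inv := by
    rintro ⟨i, j⟩
    fin_cases i <;> simp

omit [FiniteDimensional F V] in
/-- a plane basis of the whole space gives a Kronecker structure -/
theorem TPB.toKronConj {X : V →ₗ[F] V} {A : Matrix (Fin 2) (Fin 2) F} {b : ℕ}
    (h : TPB X A ⊤ (Fin b)) (hA : A.det ≠ 0) : KronConj X 2 b := by
  classical
  obtain ⟨e, f, s, hli, hsp, hs, he, hf⟩ := h
  let bas : Basis (Fin b ⊕ Fin b) F V := Basis.mk hli (by rw [hsp])
  let bas' : Basis (Fin 2 × Fin b) F V := bas.reindex (tau b)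
  have hb0 : ∀ l, bas' (0, l) = e l := by
    intro l
    show bas.reindex (tau b) (0, l) = e l
    rw [Basis.reindex_apply]
    have h1 : (tau b).symm (0, l) = Sum.inl l := by
      rw [Equiv.symm_apply_eq]
      rfl
    rw [h1, Basis.mk_apply]
    rfl
  have hb1 : ∀ l, bas' (1, l) = f l := by
    intro l
    show bas.reindex (tau b) (1, l) = f l
    rw [Basis.reindex_apply]
    have h1 : (tau b).symm (1, l) = Sum.inr l := by
      rw [Equiv.symm_apply_eq]
      rfl
    rw [h1, Basis.mk_apply]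
    rfl
  let Θ : (Fin 2 × Fin b → F) ≃ₗ[F] V := bas'.equivFun.symm
  have hΘ : ∀ w : Fin 2 × Fin b → F, Θ w = ∑ q, w q • bas' q := fun w =>
    Basis.equivFun_symm_apply bas' w
  have hΘs : ∀ q : Fin 2 × Fin b, Θ (Pi.single q 1) = bas' q := by
    intro q
    rw [hΘ, Finset.sum_eq_single q]
    · rw [Pi.single_eq_same, one_smul]
    · intro q' _ hne
      rw [Pi.single_eq_of_ne hne, zero_smul]
    · intro hq
      exact absurd (Finset.mem_univ q) hq
  have hcol : ∀ (i₀ : Fin 2) (l : Fin b),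
      Θ ((A ⊗ₖ Matrix.diagonal s) *ᵥ Pi.single (i₀, l) 1) =
        s l • (A 0 i₀ • bas' (0, l) + A 1 i₀ • bas' (1, l)) := by
    intro i₀ l
    rw [hΘ, Fintype.sum_prod_type, Fin.sum_univ_two]
    have hinner : ∀ i : Fin 2, ∑ k : Fin b,
        ((A ⊗ₖ Matrix.diagonal s) *ᵥ Pi.single (i₀, l) 1) (i, k) • bas' (i, k) =
        (A i i₀ * s l) • bas' (i, l) := by
      intro i
      rw [Finset.sum_eq_single l]
      · rw [Matrix.mulVec_single_one]
        simp [Matrix.col, Matrix.kroneckerMap_apply]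
      · intro k _ hkl
        rw [Matrix.mulVec_single_one]
        simp [Matrix.col, Matrix.kroneckerMap_apply, Matrix.diagonal_apply_ne _ hkl]
      · intro hl
        exact absurd (Finset.mem_univ l) hl
    rw [hinner 0, hinner 1, smul_add, smul_smul, smul_smul, mul_comm (s l), mul_comm (s l)]
  let Ag : GL (Fin 2) F := Matrix.GeneralLinearGroup.mk'' A (isUnit_iff_ne_zero.mpr hA)
  have hAg : (Ag : Matrix (Fin 2) (Fin 2) F) = A := rfl
  refine ⟨Ag, diagGL s hs, Θ, ?_⟩
  rw [hAg, diagGL_val]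
  have key : X ∘ₗ (Θ : (Fin 2 × Fin b → F) →ₗ[F] V) =
      (Θ : (Fin 2 × Fin b → F) →ₗ[F] V) ∘ₗ Matrix.toLin' (A ⊗ₖ Matrix.diagonal s) := by
    apply (Pi.basisFun F (Fin 2 × Fin b)).ext
    rintro ⟨i₀, l⟩
    rw [Pi.basisFun_apply, LinearMap.comp_apply, LinearMap.comp_apply, LinearEquiv.coe_coe,
      Matrix.toLin'_apply, hΘs, hcol, hb0, hb1]
    fin_cases i₀
    · show X (bas' (0, l)) = s l • (A 0 0 • e l + A 1 0 • f l)
      rw [hb0]
      exact he l
    · show X (bas' (1, l)) = s l • (A 0 1 • e l + A 1 1 • f l)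
      rw [hb1]
      exact hf l
  intro u
  have := LinearMap.congr_fun key u
  simpa only [LinearMap.comp_apply, LinearEquiv.coe_coe, Matrix.toLin'_apply] using this

end tpb

section good

variable {F : Type*} [Field F] [Fintype F] {n : ℕ}

/-- **Good direction**: for `q` odd and `(q - 1)_2 ≤ (n)_2`, every involution modulo scalars of
`SL_n` is conjugate into a tensor product subgroup of type `GL_2 ⊗ GL_b`. -/
theorem good_two (b : ℕ) (hb : b ≠ 0) (hn : n = 2 * b) (e : Fin n ≃ Fin 2 × Fin b)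
    (P : GL (Fin n) F) (h2 : (2 : F) ≠ 0)
    (hv : padicValNat 2 (Fintype.card F - 1) ≤ padicValNat 2 n)
    (x : GL (Fin n) F) (hx : x ∈ Cfsg.Geo.specialLinear (Fin n) F) (z : F)
    (hx2 : ((x ^ 2 : GL (Fin n) F) : Matrix (Fin n) (Fin n) F) =
      z • (1 : Matrix (Fin n) (Fin n) F))
    (hns : ∀ z : F, (x : Matrix (Fin n) (Fin n) F) ≠ z • (1 : Matrix (Fin n) (Fin n) F)) :
    ∃ g ∈ Cfsg.Geo.specialLinear (Fin n) F,
      g⁻¹ * x * g ∈ Cfsg.Geo.tensorProductSubgroup 2 b e P := by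
  classical
  set X := Matrix.toLin' (x : Matrix (Fin n) (Fin n) F) with hXdef
  have hX2 : X ^ 2 = z • (1 : (Fin n → F) →ₗ[F] (Fin n → F)) := by
    rw [hXdef, ← Matrix.toLin'_pow, ← Units.val_pow_eq_pow_val, hx2, map_smul, Matrix.toLin'_one]
    rfl
  have hXns : ∀ c : F, X ≠ c • (1 : (Fin n → F) →ₗ[F] (Fin n → F)) := by
    intro c hc
    apply hns c
    apply Matrix.toLin'.injective
    rw [← hXdef, hc, map_smul, Matrix.toLin'_one]
    rfl
  have hdetX : LinearMap.det X = 1 := by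
    rw [hXdef, LinearMap.det_toLin']
    exact (mem_specialLinear_iff x).mp hx
  have hn0 : n ≠ 0 := by omega
  have hV : finrank F (Fin n → F) = 2 * b := by rw [Module.finrank_fin_fun, hn]
  have hV0 : finrank F (Fin n → F) ≠ 0 := by rw [hV]; omega
  have hz : z ≠ 0 := by
    rintro rfl
    have h1 := congrArg LinearMap.det hX2
    rw [map_pow, hdetX, LinearMap.det_smul, hV, zero_pow (by omega), zero_mul] at h1
    simp at h1
  -- the final step, given an adapted plane basis and the centraliser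
  have fin : ∀ (A : Matrix (Fin 2) (Fin 2) F) (_ : A.det ≠ 0) (κ : Type) (_ : Fintype κ),
      Fintype.card κ = b → TPB X A ⊤ κ →
      (∀ δ : F, δ ≠ 0 → ∃ C : (Fin n → F) →ₗ[F] (Fin n → F), C ∘ₗ X = X ∘ₗ C ∧
        LinearMap.det C = δ) →
      ∃ g ∈ Cfsg.Geo.specialLinear (Fin n) F,
        g⁻¹ * x * g ∈ Cfsg.Geo.tensorProductSubgroup 2 b e P := by
    intro A hA κ _ hκ hS hcent
    have σ : Fin b ≃ κ := (Fintype.equivFinOfCardEq hκ).symm
    exact exists_sl_conj_of_kronConj e P x ((hS.reindex σ).toKronConj hA) hcent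
  by_cases hsq : IsSquare z
  · obtain ⟨w, hw⟩ := hsq
    have hw0 : w ≠ 0 := by
      rintro rfl
      apply hz
      rw [hw, mul_zero]
    have hX2' : X ^ 2 = (w * w) • (1 : (Fin n → F) →ₗ[F] (Fin n → F)) := by
      rw [← hw]; exact hX2
    have hc := Cfsg.Agent.Lib.Helper15.PInv.typeD_isCompl X w hw0 h2 hX2'
    have hdim := Submodule.finrank_add_eq_of_isCompl hc
    rw [hV] at hdim
    have hdet := Cfsg.Agent.Lib.Helper15.PInv.typeD_det X w hw0 h2 hX2'
    rw [hdetX] at hdet
    set d₁ := finrank F (Module.End.eigenspace X w) with hd₁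
    set d₂ := finrank F (Module.End.eigenspace X (-w)) with hd₂
    have hev : Even d₂ := by
      rw [← Nat.not_odd_iff_even]
      intro hodd
      rw [neg_pow, hodd.neg_one_pow] at hdet
      have h5 : w ^ n = -1 := by
        rw [hn, ← hdim, pow_add]
        linear_combination hdet
      have := Cfsg.Agent.Lib.Helper15.PInv.lt_of_pow_eq_neg_one h2 n hn0 w h5
      omega
    obtain ⟨k₂, hk₂⟩ := hev
    have hk₂' : d₂ = 2 * k₂ := by omega
    have hk₁' : d₁ = 2 * (b - k₂) := by omega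
    have hS := typeD_TPB X w hw0 h2 hX2' (b - k₂) k₂ hk₁' hk₂'
    refine fin 1 (by simp) (Fin (b - k₂) ⊕ Fin k₂) inferInstance ?_ hS ?_
    · rw [Fintype.card_sum, Fintype.card_fin, Fintype.card_fin]
      omega
    · intro δ _
      exact Cfsg.Agent.Lib.Helper15.PInv.typeD_cent X w hw0 h2 hX2' hV0 δ
  · have hirr : Irreducible (Polynomial.X ^ 2 - C z : F[X]) := by
      apply X_pow_sub_C_irreducible_of_prime Nat.prime_two
      intro c hc
      apply hsq
      exact ⟨c, by rw [← hc, pow_two]⟩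
    have hodd : Fintype.card F % 2 = 1 := by
      apply FiniteField.odd_card_of_char_ne_two
      intro hch
      apply h2
      have := ringChar.Nat.cast_ringChar (R := F)
      rw [hch] at this
      exact_mod_cast this
    obtain ⟨κ, hκf, hκ, hS⟩ := typeI_TPB X z hz h2 hX2 hirr b ⊤
      (Module.End.invtSubmodule.top_mem X) (by rw [finrank_top, hV])
    refine fin !![0, z; 1, 0] ?_ κ hκf hκ hS ?_
    · rw [Matrix.det_fin_two_of]
      simpa using hz
    · intro δ _
      exact Cfsg.Agent.Lib.Helper15.PInv.typeI_cent X z hz h2 hodd hX2 hirr hV0 δ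

end good

end Cfsg.Agent.Lib.Helper10.Kron
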