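import Mathlib
import Cfsg.Prelude.Def_GeometricClasses

/-!
# Quadratic unipotent Kronecker products (helper10)

In characteristic different from two, a Kronecker product `A ⊗ₖ B` with `B` invertible and
`(A ⊗ₖ B - 1) ^ 2 = 0` has a scalar factor.  (In characteristic two this fails: two involutions.)
General index types.
-/

set_option autoImplicit false

namespace Cfsg.Agent.Lib.Helper10.KronQuad

open Matrix
open scoped Kronecker

variable {F : Type*} [Field F] {l m : Type*} [Fintype l] [DecidableEq l] [Fintype m] [DecidableEq m]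

/-- the square of `A ⊗ₖ B - 1`, expanded -/
theorem sq_expand (A : Matrix l l F) (B : Matrix m m F) :
    (A ⊗ₖ B - 1) * (A ⊗ₖ B - 1) = (A * A) ⊗ₖ (B * B) - (2 : F) • (A ⊗ₖ B) + 1 := by
  rw [sub_mul, mul_sub, mul_sub, mul_one, one_mul, one_mul, ← Matrix.mul_kronecker_mul, two_smul]
  abel

/-- entrywise form of `(A ⊗ₖ B - 1) ^ 2 = 0`, as an identity of matrices in `B` for fixed `i i'`. -/
theorem entry_eq (A : Matrix l l F) (B : Matrix m m F)
    (h : (A ⊗ₖ B - 1) * (A ⊗ₖ B - 1) = 0) (i i' : l) :
    ((A * A) i i') • (B * B) - (2 * A i i') • B + (if i = i' then (1 : F) else 0) • (1 : Matrix m m F) = 0 := by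
  rw [sq_expand] at h
  ext j j'
  have := congrFun (congrFun h (i, j)) (i', j')
  simp only [Matrix.add_apply, Matrix.sub_apply, Matrix.smul_apply, Matrix.kroneckerMap_apply,
    Matrix.zero_apply, smul_eq_mul, Matrix.one_apply, Prod.mk.injEq] at this ⊢
  by_cases hi : i = i'
  · subst hi
    simp only [true_and, if_true] at this ⊢
    linear_combination this
  · simp only [hi, false_and, if_false] at this ⊢
    linear_combination this

/-- a scalar multiple of the identity on a nonempty index type vanishes only for the zero scalar -/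
theorem smul_one_eq_zero [Nonempty m] {c : F} (h : c • (1 : Matrix m m F) = 0) : c = 0 := by
  obtain ⟨j⟩ := ‹Nonempty m›
  have := congrFun (congrFun h j) j
  simpa using this

/-- **Quadratic unipotent Kronecker products have a scalar factor** (characteristic not two). -/
theorem scalar_of_sq_zero (h2 : (2 : F) ≠ 0) (A : Matrix l l F) (B : Matrix m m F)
    (hB : IsUnit B) (h : (A ⊗ₖ B - 1) * (A ⊗ₖ B - 1) = 0) :
    (∃ c : F, A = c • (1 : Matrix l l F)) ∨ (∃ c : F, B = c • (1 : Matrix m m F)) := by
  classical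
  by_cases hm : IsEmpty m
  · right
    exact ⟨0, by ext j; exact hm.elim j⟩
  rw [not_isEmpty_iff] at hm
  obtain ⟨Bi, hBi⟩ : ∃ Bi : Matrix m m F, Bi * B = 1 := by
    obtain ⟨u, rfl⟩ := hB
    exact ⟨((u⁻¹ : (Matrix m m F)ˣ) : Matrix m m F), by simp⟩
  -- multiplying a quadratic relation in `B` by `Bi`
  have cancel : ∀ p r s : F, p • (B * B) - r • B + s • (1 : Matrix m m F) = 0 →
      p • B - r • (1 : Matrix m m F) + s • Bi = 0 := by
    intro p r s e
    have := congrArg (fun X => Bi * X) e
    simp only [Matrix.mul_add, Matrix.mul_sub, Matrix.mul_smul, ← Matrix.mul_assoc, hBi,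
      Matrix.one_mul, Matrix.mul_one, Matrix.mul_zero] at this
    exact this
  by_cases hoff : ∃ i i' : l, i ≠ i' ∧ A i i' ≠ 0
  · right
    obtain ⟨i, i', hne, hA⟩ := hoff
    have e := entry_eq A B h i i'
    rw [if_neg hne] at e
    have e' := cancel _ _ _ e
    rw [zero_smul, add_zero, sub_eq_zero] at e'
    have hne2 : 2 * A i i' ≠ 0 := mul_ne_zero h2 hA
    have hs : (A * A) i i' ≠ 0 := by
      intro h0
      rw [h0, zero_smul] at e'
      exact hne2 (smul_one_eq_zero e'.symm)
    refine ⟨((A * A) i i')⁻¹ * (2 * A i i'), ?_⟩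
    rw [← smul_smul, ← e', smul_smul, inv_mul_cancel₀ hs, one_smul]
  · push Not at hoff
    by_cases hdiag : ∃ i i' : l, A i i ≠ A i' i'
    · right
      obtain ⟨i, i', hne⟩ := hdiag
      have e1 := entry_eq A B h i i
      have e2 := entry_eq A B h i' i'
      rw [if_pos rfl] at e1 e2
      have hAA : ∀ k : l, (A * A) k k = A k k * A k k := by
        intro k
        rw [Matrix.mul_apply, Finset.sum_eq_single k]
        · intro k' _ hk'
          rw [hoff k k' (Ne.symm hk'), zero_mul]
        · intro hk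
          exact absurd (Finset.mem_univ k) hk
      rw [hAA] at e1 e2
      set s := A i i with hs
      set t := A i' i' with ht
      have hs0 : s ≠ 0 := by
        intro h0
        rw [h0] at e1
        simp only [mul_zero, zero_smul, sub_zero, zero_add, one_smul] at e1
        exact one_ne_zero (smul_one_eq_zero (m := m) (c := (1 : F)) (by rw [one_smul]; exact e1))
      have ht0 : t ≠ 0 := by
        intro h0
        rw [h0] at e2
        simp only [mul_zero, zero_smul, sub_zero, zero_add, one_smul] at e2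
        exact one_ne_zero (smul_one_eq_zero (m := m) (c := (1 : F)) (by rw [one_smul]; exact e2))
      have key : (2 * s * t * (s - t)) • B = ((s - t) * (s + t)) • (1 : Matrix m m F) := by
        have h3 : (t * t) • ((s * s) • (B * B) - (2 * s) • B + (1 : F) • (1 : Matrix m m F)) -
            (s * s) • ((t * t) • (B * B) - (2 * t) • B + (1 : F) • (1 : Matrix m m F)) = 0 := by
          rw [e1, e2, smul_zero, smul_zero, sub_zero]
        rw [← sub_eq_zero, ← h3]
        module
      have hst : s - t ≠ 0 := sub_ne_zero.mpr hne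
      have hc : 2 * s * t * (s - t) ≠ 0 :=
        mul_ne_zero (mul_ne_zero (mul_ne_zero h2 hs0) ht0) hst
      refine ⟨(2 * s * t * (s - t))⁻¹ * ((s - t) * (s + t)), ?_⟩
      rw [← smul_smul, ← key, smul_smul, inv_mul_cancel₀ hc, one_smul]
    · left
      push Not at hdiag
      by_cases hl : Nonempty l
      · obtain ⟨i0⟩ := hl
        refine ⟨A i0 i0, ?_⟩
        ext i i'
        by_cases hii : i = i'
        · subst hii
          simp [hdiag i i0]
        · simp [hii, hoff i i' hii]
      · rw [not_nonempty_iff] at hl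
        exact ⟨0, by ext i; exact hl.elim i⟩

/-- Group form: a quadratic unipotent element of the Kronecker subgroup is `1 ⊗ₖ B'` or `A' ⊗ₖ 1`
(characteristic not two). -/
theorem kron_quad {a b : ℕ} (h2 : (2 : F) ≠ 0) (n : GL (Fin a × Fin b) F)
    (hn : n ∈ Cfsg.Geo.kroneckerSubgroup a b F)
    (h : ((n : Matrix (Fin a × Fin b) (Fin a × Fin b) F) - 1) *
      ((n : Matrix (Fin a × Fin b) (Fin a × Fin b) F) - 1) = 0) :
    (∃ B' : Matrix (Fin b) (Fin b) F,
        (n : Matrix (Fin a × Fin b) (Fin a × Fin b) F) = (1 : Matrix (Fin a) (Fin a) F) ⊗ₖ B') ∨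
      (∃ A' : Matrix (Fin a) (Fin a) F,
        (n : Matrix (Fin a × Fin b) (Fin a × Fin b) F) = A' ⊗ₖ (1 : Matrix (Fin b) (Fin b) F)) := by
  obtain ⟨A, B, hAB⟩ := hn
  rw [hAB] at h ⊢
  rcases scalar_of_sq_zero h2 (A : Matrix (Fin a) (Fin a) F) (B : Matrix (Fin b) (Fin b) F)
    (Units.isUnit B) h with ⟨c, hc⟩ | ⟨c, hc⟩
  · left
    refine ⟨c • (B : Matrix (Fin b) (Fin b) F), ?_⟩
    rw [hc, Matrix.smul_kronecker, Matrix.kronecker_smul]
  · right
    refine ⟨c • (A : Matrix (Fin a) (Fin a) F), ?_⟩
    rw [hc, Matrix.smul_kronecker, Matrix.kronecker_smul]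

end Cfsg.Agent.Lib.Helper10.KronQuad
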