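import Mathlib
import Cfsg.Prelude.Def_GeometricClasses
import Cfsg.Agent.Lib.Helper16.TensDefs
import Cfsg.Agent.Lib.Helper10.Kron1
import Cfsg.Agent.Lib.Helper10.KronRank2
import Cfsg.Agent.Lib.Helper10.S5637FORANK

/-!
# Elements of the Kronecker subgroup with a large fixed space (helper10)

`n ∈ N0 = kroneckerSubgroup a b F`, `Fix n = ker (act n - 1)`.
* `exists_right_of_kron`: `a < b`, `codim Fix n = a` ⇒ `n = 1 ⊗ B'` with `rank (B' - 1) = 1`:
  there is `k₁ ≠ 0` with `(n - 1) v = u_v ⊗ k₁` for all `v`.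
* `exists_left_of_kron`: `3 ≤ a`, `¬ a ∣ b`, `codim Fix n = b` ⇒ `n = A' ⊗ 1` with
  `rank (A' - 1) = 1`: there is `u₁ ≠ 0` with `(n - 1) v = u₁ ⊗ w_v` for all `v`
  (uses the refined rank lemma `KronRank2.scalar_or_scalar_of_fix`).
-/

set_option autoImplicit false

namespace Cfsg.Agent.Lib.Helper10.KronRank3

open Matrix Module Polynomial Cfsg.Agent.Lib.Helper16.Tens Cfsg.Agent.Lib.Helper10.Kron
open Cfsg.Agent.Lib.Helper10.S5637FORANK
open scoped Kronecker

variable {F : Type*} [Field F] {a b : ℕ}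

theorem aeval_X_sub_one (V : Type*) [AddCommGroup V] [Module F V] (f : V →ₗ[F] V) :
    aeval f (X - 1 : F[X]) = f - LinearMap.id := by
  rw [map_sub, aeval_X, map_one]
  rfl

/-- a linear map of rank one has its range spanned by one vector -/
theorem exists_gen_of_finrank_range {n : ℕ} (f : (Fin n → F) →ₗ[F] (Fin n → F))
    (h : finrank F (LinearMap.ker f) + 1 = n) :
    ∃ k₁ : Fin n → F, k₁ ≠ 0 ∧ ∀ w, ∃ c : F, f w = c • k₁ := by
  have h1 := LinearMap.finrank_range_add_finrank_ker f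
  rw [Module.finrank_fintype_fun_eq_card, Fintype.card_fin] at h1
  have h2 : finrank F (LinearMap.range f) = 1 := by omega
  obtain ⟨v, hv0, hv⟩ := finrank_eq_one_iff'.mp h2
  refine ⟨(v : Fin n → F), ?_, fun w => ?_⟩
  · intro h0
    apply hv0
    exact Subtype.ext h0
  · obtain ⟨c, hc⟩ := hv ⟨f w, LinearMap.mem_range_self f w⟩
    refine ⟨c, ?_⟩
    have := congrArg Subtype.val hc
    simpa using this.symm

/-- the swap of the two tensor factors -/
def sw : (Fin a × Fin b → F) ≃ₗ[F] (Fin b × Fin a → F) :=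
  LinearEquiv.funCongrLeft F F (Equiv.prodComm (Fin b) (Fin a))

theorem sw_apply (v : Fin a × Fin b → F) (j : Fin b) (i : Fin a) : sw v (j, i) = v (i, j) := rfl

theorem sw_kron_one (M : Matrix (Fin a) (Fin a) F) (v : Fin a × Fin b → F) :
    sw (Matrix.toLin' (M ⊗ₖ (1 : Matrix (Fin b) (Fin b) F)) v) =
      Matrix.toLin' ((1 : Matrix (Fin b) (Fin b) F) ⊗ₖ M) (sw v) := by
  funext p
  obtain ⟨j, i⟩ := p
  rw [sw_apply, Matrix.toLin'_apply, Matrix.toLin'_apply]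
  simp only [Matrix.mulVec, dotProduct, Matrix.kroneckerMap_apply, Fintype.sum_prod_type,
    Matrix.one_apply, sw_apply]
  rw [Finset.sum_comm]
  apply Finset.sum_congr rfl
  intro j' _
  apply Finset.sum_congr rfl
  intro i' _
  ring

theorem finrank_fix_one_kron (B' : Matrix (Fin b) (Fin b) F) :
    finrank F (LinearMap.ker (Matrix.toLin' ((1 : Matrix (Fin a) (Fin a) F) ⊗ₖ B') -
      LinearMap.id)) = a * finrank F (LinearMap.ker (Matrix.toLin' B' - LinearMap.id)) := by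
  have h1 := finrank_ker_aeval_one_kron (α := Fin a) B' (X - 1 : F[X])
  rw [aeval_X_sub_one, aeval_X_sub_one, Fintype.card_fin] at h1
  exact h1

theorem finrank_fix_kron_one (A' : Matrix (Fin a) (Fin a) F) :
    finrank F (LinearMap.ker (Matrix.toLin' (A' ⊗ₖ (1 : Matrix (Fin b) (Fin b) F)) -
      LinearMap.id)) = b * finrank F (LinearMap.ker (Matrix.toLin' A' - LinearMap.id)) := by
  have h1 := finrank_ker_aeval_conj (Matrix.toLin' (A' ⊗ₖ (1 : Matrix (Fin b) (Fin b) F)))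
    (Matrix.toLin' ((1 : Matrix (Fin b) (Fin b) F) ⊗ₖ A')) sw (sw_kron_one A') (X - 1 : F[X])
  rw [aeval_X_sub_one, aeval_X_sub_one] at h1
  rw [← h1, finrank_fix_one_kron]

/-- `n = 1 ⊗ B'`, `rank (B' - 1) = 1` -/
theorem sub_one_kron (B' : Matrix (Fin b) (Fin b) F)
    (hB : finrank F (LinearMap.ker (Matrix.toLin' B' - LinearMap.id)) + 1 = b) :
    ∃ k₁ : Fin b → F, k₁ ≠ 0 ∧ ∀ v : Fin a × Fin b → F, ∃ u : Fin a → F,
      ((1 : Matrix (Fin a) (Fin a) F) ⊗ₖ B') *ᵥ v - v = pur u k₁ := by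
  obtain ⟨k₁, hk₁, hgen⟩ := exists_gen_of_finrank_range _ hB
  refine ⟨k₁, hk₁, fun v => ?_⟩
  have hsl : ∀ i : Fin a, ∃ c : F,
      slice i (((1 : Matrix (Fin a) (Fin a) F) ⊗ₖ B') *ᵥ v - v) = c • k₁ := by
    intro i
    obtain ⟨c, hc⟩ := hgen (slice i v)
    refine ⟨c, ?_⟩
    rw [map_sub, ← Matrix.toLin'_apply, slice_one_kron, ← hc, LinearMap.sub_apply,
      LinearMap.id_apply]
  choose c hc using hsl
  refine ⟨c, ?_⟩
  funext p
  obtain ⟨i, j⟩ := p
  have := congrFun (hc i) j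
  rw [slice_apply] at this
  rw [this, pur_apply, Pi.smul_apply, smul_eq_mul]

/-- `n = A' ⊗ 1`, `rank (A' - 1) = 1` -/
theorem sub_kron_one (A' : Matrix (Fin a) (Fin a) F)
    (hA : finrank F (LinearMap.ker (Matrix.toLin' A' - LinearMap.id)) + 1 = a) :
    ∃ u₁ : Fin a → F, u₁ ≠ 0 ∧ ∀ v : Fin a × Fin b → F, ∃ w : Fin b → F,
      (A' ⊗ₖ (1 : Matrix (Fin b) (Fin b) F)) *ᵥ v - v = pur u₁ w := by
  obtain ⟨u₁, hu₁, hgen⟩ := exists_gen_of_finrank_range _ hA
  refine ⟨u₁, hu₁, fun v => ?_⟩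
  have hsl : ∀ j : Fin b, ∃ c : F,
      slice j (sw ((A' ⊗ₖ (1 : Matrix (Fin b) (Fin b) F)) *ᵥ v - v)) = c • u₁ := by
    intro j
    obtain ⟨c, hc⟩ := hgen (slice j (sw v))
    refine ⟨c, ?_⟩
    rw [map_sub, map_sub, ← Matrix.toLin'_apply, sw_kron_one, slice_one_kron, ← hc,
      LinearMap.sub_apply, LinearMap.id_apply]
  choose c hc using hsl
  refine ⟨c, ?_⟩
  funext p
  obtain ⟨i, j⟩ := p
  have := congrFun (hc j) i
  rw [slice_apply, sw_apply] at this
  rw [this, pur_apply, Pi.smul_apply, smul_eq_mul, mul_comm]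

/-- **R1**: an element of `N0` whose fixed space has codimension `a < b` is `1 ⊗ B'` with
`rank (B' - 1) = 1`. -/
theorem exists_right_of_kron (ha : 1 ≤ a) (hab : a < b) (n : GL (Fin a × Fin b) F)
    (hn : n ∈ Cfsg.Geo.kroneckerSubgroup a b F)
    (hker : finrank F (LinearMap.ker ((act n).toLinearMap - LinearMap.id)) + a = a * b) :
    ∃ k₁ : Fin b → F, k₁ ≠ 0 ∧ ∀ v : Fin a × Fin b → F, ∃ u : Fin a → F,
      act n v - v = pur u k₁ := by
  classical
  obtain ⟨A, B, hAB⟩ := (mem_kron_iff n).mp hn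
  rw [act_toLinearMap, hAB] at hker
  have heig : Module.End.eigenspace (Matrix.toLin' ((A : Matrix (Fin a) (Fin a) F) ⊗ₖ
      (B : Matrix (Fin b) (Fin b) F))) 1 =
      LinearMap.ker (Matrix.toLin' ((A : Matrix (Fin a) (Fin a) F) ⊗ₖ
        (B : Matrix (Fin b) (Fin b) F)) - LinearMap.id) := by
    ext v
    rw [Module.End.mem_eigenspace_iff, LinearMap.mem_ker, LinearMap.sub_apply, LinearMap.id_apply,
      one_smul, sub_eq_zero]
  obtain ⟨z, hz⟩ := scalar_of_small_codim (A : Matrix (Fin a) (Fin a) F)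
    (B : Matrix (Fin b) (Fin b) F) 1 one_ne_zero (by
      rw [heig, Fintype.card_fin, Fintype.card_fin]
      omega)
  obtain ⟨B', hB'⟩ : ∃ B' : Matrix (Fin b) (Fin b) F, B' = z • (B : Matrix (Fin b) (Fin b) F) :=
    ⟨_, rfl⟩
  have hkr : (A : Matrix (Fin a) (Fin a) F) ⊗ₖ (B : Matrix (Fin b) (Fin b) F) =
      (1 : Matrix (Fin a) (Fin a) F) ⊗ₖ B' := by
    rw [hz, hB', Matrix.smul_kronecker, Matrix.kronecker_smul]
  rw [hkr, finrank_fix_one_kron] at hker
  have hEdim : finrank F (LinearMap.ker (Matrix.toLin' B' - LinearMap.id)) + 1 = b := by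
    have h1 : a * (finrank F (LinearMap.ker (Matrix.toLin' B' - LinearMap.id)) + 1) = a * b := by
      rw [mul_add, mul_one]; exact hker
    exact Nat.eq_of_mul_eq_mul_left (by omega) h1
  obtain ⟨k₁, hk₁, hall⟩ := sub_one_kron (a := a) B' hEdim
  refine ⟨k₁, hk₁, fun v => ?_⟩
  obtain ⟨u, hu⟩ := hall v
  refine ⟨u, ?_⟩
  rw [act_apply, hAB, hkr]
  exact hu

/-- **R2**: an element of `N0` whose fixed space has codimension `b`, `3 ≤ a`, `¬ a ∣ b`, is
`A' ⊗ 1` with `rank (A' - 1) = 1`. -/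
theorem exists_left_of_kron (ha : 3 ≤ a) (hb : 1 ≤ b) (hdvd : ¬ a ∣ b)
    (n : GL (Fin a × Fin b) F) (hn : n ∈ Cfsg.Geo.kroneckerSubgroup a b F)
    (hker : finrank F (LinearMap.ker ((act n).toLinearMap - LinearMap.id)) + b = a * b) :
    ∃ u₁ : Fin a → F, u₁ ≠ 0 ∧ ∀ v : Fin a × Fin b → F, ∃ w : Fin b → F,
      act n v - v = pur u₁ w := by
  classical
  obtain ⟨A, B, hAB⟩ := (mem_kron_iff n).mp hn
  rw [act_toLinearMap, hAB] at hker
  have hsc := KronRank2.scalar_or_scalar_of_fix (A : Matrix (Fin a) (Fin a) F)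
    (B : Matrix (Fin b) (Fin b) F) (by
      rw [Fintype.card_fin, Fintype.card_fin]
      omega)
  rcases hsc with ⟨z, hz⟩ | ⟨z, hz⟩
  · -- `A` scalar: impossible
    exfalso
    obtain ⟨B', hB'⟩ : ∃ B' : Matrix (Fin b) (Fin b) F,
        B' = z • (B : Matrix (Fin b) (Fin b) F) := ⟨_, rfl⟩
    have hkr : (A : Matrix (Fin a) (Fin a) F) ⊗ₖ (B : Matrix (Fin b) (Fin b) F) =
        (1 : Matrix (Fin a) (Fin a) F) ⊗ₖ B' := by
      rw [hz, hB', Matrix.smul_kronecker, Matrix.kronecker_smul]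
    rw [hkr, finrank_fix_one_kron] at hker
    apply hdvd
    refine ⟨b - finrank F (LinearMap.ker (Matrix.toLin' B' - LinearMap.id)), ?_⟩
    rw [Nat.mul_sub]
    omega
  · obtain ⟨A', hA'⟩ : ∃ A' : Matrix (Fin a) (Fin a) F,
        A' = z • (A : Matrix (Fin a) (Fin a) F) := ⟨_, rfl⟩
    have hkr : (A : Matrix (Fin a) (Fin a) F) ⊗ₖ (B : Matrix (Fin b) (Fin b) F) =
        A' ⊗ₖ (1 : Matrix (Fin b) (Fin b) F) := by
      rw [hz, hA', Matrix.smul_kronecker, Matrix.kronecker_smul]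
    rw [hkr, finrank_fix_kron_one] at hker
    have hEdim : finrank F (LinearMap.ker (Matrix.toLin' A' - LinearMap.id)) + 1 = a := by
      have h1 : b * (finrank F (LinearMap.ker (Matrix.toLin' A' - LinearMap.id)) + 1) = b * a := by
        rw [mul_add, mul_one, mul_comm b a]; exact hker
      exact Nat.eq_of_mul_eq_mul_left (by omega) h1
    obtain ⟨u₁, hu₁, hall⟩ := sub_kron_one (b := b) A' hEdim
    refine ⟨u₁, hu₁, fun v => ?_⟩
    obtain ⟨w, hw⟩ := hall v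
    refine ⟨w, ?_⟩
    rw [act_apply, hAB, hkr]
    exact hw

end Cfsg.Agent.Lib.Helper10.KronRank3
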