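import Mathlib
import Cfsg.Prelude.Def_KGroupFacts
import Cfsg.Agent.H5.StemTC
import Cfsg.Agent.H5.StemLift
import Cfsg.Agent.Lib.Helper7.L34Data
import Cfsg.Agent.Lib.Helper21.WeakL12
import Cfsg.Agent.Lib.Helper1.WeakL3
import Cfsg.Agent.Lib.Helper1.WeakL4
import Cfsg.Agent.Lib.Helper1.WeakL11
import Cfsg.Agent.Lib.Helper17.WeakL6

/-!
# The 2-part of the Schur multiplier of `PSL₃(4)`: the lifting argument

A finite stem extension with 2-group kernel of a group of order 20160 generated by four elements of orders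
7, 3, 3, 3 satisfying the relators `rels2` (power relators and conjugation relators only) has kernel of order
at most 16: the generators lift to elements of the same orders, the relators stay exact, the lifts generate.
-/

set_option autoImplicit false

namespace Cfsg.Agent.Lib.Helper7.L34

open Cfsg Cfsg.H5.TCk Cfsg.Agent.Lib.Helper10.Weak

universe u v

namespace H10U2

theorem ord2_coprime (i : ℕ) : (ord2 i).Coprime 2 := by
  unfold ord2
  split <;> norm_num

theorem rels2_letters : ∀ r ∈ rels2, r.all (fun l => decide (l < 2 * 4)) = true := by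
  decide +kernel

theorem mem_rels2_cases {r : List ℕ} (hr : r ∈ rels2) :
    (∃ i < 4, r = List.replicate (ord2 i) (2 * i)) ∨ ∃ c : CR, r = crel c := by
  unfold rels2 relsL relsT at hr
  simp only [List.mem_append, List.mem_cons, List.not_mem_nil, or_false, List.mem_map] at hr
  rcases hr with (((rfl | rfl | rfl) | ⟨c, _, rfl⟩) | (rfl | ⟨c, _, rfl⟩))
  · exact Or.inl ⟨0, by norm_num, rfl⟩
  · exact Or.inl ⟨1, by norm_num, rfl⟩
  · exact Or.inl ⟨2, by norm_num, rfl⟩
  · exact Or.inr ⟨c, rfl⟩
  · exact Or.inl ⟨3, by norm_num, rfl⟩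
  · exact Or.inr ⟨c, rfl⟩

theorem pow_mem_rels2 {i : ℕ} (hi : i < 4) : List.replicate (ord2 i) (2 * i) ∈ rels2 := by
  interval_cases i <;> decide

end H10U2

open H10U2 in
/-- [U2] a finite stem extension with `2`-group kernel has `|ker| ≤ 16` -/
theorem card_ker_le_two
    (hcardW : ∀ {Δ : Type u} [Group Δ] (δ : ℕ → Δ), (∀ r ∈ rels2, ev δ r = 1) →
      Subgroup.closure (Set.range fun i : Fin 4 => δ i.val) = ⊤ → Finite Δ ∧ Nat.card Δ ≤ 322560)
    {G : Type u} [Group G] (g : ℕ → G) (hcard : Nat.card G = 20160)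
    (hgen : Subgroup.closure (Set.range fun i : Fin 4 => g i.val) = ⊤)
    (hrel : ∀ r ∈ rels2, ev g r = 1)
    (Γ : Type u) [Group Γ] [Finite Γ] (σ : Γ →* G) (hσ : IsStemExtension σ) (h2 : IsPGroup 2 σ.ker) :
    Nat.card σ.ker ≤ 16 := by
  have hs := hσ.1
  have hc := hσ.2.1
  -- the orders of the generators
  have hord : ∀ i < 4, g i ^ ord2 i = 1 := by
    intro i hi
    have h := hrel _ (pow_mem_rels2 hi)
    rwa [Helper1.ev_replicate, Helper1.gl_even] at h
  -- the generators, cut off beyond the fourth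
  set g' : ℕ → G := fun i => if i < 4 then g i else 1 with hg'
  have hg'lt : ∀ i < 4, g' i = g i := by
    intro i hi
    show (if i < 4 then g i else 1) = g i
    rw [if_pos hi]
  have hord' : ∀ i, g' i ^ ord2 i = 1 := by
    intro i
    show (if i < 4 then g i else 1) ^ ord2 i = 1
    by_cases hi : i < 4
    · rw [if_pos hi]; exact hord i hi
    · rw [if_neg hi]; exact one_pow _
  choose γh hγh hγo using fun i =>
    exists_lift_pow_eq_one σ hs h2 (g' i) (ord2_coprime i) (hord' i)
  have hσγ : (fun k => σ (γh k)) = g' := funext hγh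
  -- the relators hold for the lifts
  have hrels : ∀ r ∈ rels2, ev γh r = 1 := by
    intro r hr
    rcases mem_rels2_cases hr with ⟨i, _, rfl⟩ | ⟨c, rfl⟩
    · rw [Helper1.ev_replicate, Helper1.gl_even]
      exact hγo i
    · apply ev_conjRel_eq_one σ hc h2 γh ord2 c.1 c.2.1 c.2.2.1 c.2.2.2 (ord2_coprime _)
        (ord2_coprime _) (hγo _) (hγo _)
      rw [hσγ]
      have h1 : ev g' (crel c) = ev g (crel c) :=
        Helper17.ev_congr_lt g' g 4 hg'lt (crel c) (rels2_letters _ hr)
      exact h1.trans (hrel _ hr)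
  -- the lifts generate
  have hM : Subgroup.closure (Set.range fun i : Fin 4 => γh i.val) = ⊤ := by
    apply Cfsg.H5.StemLift.eq_top_of_map_eq_top σ hσ
    rw [← closure_map_range σ γh 4]
    have : (fun i : Fin 4 => σ (γh i.val)) = fun i : Fin 4 => g i.val := by
      funext i
      rw [hγh i.val]
      exact hg'lt i.val i.2
    rw [this]
    exact hgen
  have hW := (hcardW γh hrels hM).2
  have hΓ := Helper1.card_eq_ker_mul σ hs
  rw [hcard] at hΓ
  omega

end Cfsg.Agent.Lib.Helper7.L34
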