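import Mathlib
import Cfsg.Prelude.Def_KGroupFacts
import Cfsg.Agent.H5.StemTC
import Cfsg.Agent.Lib.Helper7.L34Data
import Cfsg.Agent.Lib.Helper21.WeakL12
import Cfsg.Agent.Lib.Helper1.WeakL3
import Cfsg.Agent.Lib.Helper1.WeakL11
import Cfsg.Agent.Lib.Helper17.WeakL6

/-!
# The 3-part of the Schur multiplier of `PSL₃(4)`: the lifting argument

A finite stem extension with 3-group kernel of a group of order 20160 containing a subgroup of order 72
generated by three elements of orders 4, 4, 2 satisfying the relators `rels3` has kernel of order at most 3.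
-/

set_option autoImplicit false

namespace Cfsg.Agent.Lib.Helper7.L34

open Cfsg Cfsg.H5.TCk Cfsg.Agent.Lib.Helper10.Weak

universe u v

namespace H10U3

theorem ord3_coprime (i : ℕ) : (ord3 i).Coprime 3 := by
  unfold ord3
  split <;> norm_num

theorem rels3_letters : ∀ r ∈ rels3, r.all (fun l => decide (l < 2 * 3)) = true := by
  decide +kernel

theorem relsQ_letters : ∀ r ∈ relsQ, r.all (fun l => decide (l < 2 * 2)) = true := by
  decide +kernel

theorem relsQ_sub : ∀ r ∈ relsQ, r ∈ rels3 := by
  intro r hr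
  unfold rels3
  exact List.mem_append_left _ hr

theorem mem_rels3_cases {r : List ℕ} (hr : r ∈ rels3) :
    (∃ i < 3, r = List.replicate (ord3 i) (2 * i)) ∨ ∃ c : CR, r = crel c := by
  unfold rels3 relsQ at hr
  simp only [List.mem_append, List.mem_cons, List.not_mem_nil, or_false, List.mem_map] at hr
  rcases hr with (((rfl | rfl) | ⟨c, _, rfl⟩) | (rfl | ⟨c, _, rfl⟩))
  · exact Or.inl ⟨0, by norm_num, rfl⟩
  · exact Or.inl ⟨1, by norm_num, rfl⟩
  · exact Or.inr ⟨c, rfl⟩
  · exact Or.inl ⟨2, by norm_num, rfl⟩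
  · exact Or.inr ⟨c, rfl⟩

theorem pow_mem_rels3 {i : ℕ} (hi : i < 3) : List.replicate (ord3 i) (2 * i) ∈ rels3 := by
  interval_cases i <;> decide

/-- a subgroup generated by the first `t` terms of a sequence, generated inside itself -/
theorem closure_subtype_eq_top {Γ : Type u} [Group Γ] (γ : ℕ → Γ) (t : ℕ)
    (δ : ℕ → Subgroup.closure (Set.range fun i : Fin t => γ i.val))
    (hδ : ∀ i < t, (δ i : Γ) = γ i) :
    Subgroup.closure (Set.range fun i : Fin t => δ i.val) = ⊤ := by
  apply Subgroup.map_injective (Subgroup.subtype_injective _)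
  rw [← closure_map_range (Subgroup.subtype _) δ t, ← MonoidHom.range_eq_map,
    Subgroup.range_subtype]
  congr 2
  funext i
  exact hδ i.val i.2

end H10U3

open H10U3 in
/-- [U3] a finite stem extension with `3`-group kernel has `|ker| ≤ 3` -/
theorem card_ker_le_three
    (hcardQ : ∀ {Δ : Type u} [Group Δ] (δ : ℕ → Δ), (∀ r ∈ relsQ, ev δ r = 1) →
      Subgroup.closure (Set.range fun i : Fin 2 => δ i.val) = ⊤ → Finite Δ ∧ Nat.card Δ ≤ 8)
    (defs : List (ℕ × ℕ)) (log : List ℕ)
    (hchk : check 24 6 (2 * 3) 27 27 defs rels3 [[0], [2]] log = true)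
    {G : Type u} [Group G] (h : ℕ → G) (hcard : Nat.card G = 20160)
    (hH : Nat.card (Subgroup.closure (Set.range fun i : Fin 3 => h i.val)) = 72)
    (hrel : ∀ r ∈ rels3, ev h r = 1)
    (Γ : Type u) [Group Γ] [Finite Γ] (σ : Γ →* G) (hσ : IsStemExtension σ) (h3 : IsPGroup 3 σ.ker) :
    Nat.card σ.ker ≤ 3 := by
  haveI : Fact (Nat.Prime 3) := ⟨Nat.prime_three⟩
  have hs := hσ.1
  have hc := hσ.2.1
  -- the orders of the generators
  have hord : ∀ i < 3, h i ^ ord3 i = 1 := by
    intro i hi
    have h1 := hrel _ (pow_mem_rels3 hi)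
    rwa [Helper1.ev_replicate, Helper1.gl_even] at h1
  -- the generators, cut off beyond the third
  set h' : ℕ → G := fun i => if i < 3 then h i else 1 with hh'
  have hh'lt : ∀ i < 3, h' i = h i := by
    intro i hi
    show (if i < 3 then h i else 1) = h i
    rw [if_pos hi]
  have hord' : ∀ i, h' i ^ ord3 i = 1 := by
    intro i
    show (if i < 3 then h i else 1) ^ ord3 i = 1
    by_cases hi : i < 3
    · rw [if_pos hi]; exact hord i hi
    · rw [if_neg hi]; exact one_pow _
  choose γh hγh hγo using fun i =>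
    exists_lift_pow_eq_one σ hs h3 (h' i) (ord3_coprime i) (hord' i)
  have hσγ : (fun k => σ (γh k)) = h' := funext hγh
  -- the relators hold for the lifts
  have hrels : ∀ r ∈ rels3, ev γh r = 1 := by
    intro r hr
    rcases mem_rels3_cases hr with ⟨i, _, rfl⟩ | ⟨c, rfl⟩
    · rw [Helper1.ev_replicate, Helper1.gl_even]
      exact hγo i
    · apply ev_conjRel_eq_one σ hc h3 γh ord3 c.1 c.2.1 c.2.2.1 c.2.2.2 (ord3_coprime _)
        (ord3_coprime _) (hγo _) (hγo _)
      rw [hσγ]
      have h1 : ev h' (crel c) = ev h (crel c) :=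
        Helper17.ev_congr_lt h' h 3 hh'lt (crel c) (rels3_letters _ hr)
      exact h1.trans (hrel _ hr)
  -- the lift of the quaternion group
  have hmem : ∀ i < 2, γh i ∈ Subgroup.closure (Set.range fun k : Fin 2 => γh k.val) :=
    fun i hi => Subgroup.subset_closure ⟨⟨i, hi⟩, rfl⟩
  set δ : ℕ → Subgroup.closure (Set.range fun k : Fin 2 => γh k.val) :=
    fun i => if hi : i < 2 then ⟨γh i, hmem i hi⟩ else 1 with hδdef
  have hδ : ∀ i < 2, (δ i : Γ) = γh i := by
    intro i hi
    have h1 : δ i = ⟨γh i, hmem i hi⟩ := dif_pos hi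
    rw [h1]
  have hδrel : ∀ r ∈ relsQ, ev δ r = 1 := by
    intro r hr
    apply Subtype.ext
    have h1 := ev_comp (Subgroup.subtype _) δ r
    have h2 : ev (fun i => (Subgroup.subtype _) (δ i)) r = ev γh r :=
      Helper17.ev_congr_lt _ γh 2 hδ r (relsQ_letters r hr)
    have h3' : ((ev δ r : Subgroup.closure (Set.range fun k : Fin 2 => γh k.val)) : Γ) =
        ev γh r := h1.trans h2
    rw [h3', hrels r (relsQ_sub r hr)]
    rfl
  have hQ := (hcardQ δ hδrel (closure_subtype_eq_top γh 2 δ hδ)).2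
  -- the index of the subgroup of order 72
  have hidx : ¬ 3 ∣ (Subgroup.closure (Set.range fun i : Fin 3 => h i.val)).index := by
    intro hdvd
    have h1 := Subgroup.card_mul_index (Subgroup.closure (Set.range fun i : Fin 3 => h i.val))
    rw [hH, hcard] at h1
    obtain ⟨m, hm⟩ := hdvd
    rw [hm] at h1
    omega
  have e0 : ev γh [0] = γh 0 := by
    show gl γh (2 * 0) * 1 = γh 0
    rw [mul_one, Helper1.gl_even]
  have e2 : ev γh [2] = γh 1 := by
    show gl γh (2 * 1) * 1 = γh 1
    rw [mul_one, Helper1.gl_even]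
  have hmain := card_ker_mul_card_le σ hσ 3 h3 3 h hidx γh
    (fun i hi => (hγh i).trans (hh'lt i hi)) rels3 rels3_letters hrels [[0], [2]] (by decide)
    (Subgroup.closure (Set.range fun k : Fin 2 => γh k.val))
    (by
      intro w hw
      simp only [List.mem_cons, List.not_mem_nil, or_false] at hw
      rcases hw with rfl | rfl
      · rw [e0]; exact hmem 0 (by norm_num)
      · rw [e2]; exact hmem 1 (by norm_num))
    24 6 27 27 defs log hchk
  rw [hH] at hmain
  omega

end Cfsg.Agent.Lib.Helper7.L34
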