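import Cfsg.Agent.Lib.Helper10.LawUF
import Cfsg.Prelude.Def_Classical

/-!
# S2355 farm, piece [UB] (spare by helper10): a hyperbolic pair for `x₁y₁^q + x₂y₂^q`, `|F| = q²`
-/

set_option autoImplicit false

namespace Cfsg.Agent.Lib.Helper29.Law.Helper10

open Polynomial in
theorem card_fix_le (F : Type) [Field F] [Fintype F] [DecidableEq F] (q : ℕ) (hq : 2 ≤ q) :
    (Finset.univ.filter fun y : F => y ^ q = y).card ≤ q := by
  have hne : (X ^ q - X : F[X]) ≠ 0 := FiniteField.X_pow_card_sub_X_ne_zero F (by omega)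
  have hsub : (Finset.univ.filter fun y : F => y ^ q = y).val ⊆ (X ^ q - X : F[X]).roots := by
    intro y hy
    have hy' : y ^ q = y := by simpa using hy
    rw [Polynomial.mem_roots hne]
    simp [hy']
  refine (Polynomial.card_le_degree_of_subset_roots hsub).trans ?_
  rw [FiniteField.X_pow_card_sub_X_natDegree_eq F (by omega)]

open Polynomial in
theorem surj_onto_fix (F : Type) [Field F] [Fintype F] [DecidableEq F] (q : ℕ) (hq : 2 ≤ q)
    (hF : Fintype.card F = q ^ 2) (P : F[X]) (hd0 : 0 < P.natDegree) (hd : P.natDegree ≤ q + 1)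
    (hP : ∀ x : F, (P.eval x) ^ q = P.eval x) (y : F) (hy : y ^ q = y) :
    ∃ x : F, P.eval x = y := by
  have hScard := card_fix_le F q hq
  have hfib : ∀ b ∈ Finset.image (fun x : F => P.eval x) Finset.univ,
      (Finset.univ.filter fun a : F => P.eval a = b).card ≤ P.natDegree := by
    intro b _
    have hdeg : (P - C b).natDegree = P.natDegree := natDegree_sub_C
    have hne : P - C b ≠ 0 := by
      intro h
      rw [h] at hdeg
      simp at hdeg
      omega
    have hsub : (Finset.univ.filter fun a : F => P.eval a = b).val ⊆ (P - C b).roots := by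
      intro a ha
      have : P.eval a = b := by simpa using ha
      rw [mem_roots hne]
      simp [this]
    exact (card_le_degree_of_subset_roots hsub).trans hdeg.le
  have h1 := Finset.card_le_mul_card_image (f := fun x : F => P.eval x) Finset.univ P.natDegree hfib
  rw [Finset.card_univ, hF] at h1
  have himg : Finset.image (fun x : F => P.eval x) Finset.univ ⊆
      (Finset.univ.filter fun y : F => y ^ q = y) := by
    intro b hb
    obtain ⟨x0, -, hx0⟩ := Finset.mem_image.1 hb
    have : b ^ q = b := by rw [← hx0]; exact hP x0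
    simpa using this
  have hcard : q ≤ (Finset.image (fun x : F => P.eval x) Finset.univ).card := by
    by_contra hlt
    have h2 : (Finset.image (fun x : F => P.eval x) Finset.univ).card ≤ q - 1 := by omega
    have h3 : P.natDegree * (Finset.image (fun x : F => P.eval x) Finset.univ).card
        ≤ (q + 1) * (q - 1) := Nat.mul_le_mul hd h2
    have h4 : (q + 1) * (q - 1) < q ^ 2 := by
      obtain ⟨k, rfl⟩ : ∃ k, q = k + 1 := ⟨q - 1, by omega⟩
      simp only [Nat.add_sub_cancel]
      ring_nf
      omega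
    omega
  have heq := Finset.eq_of_subset_of_card_le himg (hScard.trans hcard)
  have hyS : y ∈ (Finset.univ.filter fun y : F => y ^ q = y) := by simpa using hy
  rw [← heq] at hyS
  obtain ⟨x, -, hx⟩ := Finset.mem_image.1 hyS
  exact ⟨x, hx⟩

theorem exists_hyperbolic_pair_spare (F : Type) [Field F] [Fintype F] (q : ℕ)
    (hF : Fintype.card F = q ^ 2) :
    ∃ (e₁ e₂ : Fin 2 → F) (ε : F), ε ≠ 0 ∧ ε ^ q = -ε ∧ e₁ 0 * e₂ 1 - e₁ 1 * e₂ 0 ≠ 0 ∧
      Cfsg.hermForm 2 F q e₁ e₁ = 0 ∧ Cfsg.hermForm 2 F q e₂ e₂ = 0 ∧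
      Cfsg.hermForm 2 F q e₁ e₂ = ε ∧ Cfsg.hermForm 2 F q e₂ e₁ = -ε := by
  classical
  obtain ⟨hadd, hqq, -⟩ := frob_facts_spare F q hF
  have hq2 : 2 ≤ q := by
    have h1 : 1 < Fintype.card F := Fintype.one_lt_card
    rw [hF] at h1
    by_contra hlt
    have : q = 0 ∨ q = 1 := by omega
    rcases this with h | h <;> rw [h] at h1 <;> norm_num at h1
  have hzero : (0 : F) ^ q = 0 := zero_pow (by omega)
  have hneg : ∀ x : F, (-x) ^ q = -(x ^ q) := by
    intro x
    have h := hadd x (-x)
    rw [add_neg_cancel, hzero] at h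
    linear_combination -h
  have hone : (1 : F) ^ q = 1 := one_pow q
  have hm1 : (-1 : F) ^ q = -1 := by rw [hneg, hone]
  -- norm: λ^(q+1) = -1
  obtain ⟨lam, hlam⟩ : ∃ lam : F, lam ^ (q + 1) = -1 := by
    obtain ⟨x, hx⟩ := surj_onto_fix F q hq2 hF (Polynomial.X ^ (q + 1))
      (by rw [Polynomial.natDegree_X_pow]; omega) (by rw [Polynomial.natDegree_X_pow])
      (by
        intro x
        rw [Polynomial.eval_pow, Polynomial.eval_X, ← pow_mul, add_mul, one_mul, pow_add, pow_mul,
          hqq, pow_succ]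
        ring) (-1) hm1
    exact ⟨x, by simpa using hx⟩
  -- trace: t^q + t = -1
  have hdegT : (Polynomial.X ^ q + Polynomial.X : Polynomial F).natDegree = q := by
    rw [Polynomial.natDegree_add_eq_left_of_natDegree_lt]
    · exact Polynomial.natDegree_X_pow q
    · rw [Polynomial.natDegree_X_pow, Polynomial.natDegree_X]; omega
  obtain ⟨t, ht⟩ : ∃ t : F, t ^ q + t = -1 := by
    obtain ⟨x, hx⟩ := surj_onto_fix F q hq2 hF (Polynomial.X ^ q + Polynomial.X)
      (by rw [hdegT]; omega) (by rw [hdegT]; omega)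
      (by
        intro x
        simp only [Polynomial.eval_add, Polynomial.eval_pow, Polynomial.eval_X]
        rw [hadd, hqq]; ring) (-1) hm1
    exact ⟨x, by simpa using hx⟩
  -- ε
  obtain ⟨x0, hx0⟩ : ∃ x0 : F, x0 ^ q ≠ x0 := by
    by_contra hall
    simp only [not_exists, not_not] at hall
    have h1 := card_fix_le F q hq2
    have h2 : (Finset.univ.filter fun y : F => y ^ q = y) = Finset.univ := by
      apply Finset.filter_true_of_mem
      intro x _
      exact hall x
    rw [h2, Finset.card_univ, hF] at h1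
    nlinarith
  obtain ⟨ε, hε0, hεq⟩ : ∃ ε : F, ε ≠ 0 ∧ ε ^ q = -ε := by
    refine ⟨x0 ^ q - x0, sub_ne_zero.2 hx0, ?_⟩
    have h := hadd (x0 ^ q) (-x0)
    rw [hneg, hqq] at h
    rw [sub_eq_add_neg, h]
    ring
  have hlam0 : lam ≠ 0 := by
    intro h
    rw [h, zero_pow (by omega)] at hlam
    exact one_ne_zero (neg_eq_zero.1 hlam.symm)
  have hlam' : lam * lam ^ q = -1 := by rw [← hlam, pow_succ]; ring
  -- vectors
  refine ⟨![1, lam], ![(-ε) * (1 + t), (-ε) * (t * lam)], ε, hε0, hεq, ?_, ?_, ?_, ?_, ?_⟩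
  · simp only [Matrix.cons_val_zero, Matrix.cons_val_one]
    have : (1 : F) * (-ε * (t * lam)) - lam * (-ε * (1 + t)) = ε * lam := by ring
    rw [this]
    exact mul_ne_zero hε0 hlam0
  · simp only [Cfsg.hermForm, Fin.sum_univ_two, Matrix.cons_val_zero, Matrix.cons_val_one]
    rw [hone]
    linear_combination hlam'
  · simp only [Cfsg.hermForm, Fin.sum_univ_two, Matrix.cons_val_zero, Matrix.cons_val_one]
    rw [mul_pow, mul_pow, mul_pow, hadd, hone, hneg, hεq]
    linear_combination (-(ε * ε * t * t ^ q)) * hlam' + (-(ε * ε)) * ht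
  · simp only [Cfsg.hermForm, Fin.sum_univ_two, Matrix.cons_val_zero, Matrix.cons_val_one]
    rw [mul_pow, mul_pow, mul_pow, hadd, hone, hneg, hεq]
    linear_combination (ε * t ^ q) * hlam'
  · simp only [Cfsg.hermForm, Fin.sum_univ_two, Matrix.cons_val_zero, Matrix.cons_val_one]
    rw [hone]
    linear_combination (-ε * t) * hlam'

end Cfsg.Agent.Lib.Helper29.Law.Helper10
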