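import Cfsg.Agent.Lib.Helper29.Law.Defs

/-!
# S2355 farm, piece [UF] (spare by helper10): `x ↦ x^q` on a field with `q²` elements
-/

set_option autoImplicit false

namespace Cfsg.Agent.Lib.Helper29.Law.Helper10

open Polynomial in
theorem card_negFix_le (F : Type) [Field F] [Fintype F] [DecidableEq F] (q : ℕ) (hq : 2 ≤ q) :
    (Finset.univ.filter fun y : F => y ^ q = -y).card ≤ q := by
  have hmon : (X ^ q + X : F[X]).Monic := by
    apply Polynomial.monic_X_pow_add
    rw [Polynomial.degree_X]
    exact_mod_cast hq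
  have hne : (X ^ q + X : F[X]) ≠ 0 := hmon.ne_zero
  have hsub : (Finset.univ.filter fun y : F => y ^ q = -y).val ⊆ (X ^ q + X : F[X]).roots := by
    intro y hy
    have hy' : y ^ q = -y := by simpa using hy
    rw [Polynomial.mem_roots hne]
    simp [hy']
  refine (Polynomial.card_le_degree_of_subset_roots hsub).trans ?_
  refine (Polynomial.natDegree_add_le _ _).trans ?_
  rw [Polynomial.natDegree_X_pow, Polynomial.natDegree_X]
  omega

theorem frob_facts_spare (F : Type) [Field F] [Fintype F] [DecidableEq F] (q : ℕ)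
    (hF : Fintype.card F = q ^ 2) :
    (∀ x y : F, (x + y) ^ q = x ^ q + y ^ q) ∧ (∀ x : F, (x ^ q) ^ q = x) ∧
      q ≤ (Finset.univ.filter fun x : F => x ^ q = x).card := by
  haveI : CharP F (ringChar F) := ringChar.charP F
  obtain ⟨n, hp, hcard⟩ := FiniteField.card F (ringChar F)
  haveI : Fact (ringChar F).Prime := ⟨hp⟩
  have hq2 : 2 ≤ q := by
    have h1 : 1 < Fintype.card F := Fintype.one_lt_card
    rw [hF] at h1
    by_contra hlt
    have : q = 0 ∨ q = 1 := by omega
    rcases this with h | h <;> rw [h] at h1 <;> norm_num at h1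
  have hdvd : q ∣ (ringChar F) ^ (n : ℕ) := by
    rw [← hcard, hF]
    exact dvd_pow_self q (by norm_num)
  obtain ⟨m, -, hm⟩ := (Nat.dvd_prime_pow hp).1 hdvd
  have hadd : ∀ x y : F, (x + y) ^ q = x ^ q + y ^ q := by
    intro x y
    rw [hm]
    exact add_pow_char_pow x y (ringChar F) m
  have hsub : ∀ x y : F, (x - y) ^ q = x ^ q - y ^ q := by
    intro x y
    rw [hm]
    exact sub_pow_char_pow x y m
  have hqq : ∀ x : F, (x ^ q) ^ q = x := by
    intro x
    rw [← pow_mul, ← sq, ← hF]
    exact FiniteField.pow_card x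
  refine ⟨hadd, hqq, ?_⟩
  -- counting
  set S := Finset.univ.filter fun x : F => x ^ q = x with hS
  set T := Finset.univ.filter fun y : F => y ^ q = -y with hT
  have hTq : T.card ≤ q := card_negFix_le F q hq2
  have hfib : ∀ b ∈ Finset.image (fun x : F => x ^ q - x) Finset.univ,
      (Finset.univ.filter fun a : F => a ^ q - a = b).card ≤ S.card := by
    intro b hb
    obtain ⟨x0, -, hx0⟩ := Finset.mem_image.1 hb
    apply Finset.card_le_card_of_injOn (fun x => x - x0)
    · intro x hx
      have hx' : x ^ q - x = b := by simpa using hx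
      have : (x - x0) ^ q = x - x0 := by
        rw [hsub]
        have h0 : x0 ^ q - x0 = b := hx0
        have : x ^ q - x = x0 ^ q - x0 := by rw [hx', h0]
        linear_combination this
      simpa [hS] using this
    · intro x _ y _ hxy
      exact sub_left_injective hxy
  have himg : Finset.image (fun x : F => x ^ q - x) Finset.univ ⊆ T := by
    intro b hb
    obtain ⟨x0, -, hx0⟩ := Finset.mem_image.1 hb
    have : b ^ q = -b := by
      rw [← hx0]
      show (x0 ^ q - x0) ^ q = -(x0 ^ q - x0)
      rw [hsub, hqq]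
      ring
    simpa [hT] using this
  have h1 := Finset.card_le_mul_card_image (f := fun x : F => x ^ q - x) Finset.univ S.card hfib
  have h2 : (Finset.univ : Finset F).card = q ^ 2 := by rw [Finset.card_univ, hF]
  have h3 : (Finset.image (fun x : F => x ^ q - x) Finset.univ).card ≤ q :=
    (Finset.card_le_card himg).trans hTq
  rw [h2] at h1
  have h4 : q ^ 2 ≤ S.card * q := h1.trans (Nat.mul_le_mul_left _ h3)
  have h5 : q * q ≤ S.card * q := by rwa [← sq]
  exact Nat.le_of_mul_le_mul_right h5 (by omega)

end Cfsg.Agent.Lib.Helper29.Law.Helper10
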