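import Mathlib

/-!
# Two permutation lemmas: commuting actions of a group of order 11 and a 2-group
-/

set_option autoImplicit false

namespace Cfsg.Agent.Lib.Helper10.Ord7920

open MulAction

section Perm45

variable {R Q Ω : Type*} [Group R] [Group Q] [MulAction R Ω] [MulAction Q Ω]

/-- the hypotheses: commuting actions of a group of order 11 and a group of order 8 on 45 points
with a common fixed point, the first free off that point, the second faithful -/
structure P45 (R Q : Type*) {Ω : Type*} [Group R] [Group Q] [MulAction R Ω] [MulAction Q Ω]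
    (α : Ω) : Prop where
  comm : ∀ (r : R) (q : Q) (β : Ω), r • q • β = q • r • β
  cardΩ : Nat.card Ω = 45
  cardR : Nat.card R = 11
  cardQ : Nat.card Q = 8
  fixR : ∀ r : R, r • α = α
  fixQ : ∀ q : Q, q • α = α
  free : ∀ r : R, r ≠ 1 → ∀ β : Ω, β ≠ α → r • β ≠ β
  faith : ∀ q : Q, (∀ β : Ω, q • β = β) → q = 1

variable {α : Ω}

theorem P45.finiteR (h : P45 R Q α) : Finite R :=
  Nat.finite_of_card_ne_zero (by rw [h.cardR]; norm_num)

theorem P45.finiteQ (h : P45 R Q α) : Finite Q :=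
  Nat.finite_of_card_ne_zero (by rw [h.cardQ]; norm_num)

theorem P45.finiteΩ (h : P45 R Q α) : Finite Ω :=
  Nat.finite_of_card_ne_zero (by rw [h.cardΩ]; norm_num)

theorem P45.key (h : P45 R Q α) (q : Q) (r : R) (β : Ω) (hβ : β ≠ α) (e : q • β = r • β) :
    r = 1 := by
  have := h.finiteR
  have := h.finiteQ
  have hpow : ∀ n : ℕ, q ^ n • β = r ^ n • β := by
    intro n
    induction n with
    | zero => simp
    | succ n ih =>
      rw [pow_succ, mul_smul, e, ← h.comm, ih, ← mul_smul, ← pow_succ']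
  have h8 : q ^ 8 = 1 := by rw [← h.cardQ]; exact pow_card_eq_one'
  have h1 := hpow 8
  rw [h8, one_smul] at h1
  have hr8 : r ^ 8 = 1 := by
    by_contra hne
    exact h.free (r ^ 8) hne β hβ h1.symm
  have hr11 : r ^ 11 = 1 := by rw [← h.cardR]; exact pow_card_eq_one'
  have hd8 : orderOf r ∣ 8 := orderOf_dvd_of_pow_eq_one hr8
  have hd11 : orderOf r ∣ 11 := orderOf_dvd_of_pow_eq_one hr11
  have hd1 : orderOf r ∣ Nat.gcd 8 11 := Nat.dvd_gcd hd8 hd11
  have : orderOf r = 1 := by
    have h2 : Nat.gcd 8 11 = 1 := by norm_num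
    rw [h2] at hd1
    exact Nat.dvd_one.mp hd1
  exact orderOf_eq_one_iff.mp this

theorem P45.smul_ne (h : P45 R Q α) {β : Ω} (hβ : β ≠ α) (r : R) (q : Q) : r • q • β ≠ α := by
  intro e
  apply hβ
  have h1 : q • β = α := by
    have : q • β = r⁻¹ • α := by rw [← e, inv_smul_smul]
    rw [this, h.fixR]
  have : β = q⁻¹ • α := by rw [← h1, inv_smul_smul]
  rw [this, h.fixQ]

/-- the orbit of `β` under the two commuting actions -/
def big (R Q : Type*) {Ω : Type*} [Group R] [Group Q] [MulAction R Ω] [MulAction Q Ω]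
    (β : Ω) : Set Ω :=
  Set.range (fun p : R × Q => p.1 • p.2 • β)

theorem P45.big_ncard (h : P45 R Q α) {β : Ω} (hβ : β ≠ α) :
    (big R Q β).ncard = 11 * (orbit Q β).ncard := by
  have := h.finiteR
  have := h.finiteQ
  have := h.finiteΩ
  let g : R × orbit Q β → Ω := fun p => p.1 • (p.2 : Ω)
  have hg : Function.Injective g := by
    rintro ⟨r, ⟨γ, q, rfl⟩⟩ ⟨r', ⟨γ', q', rfl⟩⟩ e
    change r • q • β = r' • q' • β at e
    have hγ : q • β ≠ α := by
      have := h.smul_ne hβ 1 q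
      rwa [one_smul] at this
    have e2 : (q' * q⁻¹) • (q • β) = (r'⁻¹ * r) • (q • β) := by
      rw [mul_smul, inv_smul_smul, mul_smul, e, inv_smul_smul]
    have h1 := h.key (q' * q⁻¹) (r'⁻¹ * r) (q • β) hγ e2
    have hr : r = r' := by
      have : r' * (r'⁻¹ * r) = r' * 1 := by rw [h1]
      simpa using this
    subst hr
    have e3 : q • β = q' • β := by
      have := congrArg (fun x => r⁻¹ • x) e
      simpa using this
    simp only [Prod.mk.injEq, true_and]
    exact Subtype.ext e3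
  have hrange : big R Q β = Set.range g := by
    ext γ
    constructor
    · rintro ⟨⟨r, q⟩, rfl⟩
      exact ⟨⟨r, ⟨q • β, q, rfl⟩⟩, rfl⟩
    · rintro ⟨⟨r, ⟨γ', q, rfl⟩⟩, rfl⟩
      exact ⟨⟨r, q⟩, rfl⟩
  rw [hrange, ← Set.image_univ, Set.ncard_image_of_injective _ hg, Set.ncard_univ,
    Nat.card_prod, h.cardR, Nat.card_coe_set_eq]

theorem P45.big_subset (h : P45 R Q α) {β : Ω} (hβ : β ≠ α) : big R Q β ⊆ ({α}ᶜ : Set Ω) := by
  rintro γ ⟨⟨r, q⟩, rfl⟩
  exact h.smul_ne hβ r q

theorem P45.compl_ncard (h : P45 R Q α) : ({α}ᶜ : Set Ω).ncard = 44 := by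
  have := h.finiteΩ
  rw [Set.ncard_compl, Set.ncard_singleton, h.cardΩ]

theorem P45.orbit_ncard_mul (h : P45 R Q α) (β : Ω) :
    Nat.card (stabilizer Q β) * (orbit Q β).ncard = 8 := by
  rw [← index_stabilizer, Subgroup.card_mul_index, h.cardQ]

/-- an element of a normal point stabilizer fixes the whole big orbit -/
theorem P45.fix_big (h : P45 R Q α) {β : Ω} (hn : (stabilizer Q β).Normal) {b : Q}
    (hb : b ∈ stabilizer Q β) {γ : Ω} (hγ : γ ∈ big R Q β) : b • γ = γ := by
  obtain ⟨⟨r, q⟩, rfl⟩ := hγ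
  have h1 : q⁻¹ * b * q ∈ stabilizer Q β := by
    have := hn.conj_mem b hb q⁻¹
    simpa using this
  have h2 : b • q • β = q • β := by
    have e : b * q = q * (q⁻¹ * b * q) := by group
    rw [← mul_smul, e, mul_smul, mem_stabilizer_iff.mp h1]
  change b • r • q • β = r • q • β
  rw [← h.comm, h2]

/-- an element outside a normal point stabilizer moves every point of the big orbit -/
theorem P45.not_fix_big (h : P45 R Q α) {β : Ω} (hn : (stabilizer Q β).Normal) {b : Q}
    (hb : b ∉ stabilizer Q β) {γ : Ω} (hγ : γ ∈ big R Q β) : b • γ ≠ γ := by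
  obtain ⟨⟨r, q⟩, rfl⟩ := hγ
  intro e
  change b • r • q • β = r • q • β at e
  rw [← h.comm] at e
  have e2 : b • q • β = q • β := (MulAction.injective r) e
  apply hb
  have h1 : q⁻¹ * b * q ∈ stabilizer Q β := by
    rw [mem_stabilizer_iff, mul_smul, mul_smul, e2, inv_smul_smul]
  have := hn.conj_mem _ h1 q
  simpa [mul_assoc] using this

theorem P45.normal_of_small (h : P45 R Q α) (β : Ω) (hs : (orbit Q β).ncard ≤ 2) :
    (stabilizer Q β).Normal := by
  have hidx : (stabilizer Q β).index = (orbit Q β).ncard := index_stabilizer Q β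
  have hmul := h.orbit_ncard_mul β
  have h12 : (orbit Q β).ncard = 1 ∨ (orbit Q β).ncard = 2 := by
    rcases Nat.eq_zero_or_pos (orbit Q β).ncard with h0 | h0
    · rw [h0] at hmul; omega
    · omega
  rcases h12 with h1 | h2
  · rw [h1] at hidx
    rw [Subgroup.index_eq_one] at hidx
    rw [hidx]
    infer_instance
  · rw [h2] at hidx
    exact Subgroup.normal_of_index_eq_two hidx

/-- some point has a big orbit of full size -/
theorem P45.exists_big (h : P45 R Q α) : ∃ β : Ω, β ≠ α ∧ 4 ≤ (orbit Q β).ncard := by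
  have := h.finiteR
  have := h.finiteQ
  have := h.finiteΩ
  by_contra hcon
  push Not at hcon
  have hsmall : ∀ β : Ω, β ≠ α → (orbit Q β).ncard ≤ 2 := by
    intro β hβ
    have h1 := hcon β hβ
    have h2 := h.orbit_ncard_mul β
    by_contra h3
    have h4 : (orbit Q β).ncard = 3 := by omega
    rw [h4] at h2
    omega
  -- a point moved by `Q` has stabilizer of order 4
  have hfour : ∀ (b : Q) (β : Ω), b • β ≠ β → β ≠ α ∧ (orbit Q β).ncard = 2 ∧
      Nat.card (stabilizer Q β) = 4 := by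
    intro b β hb
    have hβ : β ≠ α := by
      rintro rfl
      exact hb (h.fixQ b)
    have h2 := h.orbit_ncard_mul β
    have h3 := hsmall β hβ
    have h4 : (orbit Q β).ncard ≠ 1 := by
      intro h1
      rw [h1, mul_one, ← h.cardQ] at h2
      have htop : stabilizer Q β = ⊤ := (Subgroup.card_eq_iff_eq_top _).mp h2
      apply hb
      have : b ∈ stabilizer Q β := by rw [htop]; exact Subgroup.mem_top b
      exact mem_stabilizer_iff.mp this
    have h5 : (orbit Q β).ncard = 2 := by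
      rcases Nat.eq_zero_or_pos (orbit Q β).ncard with h0 | h0
      · rw [h0] at h2; omega
      · omega
    refine ⟨hβ, h5, ?_⟩
    rw [h5] at h2
    omega
  have hQnt : Nontrivial Q := by
    rw [← Finite.one_lt_card_iff_nontrivial, h.cardQ]
    norm_num
  obtain ⟨q0, hq0⟩ := exists_ne (1 : Q)
  obtain ⟨β1, hβ1⟩ : ∃ β1 : Ω, q0 • β1 ≠ β1 := by
    by_contra hall
    push Not at hall
    exact hq0 (h.faith q0 hall)
  obtain ⟨hβ1α, hn1, hA1⟩ := hfour q0 β1 hβ1
  have hA1ne : stabilizer Q β1 ≠ ⊥ := by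
    intro hbot
    rw [hbot, Subgroup.card_bot] at hA1
    omega
  obtain ⟨a', ha'⟩ := (Subgroup.ne_bot_iff_exists_ne_one).mp hA1ne
  obtain ⟨a, haA1, ha1⟩ : ∃ a : Q, a ∈ stabilizer Q β1 ∧ a ≠ 1 :=
    ⟨(a' : Q), a'.2, fun e => ha' (Subtype.ext e)⟩
  obtain ⟨β2, hβ2⟩ : ∃ β2 : Ω, a • β2 ≠ β2 := by
    by_contra hall
    push Not at hall
    exact ha1 (h.faith a hall)
  obtain ⟨hβ2α, hn2, hA2⟩ := hfour a β2 hβ2
  have haA2 : a ∉ stabilizer Q β2 := fun hmem => hβ2 (mem_stabilizer_iff.mp hmem)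
  have hN1 := h.normal_of_small β1 (by omega)
  have hN2 := h.normal_of_small β2 (by omega)
  have hdisj : Disjoint (big R Q β1) (big R Q β2) := by
    rw [Set.disjoint_left]
    intro γ h1 h2
    exact h.not_fix_big hN2 haA2 h2 (h.fix_big hN1 haA1 h1)
  have hc1 := h.big_ncard hβ1α
  have hc2 := h.big_ncard hβ2α
  rw [hn1] at hc1
  rw [hn2] at hc2
  have hunion : big R Q β1 ∪ big R Q β2 = ({α}ᶜ : Set Ω) := by
    apply Set.eq_of_subset_of_ncard_le
    · exact Set.union_subset (h.big_subset hβ1α) (h.big_subset hβ2α)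
    · rw [Set.ncard_union_eq hdisj, hc1, hc2, h.compl_ncard]
    · exact Set.toFinite _
  have hinf : Disjoint (stabilizer Q β1) (stabilizer Q β2) := by
    rw [Subgroup.disjoint_def]
    intro b hb1 hb2
    apply h.faith
    intro γ
    by_cases hγ : γ = α
    · rw [hγ]; exact h.fixQ b
    · have : γ ∈ ({α}ᶜ : Set Ω) := hγ
      rw [← hunion] at this
      rcases this with h1 | h2
      · exact h.fix_big hN1 hb1 h1
      · exact h.fix_big hN2 hb2 h2
  have hle := Nat.card_le_card_of_injective _ (Subgroup.mul_injective_of_disjoint hinf)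
  rw [Nat.card_prod, hA1, hA2, h.cardQ] at hle
  omega

/-- a nonidentity central element of `Q` fixes only `α` -/
theorem P45.central_fix (h : P45 R Q α) (t : Q) (ht1 : t ≠ 1) (htc : ∀ q : Q, Commute t q)
    (β : Ω) (htβ : t • β = β) : β = α := by
  have := h.finiteΩ
  by_contra hβ
  obtain ⟨β0, hβ0, h4⟩ := h.exists_big
  have hc := h.big_ncard hβ0
  have hsub := h.big_subset hβ0
  have hbig : big R Q β0 = ({α}ᶜ : Set Ω) :=
    Set.eq_of_subset_of_ncard_le hsub (by rw [h.compl_ncard, hc]; omega) (Set.toFinite _)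
  have hβmem : β ∈ big R Q β0 := by rw [hbig]; exact hβ
  obtain ⟨⟨r0, q0⟩, e0⟩ := hβmem
  have e0' : r0 • q0 • β0 = β := e0
  have ht0 : t • β0 = β0 := by
    have e1 : t • r0 • q0 • β0 = r0 • q0 • β0 := by rw [e0']; exact htβ
    rw [← h.comm, ← mul_smul t q0, (htc q0).eq, mul_smul] at e1
    exact MulAction.injective q0 (MulAction.injective r0 e1)
  apply ht1
  apply h.faith
  intro γ
  by_cases hγ : γ = α
  · rw [hγ]; exact h.fixQ t
  · have hmem : γ ∈ big R Q β0 := by rw [hbig]; exact hγ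
    obtain ⟨⟨r, q⟩, rfl⟩ := hmem
    change t • r • q • β0 = r • q • β0
    rw [← h.comm, ← mul_smul t q, (htc q).eq, mul_smul, ht0]

end Perm45

section Perm12

/-- If a commutative subgroup `R` fixes `α` and acts regularly on the other points, then every
element commuting with `R` and fixing `α` acts as an element of `R`. -/
theorem perm12 {Γ Ω : Type*} [Group Γ] [MulAction Γ Ω] [Finite Ω] (R : Subgroup Γ) [Finite R]
    (α : Ω) (hΩ : Nat.card Ω = Nat.card R + 1)
    (hRcomm : ∀ a ∈ R, ∀ b ∈ R, Commute a b)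
    (hfree : ∀ r ∈ R, r ≠ 1 → ∀ β : Ω, β ≠ α → r • β ≠ β)
    (hRα : ∀ r ∈ R, r • α = α)
    (c : Γ) (hc : ∀ r ∈ R, Commute c r) (hcα : c • α = α) :
    ∃ r ∈ R, ∀ β : Ω, c • β = r • β := by
  have hcardpos : 0 < Nat.card R := Nat.card_pos
  have hnt : Nontrivial Ω := by
    rw [← Finite.one_lt_card_iff_nontrivial, hΩ]
    omega
  obtain ⟨β0, hβ0⟩ := exists_ne α
  have hne : ∀ g : Γ, g • α = α → g • β0 ≠ α := by
    intro g hg e
    apply hβ0
    have : β0 = g⁻¹ • α := by rw [← e, inv_smul_smul]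
    rw [this, ← hg, inv_smul_smul, hg]
  let f : R → {γ : Ω // γ ≠ α} := fun r => ⟨(r : Γ) • β0, hne r (hRα r r.2)⟩
  have hf : Function.Injective f := by
    intro r r' e
    have e1 : (r : Γ) • β0 = (r' : Γ) • β0 := congrArg Subtype.val e
    have e2 : ((r' : Γ)⁻¹ * (r : Γ)) • β0 = β0 := by
      rw [mul_smul, e1, inv_smul_smul]
    by_contra hrr
    have hne1 : (r' : Γ)⁻¹ * (r : Γ) ≠ 1 := by
      intro e3
      apply hrr
      apply Subtype.ext
      have : (r : Γ) = (r' : Γ) * ((r' : Γ)⁻¹ * (r : Γ)) := by group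
      rw [this, e3, mul_one]
    exact hfree _ (R.mul_mem (R.inv_mem r'.2) r.2) hne1 β0 hβ0 e2
  have hcardc : Nat.card {γ : Ω // γ ≠ α} = Nat.card R := by
    have h1 : Nat.card {γ : Ω // γ ≠ α} = (({α} : Set Ω)ᶜ).ncard := by
      rw [← Nat.card_coe_set_eq]
      rfl
    rw [h1, Set.ncard_compl, Set.ncard_singleton, hΩ]
    omega
  have hbij : Function.Bijective f := hf.bijective_of_nat_card_le (by rw [hcardc])
  obtain ⟨r0, hr0⟩ := hbij.2 ⟨c • β0, hne c hcα⟩
  have hr0' : (r0 : Γ) • β0 = c • β0 := congrArg Subtype.val hr0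
  refine ⟨r0, r0.2, fun β => ?_⟩
  by_cases hβ : β = α
  · rw [hβ, hcα, hRα r0 r0.2]
  · obtain ⟨r, hr⟩ := hbij.2 ⟨β, hβ⟩
    have hr' : (r : Γ) • β0 = β := congrArg Subtype.val hr
    rw [← hr', ← mul_smul, (hc r r.2).eq, mul_smul, ← hr0', ← mul_smul, ← mul_smul,
      (hRcomm r r.2 r0 r0.2).eq]

end Perm12

end Cfsg.Agent.Lib.Helper10.Ord7920
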