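import Mathlib

/-!
# Tools for groups of order 7920: commuting elements from coprime conjugation actions
-/

set_option autoImplicit false
open scoped Pointwise

namespace Cfsg.Agent.Lib.Helper10.Ord7920

/-- commuting elements of coprime orders give an element whose order is the product -/
theorem exists_orderOf_mul {G : Type*} [Group G] {a b : G} {p q : ℕ} (hab : Commute a b)
    (ha : orderOf a = p) (hb : orderOf b = q) (hpq : Nat.Coprime p q) :
    ∃ g : G, orderOf g = p * q :=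
  ⟨a * b, by
    rw [hab.orderOf_mul_eq_mul_orderOf_of_coprime (by rw [ha, hb]; exact hpq), ha, hb]⟩

/-- a nonidentity element has a power of prime order -/
theorem exists_prime_orderOf_pow {G : Type*} [Group G] [Finite G] {g : G} (hg : g ≠ 1) :
    ∃ p : ℕ, p.Prime ∧ p ∣ orderOf g ∧ orderOf (g ^ (orderOf g / p)) = p := by
  have h1 : orderOf g ≠ 1 := by rwa [Ne, orderOf_eq_one_iff]
  obtain ⟨p, hp, hpd⟩ := Nat.exists_prime_and_dvd h1
  exact ⟨p, hp, hpd, orderOf_pow_orderOf_div (orderOf_pos g).ne' hpd⟩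

section ToolB

variable {G : Type*} [Group G]

/-- the conjugation action of a subgroup `Q` on the nonidentity elements of a subgroup `P`
it normalizes -/
@[reducible] def conjActOn (Q P : Subgroup G) (hQP : ∀ y ∈ Q, ∀ g ∈ P, y * g * y⁻¹ ∈ P) :
    MulAction Q {g : P // g ≠ 1} where
  smul y g := ⟨⟨(y : G) * (g : P) * (y : G)⁻¹, hQP y y.2 _ (g : P).2⟩, by
    intro h
    apply g.2
    have h1 : (y : G) * ((g : P) : G) * (y : G)⁻¹ = 1 := congrArg Subtype.val h
    have h2 : ((g : P) : G) = 1 := by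
      have : ((g : P) : G) = (y : G)⁻¹ * ((y : G) * ((g : P) : G) * (y : G)⁻¹) * (y : G) := by
        group
      rw [this, h1]; group
    exact Subtype.ext h2⟩
  one_smul g := by
    apply Subtype.ext; apply Subtype.ext
    change ((1 : Q) : G) * ((g : P) : G) * ((1 : Q) : G)⁻¹ = _
    simp
  mul_smul y z g := by
    apply Subtype.ext; apply Subtype.ext
    change ((y * z : Q) : G) * ((g : P) : G) * ((y * z : Q) : G)⁻¹ =
      (y : G) * ((z : G) * ((g : P) : G) * (z : G)⁻¹) * (y : G)⁻¹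
    simp only [Subgroup.coe_mul]
    group

/-- If a subgroup `Q` normalizes a subgroup `P` and `|Q|` does not divide `|P| - 1`, then some
nonidentity element of `Q` commutes with some nonidentity element of `P`. -/
theorem exists_commute_of_not_dvd [Finite G] (Q P : Subgroup G)
    (hQP : ∀ y ∈ Q, ∀ g ∈ P, y * g * y⁻¹ ∈ P)
    (hnd : ¬ Nat.card Q ∣ Nat.card P - 1) :
    ∃ y ∈ Q, y ≠ 1 ∧ ∃ g ∈ P, g ≠ 1 ∧ Commute y g := by
  by_contra hcon
  push Not at hcon
  let _ : MulAction Q {g : P // g ≠ 1} := conjActOn Q P hQP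
  have hfree : ∀ b : {g : P // g ≠ 1}, MulAction.stabilizer Q b = ⊥ := by
    intro b
    rw [eq_bot_iff]
    intro y hy
    rw [Subgroup.mem_bot]
    by_contra hy1
    rw [MulAction.mem_stabilizer_iff] at hy
    have h1 : (y : G) * ((b : P) : G) * (y : G)⁻¹ = ((b : P) : G) :=
      congrArg (fun z : {g : P // g ≠ 1} => ((z : P) : G)) hy
    have hb1 : ((b : P) : G) ≠ 1 := fun h => b.2 (Subtype.ext h)
    have hy1' : (y : G) ≠ 1 := fun h => hy1 (Subtype.ext h)
    apply hcon y y.2 hy1' _ (b : P).2 hb1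
    have : (y : G) * ((b : P) : G) = ((b : P) : G) * (y : G) := by
      calc (y : G) * ((b : P) : G) = (y : G) * ((b : P) : G) * (y : G)⁻¹ * (y : G) := by group
        _ = ((b : P) : G) * (y : G) := by rw [h1]
    exact this
  have e := MulAction.selfEquivOrbitsQuotientProd hfree
  have hcard : Nat.card {g : P // g ≠ 1} =
      Nat.card (Quotient (MulAction.orbitRel Q {g : P // g ≠ 1})) * Nat.card Q := by
    rw [Nat.card_congr e, Nat.card_prod]
  have hX : Nat.card {g : P // g ≠ 1} = Nat.card P - 1 := by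
    have h1 : Nat.card {g : P // g ≠ 1} = (({1} : Set P)ᶜ).ncard := by
      rw [← Nat.card_coe_set_eq]
      rfl
    rw [h1, Set.ncard_compl, Set.ncard_singleton]
  apply hnd
  rw [← hX, hcard]
  exact Dvd.intro_left _ rfl

/-- a nonidentity power of an element of prime order has that element as a power -/
theorem mem_zpowers_of_mem_zpowers_prime {y y' : G} {r : ℕ} (hr : r.Prime)
    (hy : orderOf y = r) (hy' : y' ∈ Subgroup.zpowers y) (hne : y' ≠ 1) :
    y ∈ Subgroup.zpowers y' := by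
  have hfin : IsOfFinOrder y := by
    rw [← orderOf_pos_iff, hy]; exact hr.pos
  obtain ⟨n, hn⟩ := (hfin.mem_powers_iff_mem_zpowers).mpr hy'
  have hn' : y ^ n = y' := hn
  have hcop : Nat.Coprime n r := by
    rw [Nat.coprime_comm, Nat.Prime.coprime_iff_not_dvd hr]
    intro hd
    apply hne
    rw [← hn', ← orderOf_dvd_iff_pow_eq_one, hy]
    exact hd
  obtain ⟨m, -, hm⟩ := Nat.exists_mul_mod_eq_one_of_coprime hcop hr.one_lt
  rw [Subgroup.mem_zpowers_iff]
  refine ⟨(m : ℤ), ?_⟩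
  rw [zpow_natCast, ← hn', ← pow_mul, ← pow_mod_orderOf, hy, hm, pow_one]

/-- `y` of prime order `r`, `N` normal with `r ∤ |N|`, `p ∣ |N|`, and `r ∤ p^k - 1` for every
`k ≥ 1` with `p^k ∣ |N|`: some element of order `p` of `N` commutes with `y`. -/
theorem exists_commute_of_normal [Finite G] (N : Subgroup G) [N.Normal] (y : G) {r p : ℕ}
    [hr : Fact r.Prime] [hp : Fact p.Prime] (hy : orderOf y = r) (hrN : ¬ r ∣ Nat.card N)
    (hpN : p ∣ Nat.card N)
    (h : ∀ k, 0 < k → p ^ k ∣ Nat.card N → ¬ r ∣ p ^ k - 1) :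
    ∃ g ∈ N, orderOf g = p ∧ Commute y g := by
  set Z := Subgroup.zpowers y with hZdef
  have hZcard : Nat.card Z = r := by rw [Nat.card_zpowers, hy]
  have hZ : IsPGroup r Z := IsPGroup.of_card (n := 1) (by rw [hZcard, pow_one])
  let φ : Z →* MulAut N := (MulAut.conjNormal (H := N)).comp Z.subtype
  let _ : MulAction Z (Sylow p N) := MulAction.compHom (Sylow p N) φ
  have P0 : Sylow p N := default
  have hnd : ¬ r ∣ Nat.card (Sylow p N) := by
    intro hd
    apply hrN
    exact hd.trans ((Sylow.card_dvd_index P0).trans (Subgroup.index_dvd_card _))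
  obtain ⟨P, hP⟩ := hZ.nonempty_fixed_point_of_prime_not_dvd_card (Sylow p N) hnd
  have hfix : ∀ z : G, z ∈ Z → ∀ n : N, n ∈ P → (⟨z * n * z⁻¹, ‹N.Normal›.conj_mem n n.2 z⟩ : N) ∈ P := by
    intro z hz n hn
    have h1 : (φ ⟨z, hz⟩) • P = P := hP ⟨z, hz⟩
    have h2 : (φ ⟨z, hz⟩) • n ∈ ((φ ⟨z, hz⟩) • P : Sylow p N) := by
      change (φ ⟨z, hz⟩) • n ∈ (φ ⟨z, hz⟩) • (P : Subgroup N)
      exact Subgroup.smul_mem_pointwise_smul _ _ _ hn
    rw [h1] at h2
    have h3 : (φ ⟨z, hz⟩) • n = (⟨z * n * z⁻¹, ‹N.Normal›.conj_mem n n.2 z⟩ : N) := by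
      apply Subtype.ext
      rfl
    rwa [h3] at h2
  set P' : Subgroup G := (P : Subgroup N).map N.subtype with hP'def
  have hP'N : P' ≤ N := Subgroup.map_subtype_le _
  have hcardP' : Nat.card P' = Nat.card P :=
    Nat.card_congr ((P : Subgroup N).equivMapOfInjective N.subtype N.subtype_injective).symm.toEquiv
  obtain ⟨k, hk⟩ := IsPGroup.iff_card.mp P.2
  have hk0 : 0 < k := by
    rcases Nat.eq_zero_or_pos k with h0 | h0
    · exfalso
      rw [h0, pow_zero] at hk
      have := Sylow.ne_bot_of_dvd_card P hpN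
      exact this (Subgroup.card_eq_one.mp hk)
    · exact h0
  have hkd : p ^ k ∣ Nat.card N := by
    rw [← hk]; exact Subgroup.card_subgroup_dvd_card _
  have hnorm : ∀ z ∈ Z, ∀ g ∈ P', z * g * z⁻¹ ∈ P' := by
    intro z hz g hg
    obtain ⟨n, hn, rfl⟩ := hg
    exact ⟨_, hfix z hz n hn, rfl⟩
  have hnd2 : ¬ Nat.card Z ∣ Nat.card P' - 1 := by
    rw [hZcard, hcardP', hk]
    exact h k hk0 hkd
  obtain ⟨y', hy'Z, hy'1, g, hgP', hg1, hcomm⟩ := exists_commute_of_not_dvd Z P' hnorm hnd2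
  have hyy' := mem_zpowers_of_mem_zpowers_prime hr.out hy hy'Z hy'1
  obtain ⟨j, hj⟩ := Subgroup.mem_zpowers_iff.mp hyy'
  have hcomm2 : Commute y g := by
    rw [← hj]
    exact hcomm.zpow_left j
  have hgo : orderOf g ∣ p ^ k := by
    have : orderOf g ∣ Nat.card P' := by
      have := orderOf_dvd_natCard (⟨g, hgP'⟩ : P')
      rwa [Subgroup.orderOf_mk] at this
    rwa [hcardP', hk] at this
  have hpo : p ∣ orderOf g := by
    obtain ⟨i, hi, hi2⟩ := (Nat.dvd_prime_pow hp.out).mp hgo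
    rcases Nat.eq_zero_or_pos i with h0 | h0
    · exfalso
      rw [h0, pow_zero] at hi2
      exact hg1 (orderOf_eq_one_iff.mp hi2)
    · rw [hi2]; exact dvd_pow_self p h0.ne'
  refine ⟨g ^ (orderOf g / p), ?_, orderOf_pow_orderOf_div (orderOf_pos g).ne' hpo, ?_⟩
  · exact N.pow_mem (hP'N hgP') _
  · exact hcomm2.pow_right _

end ToolB

end Cfsg.Agent.Lib.Helper10.Ord7920
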