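import Mathlib
import Cfsg.Agent.Lib.Helper10.Ord7920A

/-!
# Burnside's transfer theorem combined with the coprime conjugation action
-/

set_option autoImplicit false
open scoped Pointwise

namespace Cfsg.Agent.Lib.Helper10.Ord7920

/-- If a Sylow `r`-subgroup `R` has `N(R) ≤ C(R)`, `y ∈ R` has order `r`, and `p ≠ r` is a prime
dividing `|L|` with `r ∤ p^k - 1` whenever `p^k ∣ |L|`, `k ≥ 1`, then some element of order `p`
commutes with `y`. -/
theorem exists_commute_of_normalizer_le_centralizer {L : Type*} [Group L] [Finite L] {r p : ℕ}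
    [hr : Fact r.Prime] [hp : Fact p.Prime] (R : Sylow r L) (y : L) (hy : orderOf y = r)
    (hNC : Subgroup.normalizer ((R : Subgroup L) : Set L) ≤ Subgroup.centralizer (R : Set L))
    (hpr : p ≠ r) (hpL : p ∣ Nat.card L)
    (h : ∀ k, 0 < k → p ^ k ∣ Nat.card L → ¬ r ∣ p ^ k - 1) :
    ∃ g : L, orderOf g = p ∧ Commute y g := by
  set M := (MonoidHom.transferSylow R hNC).ker with hM
  have hcompl : Subgroup.IsComplement' M R := MonoidHom.ker_transferSylow_isComplement' R hNC
  have hcard : Nat.card M * Nat.card R = Nat.card L := hcompl.card_mul_card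
  have hrM : ¬ r ∣ Nat.card M := MonoidHom.not_dvd_card_ker_transferSylow R hNC
  obtain ⟨n, hn⟩ := IsPGroup.iff_card.mp R.2
  have hpM : p ∣ Nat.card M := by
    rw [← hcard, hn] at hpL
    have hcop : Nat.Coprime p (r ^ n) :=
      Nat.Coprime.pow_right n ((Nat.coprime_primes hp.out hr.out).mpr hpr)
    exact hcop.dvd_of_dvd_mul_right hpL
  have hML : Nat.card M ∣ Nat.card L := Subgroup.card_subgroup_dvd_card M
  obtain ⟨g, -, hg, hc⟩ := exists_commute_of_normal M y hy hrM hpM
    (fun k hk hkd => h k hk (hkd.trans hML))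
  exact ⟨g, hg, hc⟩

/-- Subgroup version: `N ≤ G` contains the Sylow `r`-subgroup `R` of `G`, and
`N ∩ N_G(R) ≤ C_G(R)`. -/
theorem exists_commute_of_inf_normalizer_le_centralizer {G : Type*} [Group G] [Finite G]
    {r p : ℕ} [hr : Fact r.Prime] [hp : Fact p.Prime] (R : Sylow r G) (N : Subgroup G)
    (hRN : (R : Subgroup G) ≤ N) (y : G) (hyN : y ∈ N) (hy : orderOf y = r)
    (hNC : N ⊓ Subgroup.normalizer ((R : Subgroup G) : Set G) ≤
      Subgroup.centralizer ((R : Subgroup G) : Set G))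
    (hpr : p ≠ r) (hpN : p ∣ Nat.card N)
    (h : ∀ k, 0 < k → p ^ k ∣ Nat.card N → ¬ r ∣ p ^ k - 1) :
    ∃ g ∈ N, orderOf g = p ∧ Commute y g := by
  set R' : Sylow r N := R.subtype hRN with hR'
  have hmem : ∀ n : N, n ∈ R' ↔ (n : G) ∈ R := by
    intro n
    rw [hR']
    change n ∈ ((R.subtype hRN : Sylow r N) : Subgroup N) ↔ _
    rw [Sylow.coe_subtype, Subgroup.mem_subgroupOf]
    rfl
  have hNC' : Subgroup.normalizer ((R' : Subgroup N) : Set N) ≤
      Subgroup.centralizer ((R' : Subgroup N) : Set N) := by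
    intro n hn
    have h1 : (n : G) ∈ Subgroup.normalizer ((R : Subgroup G) : Set G) := by
      rw [Subgroup.mem_normalizer_iff] at hn ⊢
      intro x
      constructor
      · intro hx
        have hxN : x ∈ N := hRN hx
        have := (hn ⟨x, hxN⟩).mp ((hmem ⟨x, hxN⟩).mpr hx)
        exact (hmem _).mp this
      · intro hx
        have hxN : x ∈ N := by
          have h2 : (n : G) * x * (n : G)⁻¹ ∈ N := hRN hx
          have h3 : x = (n : G)⁻¹ * ((n : G) * x * (n : G)⁻¹) * (n : G) := by group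
          rw [h3]
          exact N.mul_mem (N.mul_mem (N.inv_mem n.2) h2) n.2
        have := (hn ⟨x, hxN⟩).mpr ((hmem (n * ⟨x, hxN⟩ * n⁻¹)).mpr hx)
        exact (hmem _).mp this
    have h2 : (n : G) ∈ Subgroup.centralizer ((R : Subgroup G) : Set G) := hNC ⟨n.2, h1⟩
    rw [Subgroup.mem_centralizer_iff] at h2 ⊢
    intro x hx
    apply Subtype.ext
    exact h2 (x : G) ((hmem x).mp hx)
  obtain ⟨g, hg, hc⟩ := exists_commute_of_normalizer_le_centralizer R' (⟨y, hyN⟩ : N)
    (by rw [Subgroup.orderOf_mk]; exact hy) hNC' hpr hpN h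
  refine ⟨(g : G), g.2, by rw [Subgroup.orderOf_coe]; exact hg, ?_⟩
  have := congrArg Subtype.val hc.eq
  exact this

end Cfsg.Agent.Lib.Helper10.Ord7920
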