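import Mathlib
import Cfsg.Agent.Lib.Helper10.Ord7920A

/-!
# Groups of order 7920: the Sylow 11-subgroup, its normalizer and centralizer; connectivity
-/

set_option autoImplicit false
open scoped Pointwise

namespace Cfsg.Agent.Lib.Helper10.Ord7920

/-- the prime graph on `{2, 3, 5, 11}` is connected -/
def Conn (G : Type*) [Group G] : Prop :=
  ∀ A : Set ℕ, (∀ p q : ℕ, p.Prime → q.Prime → (∃ g : G, orderOf g = p * q) → (p ∈ A ↔ q ∈ A)) →
    ((2 ∈ A ↔ 3 ∈ A) ∧ (2 ∈ A ↔ 5 ∈ A) ∧ (2 ∈ A ↔ 11 ∈ A))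

/-- `p` and `q` are joined -/
def Edge (G : Type*) [Group G] (p q : ℕ) : Prop := ∃ g : G, orderOf g = p * q

theorem Edge.symm {G : Type*} [Group G] {p q : ℕ} (h : Edge G p q) : Edge G q p := by
  obtain ⟨g, hg⟩ := h
  exact ⟨g, by rw [hg, mul_comm]⟩

theorem edge_of_commute {G : Type*} [Group G] {a b : G} {p q : ℕ} (hp : p.Prime) (hq : q.Prime)
    (hpq : p ≠ q) (hab : Commute a b) (ha : orderOf a = p) (hb : orderOf b = q) : Edge G p q :=
  exists_orderOf_mul hab ha hb ((Nat.coprime_primes hp hq).mpr hpq)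

section

variable {G : Type*} [Group G] [Finite G]

theorem card_sylow_eleven (hord : Nat.card G = 7920) (R : Sylow 11 G) :
    Nat.card (R : Subgroup G) = 11 := by
  have : Fact (Nat.Prime 11) := ⟨by norm_num⟩
  obtain ⟨k, hk⟩ := IsPGroup.iff_card.mp R.2
  have hdvd : Nat.card (R : Subgroup G) ∣ 7920 := by
    rw [← hord]; exact Subgroup.card_subgroup_dvd_card _
  have hidx : ¬ 11 ∣ (R : Subgroup G).index := R.not_dvd_index
  have hmul : Nat.card (R : Subgroup G) * (R : Subgroup G).index = 7920 := by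
    rw [Subgroup.card_mul_index, hord]
  rw [hk] at hdvd hmul ⊢
  have hk2 : k < 2 := by
    by_contra h2
    have h3 : 11 ^ 2 ∣ 11 ^ k := pow_dvd_pow 11 (by omega)
    have h4 : 11 ^ 2 ∣ 7920 := h3.trans hdvd
    norm_num at h4
  interval_cases k
  · exfalso
    rw [pow_zero, one_mul] at hmul
    rw [hmul] at hidx
    norm_num at hidx
  · norm_num

theorem exists_generator (hord : Nat.card G = 7920) (R : Sylow 11 G) :
    ∃ x : G, x ∈ R ∧ orderOf x = 11 ∧ Subgroup.zpowers x = (R : Subgroup G) := by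
  have hcard := card_sylow_eleven hord R
  have hne : (R : Subgroup G) ≠ ⊥ := by
    intro h
    rw [h, Subgroup.card_bot] at hcard
    norm_num at hcard
  obtain ⟨x', hx'⟩ := (Subgroup.ne_bot_iff_exists_ne_one).mp hne
  have hx1 : (x' : G) ≠ 1 := fun e => hx' (Subtype.ext e)
  have hxo : orderOf (x' : G) = 11 := by
    have h1 : orderOf (x' : G) ∣ 11 := by
      have h0 : orderOf (x' : G) ∣ Nat.card (R : Subgroup G) := by
        rw [Subgroup.orderOf_coe]
        exact orderOf_dvd_natCard x'
      rwa [hcard] at h0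
    rcases (Nat.dvd_prime (by norm_num)).mp h1 with h | h
    · exact absurd (orderOf_eq_one_iff.mp h) hx1
    · exact h
  refine ⟨x', x'.2, hxo, ?_⟩
  apply Subgroup.eq_of_le_of_card_ge
  · rw [Subgroup.zpowers_le]; exact x'.2
  · rw [Nat.card_zpowers, hxo, hcard]

/-- elements commuting with a generator centralize the subgroup -/
theorem mem_centralizer_of_commute {R : Subgroup G} {x c : G} (hx : Subgroup.zpowers x = R)
    (hc : Commute c x) : c ∈ Subgroup.centralizer (R : Set G) := by
  rw [Subgroup.mem_centralizer_iff]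
  intro r hr
  rw [SetLike.mem_coe, ← hx] at hr
  obtain ⟨k, rfl⟩ := Subgroup.mem_zpowers_iff.mp hr
  exact ((hc.zpow_right k).eq).symm

theorem commute_of_mem_centralizer {R : Subgroup G} {x c : G} (hx : x ∈ R)
    (hc : c ∈ Subgroup.centralizer (R : Set G)) : Commute c x :=
  ((Subgroup.mem_centralizer_iff.mp hc) x hx).symm

theorem le_centralizer_of_zpowers {R : Subgroup G} {x : G} (hx : Subgroup.zpowers x = R) :
    R ≤ Subgroup.centralizer (R : Set G) := by
  intro r hr
  apply mem_centralizer_of_commute hx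
  rw [← hx] at hr
  obtain ⟨k, rfl⟩ := Subgroup.mem_zpowers_iff.mp hr
  exact (Commute.refl x).zpow_left k

theorem card_mul_relIndex' {H K : Subgroup G} (h : H ≤ K) :
    Nat.card H * H.relIndex K = Nat.card K := by
  have := Subgroup.relIndex_mul_relIndex (⊥ : Subgroup G) H K bot_le h
  rwa [Subgroup.relIndex_bot_left, Subgroup.relIndex_bot_left] at this

/-- the N/C theorem -/
theorem relIndex_centralizer_normalizer_dvd' (H : Subgroup G) :
    (Subgroup.centralizer (H : Set G)).relIndex (Subgroup.normalizer (H : Set G)) ∣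
      Nat.card (MulAut H) := by
  have key := Subgroup.card_dvd_of_injective _
    (QuotientGroup.kerLift_injective H.normalizerMonoidHom)
  rwa [Subgroup.normalizerMonoidHom_ker, ← Subgroup.index, ← Subgroup.relIndex] at key

/-- N/C for a subgroup of prime order -/
theorem relIndex_dvd_pred_of_card_prime (H : Subgroup G) {p : ℕ} (hp : p.Prime)
    (hH : Nat.card H = p) :
    (Subgroup.centralizer (H : Set G)).relIndex (Subgroup.normalizer (H : Set G)) ∣ p - 1 := by
  have : Fact p.Prime := ⟨hp⟩
  have hcyc : IsCyclic H := isCyclic_of_prime_card hH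
  have := relIndex_centralizer_normalizer_dvd' H
  rwa [IsCyclic.card_mulAut, hH, Nat.totient_prime hp] at this

theorem centralizer_le_normalizer' (H : Subgroup G) :
    Subgroup.centralizer (H : Set G) ≤ Subgroup.normalizer (H : Set G) :=
  Subgroup.centralizer_le_normalizer _

theorem card_normalizer_mul_card_sylow (hord : Nat.card G = 7920) (R : Sylow 11 G) :
    Nat.card (Subgroup.normalizer ((R : Subgroup G) : Set G)) * Nat.card (Sylow 11 G) = 7920 := by
  have : Fact (Nat.Prime 11) := ⟨by norm_num⟩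
  have h1 := Subgroup.card_mul_index (Subgroup.normalizer ((R : Subgroup G) : Set G))
  have h2 : Nat.card (Sylow 11 G) = (Subgroup.normalizer ((R : Subgroup G) : Set G)).index :=
    Sylow.card_eq_index_normalizer R
  rw [h2, h1, hord]

theorem card_sylow_eleven_cases (hord : Nat.card G = 7920) :
    Nat.card (Sylow 11 G) = 1 ∨ Nat.card (Sylow 11 G) = 12 ∨ Nat.card (Sylow 11 G) = 45 ∨
      Nat.card (Sylow 11 G) = 144 := by
  have : Fact (Nat.Prime 11) := ⟨by norm_num⟩
  have R : Sylow 11 G := default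
  have h1 : Nat.card (Sylow 11 G) ≡ 1 [MOD 11] := card_sylow_modEq_one 11 G
  have h2 : Nat.card (Sylow 11 G) ∣ (R : Subgroup G).index := Sylow.card_dvd_index R
  have h3 : Nat.card (R : Subgroup G) * (R : Subgroup G).index = 7920 := by
    rw [Subgroup.card_mul_index, hord]
  rw [card_sylow_eleven hord R] at h3
  have h4 : (R : Subgroup G).index = 720 := by omega
  rw [h4] at h2
  have h5 : Nat.card (Sylow 11 G) ∈ Nat.divisors 720 := by
    rw [Nat.mem_divisors]; exact ⟨h2, by norm_num⟩
  have h6 : Nat.card (Sylow 11 G) % 11 = 1 := h1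
  generalize Nat.card (Sylow 11 G) = n at h5 h6
  have h7 : n ∈ (Nat.divisors 720).filter (fun m => m % 11 = 1) :=
    Finset.mem_filter.mpr ⟨h5, h6⟩
  have h8 : (Nat.divisors 720).filter (fun m => m % 11 = 1) = {1, 12, 45, 144} := by
    decide +kernel
  rw [h8] at h7
  simpa using h7

/-- Cauchy in a subgroup -/
theorem exists_mem_orderOf_eq (K : Subgroup G) {p : ℕ} (hp : p.Prime) (hd : p ∣ Nat.card K) :
    ∃ g ∈ K, orderOf g = p := by
  have : Fact p.Prime := ⟨hp⟩
  obtain ⟨g, hg⟩ := exists_prime_orderOf_dvd_card' (G := K) p hd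
  exact ⟨(g : G), g.2, by rw [Subgroup.orderOf_coe]; exact hg⟩

/-- a prime divisor of the order of the centralizer of `R = ⟨x⟩` is joined to 11 -/
theorem edge_of_dvd_card_centralizer {R : Subgroup G} {x : G} (hx : x ∈ R)
    (hxo : orderOf x = 11) {p : ℕ} (hp : p.Prime) (hp11 : p ≠ 11)
    (hd : p ∣ Nat.card (Subgroup.centralizer (R : Set G))) : Edge G 11 p := by
  obtain ⟨g, hgC, hgo⟩ := exists_mem_orderOf_eq _ hp hd
  exact edge_of_commute (by norm_num) hp (Ne.symm hp11)
    (commute_of_mem_centralizer hx hgC).symm hxo hgo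

end

end Cfsg.Agent.Lib.Helper10.Ord7920
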