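import Mathlib
import Cfsg.Agent.Lib.Helper10.Ord7920D

/-!
# Groups of order 7920: arithmetic, the action on the Sylow 11-subgroups and its kernel
-/

set_option autoImplicit false
open scoped Pointwise

namespace Cfsg.Agent.Lib.Helper10.Ord7920

theorem prime_dvd_7920 {p : ℕ} (hp : p.Prime) (hd : p ∣ 7920) :
    p = 2 ∨ p = 3 ∨ p = 5 ∨ p = 11 := by
  have h : (7920 : ℕ) = 2 ^ 4 * 3 ^ 2 * 5 * 11 := by norm_num
  rw [h] at hd
  rcases (Nat.Prime.dvd_mul hp).mp hd with h1 | h1
  · rcases (Nat.Prime.dvd_mul hp).mp h1 with h2 | h2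
    · rcases (Nat.Prime.dvd_mul hp).mp h2 with h3 | h3
      · left
        exact (Nat.prime_dvd_prime_iff_eq hp Nat.prime_two).mp (hp.dvd_of_dvd_pow h3)
      · right; left
        exact (Nat.prime_dvd_prime_iff_eq hp Nat.prime_three).mp (hp.dvd_of_dvd_pow h3)
    · right; right; left
      exact (Nat.prime_dvd_prime_iff_eq hp Nat.prime_five).mp h2
  · right; right; right
    exact (Nat.prime_dvd_prime_iff_eq hp (by norm_num)).mp h1

theorem arith11 {p k : ℕ} (hp : p.Prime) (hp11 : p ≠ 11) (hk : 0 < k) (hd : p ^ k ∣ 7920) :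
    ¬ 11 ∣ p ^ k - 1 := by
  have hpd : p ∣ 7920 := (dvd_pow_self p hk.ne').trans hd
  rcases prime_dvd_7920 hp hpd with rfl | rfl | rfl | rfl
  · have hk4 : k < 5 := by
      by_contra h5
      have : 2 ^ 5 ∣ 7920 := (pow_dvd_pow 2 (by omega)).trans hd
      norm_num at this
    interval_cases k <;> norm_num
  · have hk4 : k < 3 := by
      by_contra h5
      have : 3 ^ 3 ∣ 7920 := (pow_dvd_pow 3 (by omega)).trans hd
      norm_num at this
    interval_cases k <;> norm_num
  · have hk4 : k < 2 := by
      by_contra h5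
      have : 5 ^ 2 ∣ 7920 := (pow_dvd_pow 5 (by omega)).trans hd
      norm_num at this
    interval_cases k <;> norm_num
  · exact absurd rfl hp11

section

variable {G : Type*} [Group G] [Finite G]

/-- a nonidentity element of a Sylow 11-subgroup of order 11 fixing another Sylow 11-subgroup
under conjugation forces equality -/
theorem sylow_eq_of_smul_eq (hord : Nat.card G = 7920) (R S : Sylow 11 G) {r : G} (hr : r ∈ R)
    (hr1 : r ≠ 1) (hS : r • S = S) : S = R := by
  have : Fact (Nat.Prime 11) := ⟨by norm_num⟩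
  have hro : orderOf r = 11 := by
    have h0 : orderOf r ∣ Nat.card (R : Subgroup G) := by
      have := orderOf_dvd_natCard (⟨r, hr⟩ : (R : Subgroup G))
      rwa [Subgroup.orderOf_mk] at this
    rw [card_sylow_eleven hord R] at h0
    rcases (Nat.dvd_prime (by norm_num)).mp h0 with h | h
    · exact absurd (orderOf_eq_one_iff.mp h) hr1
    · exact h
  have hZcard : Nat.card (Subgroup.zpowers r) = 11 := by rw [Nat.card_zpowers, hro]
  have hZ : IsPGroup 11 (Subgroup.zpowers r) := IsPGroup.of_card (n := 1) (by rw [hZcard, pow_one])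
  have hfix : S ∈ MulAction.fixedPoints (Subgroup.zpowers r) (Sylow 11 G) := by
    intro z
    have hz : (z : G) ∈ MulAction.stabilizer G S := by
      have h1 : Subgroup.zpowers r ≤ MulAction.stabilizer G S := by
        rw [Subgroup.zpowers_le]; exact hS
      exact h1 z.2
    exact hz
  have hle : Subgroup.zpowers r ≤ (S : Subgroup G) := hZ.sylow_mem_fixedPoints_iff.mp hfix
  have hZS : Subgroup.zpowers r = (S : Subgroup G) :=
    Subgroup.eq_of_le_of_card_ge hle (by rw [hZcard, card_sylow_eleven hord S])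
  have hZR : Subgroup.zpowers r = (R : Subgroup G) :=
    Subgroup.eq_of_le_of_card_ge (by rw [Subgroup.zpowers_le]; exact hr)
      (by rw [hZcard, card_sylow_eleven hord R])
  exact Sylow.ext (hZS.symm.trans hZR)

/-- the kernel of the action on the Sylow 11-subgroups -/
def ker11 (G : Type*) [Group G] : Subgroup G := (MulAction.toPermHom G (Sylow 11 G)).ker

instance ker11_normal : (ker11 G).Normal := MonoidHom.normal_ker _

theorem mem_ker11_iff {g : G} : g ∈ ker11 G ↔ ∀ S : Sylow 11 G, g • S = S := by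
  unfold ker11
  rw [MonoidHom.mem_ker]
  constructor
  · intro h S
    have := congrArg (fun σ : Equiv.Perm (Sylow 11 G) => σ S) h
    simpa using this
  · intro h
    apply Equiv.ext
    intro S
    rw [MulAction.toPermHom_apply, MulAction.toPerm_apply, h S]
    rfl

theorem ker11_le_normalizer (R : Sylow 11 G) :
    ker11 G ≤ Subgroup.normalizer ((R : Subgroup G) : Set G) := by
  intro g hg
  exact Sylow.smul_eq_iff_mem_normalizer.mp (mem_ker11_iff.mp hg R)

theorem not_dvd_card_ker11 (hord : Nat.card G = 7920) (hn : Nat.card (Sylow 11 G) ≠ 1) :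
    ¬ 11 ∣ Nat.card (ker11 G) := by
  intro hd
  obtain ⟨z, hzK, hzo⟩ := exists_mem_orderOf_eq (ker11 G) (by norm_num) hd
  have hz1 : z ≠ 1 := by
    intro e; rw [e, orderOf_one] at hzo; norm_num at hzo
  apply hn
  have R : Sylow 11 G := default
  have hsub : Subsingleton (Sylow 11 G) := by
    constructor
    intro S T
    -- z lies in a Sylow 11-subgroup `S₀`; all others equal it
    have key : ∀ S : Sylow 11 G, z ∈ S := by
      intro S
      have : Fact (Nat.Prime 11) := ⟨by norm_num⟩
      have hZcard : Nat.card (Subgroup.zpowers z) = 11 := by rw [Nat.card_zpowers, hzo]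
      have hZ : IsPGroup 11 (Subgroup.zpowers z) :=
        IsPGroup.of_card (n := 1) (by rw [hZcard, pow_one])
      have hfix : S ∈ MulAction.fixedPoints (Subgroup.zpowers z) (Sylow 11 G) := by
        intro y
        have h1 : Subgroup.zpowers z ≤ MulAction.stabilizer G S := by
          rw [Subgroup.zpowers_le]; exact mem_ker11_iff.mp hzK S
        exact h1 y.2
      exact (hZ.sylow_mem_fixedPoints_iff.mp hfix) (Subgroup.mem_zpowers z)
    have h1 := sylow_eq_of_smul_eq hord S T (key S) hz1 (mem_ker11_iff.mp hzK T)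
    exact h1.symm
  exact Nat.card_unique

/-- the kernel centralizes every Sylow 11-subgroup (when these are not normal) -/
theorem ker11_le_centralizer (hord : Nat.card G = 7920) (hn : Nat.card (Sylow 11 G) ≠ 1)
    (R : Sylow 11 G) : ker11 G ≤ Subgroup.centralizer ((R : Subgroup G) : Set G) := by
  have hcop : Nat.Coprime (Nat.card (ker11 G)) (Nat.card (R : Subgroup G)) := by
    rw [card_sylow_eleven hord R]
    exact (Nat.Coprime.symm ((Nat.Prime.coprime_iff_not_dvd (by norm_num)).mpr
      (not_dvd_card_ker11 hord hn)))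
  have hbot : ker11 G ⊓ (R : Subgroup G) = ⊥ :=
    disjoint_iff.mp (Subgroup.disjoint_of_coprime_natCard hcop)
  intro k hk
  rw [Subgroup.mem_centralizer_iff]
  intro r hr
  have hkN := ker11_le_normalizer R hk
  have h1 : k * r * k⁻¹ * r⁻¹ ∈ ker11 G := by
    have h2 : r * k⁻¹ * r⁻¹ ∈ ker11 G := ker11_normal.conj_mem _ ((ker11 G).inv_mem hk) r
    have h3 : k * r * k⁻¹ * r⁻¹ = k * (r * k⁻¹ * r⁻¹) := by group
    rw [h3]
    exact (ker11 G).mul_mem hk h2
  have h2 : k * r * k⁻¹ * r⁻¹ ∈ (R : Subgroup G) := by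
    have h3 : k * r * k⁻¹ ∈ (R : Subgroup G) := (Subgroup.mem_normalizer_iff.mp hkN r).mp hr
    exact (R : Subgroup G).mul_mem h3 ((R : Subgroup G).inv_mem hr)
  have h3 : k * r * k⁻¹ * r⁻¹ ∈ ker11 G ⊓ (R : Subgroup G) := ⟨h1, h2⟩
  rw [hbot, Subgroup.mem_bot] at h3
  have h4 : k * r = r * k := by
    have : k * r = (k * r * k⁻¹ * r⁻¹) * (r * k) := by group
    rw [this, h3, one_mul]
  exact h4.symm

end

end Cfsg.Agent.Lib.Helper10.Ord7920
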