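import Mathlib
import Cfsg.Agent.Lib.Helper10.Ord7920B
import Cfsg.Agent.Lib.Helper10.Ord7920E

/-!
# Groups of order 7920: normal Sylow 11-subgroup, and 144 Sylow 11-subgroups
-/

set_option autoImplicit false
open scoped Pointwise

namespace Cfsg.Agent.Lib.Helper10.Ord7920

section

variable {G : Type*} [Group G] [Finite G]

theorem conj_mem_centralizer_of_mem_normalizer {R : Subgroup G} {z g : G}
    (hz : z ∈ Subgroup.normalizer (R : Set G)) (hg : g ∈ Subgroup.centralizer (R : Set G)) :
    z * g * z⁻¹ ∈ Subgroup.centralizer (R : Set G) := by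
  rw [Subgroup.mem_centralizer_iff]
  intro r hr
  have hr' : z⁻¹ * r * z ∈ R := (Subgroup.mem_normalizer_iff''.mp hz r).mp hr
  have hc := (Subgroup.mem_centralizer_iff.mp hg) _ hr'
  calc r * (z * g * z⁻¹) = z * ((z⁻¹ * r * z) * g) * z⁻¹ := by group
    _ = z * (g * (z⁻¹ * r * z)) * z⁻¹ := by rw [hc]
    _ = z * g * z⁻¹ * r := by group

/-- a nonidentity element commuting with an element `y` of order 5 gives an edge at 5 -/
theorem edge_five_of_commute (hord : Nat.card G = 7920) {y c : G} (hyo : orderOf y = 5)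
    (hyc : Commute y c) (hc1 : c ≠ 1) (hc5 : ¬ 5 ∣ orderOf c) :
    Edge G 5 2 ∨ Edge G 5 3 ∨ Edge G 5 11 := by
  obtain ⟨p, hp, hpd, hpo⟩ := exists_prime_orderOf_pow hc1
  have hp7920 : p ∣ 7920 := by
    rw [← hord]; exact hpd.trans (orderOf_dvd_natCard c)
  have hcomm : Commute y (c ^ (orderOf c / p)) := hyc.pow_right _
  rcases prime_dvd_7920 hp hp7920 with rfl | rfl | rfl | rfl
  · left
    exact edge_of_commute (by norm_num) (by norm_num) (by norm_num) hcomm hyo hpo
  · right; left
    exact edge_of_commute (by norm_num) (by norm_num) (by norm_num) hcomm hyo hpo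
  · exact absurd hpd hc5
  · right; right
    exact edge_of_commute (by norm_num) (by norm_num) (by norm_num) hcomm hyo hpo

theorem conn_of_edges_11 (e2 : Edge G 11 2) (e3 : Edge G 11 3)
    (e5 : Edge G 5 2 ∨ Edge G 5 3 ∨ Edge G 5 11) : Conn G := by
  intro A hA
  have a2 := hA 11 2 (by norm_num) (by norm_num) e2
  have a3 := hA 11 3 (by norm_num) (by norm_num) e3
  rcases e5 with e | e | e
  · have a5 := hA 5 2 (by norm_num) (by norm_num) e
    tauto
  · have a5 := hA 5 3 (by norm_num) (by norm_num) e
    tauto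
  · have a5 := hA 5 11 (by norm_num) (by norm_num) e
    tauto

theorem conn_of_card_sylow_eq_one (hord : Nat.card G = 7920)
    (h1 : Nat.card (Sylow 11 G) = 1) : Conn G := by
  have R : Sylow 11 G := default
  obtain ⟨x, hxR, hxo, hxZ⟩ := exists_generator hord R
  have hH : Nat.card (Subgroup.normalizer ((R : Subgroup G) : Set G)) = 7920 := by
    have := card_normalizer_mul_card_sylow hord R
    rwa [h1, mul_one] at this
  have hHtop : Subgroup.normalizer ((R : Subgroup G) : Set G) = ⊤ :=
    (Subgroup.card_eq_iff_eq_top _).mp (by rw [hH, hord])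
  have hrel := relIndex_dvd_pred_of_card_prime (R : Subgroup G) (p := 11) (by norm_num)
    (card_sylow_eleven hord R)
  have hmul := card_mul_relIndex' (centralizer_le_normalizer' (R : Subgroup G))
  rw [hH] at hmul
  set C := Subgroup.centralizer ((R : Subgroup G) : Set G) with hC
  set j := C.relIndex (Subgroup.normalizer ((R : Subgroup G) : Set G)) with hj
  have hjmem : j ∈ Nat.divisors 10 := by
    rw [Nat.mem_divisors]; exact ⟨hrel, by norm_num⟩
  have hdiv10 : Nat.divisors 10 = {1, 2, 5, 10} := by decide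
  rw [hdiv10] at hjmem
  have hcases : Nat.card C = 7920 ∨ Nat.card C = 3960 ∨ Nat.card C = 1584 ∨ Nat.card C = 792 := by
    simp only [Finset.mem_insert, Finset.mem_singleton] at hjmem
    rcases hjmem with h | h | h | h <;> rw [h] at hmul <;> omega
  have e2 : Edge G 11 2 := by
    apply edge_of_dvd_card_centralizer hxR hxo Nat.prime_two (by norm_num)
    rcases hcases with h | h | h | h <;> rw [← hC, h] <;> norm_num
  have e3 : Edge G 11 3 := by
    apply edge_of_dvd_card_centralizer hxR hxo Nat.prime_three (by norm_num)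
    rcases hcases with h | h | h | h <;> rw [← hC, h] <;> norm_num
  apply conn_of_edges_11 e2 e3
  by_cases h5 : 5 ∣ Nat.card C
  · right; right
    exact (edge_of_dvd_card_centralizer hxR hxo Nat.prime_five (by norm_num) h5).symm
  · have : Fact (Nat.Prime 5) := ⟨by norm_num⟩
    obtain ⟨y, hyo⟩ := exists_prime_orderOf_dvd_card' (G := G) 5 (by rw [hord]; norm_num)
    have hnorm : ∀ z ∈ Subgroup.zpowers y, ∀ g ∈ C, z * g * z⁻¹ ∈ C := by
      intro z _ g hg
      exact conj_mem_centralizer_of_mem_normalizer (by rw [hHtop]; exact Subgroup.mem_top z) hg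
    have hnd : ¬ Nat.card (Subgroup.zpowers y) ∣ Nat.card C - 1 := by
      rw [Nat.card_zpowers, hyo]
      rcases hcases with h | h | h | h
      · exfalso; apply h5; rw [h]; norm_num
      · exfalso; apply h5; rw [h]; norm_num
      · rw [h]; norm_num
      · rw [h]; norm_num
    obtain ⟨y', hy'Z, hy'1, c, hcC, hc1, hcomm⟩ :=
      exists_commute_of_not_dvd (Subgroup.zpowers y) C hnorm hnd
    have hyy' := mem_zpowers_of_mem_zpowers_prime (by norm_num : Nat.Prime 5) hyo hy'Z hy'1
    obtain ⟨i, hi⟩ := Subgroup.mem_zpowers_iff.mp hyy'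
    have hyc : Commute y c := by
      rw [← hi]; exact hcomm.zpow_left i
    have hc5 : ¬ 5 ∣ orderOf c := by
      intro hd
      apply h5
      have h0 : orderOf c ∣ Nat.card C := by
        have := orderOf_dvd_natCard (⟨c, hcC⟩ : C)
        rwa [Subgroup.orderOf_mk] at this
      exact hd.trans h0
    exact edge_five_of_commute hord hyo hyc hc1 hc5

end

end Cfsg.Agent.Lib.Helper10.Ord7920
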