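import Mathlib
import Cfsg.Agent.Lib.Helper10.Ord7920C
import Cfsg.Agent.Lib.Helper10.Ord7920F

/-!
# Groups of order 7920 with 12 Sylow 11-subgroups
-/

set_option autoImplicit false
open scoped Pointwise

namespace Cfsg.Agent.Lib.Helper10.Ord7920

section

variable {G : Type*} [Group G] [Finite G]

/-- with 12 Sylow 11-subgroups, every element of the centralizer of `R` is the product of an
element of `R` and an element of the kernel of the action -/
theorem exists_mul_of_mem_centralizer_12 (hord : Nat.card G = 7920)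
    (h12 : Nat.card (Sylow 11 G) = 12) (R : Sylow 11 G) {x : G}
    (hxZ : Subgroup.zpowers x = (R : Subgroup G)) {c : G}
    (hc : c ∈ Subgroup.centralizer ((R : Subgroup G) : Set G)) :
    ∃ r ∈ (R : Subgroup G), r⁻¹ * c ∈ ker11 G := by
  have : Fact (Nat.Prime 11) := ⟨by norm_num⟩
  have hRcard := card_sylow_eleven hord R
  have hfix : ∀ g ∈ Subgroup.normalizer ((R : Subgroup G) : Set G), g • R = R := by
    intro g hg
    exact Sylow.smul_eq_iff_mem_normalizer.mpr hg
  obtain ⟨r, hr, hr2⟩ := perm12 (Γ := G) (Ω := Sylow 11 G) (R : Subgroup G) R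
    (by rw [h12, hRcard])
    (fun a ha b hb => commute_of_mem_centralizer hb (le_centralizer_of_zpowers hxZ ha))
    (fun r hr hr1 β hβ hfixβ => hβ (sylow_eq_of_smul_eq hord R β hr hr1 hfixβ))
    (fun r hr => hfix r (Subgroup.le_normalizer hr))
    c (fun r hr => commute_of_mem_centralizer hr hc)
    (hfix c (centralizer_le_normalizer' _ hc))
  refine ⟨r, hr, ?_⟩
  rw [mem_ker11_iff]
  intro S
  rw [mul_smul, hr2 S, inv_smul_smul]

theorem card_centralizer_le_12 (hord : Nat.card G = 7920)
    (h12 : Nat.card (Sylow 11 G) = 12) (R : Sylow 11 G) {x : G}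
    (hxZ : Subgroup.zpowers x = (R : Subgroup G)) :
    Nat.card (Subgroup.centralizer ((R : Subgroup G) : Set G)) ≤ 11 * Nat.card (ker11 G) := by
  have hRcard := card_sylow_eleven hord R
  choose f hf using fun c : Subgroup.centralizer ((R : Subgroup G) : Set G) =>
    exists_mul_of_mem_centralizer_12 hord h12 R hxZ c.2
  let φ : ↥(Subgroup.centralizer ((R : Subgroup G) : Set G)) → ↥(R : Subgroup G) × ↥(ker11 G) :=
    fun c => ((⟨f c, (hf c).1⟩ : ↥(R : Subgroup G)), (⟨(f c)⁻¹ * (c : G), (hf c).2⟩ : ↥(ker11 G)))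
  have hφ : Function.Injective φ := by
    intro c c' e
    have e1 : f c = f c' :=
      congrArg (fun z : ↥(R : Subgroup G) × ↥(ker11 G) => ((z.1 : ↥(R : Subgroup G)) : G)) e
    have e2 : (f c)⁻¹ * (c : G) = (f c')⁻¹ * (c' : G) :=
      congrArg (fun z : ↥(R : Subgroup G) × ↥(ker11 G) => ((z.2 : ↥(ker11 G)) : G)) e
    rw [e1] at e2
    exact Subtype.ext (mul_left_cancel e2)
  have := Nat.card_le_card_of_injective φ hφ
  rwa [Nat.card_prod, hRcard] at this

theorem conn_of_card_sylow_eq_12 (hord : Nat.card G = 7920)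
    (h12 : Nat.card (Sylow 11 G) = 12) : Conn G := by
  have : Fact (Nat.Prime 11) := ⟨by norm_num⟩
  have R : Sylow 11 G := default
  obtain ⟨x, hxR, hxo, hxZ⟩ := exists_generator hord R
  have hH : Nat.card (Subgroup.normalizer ((R : Subgroup G) : Set G)) = 660 := by
    have := card_normalizer_mul_card_sylow hord R
    rw [h12] at this
    omega
  have hrel := relIndex_dvd_pred_of_card_prime (R : Subgroup G) (p := 11) (by norm_num)
    (card_sylow_eleven hord R)
  have hmul := card_mul_relIndex' (centralizer_le_normalizer' (R : Subgroup G))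
  rw [hH] at hmul
  set C := Subgroup.centralizer ((R : Subgroup G) : Set G) with hC
  set j := C.relIndex (Subgroup.normalizer ((R : Subgroup G) : Set G)) with hj
  have hjmem : j ∈ Nat.divisors 10 := by
    rw [Nat.mem_divisors]; exact ⟨hrel, by norm_num⟩
  have hdiv10 : Nat.divisors 10 = {1, 2, 5, 10} := by decide
  rw [hdiv10] at hjmem
  have hcases : Nat.card C = 660 ∨ Nat.card C = 330 ∨ Nat.card C = 132 ∨ Nat.card C = 66 := by
    simp only [Finset.mem_insert, Finset.mem_singleton] at hjmem
    rcases hjmem with h | h | h | h <;> rw [h] at hmul <;> omega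
  have e2 : Edge G 11 2 := by
    apply edge_of_dvd_card_centralizer hxR hxo Nat.prime_two (by norm_num)
    rcases hcases with h | h | h | h <;> rw [← hC, h] <;> norm_num
  have e3 : Edge G 11 3 := by
    apply edge_of_dvd_card_centralizer hxR hxo Nat.prime_three (by norm_num)
    rcases hcases with h | h | h | h <;> rw [← hC, h] <;> norm_num
  apply conn_of_edges_11 e2 e3
  have hn1 : Nat.card (Sylow 11 G) ≠ 1 := by rw [h12]; norm_num
  have hKC : ker11 G ≤ C := ker11_le_centralizer hord hn1 R
  have hK11 := not_dvd_card_ker11 hord hn1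
  have hKdvd : Nat.card (ker11 G) ∣ Nat.card C := Subgroup.card_dvd_of_le hKC
  by_cases h5 : 5 ∣ Nat.card (ker11 G)
  · right; right
    exact (edge_of_dvd_card_centralizer hxR hxo Nat.prime_five (by norm_num)
      (h5.trans hKdvd)).symm
  · right; left
    have hle := card_centralizer_le_12 hord h12 R hxZ
    rw [← hC] at hle
    have hK660 : Nat.card (ker11 G) ∣ 660 := by
      rcases hcases with h | h | h | h <;> rw [h] at hKdvd
      · exact hKdvd
      · exact hKdvd.trans (by norm_num)
      · exact hKdvd.trans (by norm_num)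
      · exact hKdvd.trans (by norm_num)
    have hK12 : Nat.card (ker11 G) ∣ 12 := by
      have hcop : Nat.Coprime (Nat.card (ker11 G)) 55 := by
        have h55 : (55 : ℕ) = 5 * 11 := by norm_num
        rw [h55]
        apply Nat.Coprime.mul_right
        · exact (Nat.Coprime.symm ((Nat.Prime.coprime_iff_not_dvd (by norm_num)).mpr h5))
        · exact (Nat.Coprime.symm ((Nat.Prime.coprime_iff_not_dvd (by norm_num)).mpr hK11))
      have h660 : Nat.card (ker11 G) ∣ 12 * 55 := by norm_num; exact hK660
      exact hcop.dvd_of_dvd_mul_right h660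
    have hK6 : 6 ≤ Nat.card (ker11 G) := by
      rcases hcases with h | h | h | h <;> rw [h] at hle <;> omega
    have hKmem : Nat.card (ker11 G) ∈ Nat.divisors 12 := by
      rw [Nat.mem_divisors]; exact ⟨hK12, by norm_num⟩
    have hdiv12 : Nat.divisors 12 = {1, 2, 3, 4, 6, 12} := by decide
    rw [hdiv12] at hKmem
    simp only [Finset.mem_insert, Finset.mem_singleton] at hKmem
    have hK3 : 3 ∣ Nat.card (ker11 G) := by
      rcases hKmem with h | h | h | h | h | h <;> rw [h] at hK6 ⊢ <;> first | omega | norm_num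
    have : Fact (Nat.Prime 5) := ⟨by norm_num⟩
    have : Fact (Nat.Prime 3) := ⟨by norm_num⟩
    obtain ⟨y, hyo⟩ := exists_prime_orderOf_dvd_card' (G := G) 5 (by rw [hord]; norm_num)
    obtain ⟨g, -, hgo, hgc⟩ := exists_commute_of_normal (ker11 G) y hyo h5 hK3 (by
      intro k hk hkd
      have hk12 : 3 ^ k ∣ 12 := hkd.trans hK12
      have hk2 : k < 2 := by
        by_contra h2
        have : 3 ^ 2 ∣ 12 := (pow_dvd_pow 3 (by omega)).trans hk12
        norm_num at this
      interval_cases k
      norm_num)
    exact edge_of_commute (by norm_num) (by norm_num) (by norm_num) hgc hyo hgo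

end

end Cfsg.Agent.Lib.Helper10.Ord7920
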