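import Mathlib
import Cfsg.Agent.Lib.Helper10.Ord7920F

/-!
# Groups of order 7920 with 144 Sylow 11-subgroups that are not simple
-/

set_option autoImplicit false
open scoped Pointwise

namespace Cfsg.Agent.Lib.Helper10.Ord7920

section

variable {G : Type*} [Group G] [Finite G]

/-- a normal subgroup whose order is divisible by 11 contains every Sylow 11-subgroup -/
theorem sylow_le_of_dvd (hord : Nat.card G = 7920) (N : Subgroup G) [hN : N.Normal]
    (hd : 11 ∣ Nat.card N) (R : Sylow 11 G) : (R : Subgroup G) ≤ N := by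
  have : Fact (Nat.Prime 11) := ⟨by norm_num⟩
  obtain ⟨z, hzN, hzo⟩ := exists_mem_orderOf_eq N (by norm_num) hd
  have hZcard : Nat.card (Subgroup.zpowers z) = 11 := by rw [Nat.card_zpowers, hzo]
  have hZ : IsPGroup 11 (Subgroup.zpowers z) := IsPGroup.of_card (n := 1) (by rw [hZcard, pow_one])
  obtain ⟨S, hS⟩ := hZ.exists_le_sylow
  have hZS : Subgroup.zpowers z = (S : Subgroup G) :=
    Subgroup.eq_of_le_of_card_ge hS (by rw [hZcard, card_sylow_eleven hord S])
  have hSN : (S : Subgroup G) ≤ N := by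
    rw [← hZS, Subgroup.zpowers_le]; exact hzN
  obtain ⟨g, hg⟩ := MulAction.exists_smul_eq G S R
  intro r hr
  have h1 : r ∈ ((g • S : Sylow 11 G) : Subgroup G) := by rw [hg]; exact hr
  rw [Sylow.coe_subgroup_smul, Subgroup.mem_pointwise_smul_iff_inv_smul_mem] at h1
  have h2 : g⁻¹ * r * g ∈ (S : Subgroup G) := by
    have e : (MulAut.conj g)⁻¹ • r = g⁻¹ * r * g := by
      rw [MulAut.smul_def, ← map_inv, MulAut.conj_apply, inv_inv]
    rwa [e] at h1
  have h3 := hN.conj_mem _ (hSN h2) g
  have e2 : g * (g⁻¹ * r * g) * g⁻¹ = r := by group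
  rwa [e2] at h3

theorem conn_of_edges_5 (e2 : Edge G 5 2) (e3 : Edge G 5 3) (e11 : Edge G 5 11) : Conn G := by
  intro A hA
  have a2 := hA 5 2 (by norm_num) (by norm_num) e2
  have a3 := hA 5 3 (by norm_num) (by norm_num) e3
  have a11 := hA 5 11 (by norm_num) (by norm_num) e11
  tauto

theorem exists_normal_of_not_simple (hord : Nat.card G = 7920) (hns : ¬ IsSimpleGroup G) :
    ∃ N : Subgroup G, N.Normal ∧ N ≠ ⊥ ∧ N ≠ ⊤ := by
  by_contra hcon
  push Not at hcon
  apply hns
  have hnt : Nontrivial G := by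
    rw [← Finite.one_lt_card_iff_nontrivial, hord]; norm_num
  refine { toNontrivial := hnt, eq_bot_or_eq_top_of_normal := ?_ }
  intro N hN
  by_cases h : N = ⊥
  · exact Or.inl h
  · exact Or.inr (hcon N hN h)

/-- with 144 Sylow 11-subgroups a proper normal subgroup has order prime to 11 -/
theorem not_dvd_card_of_normal_144 (hord : Nat.card G = 7920)
    (h144 : Nat.card (Sylow 11 G) = 144) (N : Subgroup G) [hN : N.Normal] (hNtop : N ≠ ⊤) :
    ¬ 11 ∣ Nat.card N := by
  have : Fact (Nat.Prime 11) := ⟨by norm_num⟩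
  intro hd
  have R : Sylow 11 G := default
  obtain ⟨x, hxR, hxo, hxZ⟩ := exists_generator hord R
  have hRcard := card_sylow_eleven hord R
  have hH : Nat.card (Subgroup.normalizer ((R : Subgroup G) : Set G)) = 55 := by
    have := card_normalizer_mul_card_sylow hord R
    rw [h144] at this
    omega
  have hRN := sylow_le_of_dvd hord N hd R
  have hsup : Subgroup.normalizer ((R : Subgroup G) : Set G) ⊔ N = ⊤ :=
    Sylow.normalizer_sup_eq_top' R hRN
  set H := Subgroup.normalizer ((R : Subgroup G) : Set G) with hHdef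
  have hRH : (R : Subgroup G) ≤ H := Subgroup.le_normalizer
  have hRinf : (R : Subgroup G) ≤ N ⊓ H := le_inf hRN hRH
  have hd1 : Nat.card (N ⊓ H : Subgroup G) ∣ 55 := by
    rw [← hH]; exact Subgroup.card_dvd_of_le inf_le_right
  have hd2 : 11 ∣ Nat.card (N ⊓ H : Subgroup G) := by
    have := Subgroup.card_dvd_of_le hRinf
    rwa [hRcard] at this
  have hcard : Nat.card (N ⊓ H : Subgroup G) = 11 := by
    have hmem : Nat.card (N ⊓ H : Subgroup G) ∈ Nat.divisors 55 := by
      rw [Nat.mem_divisors]; exact ⟨hd1, by norm_num⟩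
    have hdiv : Nat.divisors 55 = {1, 5, 11, 55} := by decide
    rw [hdiv] at hmem
    simp only [Finset.mem_insert, Finset.mem_singleton] at hmem
    rcases hmem with h | h | h | h
    · rw [h] at hd2; norm_num at hd2
    · rw [h] at hd2; norm_num at hd2
    · exact h
    · exfalso
      apply hNtop
      have hHN : H ≤ N := by
        have : N ⊓ H = H := Subgroup.eq_of_le_of_card_ge inf_le_right (by rw [h, hH])
        rw [← this]; exact inf_le_left
      rw [← hsup]
      exact (sup_eq_right.mpr hHN).symm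
  have hinfR : N ⊓ H = (R : Subgroup G) :=
    (Subgroup.eq_of_le_of_card_ge hRinf (by rw [hcard, hRcard])).symm
  have hNC : N ⊓ H ≤ Subgroup.centralizer ((R : Subgroup G) : Set G) := by
    rw [hinfR]; exact le_centralizer_of_zpowers hxZ
  -- the order of `N`
  have hN11 : Nat.card N ≠ 11 := by
    intro h11
    have hNR : (R : Subgroup G) = N := Subgroup.eq_of_le_of_card_ge hRN (by rw [h11, hRcard])
    have htop : H = ⊤ := by
      rw [hHdef, hNR]; exact Subgroup.normalizer_eq_top_iff.mpr hN
    rw [htop, Subgroup.card_top, hord] at hH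
    norm_num at hH
  obtain ⟨m, hm⟩ := hd
  have hNdvd : Nat.card N ∣ 7920 := by rw [← hord]; exact Subgroup.card_subgroup_dvd_card N
  have hm1 : m ≠ 1 := by
    intro h; rw [h, mul_one] at hm; exact hN11 hm
  have hm720 : m ∣ 720 := by
    rw [hm] at hNdvd
    have : 11 * m ∣ 11 * 720 := by norm_num; exact hNdvd
    exact Nat.dvd_of_mul_dvd_mul_left (by norm_num) this
  set p := Nat.minFac m with hp
  have hpp : p.Prime := Nat.minFac_prime hm1
  have hpm : p ∣ m := Nat.minFac_dvd m
  have hp11 : p ≠ 11 := by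
    intro h
    have : 11 ∣ 720 := by rw [← h]; exact hpm.trans hm720
    norm_num at this
  have hpN : p ∣ Nat.card N := by rw [hm]; exact Dvd.dvd.mul_left hpm 11
  have : Fact p.Prime := ⟨hpp⟩
  obtain ⟨g, hgN, hgo, hgc⟩ := exists_commute_of_inf_normalizer_le_centralizer R N hRN x
    (hRN hxR) hxo hNC hp11 hpN (fun k hk hkd => arith11 hpp hp11 hk (hkd.trans hNdvd))
  have hgC : g ∈ Subgroup.centralizer ((R : Subgroup G) : Set G) :=
    mem_centralizer_of_commute hxZ hgc.symm
  have hgH : g ∈ H := centralizer_le_normalizer' _ hgC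
  have hgR : g ∈ (R : Subgroup G) := by rw [← hinfR]; exact ⟨hgN, hgH⟩
  have h0 : orderOf g ∣ Nat.card (R : Subgroup G) := by
    have := orderOf_dvd_natCard (⟨g, hgR⟩ : (R : Subgroup G))
    rwa [Subgroup.orderOf_mk] at this
  rw [hRcard, hgo] at h0
  exact hp11 ((Nat.prime_dvd_prime_iff_eq hpp (by norm_num)).mp h0)

theorem conn_of_card_sylow_eq_144 (hord : Nat.card G = 7920)
    (h144 : Nat.card (Sylow 11 G) = 144) (hns : ¬ IsSimpleGroup G) : Conn G := by
  have : Fact (Nat.Prime 11) := ⟨by norm_num⟩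
  obtain ⟨N, hN, hNbot, hNtop⟩ := exists_normal_of_not_simple hord hns
  have hnd := not_dvd_card_of_normal_144 hord h144 N hNtop
  have R : Sylow 11 G := default
  obtain ⟨x, hxR, hxo, hxZ⟩ := exists_generator hord R
  have hH : Nat.card (Subgroup.normalizer ((R : Subgroup G) : Set G)) = 55 := by
    have := card_normalizer_mul_card_sylow hord R
    rw [h144] at this
    omega
  have hNdvd : Nat.card N ∣ 7920 := by rw [← hord]; exact Subgroup.card_subgroup_dvd_card N
  have hprime : ∀ p : ℕ, p.Prime → p ∣ Nat.card N →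
      p = 5 ∧ ∃ g ∈ N, orderOf g = 5 ∧ Commute x g := by
    intro p hp hpN
    have hp11 : p ≠ 11 := by
      rintro rfl; exact hnd hpN
    have : Fact p.Prime := ⟨hp⟩
    obtain ⟨g, hgN, hgo, hgc⟩ := exists_commute_of_normal N x hxo hnd hpN
      (fun k hk hkd => arith11 hp hp11 hk (hkd.trans hNdvd))
    have hgC : g ∈ Subgroup.centralizer ((R : Subgroup G) : Set G) :=
      mem_centralizer_of_commute hxZ hgc.symm
    have hgH := centralizer_le_normalizer' _ hgC
    have h55 : p ∣ 55 := by
      rw [← hH, ← hgo]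
      have := orderOf_dvd_natCard (⟨g, hgH⟩ : Subgroup.normalizer ((R : Subgroup G) : Set G))
      rwa [Subgroup.orderOf_mk] at this
    have hp5 : p = 5 := by
      have h55' : p ∣ 5 * 11 := by norm_num; exact h55
      rcases (Nat.Prime.dvd_mul hp).mp h55' with h | h
      · exact (Nat.prime_dvd_prime_iff_eq hp (by norm_num)).mp h
      · exact absurd ((Nat.prime_dvd_prime_iff_eq hp (by norm_num)).mp h) hp11
    subst hp5
    exact ⟨rfl, g, hgN, hgo, hgc⟩
  have hcardN : Nat.card N = 5 := by
    have hne1 : Nat.card N ≠ 1 := by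
      intro h; exact hNbot (Subgroup.card_eq_one.mp h)
    have hcop : Nat.Coprime (Nat.card N) 1584 := by
      apply Nat.coprime_of_dvd
      intro k hk hkN hk2
      have := (hprime k hk hkN).1
      subst this
      norm_num at hk2
    have h2 : Nat.card N ∣ 5 * 1584 := by norm_num; exact hNdvd
    have h5 : Nat.card N ∣ 5 := hcop.dvd_of_dvd_mul_right h2
    rcases (Nat.dvd_prime (by norm_num)).mp h5 with h | h
    · exact absurd h hne1
    · exact h
  obtain ⟨-, g, hgN, hgo, hgc⟩ := hprime 5 (by norm_num) (by rw [hcardN])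
  have e11 : Edge G 5 11 :=
    edge_of_commute (by norm_num) (by norm_num) (by norm_num) hgc.symm hgo hxo
  have hrel := relIndex_dvd_pred_of_card_prime N (p := 5) (by norm_num) hcardN
  have hmul := card_mul_relIndex' (centralizer_le_normalizer' N)
  have hNtop' : Subgroup.normalizer (N : Set G) = ⊤ := Subgroup.normalizer_eq_top_iff.mpr hN
  rw [hNtop', Subgroup.card_top, hord] at hmul
  rw [hNtop'] at hrel
  set CN := Subgroup.centralizer (N : Set G) with hCN
  set j := CN.relIndex ⊤ with hj
  have hjmem : j ∈ Nat.divisors 4 := by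
    rw [Nat.mem_divisors]; exact ⟨hrel, by norm_num⟩
  have hdiv4 : Nat.divisors 4 = {1, 2, 4} := by decide
  rw [hdiv4] at hjmem
  have hcases : Nat.card CN = 7920 ∨ Nat.card CN = 3960 ∨ Nat.card CN = 1980 := by
    simp only [Finset.mem_insert, Finset.mem_singleton] at hjmem
    rcases hjmem with h | h | h <;> rw [h] at hmul <;> omega
  have h2 : 2 ∣ Nat.card CN := by
    rcases hcases with h | h | h <;> rw [h] <;> norm_num
  have h3 : 3 ∣ Nat.card CN := by
    rcases hcases with h | h | h <;> rw [h] <;> norm_num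
  obtain ⟨u2, hu2, hu2o⟩ := exists_mem_orderOf_eq CN Nat.prime_two h2
  obtain ⟨u3, hu3, hu3o⟩ := exists_mem_orderOf_eq CN Nat.prime_three h3
  have c2 : Commute g u2 := (Subgroup.mem_centralizer_iff.mp hu2) g hgN
  have c3 : Commute g u3 := (Subgroup.mem_centralizer_iff.mp hu3) g hgN
  exact conn_of_edges_5
    (edge_of_commute (by norm_num) (by norm_num) (by norm_num) c2 hgo hu2o)
    (edge_of_commute (by norm_num) (by norm_num) (by norm_num) c3 hgo hu3o) e11

end

end Cfsg.Agent.Lib.Helper10.Ord7920
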