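import Mathlib
import Cfsg.Agent.Lib.Helper10.PGroup
import Cfsg.Agent.Lib.Helper10.Ord7920C
import Cfsg.Agent.Lib.Helper10.Ord7920G

/-!
# Groups of order 7920 with 45 Sylow 11-subgroups: preparations
-/

set_option autoImplicit false
open scoped Pointwise

namespace Cfsg.Agent.Lib.Helper10.Ord7920

section

variable {G : Type*} [Group G] [Finite G]

theorem card_sylow_of (hord : Nat.card G = 7920) {p k : ℕ} [hp : Fact p.Prime] (P : Sylow p G)
    (hk : p ^ k ∣ 7920) (hk' : ¬ p ^ (k + 1) ∣ 7920) : Nat.card (P : Subgroup G) = p ^ k := by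
  obtain ⟨n, hn⟩ := IsPGroup.iff_card.mp P.2
  have hdvd : Nat.card (P : Subgroup G) ∣ 7920 := by
    rw [← hord]; exact Subgroup.card_subgroup_dvd_card _
  have hidx : ¬ p ∣ (P : Subgroup G).index := P.not_dvd_index
  have hmul : Nat.card (P : Subgroup G) * (P : Subgroup G).index = 7920 := by
    rw [Subgroup.card_mul_index, hord]
  rw [hn] at hdvd hmul ⊢
  have hnk : n ≤ k := by
    by_contra h
    exact hk' ((pow_dvd_pow p (by omega)).trans hdvd)
  rcases Nat.lt_or_ge n k with hlt | hge
  · exfalso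
    apply hidx
    have h1 : p ^ (n + 1) ∣ p ^ n * (P : Subgroup G).index := by
      rw [hmul]; exact (pow_dvd_pow p (by omega)).trans hk
    rw [pow_succ] at h1
    exact Nat.dvd_of_mul_dvd_mul_left (pow_pos hp.out.pos n) h1
  · have : n = k := le_antisymm hnk hge
    rw [this]

theorem conn_of_edges_2 (e3 : Edge G 2 3) (e5 : Edge G 2 5) (e11 : Edge G 2 11) : Conn G := by
  intro A hA
  have a3 := hA 2 3 (by norm_num) (by norm_num) e3
  have a5 := hA 2 5 (by norm_num) (by norm_num) e5
  have a11 := hA 2 11 (by norm_num) (by norm_num) e11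
  tauto

/-- a nonidentity element of a group whose order divides a power of a prime has a power of
that prime order -/
theorem exists_pow_orderOf_eq_prime {g : G} {p n : ℕ} (hp : p.Prime) (hg : g ≠ 1)
    (hd : orderOf g ∣ p ^ n) : orderOf (g ^ (orderOf g / p)) = p := by
  have hpo : p ∣ orderOf g := by
    obtain ⟨i, -, hi2⟩ := (Nat.dvd_prime_pow hp).mp hd
    rcases Nat.eq_zero_or_pos i with h0 | h0
    · exfalso
      rw [h0, pow_zero] at hi2
      exact hg (orderOf_eq_one_iff.mp hi2)
    · rw [hi2]; exact dvd_pow_self p h0.ne'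
  exact orderOf_pow_orderOf_div (orderOf_pos g).ne' hpo

theorem orderOf_dvd_card_of_mem {K : Subgroup G} {g : G} (hg : g ∈ K) :
    orderOf g ∣ Nat.card K := by
  have := orderOf_dvd_natCard (⟨g, hg⟩ : K)
  rwa [Subgroup.orderOf_mk] at this

/-- a nontrivial normal 2-subgroup of order at most 8 joins 2 to 3 and 5 -/
theorem edges_of_normal_two_subgroup (hord : Nat.card G = 7920) (K : Subgroup G) [hK : K.Normal]
    (hcard : Nat.card K = 2 ∨ Nat.card K = 4 ∨ Nat.card K = 8) :
    Edge G 3 2 ∧ Edge G 5 2 := by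
  have hK8 : Nat.card K ∣ 2 ^ 3 := by
    rcases hcard with h | h | h <;> rw [h] <;> norm_num
  have hnorm : ∀ (Q : Subgroup G), ∀ y ∈ Q, ∀ g ∈ K, y * g * y⁻¹ ∈ K :=
    fun Q y _ g hg => hK.conj_mem g hg y
  constructor
  · have : Fact (Nat.Prime 3) := ⟨by norm_num⟩
    have P : Sylow 3 G := default
    have hP : Nat.card (P : Subgroup G) = 3 ^ 2 :=
      card_sylow_of hord P (by norm_num) (by norm_num)
    have hnd : ¬ Nat.card (P : Subgroup G) ∣ Nat.card K - 1 := by
      rw [hP]
      rcases hcard with h | h | h <;> rw [h] <;> norm_num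
    obtain ⟨y, hyP, hy1, g, hgK, hg1, hcomm⟩ :=
      exists_commute_of_not_dvd (P : Subgroup G) K (hnorm _) hnd
    have hy3 := exists_pow_orderOf_eq_prime (p := 3) (n := 2) (by norm_num) hy1
      (by rw [← hP]; exact orderOf_dvd_card_of_mem hyP)
    have hg2 := exists_pow_orderOf_eq_prime (p := 2) (n := 3) (by norm_num) hg1
      ((orderOf_dvd_card_of_mem hgK).trans hK8)
    exact edge_of_commute (by norm_num) (by norm_num) (by norm_num)
      ((hcomm.pow_left _).pow_right _) hy3 hg2
  · have : Fact (Nat.Prime 5) := ⟨by norm_num⟩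
    obtain ⟨y, hyo⟩ := exists_prime_orderOf_dvd_card' (G := G) 5 (by rw [hord]; norm_num)
    have hnd : ¬ Nat.card (Subgroup.zpowers y) ∣ Nat.card K - 1 := by
      rw [Nat.card_zpowers, hyo]
      rcases hcard with h | h | h <;> rw [h] <;> norm_num
    obtain ⟨y', hy'Z, hy'1, g, hgK, hg1, hcomm⟩ :=
      exists_commute_of_not_dvd (Subgroup.zpowers y) K (hnorm _) hnd
    have hyy' := mem_zpowers_of_mem_zpowers_prime (by norm_num : Nat.Prime 5) hyo hy'Z hy'1
    obtain ⟨i, hi⟩ := Subgroup.mem_zpowers_iff.mp hyy'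
    have hyc : Commute y g := by
      rw [← hi]; exact hcomm.zpow_left i
    have hg2 := exists_pow_orderOf_eq_prime (p := 2) (n := 3) (by norm_num) hg1
      ((orderOf_dvd_card_of_mem hgK).trans hK8)
    exact edge_of_commute (by norm_num) (by norm_num) (by norm_num)
      (hyc.pow_right _) hyo hg2

/-- a normal subgroup containing `R` and meeting its normalizer in `R` only is impossible unless
`R` is normal -/
theorem false_of_inf_normalizer_eq (hord : Nat.card G = 7920) (R : Sylow 11 G)
    (N : Subgroup G) [hN : N.Normal] (hRN : (R : Subgroup G) ≤ N)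
    (hinf : N ⊓ Subgroup.normalizer ((R : Subgroup G) : Set G) = (R : Subgroup G))
    (hH : Nat.card (Subgroup.normalizer ((R : Subgroup G) : Set G)) ≠ 7920) : False := by
  have : Fact (Nat.Prime 11) := ⟨by norm_num⟩
  obtain ⟨x, hxR, hxo, hxZ⟩ := exists_generator hord R
  have hRcard := card_sylow_eleven hord R
  set H := Subgroup.normalizer ((R : Subgroup G) : Set G) with hHdef
  have hNC : N ⊓ H ≤ Subgroup.centralizer ((R : Subgroup G) : Set G) := by
    rw [hinf]; exact le_centralizer_of_zpowers hxZ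
  have hd : 11 ∣ Nat.card N := by
    rw [← hRcard]; exact Subgroup.card_dvd_of_le hRN
  have hN11 : Nat.card N ≠ 11 := by
    intro h11
    have hNR : (R : Subgroup G) = N := Subgroup.eq_of_le_of_card_ge hRN (by rw [h11, hRcard])
    have htop : H = ⊤ := by
      rw [hHdef, hNR]; exact Subgroup.normalizer_eq_top_iff.mpr hN
    rw [htop, Subgroup.card_top, hord] at hH
    exact hH rfl
  obtain ⟨m, hm⟩ := hd
  have hNdvd : Nat.card N ∣ 7920 := by rw [← hord]; exact Subgroup.card_subgroup_dvd_card N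
  have hm1 : m ≠ 1 := by
    intro h; rw [h, mul_one] at hm; exact hN11 hm
  have hm720 : m ∣ 720 := by
    rw [hm] at hNdvd
    have : 11 * m ∣ 11 * 720 := by norm_num; exact hNdvd
    exact Nat.dvd_of_mul_dvd_mul_left (by norm_num) this
  set p := Nat.minFac m with hp
  have hpp : p.Prime := Nat.minFac_prime hm1
  have hpm : p ∣ m := Nat.minFac_dvd m
  have hp11 : p ≠ 11 := by
    intro h
    have : 11 ∣ 720 := by rw [← h]; exact hpm.trans hm720
    norm_num at this
  have hpN : p ∣ Nat.card N := by rw [hm]; exact Dvd.dvd.mul_left hpm 11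
  have : Fact p.Prime := ⟨hpp⟩
  obtain ⟨g, hgN, hgo, hgc⟩ := exists_commute_of_inf_normalizer_le_centralizer R N hRN x
    (hRN hxR) hxo hNC hp11 hpN (fun k hk hkd => arith11 hpp hp11 hk (hkd.trans hNdvd))
  have hgC : g ∈ Subgroup.centralizer ((R : Subgroup G) : Set G) :=
    mem_centralizer_of_commute hxZ hgc.symm
  have hgH : g ∈ H := centralizer_le_normalizer' _ hgC
  have hgR : g ∈ (R : Subgroup G) := by rw [← hinf]; exact ⟨hgN, hgH⟩
  have h0 : orderOf g ∣ Nat.card (R : Subgroup G) := orderOf_dvd_card_of_mem hgR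
  rw [hRcard, hgo] at h0
  exact hp11 ((Nat.prime_dvd_prime_iff_eq hpp (by norm_num)).mp h0)

end

end Cfsg.Agent.Lib.Helper10.Ord7920
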