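import Mathlib
import Cfsg.Agent.Lib.Helper10.Ord7920I

/-!
# Groups of order 7920 with 45 Sylow 11-subgroups: the isolated involution
-/

set_option autoImplicit false
open scoped Pointwise

namespace Cfsg.Agent.Lib.Helper10.Ord7920

section

variable {G : Type*} [Group G] [Finite G]

/-- a Sylow 2-subgroup inside a subgroup whose order is divisible by 16 -/
theorem exists_sylow_two_le (hord : Nat.card G = 7920) (H : Subgroup G)
    (hH : 2 ^ 4 ∣ Nat.card H) : ∃ T : Sylow 2 G, (T : Subgroup G) ≤ H := by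
  have : Fact (Nat.Prime 2) := ⟨by norm_num⟩
  obtain ⟨T0, hT0⟩ := Sylow.exists_subgroup_card_pow_prime (G := H) 2 hH
  set T1 : Subgroup G := T0.map H.subtype with hT1
  have hT1card : Nat.card T1 = 2 ^ 4 := by
    rw [← hT0]
    exact Nat.card_congr (T0.equivMapOfInjective H.subtype H.subtype_injective).symm.toEquiv
  have hT1p : IsPGroup 2 T1 := IsPGroup.of_card hT1card
  obtain ⟨T, hT⟩ := hT1p.exists_le_sylow
  have hTcard : Nat.card (T : Subgroup G) = 2 ^ 4 :=
    card_sylow_of hord T (by norm_num) (by norm_num)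
  have heq : T1 = (T : Subgroup G) := Subgroup.eq_of_le_of_card_ge hT (by rw [hTcard, hT1card])
  refine ⟨T, ?_⟩
  rw [← heq]
  exact Subgroup.map_subtype_le T0

/-- in a 2-subgroup `T`, a nontrivial subgroup `Q ≤ T` normalized by `T` contains an involution
commuting with all of `T` -/
theorem exists_central_involution {T Q : Subgroup G} (hT : IsPGroup 2 T) (hQT : Q ≤ T)
    (hnorm : ∀ z ∈ T, ∀ g ∈ Q, z * g * z⁻¹ ∈ Q) (hQ : Q ≠ ⊥) :
    ∃ t ∈ Q, orderOf t = 2 ∧ ∀ z ∈ T, Commute t z := by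
  have : Fact (Nat.Prime 2) := ⟨by norm_num⟩
  have hT' : IsPGroup 2 (T : Type _) := hT
  have hnormal : (Q.subgroupOf T).Normal := by
    constructor
    intro n hn z
    rw [Subgroup.mem_subgroupOf] at hn ⊢
    exact hnorm z z.2 n hn
  have hne : Q.subgroupOf T ≠ ⊥ := by
    intro h
    apply hQ
    rw [Subgroup.subgroupOf_eq_bot] at h
    rw [← inf_of_le_left hQT]
    exact disjoint_iff.mp h
  have hcen := Cfsg.Agent.Lib.Helper10.normal_inf_center_ne_bot hT' (Q.subgroupOf T) hne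
  obtain ⟨t0, ht0⟩ := (Subgroup.ne_bot_iff_exists_ne_one).mp hcen
  have ht0Q : ((t0 : T) : G) ∈ Q := (Subgroup.mem_inf.mp t0.2).1
  have ht0c : ∀ z ∈ T, Commute ((t0 : T) : G) z := by
    intro z hz
    have h1 := (Subgroup.mem_center_iff.mp (Subgroup.mem_inf.mp t0.2).2) ⟨z, hz⟩
    have h2 := congrArg Subtype.val h1
    exact h2.symm
  have ht01 : ((t0 : T) : G) ≠ 1 := by
    intro e
    apply ht0
    apply Subtype.ext
    apply Subtype.ext
    exact e
  obtain ⟨n, hn⟩ := IsPGroup.iff_card.mp hT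
  have hd : orderOf ((t0 : T) : G) ∣ 2 ^ n := by
    rw [← hn]; exact orderOf_dvd_card_of_mem (t0 : T).2
  refine ⟨((t0 : T) : G) ^ (orderOf ((t0 : T) : G) / 2), Q.pow_mem ht0Q _,
    exists_pow_orderOf_eq_prime (by norm_num) ht01 hd, ?_⟩
  intro z hz
  exact (ht0c z hz).pow_left _

end

end Cfsg.Agent.Lib.Helper10.Ord7920
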