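import Mathlib
import Cfsg.Agent.Lib.Helper10.Ord7920J

/-!
# Groups of order 7920 with 45 Sylow 11-subgroups: the isolated involution (continued)
-/

set_option autoImplicit false
open scoped Pointwise

namespace Cfsg.Agent.Lib.Helper10.Ord7920

section

variable {G : Type*} [Group G] [Finite G]

/-- when the action on the 45 Sylow 11-subgroups is faithful and `|C_G(R)| = 88`, a Sylow
2-subgroup contains an involution none of whose other conjugates lies in it -/
theorem exists_isolated_involution (hord : Nat.card G = 7920)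
    (h45 : Nat.card (Sylow 11 G) = 45) (hK : ker11 G = ⊥) (R : Sylow 11 G)
    (hC : Nat.card (Subgroup.centralizer ((R : Subgroup G) : Set G)) = 88) :
    ∃ (T : Sylow 2 G) (t : G), orderOf t = 2 ∧ t ∈ T ∧
      ∀ g : G, g * t * g⁻¹ ∈ T → g * t * g⁻¹ = t := by
  have : Fact (Nat.Prime 11) := ⟨by norm_num⟩
  have : Fact (Nat.Prime 2) := ⟨by norm_num⟩
  obtain ⟨x, hxR, hxo, hxZ⟩ := exists_generator hord R
  have hRcard := card_sylow_eleven hord R
  have hH : Nat.card (Subgroup.normalizer ((R : Subgroup G) : Set G)) = 176 := by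
    have := card_normalizer_mul_card_sylow hord R
    rw [h45] at this
    omega
  set H := Subgroup.normalizer ((R : Subgroup G) : Set G) with hHdef
  set C := Subgroup.centralizer ((R : Subgroup G) : Set G) with hCdef
  have hCH : C ≤ H := centralizer_le_normalizer' _
  obtain ⟨T, hTH⟩ := exists_sylow_two_le hord H (by rw [hH]; norm_num)
  have hTcard : Nat.card (T : Subgroup G) = 2 ^ 4 :=
    card_sylow_of hord T (by norm_num) (by norm_num)
  have hfixH : ∀ g ∈ H, g • R = R := fun g hg => Sylow.smul_eq_iff_mem_normalizer.mpr hg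
  -- the subgroup `Q = T ⊓ C`
  set Q : Subgroup G := (T : Subgroup G) ⊓ C with hQdef
  have hrelC : C.relIndex H = 2 := by
    have := card_mul_relIndex' hCH
    rw [hC, hH] at this
    omega
  have hQcard : Nat.card Q = 8 := by
    have h1 : Nat.card Q ∣ 16 := by
      have := Subgroup.card_dvd_of_le (inf_le_left : Q ≤ (T : Subgroup G))
      rw [hTcard] at this
      exact this
    have h2 : Nat.card Q ∣ 88 := by
      rw [← hC]; exact Subgroup.card_dvd_of_le inf_le_right
    have h3 : Nat.card Q ∣ 8 := by
      have := Nat.dvd_gcd h1 h2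
      norm_num at this
      exact this
    have h4 : Q.relIndex (T : Subgroup G) = C.relIndex (T : Subgroup G) :=
      Subgroup.inf_relIndex_left (T : Subgroup G) C
    have h5 : C.relIndex (T : Subgroup G) ≤ 2 :=
      (Subgroup.relIndex_le_of_le_right hTH (by rw [hrelC]; norm_num)).trans (le_of_eq hrelC)
    have h6 : Nat.card Q * C.relIndex (T : Subgroup G) = 16 := by
      have h6' := card_mul_relIndex' (inf_le_left : Q ≤ (T : Subgroup G))
      rw [hTcard, h4] at h6'
      have h16 : (2 : ℕ) ^ 4 = 16 := by norm_num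
      rw [h16] at h6'
      exact h6'
    have h7 : 8 ≤ Nat.card Q := by
      by_contra hlt
      have : Nat.card Q * C.relIndex (T : Subgroup G) ≤ 7 * 2 :=
        Nat.mul_le_mul (by omega) h5
      omega
    exact le_antisymm (Nat.le_of_dvd (by norm_num) h3) h7
  have hQne : Q ≠ ⊥ := by
    intro h
    rw [h, Subgroup.card_bot] at hQcard
    norm_num at hQcard
  have hnormQ : ∀ z ∈ (T : Subgroup G), ∀ g ∈ Q, z * g * z⁻¹ ∈ Q := by
    intro z hz g hg
    refine ⟨?_, conj_mem_centralizer_of_mem_normalizer (hTH hz) hg.2⟩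
    exact (T : Subgroup G).mul_mem ((T : Subgroup G).mul_mem hz hg.1) ((T : Subgroup G).inv_mem hz)
  obtain ⟨t, htQ, hto, htc⟩ := exists_central_involution T.2 inf_le_left hnormQ hQne
  have htT : t ∈ (T : Subgroup G) := htQ.1
  have htC : t ∈ C := htQ.2
  have ht1 : t ≠ 1 := by
    intro e; rw [e, orderOf_one] at hto; norm_num at hto
  -- `H` centralizes `t`
  have hsup : (R : Subgroup G) ⊔ (T : Subgroup G) = H := by
    apply Subgroup.eq_of_le_of_card_ge (sup_le Subgroup.le_normalizer hTH)
    have h1 : 11 ∣ Nat.card ((R : Subgroup G) ⊔ (T : Subgroup G) : Subgroup G) := by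
      have := Subgroup.card_dvd_of_le (le_sup_left : (R : Subgroup G) ≤ (R : Subgroup G) ⊔ T)
      rwa [hRcard] at this
    have h2 : 16 ∣ Nat.card ((R : Subgroup G) ⊔ (T : Subgroup G) : Subgroup G) := by
      have := Subgroup.card_dvd_of_le (le_sup_right : (T : Subgroup G) ≤ (R : Subgroup G) ⊔ T)
      rw [hTcard] at this
      exact this
    have h3 : 11 * 16 ∣ Nat.card ((R : Subgroup G) ⊔ (T : Subgroup G) : Subgroup G) :=
      Nat.Coprime.mul_dvd_of_dvd_of_dvd (by norm_num) h1 h2
    rw [hH]
    exact Nat.le_of_dvd Nat.card_pos h3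
  have hHt : ∀ g ∈ H, Commute t g := by
    have hle : H ≤ Subgroup.centralizer ({t} : Set G) := by
      rw [← hsup]
      apply sup_le
      · intro r hr
        rw [Subgroup.mem_centralizer_iff]
        intro h hh
        rw [Set.mem_singleton_iff] at hh
        rw [hh]
        exact (commute_of_mem_centralizer hr htC).eq
      · intro z hz
        rw [Subgroup.mem_centralizer_iff]
        intro h hh
        rw [Set.mem_singleton_iff] at hh
        rw [hh]
        exact (htc z hz).eq
    intro g hg
    have := (Subgroup.mem_centralizer_iff.mp (hle hg)) t (Set.mem_singleton t)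
    exact this
  -- the permutation lemma
  have hP : P45 (↥(R : Subgroup G)) (↥Q) (R : Sylow 11 G) :=
    { comm := by
        intro r q β
        change (r : G) • (q : G) • β = (q : G) • (r : G) • β
        rw [← mul_smul, ← mul_smul]
        have := commute_of_mem_centralizer r.2 q.2.2
        rw [this.eq]
      cardΩ := h45
      cardR := hRcard
      cardQ := hQcard
      fixR := fun r => hfixH _ (Subgroup.le_normalizer r.2)
      fixQ := fun q => hfixH _ (hCH q.2.2)
      free := by
        intro r hr1 β hβ hfix
        apply hβ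
        exact sylow_eq_of_smul_eq hord R β r.2 (fun e => hr1 (Subtype.ext e)) hfix
      faith := by
        intro q hq
        have hmem : (q : G) ∈ ker11 G := mem_ker11_iff.mpr hq
        rw [hK, Subgroup.mem_bot] at hmem
        exact Subtype.ext hmem }
  have hfixonly : ∀ β : Sylow 11 G, t • β = β → β = R := by
    intro β hβ
    refine hP.central_fix ⟨t, htQ⟩ (fun e => ht1 (congrArg Subtype.val e)) ?_ β hβ
    intro q
    have := htc (q : G) q.2.1
    exact Subtype.ext this.eq
  refine ⟨T, t, hto, htT, ?_⟩
  intro g hg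
  have h1 : (g * t * g⁻¹) • R = R := hfixH _ (hTH hg)
  have h2 : t • (g⁻¹ • R) = g⁻¹ • R := by
    have := congrArg (fun S : Sylow 11 G => g⁻¹ • S) h1
    simp only [mul_smul, inv_smul_smul] at this
    exact this
  have h3 : g⁻¹ • R = R := hfixonly _ h2
  have h4 : g⁻¹ ∈ H := Sylow.smul_eq_iff_mem_normalizer.mp h3
  have h5 : g ∈ H := by
    have := H.inv_mem h4
    rwa [inv_inv] at this
  have h6 := hHt g h5
  rw [← h6.eq, mul_inv_cancel_right]

end

end Cfsg.Agent.Lib.Helper10.Ord7920
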