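import Mathlib
import Cfsg.Agent.S0215
import Cfsg.Agent.Lib.Helper10.Ord7920H
import Cfsg.Agent.Lib.Helper10.Ord7920K

/-!
# Groups of order 7920: 45 Sylow 11-subgroups, and the final assembly
-/

set_option autoImplicit false
open scoped Pointwise

namespace Cfsg.Agent.Lib.Helper10.Ord7920

section

variable {G : Type*} [Group G] [Finite G]

theorem conn_of_card_sylow_eq_45 (hord : Nat.card G = 7920)
    (h45 : Nat.card (Sylow 11 G) = 45) : Conn G := by
  have : Fact (Nat.Prime 11) := ⟨by norm_num⟩
  have R : Sylow 11 G := default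
  obtain ⟨x, hxR, hxo, hxZ⟩ := exists_generator hord R
  have hRcard := card_sylow_eleven hord R
  have hH : Nat.card (Subgroup.normalizer ((R : Subgroup G) : Set G)) = 176 := by
    have := card_normalizer_mul_card_sylow hord R
    rw [h45] at this
    omega
  have hrel := relIndex_dvd_pred_of_card_prime (R : Subgroup G) (p := 11) (by norm_num) hRcard
  have hmul := card_mul_relIndex' (centralizer_le_normalizer' (R : Subgroup G))
  rw [hH] at hmul
  set H := Subgroup.normalizer ((R : Subgroup G) : Set G) with hHdef
  set C := Subgroup.centralizer ((R : Subgroup G) : Set G) with hCdef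
  set j := C.relIndex H with hj
  have hj12 : j = 1 ∨ j = 2 := by
    have h1 : j ∣ 176 := Dvd.intro_left _ hmul
    have h2 : j ∣ Nat.gcd 10 176 := Nat.dvd_gcd hrel h1
    have h3 : Nat.gcd 10 176 = 2 := by norm_num
    rw [h3] at h2
    rcases (Nat.dvd_prime Nat.prime_two).mp h2 with h | h
    · exact Or.inl h
    · exact Or.inr h
  have hC88 : Nat.card C = 88 := by
    rcases hj12 with h | h
    · exfalso
      rw [h, mul_one] at hmul
      have hCH : C = H :=
        Subgroup.eq_of_le_of_card_ge (centralizer_le_normalizer' _) (by rw [hmul, hH])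
      have hNC : H ≤ C := by rw [hCH]
      have : Fact (Nat.Prime 3) := ⟨by norm_num⟩
      obtain ⟨g, hgo, hgc⟩ := exists_commute_of_normalizer_le_centralizer R x hxo hNC
        (p := 3) (by norm_num) (by rw [hord]; norm_num)
        (fun k hk hkd => arith11 (by norm_num) (by norm_num) hk (by rwa [hord] at hkd))
      have hgC : g ∈ C := mem_centralizer_of_commute hxZ hgc.symm
      have h3 : 3 ∣ Nat.card C := by
        rw [← hgo]; exact orderOf_dvd_card_of_mem hgC
      rw [hmul] at h3
      norm_num at h3
    · rw [h] at hmul; omega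
  have e2 : Edge G 11 2 :=
    edge_of_dvd_card_centralizer hxR hxo Nat.prime_two (by norm_num)
      (by rw [← hCdef, hC88]; norm_num)
  have hn1 : Nat.card (Sylow 11 G) ≠ 1 := by rw [h45]; norm_num
  have hKC : ker11 G ≤ C := ker11_le_centralizer hord hn1 R
  have hK11 := not_dvd_card_ker11 hord hn1
  have hK8 : Nat.card (ker11 G) ∣ 8 := by
    have h1 : Nat.card (ker11 G) ∣ 8 * 11 := by
      have := Subgroup.card_dvd_of_le hKC
      rw [hC88] at this
      exact this
    have hcop : Nat.Coprime (Nat.card (ker11 G)) 11 :=
      (Nat.Coprime.symm ((Nat.Prime.coprime_iff_not_dvd (by norm_num)).mpr hK11))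
    exact hcop.dvd_of_dvd_mul_right h1
  by_cases hK : ker11 G = ⊥
  · obtain ⟨T, t, hto, htT, hiso⟩ := exists_isolated_involution hord h45 hK R hC88
    obtain ⟨N, hN, hodd, hcomm⟩ := Cfsg.Agent.S0215.result T t hto htT hiso
    have hNbot : N = ⊥ := by
      by_contra hne
      have hNdvd : Nat.card N ∣ 7920 := by
        rw [← hord]; exact Subgroup.card_subgroup_dvd_card N
      by_cases hd : 11 ∣ Nat.card N
      · have hRN := sylow_le_of_dvd hord N hd R
        have hRinf : (R : Subgroup G) ≤ N ⊓ H := le_inf hRN Subgroup.le_normalizer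
        have hinf : N ⊓ H = (R : Subgroup G) := by
          have h1 : Nat.card (N ⊓ H : Subgroup G) ∣ 16 * 11 := by
            have := Subgroup.card_dvd_of_le (inf_le_right : N ⊓ H ≤ H)
            rw [hH] at this
            exact this
          have h2 : Nat.card (N ⊓ H : Subgroup G) ∣ Nat.card N :=
            Subgroup.card_dvd_of_le inf_le_left
          have hodd' : Odd (Nat.card (N ⊓ H : Subgroup G)) := hodd.of_dvd_nat h2
          have hcop : Nat.Coprime (Nat.card (N ⊓ H : Subgroup G)) 16 := by
            have : Nat.Coprime (Nat.card (N ⊓ H : Subgroup G)) 2 :=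
              Nat.Coprime.symm (Nat.coprime_two_left.mpr hodd')
            exact Nat.Coprime.pow_right 4 this
          have h3 : Nat.card (N ⊓ H : Subgroup G) ∣ 11 := hcop.dvd_of_dvd_mul_left h1
          have h4 : Nat.card (N ⊓ H : Subgroup G) ≤ 11 := Nat.le_of_dvd (by norm_num) h3
          exact (Subgroup.eq_of_le_of_card_ge hRinf (by rw [hRcard]; exact h4)).symm
        exact false_of_inf_normalizer_eq hord R N hRN hinf (by rw [hH]; norm_num)
      · have hc1 : Nat.card N ≠ 1 := fun h => hne (Subgroup.card_eq_one.mp h)
        set p := Nat.minFac (Nat.card N) with hp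
        have hpp : p.Prime := Nat.minFac_prime hc1
        have hpN : p ∣ Nat.card N := Nat.minFac_dvd _
        have hp11 : p ≠ 11 := by
          intro h; rw [h] at hpN; exact hd hpN
        have hp2 : p ≠ 2 := by
          intro h
          rw [h] at hpN
          have := hodd.of_dvd_nat hpN
          norm_num at this
        have : Fact p.Prime := ⟨hpp⟩
        obtain ⟨g, -, hgo, hgc⟩ := exists_commute_of_normal N x hxo hd hpN
          (fun k hk hkd => arith11 hpp hp11 hk (hkd.trans hNdvd))
        have hgC : g ∈ C := mem_centralizer_of_commute hxZ hgc.symm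
        have h88 : p ∣ 2 ^ 3 * 11 := by
          have : p ∣ Nat.card C := by
            rw [← hgo]; exact orderOf_dvd_card_of_mem hgC
          rw [hC88] at this
          exact this
        rcases (Nat.Prime.dvd_mul hpp).mp h88 with h | h
        · exact hp2 ((Nat.prime_dvd_prime_iff_eq hpp Nat.prime_two).mp (hpp.dvd_of_dvd_pow h))
        · exact hp11 ((Nat.prime_dvd_prime_iff_eq hpp (by norm_num)).mp h)
    have htcen : ∀ g : G, Commute t g := by
      intro g
      have h1 := hcomm g
      rw [hNbot, Subgroup.mem_bot] at h1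
      have h2 : t * g = (t * g * t⁻¹ * g⁻¹) * (g * t) := by group
      rw [h1, one_mul] at h2
      exact h2
    have : Fact (Nat.Prime 3) := ⟨by norm_num⟩
    have : Fact (Nat.Prime 5) := ⟨by norm_num⟩
    obtain ⟨y3, hy3⟩ := exists_prime_orderOf_dvd_card' (G := G) 3 (by rw [hord]; norm_num)
    obtain ⟨y5, hy5⟩ := exists_prime_orderOf_dvd_card' (G := G) 5 (by rw [hord]; norm_num)
    exact conn_of_edges_2
      (edge_of_commute (by norm_num) (by norm_num) (by norm_num) (htcen y3) hto hy3)
      (edge_of_commute (by norm_num) (by norm_num) (by norm_num) (htcen y5) hto hy5)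
      (edge_of_commute (by norm_num) (by norm_num) (by norm_num) (htcen x) hto hxo)
  · have hKcard : Nat.card (ker11 G) = 2 ∨ Nat.card (ker11 G) = 4 ∨ Nat.card (ker11 G) = 8 := by
      have hmem : Nat.card (ker11 G) ∈ Nat.divisors 8 := by
        rw [Nat.mem_divisors]; exact ⟨hK8, by norm_num⟩
      have hdiv : Nat.divisors 8 = {1, 2, 4, 8} := by decide
      rw [hdiv] at hmem
      simp only [Finset.mem_insert, Finset.mem_singleton] at hmem
      rcases hmem with h | h | h | h
      · exact absurd (Subgroup.card_eq_one.mp h) hK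
      · exact Or.inl h
      · exact Or.inr (Or.inl h)
      · exact Or.inr (Or.inr h)
    obtain ⟨e32, e52⟩ := edges_of_normal_two_subgroup hord (ker11 G) hKcard
    intro A hA
    have a2 := hA 11 2 (by norm_num) (by norm_num) e2
    have a3 := hA 3 2 (by norm_num) (by norm_num) e32
    have a5 := hA 5 2 (by norm_num) (by norm_num) e52
    tauto

/-- a non-simple group of order 7920 has a connected prime graph -/
theorem conn_of_not_simple (hord : Nat.card G = 7920) (hns : ¬ IsSimpleGroup G) : Conn G := by
  rcases card_sylow_eleven_cases hord with h | h | h | h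
  · exact conn_of_card_sylow_eq_one hord h
  · exact conn_of_card_sylow_eq_12 hord h
  · exact conn_of_card_sylow_eq_45 hord h
  · exact conn_of_card_sylow_eq_144 hord h hns

end

end Cfsg.Agent.Lib.Helper10.Ord7920
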