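import Mathlib
import Cfsg.Agent.Lib.Helper11.M11A
import Cfsg.Agent.Lib.Helper22.M11FiveMain
import Cfsg.Agent.Lib.Helper22.SylowInter

/-!
# S0434 farm-out piece FO-E (helper10): a real element of order three in a Sylow 3-subgroup of a
simple group of order 7920 with `N(P) ∩ C(a) = P` and `|C(a)| ≠ 9` has `|C(a)| = 36`.
-/

set_option autoImplicit false

namespace Cfsg.Agent.Lib.Helper10.M11ThreeE

open Subgroup

variable {G : Type*} [Group G]

/-- the subgroup of elements centralizing or inverting `a` -/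
def invNorm (a : G) : Subgroup G where
  carrier := {g | g * a * g⁻¹ = a ∨ g * a * g⁻¹ = a⁻¹}
  one_mem' := by left; simp
  mul_mem' := by
    intro g h hg hh
    have e : (g * h) * a * (g * h)⁻¹ = g * (h * a * h⁻¹) * g⁻¹ := by group
    have e' : g * a⁻¹ * g⁻¹ = (g * a * g⁻¹)⁻¹ := by group
    show (g * h) * a * (g * h)⁻¹ = a ∨ (g * h) * a * (g * h)⁻¹ = a⁻¹
    rw [e]
    rcases hg with hg | hg <;> rcases hh with hh | hh
    · left; rw [hh, hg]
    · right; rw [hh, e', hg]
    · right; rw [hh, hg]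
    · left; rw [hh, e', hg, inv_inv]
  inv_mem' := by
    intro g hg
    show g⁻¹ * a * g⁻¹⁻¹ = a ∨ g⁻¹ * a * g⁻¹⁻¹ = a⁻¹
    rcases hg with hg | hg
    · left
      calc g⁻¹ * a * g⁻¹⁻¹ = g⁻¹ * (g * a * g⁻¹) * g := by rw [hg, inv_inv]
        _ = a := by group
    · right
      have h2 : a = g⁻¹ * a⁻¹ * g := by
        calc a = g⁻¹ * (g * a * g⁻¹) * g := by group
          _ = g⁻¹ * a⁻¹ * g := by rw [hg]
      calc g⁻¹ * a * g⁻¹⁻¹ = (g⁻¹ * a⁻¹ * g)⁻¹ := by group
        _ = a⁻¹ := by rw [← h2]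

theorem mem_invNorm {a g : G} : g ∈ invNorm a ↔ g * a * g⁻¹ = a ∨ g * a * g⁻¹ = a⁻¹ := Iff.rfl

theorem mem_centralizer_singleton {a g : G} :
    g ∈ centralizer ({a} : Set G) ↔ g * a * g⁻¹ = a := by
  rw [mem_centralizer_iff]
  constructor
  · intro h
    have := h a (Set.mem_singleton a)
    rw [← this]; group
  · intro h x hx
    rw [Set.mem_singleton_iff] at hx
    subst hx
    calc x * g = (g * x * g⁻¹) * g := by rw [h]
      _ = g * x := by group

theorem centralizer_le_invNorm (a : G) : centralizer ({a} : Set G) ≤ invNorm a := by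
  intro g hg
  exact Or.inl (mem_centralizer_singleton.mp hg)

/-- if `z` inverts `a` and `a ≠ a⁻¹`, the centralizer of `a` has index two in `invNorm a` -/
theorem relIndex_centralizer_invNorm {a z : G} (hz : z * a * z⁻¹ = a⁻¹) (hne : a ≠ a⁻¹) :
    (centralizer ({a} : Set G)).relIndex (invNorm a) = 2 := by
  rw [Subgroup.relIndex, Subgroup.index_eq_two_iff]
  refine ⟨⟨z, Or.inr hz⟩, ?_⟩
  intro b
  obtain ⟨b, hb⟩ := b
  simp only [mem_subgroupOf, Subgroup.coe_mul]
  rw [mem_centralizer_singleton, mem_centralizer_singleton]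
  have e : (b * z) * a * (b * z)⁻¹ = b * (z * a * z⁻¹) * b⁻¹ := by group
  have e' : b * a⁻¹ * b⁻¹ = (b * a * b⁻¹)⁻¹ := by group
  rw [e, hz, e']
  rcases hb with hb | hb
  · rw [hb]
    right
    exact ⟨rfl, fun h => hne h.symm⟩
  · rw [hb, inv_inv]
    left
    exact ⟨rfl, fun h => hne h.symm⟩

/-- a real element which is not an involution: twice the centralizer order divides `|G|` -/
theorem two_mul_card_centralizer_dvd [Finite G] {a z : G} (hz : z * a * z⁻¹ = a⁻¹)
    (hne : a ≠ a⁻¹) : 2 * Nat.card (centralizer ({a} : Set G)) ∣ Nat.card G := by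
  have h1 := relIndex_centralizer_invNorm hz hne
  have h2 := Subgroup.relIndex_mul_relIndex (⊥ : Subgroup G) (centralizer ({a} : Set G))
    (invNorm a) bot_le (centralizer_le_invNorm a)
  rw [Subgroup.relIndex_bot_left, Subgroup.relIndex_bot_left, h1] at h2
  rw [mul_comm, h2]
  exact Subgroup.card_subgroup_dvd_card _

section Main

variable [Finite G]

theorem card_centralizer_three_eq_36 [IsSimpleGroup G] (hord : Nat.card G = 7920) (P : Sylow 3 G)
    {a z : G} (ha : a ∈ (P : Subgroup G)) (ha1 : a ≠ 1) (hz : z * a * z⁻¹ = a⁻¹)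
    (hNC : normalizer ((P : Subgroup G) : Set G) ⊓ centralizer ({a} : Set G) = (P : Subgroup G))
    (h9 : Nat.card (centralizer ({a} : Set G)) ≠ 9) :
    Nat.card (centralizer ({a} : Set G)) = 36 := by
  haveI : Fact (Nat.Prime 3) := ⟨by norm_num⟩
  haveI : Fact (Nat.Prime 5) := ⟨by norm_num⟩
  haveI : Fact (Nat.Prime 11) := ⟨by norm_num⟩
  set K : Subgroup G := centralizer ({a} : Set G) with hK
  -- order of P
  have hP9 : Nat.card (P : Subgroup G) = 9 := by
    have := Cfsg.H5.SmallOrd.sylow_card 3 2 880 (by norm_num) (by rw [hord]; norm_num) P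
    simpa using this
  -- a has order 3 or 9
  have hao : orderOf a ∣ 9 := by
    rw [← hP9]; exact Subgroup.orderOf_dvd_natCard _ ha
  -- P is abelian so P ≤ K
  have hPK : (P : Subgroup G) ≤ K := by
    intro x hx
    rw [hK, mem_centralizer_singleton]
    have hcomm := IsPGroup.commutative_of_card_eq_prime_sq (p := 3) (G := (P : Subgroup G))
      (by rw [hP9]; norm_num)
    have h2 := hcomm ⟨x, hx⟩ ⟨a, ha⟩
    have h3 : x * a = a * x := congrArg Subtype.val h2
    calc x * a * x⁻¹ = a * x * x⁻¹ := by rw [h3]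
      _ = a := by group
  -- a ≠ a⁻¹
  have hne : a ≠ a⁻¹ := by
    intro h
    have h2 : a ^ 2 = 1 := by
      rw [pow_two]; nth_rewrite 2 [h]; exact mul_inv_cancel a
    have h3 : orderOf a ∣ 2 := orderOf_dvd_of_pow_eq_one h2
    have h4 : orderOf a ∣ Nat.gcd 9 2 := Nat.dvd_gcd hao h3
    have h5 : Nat.gcd 9 2 = 1 := by norm_num
    rw [h5, Nat.dvd_one, orderOf_eq_one_iff] at h4
    exact ha1 h4
  -- divisibility facts
  have hKd : Nat.card K ∣ 7920 := by rw [← hord]; exact Subgroup.card_subgroup_dvd_card K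
  have h2Kd : 2 * Nat.card K ∣ 7920 := by
    rw [← hord]; exact two_mul_card_centralizer_dvd hz hne
  have h9K : 9 ∣ Nat.card K := by
    rw [← hP9]; exact Subgroup.card_dvd_of_le hPK
  -- no element of order 5 in K
  have h5K : ¬ 5 ∣ Nat.card K := by
    intro h5
    obtain ⟨y, hy⟩ := exists_prime_orderOf_dvd_card' 5 h5
    have hy' : orderOf (y : G) = 5 := by rw [Subgroup.orderOf_coe]; exact hy
    have hcomm : Commute a (y : G) := by
      have := mem_centralizer_singleton.mp y.2
      have h2 : (y : G) * a = a * (y : G) := by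
        calc (y : G) * a = ((y : G) * a * (y : G)⁻¹) * (y : G) := by group
          _ = a * (y : G) := by rw [this]
      exact h2.symm
    have hcard : Nat.card (zpowers (y : G)) = 5 := by rw [Nat.card_zpowers, hy']
    have hp : IsPGroup 5 (zpowers (y : G)) := IsPGroup.of_card (n := 1) (by rw [hcard, pow_one])
    obtain ⟨Q, hQ⟩ := hp.exists_le_sylow
    have hQc : Nat.card (Q : Subgroup G) = 5 := by
      have h2 := Cfsg.H5.SmallOrd.sylow_card 5 1 1584 (by norm_num) (by rw [hord]; norm_num) Q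
      rwa [pow_one] at h2
    have hQe : zpowers (y : G) = (Q : Subgroup G) :=
      Subgroup.eq_of_le_of_card_ge hQ (by rw [hQc, hcard])
    have hmem := Cfsg.Agent.Lib.Helper10.Ord7920.mem_centralizer_of_commute hQe hcomm
    rw [Cfsg.Agent.Lib.Helper22.M11Five.centralizer_sylow_five hord Q] at hmem
    have h5a : orderOf a ∣ 5 := by
      rw [← hQc]; exact Subgroup.orderOf_dvd_natCard _ hmem
    have h4 : orderOf a ∣ Nat.gcd 9 5 := Nat.dvd_gcd hao h5a
    have h6 : Nat.gcd 9 5 = 1 := by norm_num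
    rw [h6, Nat.dvd_one, orderOf_eq_one_iff] at h4
    exact ha1 h4
  -- no element of order 11 in K
  have h11K : ¬ 11 ∣ Nat.card K := by
    intro h11
    obtain ⟨y, hy⟩ := exists_prime_orderOf_dvd_card' 11 h11
    have hy' : orderOf (y : G) = 11 := by rw [Subgroup.orderOf_coe]; exact hy
    have hcomm : Commute a (y : G) := by
      have := mem_centralizer_singleton.mp y.2
      have h2 : (y : G) * a = a * (y : G) := by
        calc (y : G) * a = ((y : G) * a * (y : G)⁻¹) * (y : G) := by group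
          _ = a * (y : G) := by rw [this]
      exact h2.symm
    have hmem := Cfsg.Agent.Lib.Helper11.M11.orderOf_eq_of_commute_eleven hord hy' hcomm
    have h11a : orderOf a ∣ 11 := by
      have := Subgroup.orderOf_dvd_natCard _ hmem
      rwa [Nat.card_zpowers, hy'] at this
    have h4 : orderOf a ∣ Nat.gcd 9 11 := Nat.dvd_gcd hao h11a
    have h6 : Nat.gcd 9 11 = 1 := by norm_num
    rw [h6, Nat.dvd_one, orderOf_eq_one_iff] at h4
    exact ha1 h4
  -- the number of Sylow 3-subgroups of K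
  have hKN : (K ⊓ normalizer ((P : Subgroup G) : Set G) : Subgroup G) = (P : Subgroup G) := by
    rw [inf_comm]; exact hNC
  have hcnt := Cfsg.Agent.Lib.Helper22.SylowInter.card_eq_card_inf_normalizer_mul P K hPK
  rw [hKN, hP9] at hcnt
  have hmod : Nat.card (Sylow 3 K) ≡ 1 [MOD 3] := card_sylow_modEq_one 3 K
  -- arithmetic
  obtain ⟨m, hm⟩ := h9K
  have hm880 : m ∣ 880 := by
    have : 9 * m ∣ 9 * 880 := by rw [← hm]; exact hKd
    exact Nat.dvd_of_mul_dvd_mul_left (by norm_num) this
  have hm5 : ¬ 5 ∣ m := fun h => h5K (by rw [hm]; exact Dvd.dvd.mul_left h 9)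
  have hm11 : ¬ 11 ∣ m := fun h => h11K (by rw [hm]; exact Dvd.dvd.mul_left h 9)
  have hm16 : m ∣ 16 := by
    have hc5 : Nat.Coprime m 5 := by
      rw [Nat.coprime_comm]; exact (Nat.Prime.coprime_iff_not_dvd (by norm_num)).mpr hm5
    have hc11 : Nat.Coprime m 11 := by
      rw [Nat.coprime_comm]; exact (Nat.Prime.coprime_iff_not_dvd (by norm_num)).mpr hm11
    have hc55 : Nat.Coprime m 55 := by
      have : (55 : ℕ) = 5 * 11 := by norm_num
      rw [this]; exact Nat.Coprime.mul_right hc5 hc11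
    have : m ∣ 16 * 55 := by norm_num; exact hm880
    exact Nat.Coprime.dvd_of_dvd_mul_right hc55 this
  have hmle : m ≤ 16 := Nat.le_of_dvd (by norm_num) hm16
  have hsyl : Nat.card (Sylow 3 K) = m := by
    have : 9 * m = 9 * Nat.card (Sylow 3 K) := by rw [← hm]; exact hcnt
    omega
  rw [hsyl] at hmod
  rw [hm] at h2Kd h9 ⊢
  interval_cases m <;> first | omega | (exfalso; revert hm16; decide) | (exfalso; revert hmod; decide) | (exfalso; revert h2Kd; decide)

end Main

end Cfsg.Agent.Lib.Helper10.M11ThreeE
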