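import Mathlib
import Cfsg.Prelude.Def_OddOrderLocal
import Cfsg.Agent.S1453
import Cfsg.Agent.Lib.Helper10.NarrowAct
import Cfsg.Agent.Lib.Helper10.NarrowFit
import Cfsg.Agent.Lib.Helper10.NarrowSylow
import Cfsg.Agent.Lib.Helper10.Rank2Extra

/-!
Narrow `p`-groups of rank at least three (BG, Section 5): every `p'`-element `a` normalizing such
a group `R` has `a ^ (p - 1)` centralizing `R`.
-/

set_option autoImplicit false

namespace Cfsg.Agent.Lib.Helper10

open scoped Classical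
open scoped commutatorElement

section SectionPow

variable {X : Type*} [Group X] [Finite X] {p : ℕ} [Fact p.Prime]

/-- the `(p - 1)`-th power of any element acts trivially on a normal section of order at most
`p`. -/
theorem pow_pred_acts_trivially_on_section (N P : Subgroup X) [N.Normal] [P.Normal]
    (hNP : N ≤ P) (hPp : IsPGroup p P) (hcard : Nat.card P ≤ p * Nat.card N) (a : X) :
    ∀ g ∈ P, a ^ (p - 1) * g * (a ^ (p - 1))⁻¹ * g⁻¹ ∈ N := by
  have hp : p.Prime := Fact.out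
  obtain ⟨hcyc, hcases⟩ := isCyclic_section N P hNP hPp hcard
  have h1 : (sectionHom N P a) ^ (p - 1) = 1 := by
    have h2 : Nat.card (MulAut ↥(P.map (QuotientGroup.mk' N))) ∣ p - 1 := by
      rw [IsCyclic.card_mulAut]
      rcases hcases with h | h
      · rw [h, Nat.totient_one]; exact one_dvd _
      · rw [h, Nat.totient_prime hp]
    obtain ⟨k, hk⟩ := h2
    rw [hk, pow_mul, pow_card_eq_one', one_pow]
  rw [← map_pow] at h1
  exact (sectionHom_eq_one_iff N P _).mp h1

end SectionPow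

section GLevel

universe u

variable {p : ℕ} [Fact p.Prime] {G : Type u} [Group G] [Finite G]

/-- translation to subgroups of `G` normalized by `N_G(R)`. -/
theorem section_pow_pred (R P N : Subgroup G) (hNP : N ≤ P) (hPR : P ≤ R) (hPp : IsPGroup p P)
    (hnP : Subgroup.normalizer (R : Set G) ≤ Subgroup.normalizer (P : Set G))
    (hnN : Subgroup.normalizer (R : Set G) ≤ Subgroup.normalizer (N : Set G))
    (hcard : Nat.card P ≤ p * Nat.card N) :
    ∀ a ∈ Subgroup.normalizer (R : Set G), ∀ g ∈ P,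
      a ^ (p - 1) * g * (a ^ (p - 1))⁻¹ * g⁻¹ ∈ N := by
  obtain ⟨X, hX⟩ : ∃ X : Subgroup G, X = Subgroup.normalizer (R : Set G) := ⟨_, rfl⟩
  rw [← hX] at hnP hnN ⊢
  have hPX : P ≤ X := by
    rw [hX]
    exact hPR.trans Subgroup.le_normalizer
  have hNX : N ≤ X := hNP.trans hPX
  have hn1 : (N.subgroupOf X).Normal := (Subgroup.normal_subgroupOf_iff_le_normalizer hNX).mpr hnN
  have hn2 : (P.subgroupOf X).Normal := (Subgroup.normal_subgroupOf_iff_le_normalizer hPX).mpr hnP
  have hle : N.subgroupOf X ≤ P.subgroupOf X := by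
    intro y hy
    rw [Subgroup.mem_subgroupOf] at hy ⊢
    exact hNP hy
  have hPp' : IsPGroup p (P.subgroupOf X) := hPp.comap_subtype
  have hc1 : Nat.card (P.subgroupOf X) = Nat.card P :=
    Nat.card_congr (Subgroup.subgroupOfEquivOfLe hPX).toEquiv
  have hc2 : Nat.card (N.subgroupOf X) = Nat.card N :=
    Nat.card_congr (Subgroup.subgroupOfEquivOfLe hNX).toEquiv
  have hcard' : Nat.card (P.subgroupOf X) ≤ p * Nat.card (N.subgroupOf X) := by
    rw [hc1, hc2]
    exact hcard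
  intro a ha g hg
  have := pow_pred_acts_trivially_on_section (N.subgroupOf X) (P.subgroupOf X) hle hPp' hcard'
    ⟨a, ha⟩ ⟨g, hPX hg⟩ (Subgroup.mem_subgroupOf.mpr hg)
  rw [Subgroup.mem_subgroupOf] at this
  exact this

/-- a `p'`-element stabilizing `P ≥ N` and centralizing the `p`-group `N` centralizes `P`. -/
theorem mem_centralizer_of_stabilizes (P N : Subgroup G) (hN : IsPGroup p N) (c : G)
    (hcop : (orderOf c).Coprime p) (hstab : ∀ g ∈ P, c * g * c⁻¹ * g⁻¹ ∈ N)
    (hcN : c ∈ Subgroup.centralizer (N : Set G)) : c ∈ Subgroup.centralizer (P : Set G) := by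
  rw [Subgroup.mem_centralizer_iff]
  intro g hg
  obtain ⟨z, hz⟩ : ∃ z : G, z = c * g * c⁻¹ * g⁻¹ := ⟨_, rfl⟩
  have hzN : z ∈ N := hz ▸ hstab g hg
  have hcz : z * c = c * z := (Subgroup.mem_centralizer_iff.mp hcN) z hzN
  have hconj : c * g * c⁻¹ = z * g := by rw [hz]; group
  have hpow : ∀ k : ℕ, c ^ k * g * (c ^ k)⁻¹ = z ^ k * g := by
    intro k
    induction k with
    | zero => simp
    | succ k ih =>
      have h1 : c ^ (k + 1) * g * (c ^ (k + 1))⁻¹ = c * (c ^ k * g * (c ^ k)⁻¹) * c⁻¹ := by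
        rw [pow_succ']; group
      have h2 : c * z ^ k = z ^ k * c := by
        have : Commute z c := hcz
        exact (this.pow_left k).eq.symm
      rw [h1, ih]
      calc c * (z ^ k * g) * c⁻¹ = (c * z ^ k) * g * c⁻¹ := by group
        _ = (z ^ k * c) * g * c⁻¹ := by rw [h2]
        _ = z ^ k * (c * g * c⁻¹) := by group
        _ = z ^ k * (z * g) := by rw [hconj]
        _ = z ^ (k + 1) * g := by rw [pow_succ]; group
  have h1 := hpow (orderOf c)
  rw [pow_orderOf_eq_one, one_mul, inv_one, mul_one] at h1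
  have h2 : z ^ orderOf c = 1 := by
    have h3 : z ^ orderOf c * g = 1 * g := by rw [one_mul]; exact h1.symm
    exact mul_right_cancel h3
  obtain ⟨j, hj⟩ := (IsPGroup.iff_orderOf.mp hN) ⟨z, hzN⟩
  rw [Subgroup.orderOf_mk] at hj
  have h3 : orderOf z ∣ orderOf c := orderOf_dvd_of_pow_eq_one h2
  have h4 : orderOf z = 1 := by
    have h5 : (orderOf z).Coprime (orderOf z) := by
      apply Nat.Coprime.coprime_dvd_left h3
      rw [hj]
      exact hcop.pow_right j
    exact (Nat.coprime_self _).mp h5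
  rw [orderOf_eq_one_iff] at h4
  rw [h4, one_mul] at hconj
  calc g * c = (c * g * c⁻¹) * c := by rw [hconj]
    _ = c * g := by group

end GLevel

section TypeLevel

universe u

variable {p : ℕ} [Fact p.Prime]

/-- the data of the second alternative in the definition of a narrow group: an element `x₀` of
order `p` and a subgroup `S₀` of order at most `p ^ 2` containing all elements of order dividing
`p` of the centralizer of `x₀`. -/
theorem exists_narrow_data {R : Type u} [Group R] [Finite R] (hR : IsPGroup p R)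
    (h : ∃ R₀ R₁ : Subgroup R, Nat.card R₀ = p ∧ IsCyclic R₁ ∧ R₀ ⊓ R₁ = ⊥ ∧
      (∀ a ∈ R₀, ∀ b ∈ R₁, a * b = b * a) ∧ R₀ ⊔ R₁ = Subgroup.centralizer (R₀ : Set R)) :
    ∃ (x₀ : R) (S₀ : Subgroup R), x₀ ≠ 1 ∧ x₀ ^ p = 1 ∧ x₀ ∈ S₀ ∧ Nat.card S₀ ≤ p ^ 2 ∧
      (∀ s ∈ S₀, s ^ p = 1) ∧ (∀ s ∈ S₀, ∀ s' ∈ S₀, s * s' = s' * s) ∧
      ∀ g : R, g * x₀ = x₀ * g → g ^ p = 1 → g ∈ S₀ := by
  have hp : p.Prime := Fact.out
  obtain ⟨R₀, R₁, hcard, hcyc, hdisj, hcomm, hcent⟩ := h
  have hnt : Nontrivial ↥R₀ := by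
    apply Finite.one_lt_card_iff_nontrivial.mp
    rw [hcard]
    exact hp.one_lt
  obtain ⟨x₀, hx₀⟩ := exists_ne (1 : ↥R₀)
  have hgen : ∀ r ∈ R₀, r ∈ Subgroup.zpowers (x₀ : R) := by
    intro r hr
    have h1 : (⟨r, hr⟩ : ↥R₀) ∈ Subgroup.zpowers x₀ := mem_zpowers_of_prime_card hcard hx₀
    obtain ⟨k, hk⟩ := h1
    refine ⟨k, ?_⟩
    have := congrArg Subtype.val hk
    simpa using this
  have hR₀exp : ∀ r ∈ R₀, r ^ p = 1 := by
    intro r hr
    have h1 : (⟨r, hr⟩ : ↥R₀) ^ p = 1 := by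
      rw [← hcard]
      exact pow_card_eq_one'
    have := congrArg Subtype.val h1
    simpa using this
  have hR₁comm : ∀ a ∈ R₁, ∀ b ∈ R₁, a * b = b * a := by
    intro a ha b hb
    obtain ⟨g, hg⟩ := hcyc.exists_generator
    obtain ⟨i, hi⟩ := hg ⟨a, ha⟩
    obtain ⟨j, hj⟩ := hg ⟨b, hb⟩
    have h1 : (⟨a, ha⟩ : ↥R₁) * ⟨b, hb⟩ = ⟨b, hb⟩ * ⟨a, ha⟩ := by
      rw [← hi, ← hj]
      exact ((Commute.refl g).zpow_zpow i j).eq
    exact congrArg Subtype.val h1
  let T₁ : Subgroup R :=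
    { carrier := {b | b ∈ R₁ ∧ b ^ p = 1}
      mul_mem' := by
        rintro a b ⟨ha, hap⟩ ⟨hb, hbp⟩
        refine ⟨mul_mem ha hb, ?_⟩
        have : Commute a b := hR₁comm a ha b hb
        rw [this.mul_pow, hap, hbp, mul_one]
      one_mem' := ⟨one_mem _, one_pow _⟩
      inv_mem' := by
        rintro a ⟨ha, hap⟩
        exact ⟨inv_mem ha, by rw [inv_pow, hap, inv_one]⟩ }
  have hT₁mem : ∀ b : R, b ∈ T₁ ↔ b ∈ R₁ ∧ b ^ p = 1 := fun b => Iff.rfl
  have hT₁R₁ : T₁ ≤ R₁ := fun b hb => ((hT₁mem b).mp hb).1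
  have hT₁card : Nat.card T₁ ≤ p := by
    have hc : IsCyclic ↥(T₁.subgroupOf R₁) := inferInstance
    obtain ⟨g, hg⟩ := hc.exists_generator
    have h1 : orderOf g = Nat.card ↥(T₁.subgroupOf R₁) := orderOf_eq_card_of_forall_mem_zpowers hg
    have h2 : g ^ p = 1 := by
      apply Subtype.ext
      apply Subtype.ext
      have := ((hT₁mem ((g : ↥R₁) : R)).mp g.2).2
      simpa using this
    have h3 : orderOf g ∣ p := orderOf_dvd_of_pow_eq_one h2
    rw [← Nat.card_congr (Subgroup.subgroupOfEquivOfLe hT₁R₁).toEquiv, ← h1]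
    exact Nat.le_of_dvd hp.pos h3
  have hcommT : ∀ a ∈ R₀, ∀ b ∈ T₁, a * b = b * a := fun a ha b hb => hcomm a ha b (hT₁R₁ hb)
  have hdisjT : R₀ ⊓ T₁ = ⊥ := by
    rw [eq_bot_iff, ← hdisj]
    exact inf_le_inf_left _ hT₁R₁
  obtain ⟨S₀, hS₀⟩ : ∃ S₀ : Subgroup R, S₀ = R₀ ⊔ T₁ := ⟨_, rfl⟩
  have hS₀card : Nat.card S₀ ≤ p ^ 2 := by
    rw [hS₀, card_sup_of_commute_of_disjoint R₀ T₁ hcommT hdisjT, hcard, pow_two]
    exact Nat.mul_le_mul_left p hT₁card
  have hx₀S₀ : (x₀ : R) ∈ S₀ := by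
    rw [hS₀]
    exact Subgroup.mem_sup_left x₀.2
  have hwit : ∀ g : R, g * (x₀ : R) = (x₀ : R) * g → g ^ p = 1 → g ∈ S₀ := by
    intro g hgx hgp
    have h1 : g ∈ Subgroup.centralizer (R₀ : Set R) := by
      rw [Subgroup.mem_centralizer_iff]
      intro r hr
      obtain ⟨k, rfl⟩ := hgen r hr
      have : Commute g (x₀ : R) := hgx
      exact (this.zpow_right k).eq.symm
    rw [← hcent] at h1
    obtain ⟨a, ha, b, hb, rfl⟩ := (mem_sup_of_commute R₀ R₁ hcomm).mp h1
    have hc : Commute a b := hcomm a ha b hb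
    rw [hc.mul_pow, hR₀exp a ha, one_mul] at hgp
    rw [hS₀]
    exact Subgroup.mul_mem_sup ha ((hT₁mem b).mpr ⟨hb, hgp⟩)
  refine ⟨(x₀ : R), S₀, fun h => hx₀ (Subtype.ext h), hR₀exp _ x₀.2, hx₀S₀, hS₀card, ?_,
    fun s hs s' hs' => commute_of_card_le_sq' hR S₀ hS₀card hs hs', hwit⟩
  intro s hs
  rw [hS₀] at hs
  obtain ⟨a, ha, b, hb, rfl⟩ := (mem_sup_of_commute R₀ T₁ hcommT).mp hs
  have hc : Commute a b := hcommT a ha b hb
  rw [hc.mul_pow, hR₀exp a ha, ((hT₁mem b).mp hb).2, one_mul]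

/-- **narrow groups of rank at least three**: the element `x₀` of the narrow data lies outside a
characteristic subgroup of index `p`. -/
theorem exists_narrow_data_not_mem {R : Type u} [Group R] [Finite R] (hp2 : p ≠ 2)
    (hR : IsPGroup p R) (hrk : ¬ Cfsg.PRankLE p 2 R)
    (h : ∃ R₀ R₁ : Subgroup R, Nat.card R₀ = p ∧ IsCyclic R₁ ∧ R₀ ⊓ R₁ = ⊥ ∧
      (∀ a ∈ R₀, ∀ b ∈ R₁, a * b = b * a) ∧ R₀ ⊔ R₁ = Subgroup.centralizer (R₀ : Set R)) :
    ∃ (x₀ : R) (S₀ T : Subgroup R), x₀ ^ p = 1 ∧ x₀ ∈ S₀ ∧ Nat.card S₀ ≤ p ^ 2 ∧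
      (∀ g : R, g * x₀ = x₀ * g → g ^ p = 1 → g ∈ S₀) ∧
      T.Characteristic ∧ T.index = p ∧ x₀ ∉ T ∧ Subgroup.center R ≤ T := by
  have hp : p.Prime := Fact.out
  obtain ⟨x₀, S₀, hx1, hxp, hxS, hScard, hSexp, hScomm, hwit⟩ := exists_narrow_data hR h
  -- `x₀` is not central
  have hxc : x₀ ∉ Subgroup.center R := by
    intro hc
    apply hrk
    intro B hBc hBe
    have hle : B ≤ S₀ := by
      intro b hb
      exact hwit b ((Subgroup.mem_center_iff.mp hc) b) (hBe b hb)
    exact (Subgroup.card_le_of_le hle).trans hScard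
  -- a central element of order `p`
  have hne : (⊤ : Subgroup R) ≠ ⊥ := by
    intro htop
    have h1 : x₀ ∈ (⊥ : Subgroup R) := htop ▸ Subgroup.mem_top x₀
    exact hx1 (Subgroup.mem_bot.mp h1)
  obtain ⟨z, -, hz1, hzp, hzc⟩ := exists_central_order_p (⊤ : Subgroup R)
    (hR.to_subgroup ⊤) hne
  have hzcen : z ∈ Subgroup.center R := by
    rw [Subgroup.mem_center_iff]
    intro g
    exact (hzc g (Subgroup.mem_top g)).symm
  have hzS : z ∈ S₀ := hwit z (hzc x₀ (Subgroup.mem_top _)) hzp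
  have hcx : Nat.card (Subgroup.zpowers x₀) = p := by
    rw [Nat.card_zpowers]; exact orderOf_eq_prime hxp hx1
  have hzx : z ∉ Subgroup.zpowers x₀ := by
    intro hz
    apply hxc
    have h1 := mem_zpowers_of_card_prime (Subgroup.zpowers x₀) hcx hz hz1
      (Subgroup.mem_zpowers x₀)
    exact (Subgroup.zpowers_le.mpr hzcen) h1
  have hlt : Subgroup.zpowers x₀ < Subgroup.zpowers x₀ ⊔ Subgroup.zpowers z := by
    refine lt_of_le_of_ne le_sup_left ?_
    intro heq
    apply hzx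
    rw [heq]
    exact le_sup_right (a := Subgroup.zpowers x₀) (Subgroup.mem_zpowers z)
  have hle : Subgroup.zpowers x₀ ⊔ Subgroup.zpowers z ≤ S₀ :=
    sup_le (Subgroup.zpowers_le.mpr hxS) (Subgroup.zpowers_le.mpr hzS)
  have h1 := card_mul_le_of_lt hR hlt
  rw [hcx] at h1
  have hge : Nat.card S₀ ≤ Nat.card ↥(Subgroup.zpowers x₀ ⊔ Subgroup.zpowers z) := by
    calc Nat.card S₀ ≤ p ^ 2 := hScard
      _ = p * p := by ring
      _ ≤ _ := h1
  have hSeq : Subgroup.zpowers x₀ ⊔ Subgroup.zpowers z = S₀ :=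
    Subgroup.eq_of_le_of_card_ge hle hge
  have hScard2 : Nat.card S₀ = p ^ 2 := by
    apply le_antisymm hScard
    calc p ^ 2 = p * p := by ring
      _ ≤ Nat.card ↥(Subgroup.zpowers x₀ ⊔ Subgroup.zpowers z) := h1
      _ ≤ Nat.card S₀ := Subgroup.card_le_of_le hle
  have hE : Cfsg.IsElementaryAbelian p S₀ :=
    ⟨⟨⟨fun a b => Subtype.ext (hScomm a a.2 b b.2)⟩⟩, hSexp⟩
  have hEmax : ∀ B : Subgroup R, Cfsg.IsElementaryAbelian p B → S₀ ≤ B → B = S₀ := by
    intro B hB hSB
    apply le_antisymm _ hSB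
    intro b hb
    apply hwit b _ (hB.2 b hb)
    have h2 := hB.1.is_comm.comm (⟨b, hb⟩ : ↥B) ⟨x₀, hSB hxS⟩
    exact congrArg Subtype.val h2
  obtain ⟨hnot, -, -, hTchar, hTidx⟩ := Cfsg.Agent.S1453.result p hp2 hR hrk S₀ hE hScard2 hEmax
  refine ⟨x₀, S₀, _, hxp, hxS, hScard, hwit, hTchar, hTidx, ?_, Subgroup.center_le_centralizer _⟩
  intro hxT
  apply hnot
  rw [← hSeq]
  refine sup_le (Subgroup.zpowers_le.mpr hxT) (Subgroup.zpowers_le.mpr ?_)
  rw [Subgroup.mem_centralizer_iff]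
  intro w _
  exact (Subgroup.mem_center_iff.mp hzcen) w

end TypeLevel

section Main

universe u

variable {p : ℕ} [Fact p.Prime] {G : Type u} [Group G] [Finite G]

theorem normalizer_le_normalizer_inf {X A B : Subgroup G}
    (hA : X ≤ Subgroup.normalizer (A : Set G)) (hB : X ≤ Subgroup.normalizer (B : Set G)) :
    X ≤ Subgroup.normalizer ((A ⊓ B : Subgroup G) : Set G) := by
  apply Cfsg.Agent.Lib.Helper1.le_normalizer_of_forall_conj_mem'
  intro x hx n hn
  obtain ⟨h1, h2⟩ := Subgroup.mem_inf.mp hn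
  exact Subgroup.mem_inf.mpr
    ⟨(Subgroup.mem_normalizer_iff.mp (hA hx) n).mp h1,
      (Subgroup.mem_normalizer_iff.mp (hB hx) n).mp h2⟩

theorem normalizer_le_normalizer_centralizer (R : Subgroup G) :
    Subgroup.normalizer (R : Set G) ≤
      Subgroup.normalizer ((Subgroup.centralizer (R : Set G) : Subgroup G) : Set G) := by
  apply Cfsg.Agent.Lib.Helper1.le_normalizer_of_forall_conj_mem'
  intro x hx n hn
  rw [Subgroup.mem_centralizer_iff] at hn ⊢
  intro r hr
  have h1 : x⁻¹ * r * x ∈ R := by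
    have h2 := (Subgroup.mem_normalizer_iff.mp (inv_mem hx) r).mp hr
    simpa using h2
  have h3 := hn _ h1
  calc r * (x * n * x⁻¹) = x * ((x⁻¹ * r * x) * n) * x⁻¹ := by group
    _ = x * (n * (x⁻¹ * r * x)) * x⁻¹ := by rw [h3]
    _ = x * n * x⁻¹ * r := by group

/-- a subgroup of a `p`-group `R` meets a subgroup of index `p` in a subgroup of index at most
`p`. -/
theorem card_le_mul_card_inf_of_index (R D T' : Subgroup G) (hDR : D ≤ R) (hT'R : T' ≤ R)
    (hcard : Nat.card R = p * Nat.card T') :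
    Nat.card D ≤ p * Nat.card (D ⊓ T' : Subgroup G) := by
  have hp : p.Prime := Fact.out
  have h1 := Cfsg.Agent.Lib.Helper1.card_mul_relIndex_of_le hT'R
  have h2 : T'.relIndex R = p := by
    have hpos : 0 < Nat.card T' := Nat.card_pos
    apply Nat.eq_of_mul_eq_mul_left hpos
    rw [h1, hcard, mul_comm]
  have h3 : T'.relIndex D ≤ p := by
    rw [← h2]
    exact Subgroup.relIndex_le_of_le_right hDR (by rw [h2]; exact hp.ne_zero)
  have h4 := Cfsg.Agent.Lib.Helper1.card_mul_relIndex_of_le (inf_le_left : D ⊓ T' ≤ D)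
  rw [Subgroup.inf_relIndex_left] at h4
  rw [← h4, mul_comm]
  exact Nat.mul_le_mul_right _ h3

/-- a nontrivial subgroup of the `p`-group `R` normalized by `R` contains a nontrivial element
centralizing `R`. -/
theorem inf_centralizer_ne_bot (R N : Subgroup G) (hR : IsPGroup p R) (hNR : N ≤ R)
    (hRN : R ≤ Subgroup.normalizer (N : Set G)) (hne : N ≠ ⊥) :
    N ⊓ Subgroup.centralizer (R : Set G) ≠ ⊥ := by
  haveI hn : (N.subgroupOf R).Normal := (Subgroup.normal_subgroupOf_iff_le_normalizer hNR).mpr hRN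
  have hne' : N.subgroupOf R ≠ ⊥ := by
    intro h
    apply hne
    rw [eq_bot_iff]
    intro g hg
    have h1 : (⟨g, hNR hg⟩ : ↥R) ∈ N.subgroupOf R := Subgroup.mem_subgroupOf.mpr hg
    rw [h, Subgroup.mem_bot] at h1
    exact Subgroup.mem_bot.mpr (congrArg Subtype.val h1)
  have h1 := normal_inf_center_ne_bot hR (N.subgroupOf R) hne'
  obtain ⟨⟨y, hy⟩, hy1⟩ := Subgroup.ne_bot_iff_exists_ne_one.mp h1
  obtain ⟨hyN, hyc⟩ := Subgroup.mem_inf.mp hy
  intro hbot
  apply hy1
  have h2 : (y : G) ∈ N ⊓ Subgroup.centralizer (R : Set G) := by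
    refine Subgroup.mem_inf.mpr ⟨Subgroup.mem_subgroupOf.mp hyN, ?_⟩
    rw [Subgroup.mem_centralizer_iff]
    intro r hr
    have h3 := (Subgroup.mem_center_iff.mp hyc) ⟨r, hr⟩
    exact congrArg Subtype.val h3
  rw [hbot, Subgroup.mem_bot] at h2
  exact Subtype.ext (Subtype.ext h2)

/-- **BG, Theorem 5.5(b)**: for a narrow `p`-group `R` of rank at least three, the `(p - 1)`-th
power of every `p'`-element normalizing `R` centralizes `R`. -/
theorem narrow_rank_three_pow_pred (hp2 : p ≠ 2) (R : Subgroup G) (hR : IsPGroup p R)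
    (hrk : ¬ Cfsg.PRankLE p 2 ↥R)
    (h : ∃ R₀ R₁ : Subgroup ↥R, Nat.card R₀ = p ∧ IsCyclic R₁ ∧ R₀ ⊓ R₁ = ⊥ ∧
      (∀ a ∈ R₀, ∀ b ∈ R₁, a * b = b * a) ∧ R₀ ⊔ R₁ = Subgroup.centralizer (R₀ : Set ↥R))
    (a : G) (ha : a ∈ Subgroup.normalizer (R : Set G)) (hcop : (orderOf a).Coprime p) :
    a ^ (p - 1) ∈ Subgroup.centralizer (R : Set G) := by
  have hp : p.Prime := Fact.out
  obtain ⟨x₀, S₀, T, hxp, hxS, hScard, hwit, hTchar, hTidx, hxT, hcenT⟩ :=
    exists_narrow_data_not_mem hp2 hR hrk h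
  have hinj := Subgroup.subtype_injective R
  obtain ⟨x, hx⟩ : ∃ x : G, x = (x₀ : G) := ⟨_, rfl⟩
  obtain ⟨S, hS⟩ : ∃ S : Subgroup G, S = S₀.map R.subtype := ⟨_, rfl⟩
  obtain ⟨T', hT'⟩ : ∃ T' : Subgroup G, T' = T.map R.subtype := ⟨_, rfl⟩
  have hSR : S ≤ R := by rw [hS]; exact Subgroup.map_subtype_le S₀
  have hT'R : T' ≤ R := by rw [hT']; exact Subgroup.map_subtype_le T
  have hSp : IsPGroup p S := hR.to_le hSR
  have hScard' : Nat.card S ≤ p ^ 2 := by
    rw [hS, Subgroup.card_map_of_injective hinj]; exact hScard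
  have hxS' : x ∈ S := by rw [hS, hx]; exact ⟨x₀, hxS, rfl⟩
  have hwit' : ∀ g ∈ R, g * x = x * g → g ^ p = 1 → g ∈ S := by
    intro g hg hgx hgp
    rw [hS]
    refine ⟨⟨g, hg⟩, hwit ⟨g, hg⟩ (Subtype.ext ?_) (Subtype.ext ?_), rfl⟩
    · rw [hx] at hgx
      simpa using hgx
    · simpa using hgp
  have hxT' : x ∉ T' := by
    rw [hT', hx]
    rintro ⟨t, ht, hte⟩
    have h1 : t = x₀ := Subtype.ext hte
    exact hxT (h1 ▸ ht)
  have hxcen : x ∉ Subgroup.centralizer (R : Set G) := by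
    intro hxc
    apply hxT
    apply hcenT
    rw [Subgroup.mem_center_iff]
    intro g
    apply Subtype.ext
    have h1 := (Subgroup.mem_centralizer_iff.mp hxc) g g.2
    rw [hx] at h1
    exact h1
  have hnT' : Subgroup.normalizer (R : Set G) ≤ Subgroup.normalizer (T' : Set G) := by
    rw [hT']
    exact Cfsg.Agent.Lib.Helper1.normalizer_le_normalizer_map_of_characteristic R T
  have hcardT : Nat.card R = p * Nat.card T' := by
    rw [hT', Subgroup.card_map_of_injective hinj, ← hTidx, mul_comm]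
    exact (Subgroup.card_mul_index T).symm
  -- the faithful subgroup
  obtain ⟨D, hDR, hND, hexp, hcl, hfaith⟩ := exists_exp_faithful hp2 R hR
  have hDp : IsPGroup p D := hR.to_le hDR
  have hRD : R ≤ Subgroup.normalizer (D : Set G) := Subgroup.le_normalizer.trans hND
  obtain ⟨c, hc⟩ : ∃ c : G, c = a ^ (p - 1) := ⟨_, rfl⟩
  have hcN : c ∈ Subgroup.normalizer (R : Set G) := by rw [hc]; exact pow_mem ha _
  have hccop : (orderOf c).Coprime p := by
    rw [hc]; exact Nat.Coprime.coprime_dvd_left (orderOf_pow_dvd _) hcop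
  rw [← hc]
  apply hfaith c hcN hccop
  obtain ⟨C, hC⟩ : ∃ C : Subgroup G, C = D ⊓ Subgroup.centralizer ({x} : Set G) := ⟨_, rfl⟩
  have hCmem : ∀ g : G, g ∈ C ↔ g ∈ D ∧ g * x = x * g := by
    intro g
    rw [hC, Subgroup.mem_inf, Subgroup.mem_centralizer_iff]
    constructor
    · rintro ⟨h1, h2⟩
      exact ⟨h1, (h2 x rfl).symm⟩
    · rintro ⟨h1, h2⟩
      refine ⟨h1, ?_⟩
      intro y hy
      rw [Set.mem_singleton_iff] at hy
      rw [hy]
      exact h2.symm
  have hCS : C ≤ S := by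
    intro g hg
    obtain ⟨h1, h2⟩ := (hCmem g).mp hg
    exact hwit' g (hDR h1) h2 (hexp g h1)
  by_cases hxD : x ∈ D
  · -- `D` is small
    have hCcard : Nat.card C ≤ p ^ 2 := (Subgroup.card_le_of_le hCS).trans hScard'
    have hDcard : Nat.card D ≤ p ^ 3 := by
      by_cases hxZ : ∀ g ∈ D, g * x = x * g
      · have hDC : D ≤ C := fun g hg => (hCmem g).mpr ⟨hg, hxZ g hg⟩
        calc Nat.card D ≤ Nat.card C := Subgroup.card_le_of_le hDC
          _ ≤ p ^ 2 := hCcard
          _ ≤ p ^ 3 := Nat.pow_le_pow_right hp.pos (by norm_num)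
      · push Not at hxZ
        obtain ⟨u, huD, hux⟩ := hxZ
        obtain ⟨Z, hZ⟩ : ∃ Z : Subgroup G, Z = D ⊓ Subgroup.centralizer (D : Set G) := ⟨_, rfl⟩
        have hZC : Z ≤ C := by
          intro g hg
          rw [hZ, Subgroup.mem_inf, Subgroup.mem_centralizer_iff] at hg
          exact (hCmem g).mpr ⟨hg.1, (hg.2 x hxD).symm⟩
        have hZne : Z ≠ C := by
          intro heq
          have hxC : x ∈ C := (hCmem x).mpr ⟨hxD, rfl⟩
          rw [← heq, hZ, Subgroup.mem_inf, Subgroup.mem_centralizer_iff] at hxC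
          exact hux (hxC.2 u huD)
        have hZcard : Nat.card Z ≤ p :=
          card_le_of_ne_of_card_le_sq hZC hZne (hSp.to_le hCS) hCcard
        have hcomm : ∀ g ∈ D, ⁅g, x⁆ ∈ Z := by
          intro g hg
          rw [hZ, Subgroup.mem_inf, Subgroup.mem_centralizer_iff]
          refine ⟨?_, ?_⟩
          · rw [commutatorElement_def]
            exact mul_mem (mul_mem (mul_mem hg hxD) (inv_mem hg)) (inv_mem hxD)
          · intro z hz
            exact (hcl g hg x hxD z hz).symm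
        have hcount := card_le_card_mul_card_centralizer D Z x hcomm
        rw [← hC] at hcount
        calc Nat.card D ≤ Nat.card Z * Nat.card C := hcount
          _ ≤ p * p ^ 2 := Nat.mul_le_mul hZcard hCcard
          _ = p ^ 3 := by ring
    -- the chain `D ≥ D₁ ≥ D₂ ≥ 1`
    obtain ⟨D₁, hD₁⟩ : ∃ D₁ : Subgroup G, D₁ = D ⊓ T' := ⟨_, rfl⟩
    obtain ⟨D₂, hD₂⟩ : ∃ D₂ : Subgroup G, D₂ = D₁ ⊓ Subgroup.centralizer (R : Set G) :=
      ⟨_, rfl⟩
    have hD₁D : D₁ ≤ D := by rw [hD₁]; exact inf_le_left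
    have hD₂D₁ : D₂ ≤ D₁ := by rw [hD₂]; exact inf_le_left
    have hD₁R : D₁ ≤ R := hD₁D.trans hDR
    have hD₂R : D₂ ≤ R := hD₂D₁.trans hD₁R
    have hnD₁ : Subgroup.normalizer (R : Set G) ≤ Subgroup.normalizer (D₁ : Set G) := by
      rw [hD₁]; exact normalizer_le_normalizer_inf hND hnT'
    have hnD₂ : Subgroup.normalizer (R : Set G) ≤ Subgroup.normalizer (D₂ : Set G) := by
      rw [hD₂]
      exact normalizer_le_normalizer_inf hnD₁ (normalizer_le_normalizer_centralizer R)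
    have hnbot : Subgroup.normalizer (R : Set G) ≤
        Subgroup.normalizer (((⊥ : Subgroup G) : Subgroup G) : Set G) := by
      apply Cfsg.Agent.Lib.Helper1.le_normalizer_of_forall_conj_mem'
      intro y _ n hn
      rw [Subgroup.mem_bot] at hn ⊢
      rw [hn]; group
    have hcard1 : Nat.card D ≤ p * Nat.card D₁ := by
      rw [hD₁]; exact card_le_mul_card_inf_of_index R D T' hDR hT'R hcardT
    have hD₁ne : D₁ ≠ D := by
      intro heq
      apply hxT'
      have h1 : x ∈ D₁ := by rw [heq]; exact hxD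
      rw [hD₁] at h1
      exact (Subgroup.mem_inf.mp h1).2
    have hD₁card : Nat.card D₁ ≤ p ^ 2 := by
      have h1 := card_mul_le_of_lt hR (A := D₁.subgroupOf R)
        (B := D.subgroupOf R) (by
          refine lt_of_le_of_ne ?_ ?_
          · intro y hy
            rw [Subgroup.mem_subgroupOf] at hy ⊢
            exact hD₁D hy
          · intro heq
            apply hD₁ne
            apply le_antisymm hD₁D
            intro g hg
            have h2 : (⟨g, hDR hg⟩ : ↥R) ∈ D.subgroupOf R := Subgroup.mem_subgroupOf.mpr hg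
            rw [← heq] at h2
            exact Subgroup.mem_subgroupOf.mp h2)
      rw [Nat.card_congr (Subgroup.subgroupOfEquivOfLe hD₁R).toEquiv,
        Nat.card_congr (Subgroup.subgroupOfEquivOfLe hDR).toEquiv] at h1
      have h2 : p * Nat.card D₁ ≤ p * p ^ 2 := by
        calc p * Nat.card D₁ ≤ Nat.card D := h1
          _ ≤ p ^ 3 := hDcard
          _ = p * p ^ 2 := by ring
      exact Nat.le_of_mul_le_mul_left h2 hp.pos
    have hD₂card : Nat.card D₂ ≤ p := by
      have hle : D₂ ≤ S ⊓ Subgroup.centralizer (R : Set G) := by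
        intro g hg
        rw [hD₂] at hg
        obtain ⟨h1, h2⟩ := Subgroup.mem_inf.mp hg
        refine Subgroup.mem_inf.mpr ⟨?_, h2⟩
        apply hwit' g (hD₁R h1) _ (hexp g (hD₁D h1))
        exact ((Subgroup.mem_centralizer_iff.mp h2) x (hSR hxS')).symm
      have hne : S ⊓ Subgroup.centralizer (R : Set G) ≠ S := by
        intro heq
        apply hxcen
        have h1 : x ∈ S ⊓ Subgroup.centralizer (R : Set G) := by rw [heq]; exact hxS'
        exact (Subgroup.mem_inf.mp h1).2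
      exact (Subgroup.card_le_of_le hle).trans
        (card_le_of_ne_of_card_le_sq inf_le_left hne hSp hScard')
    have hcard2 : Nat.card D₁ ≤ p * Nat.card D₂ := by
      by_cases hbot : D₁ = ⊥
      · rw [hbot, Subgroup.card_bot]
        have : 0 < Nat.card D₂ := Nat.card_pos
        have := hp.pos
        nlinarith
      · have h1 := inf_centralizer_ne_bot R D₁ hR hD₁R (Subgroup.le_normalizer.trans hnD₁) hbot
        rw [← hD₂] at h1
        have h2 : p ≤ Nat.card D₂ := by
          obtain ⟨k, hk⟩ := (hR.to_le hD₂R).exists_card_eq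
          rcases Nat.eq_zero_or_pos k with h0 | hpos
          · rw [h0, pow_zero] at hk
            exact absurd (Subgroup.card_eq_one.mp hk) h1
          · rw [hk]
            calc p = p ^ 1 := (pow_one p).symm
              _ ≤ p ^ k := Nat.pow_le_pow_right hp.pos hpos
        calc Nat.card D₁ ≤ p ^ 2 := hD₁card
          _ = p * p := by ring
          _ ≤ p * Nat.card D₂ := Nat.mul_le_mul_left p h2
    have hcard3 : Nat.card D₂ ≤ p * Nat.card (⊥ : Subgroup G) := by
      rw [Subgroup.card_bot, mul_one]; exact hD₂card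
    have hst3 := section_pow_pred R D₂ ⊥ bot_le hD₂R (hR.to_le hD₂R) hnD₂ hnbot hcard3 a ha
    have hst2 := section_pow_pred R D₁ D₂ hD₂D₁ hD₁R (hR.to_le hD₁R) hnD₁ hnD₂ hcard2 a ha
    have hst1 := section_pow_pred R D D₁ hD₁D hDR hDp hND hnD₁ hcard1 a ha
    rw [← hc] at hst1 hst2 hst3
    have hc3 : c ∈ Subgroup.centralizer (D₂ : Set G) :=
      mem_centralizer_of_stabilizes D₂ ⊥ (hR.to_le bot_le) c hccop hst3 (by
        rw [Subgroup.mem_centralizer_iff]
        intro y hy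
        rw [SetLike.mem_coe, Subgroup.mem_bot] at hy
        rw [hy, one_mul, mul_one])
    have hc2 : c ∈ Subgroup.centralizer (D₁ : Set G) :=
      mem_centralizer_of_stabilizes D₁ D₂ (hR.to_le hD₂R) c hccop hst2 hc3
    exact mem_centralizer_of_stabilizes D D₁ (hR.to_le hD₁R) c hccop hst1 hc2
  · -- the chain `D ≥ [D, R] ≥ ⋯`
    have hCne : C ≠ S := by
      intro heq
      rw [← heq] at hxS'
      exact hxD ((hCmem x).mp hxS').1
    have hCcard : Nat.card C ≤ p := card_le_of_ne_of_card_le_sq hCS hCne hSp hScard'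
    have hchain : ∀ i : ℕ, Nat.card (relLower D R i) ≤ p * Nat.card (relLower D R (i + 1)) := by
      intro i
      have hcomm : ∀ g ∈ relLower D R i, ⁅g, x⁆ ∈ relLower D R (i + 1) := by
        intro g hg
        rw [relLower_succ]
        exact Subgroup.commutator_mem_commutator hg (hSR hxS')
      have hcount := card_le_card_mul_card_centralizer (relLower D R i) (relLower D R (i + 1)) x
        hcomm
      have hle : (relLower D R i ⊓ Subgroup.centralizer ({x} : Set G) : Subgroup G) ≤ C := by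
        rw [hC]
        exact inf_le_inf_right _ (relLower_le D R hRD i)
      calc Nat.card (relLower D R i)
          ≤ Nat.card (relLower D R (i + 1)) *
            Nat.card (relLower D R i ⊓ Subgroup.centralizer ({x} : Set G) : Subgroup G) := hcount
        _ ≤ Nat.card (relLower D R (i + 1)) * p :=
            Nat.mul_le_mul_left _ ((Subgroup.card_le_of_le hle).trans hCcard)
        _ = p * Nat.card (relLower D R (i + 1)) := mul_comm _ _
    have hnorm : ∀ j : ℕ, Subgroup.normalizer (R : Set G) ≤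
        Subgroup.normalizer (relLower D R j : Set G) := fun j =>
      (le_inf hND le_rfl).trans (relLower_normalizer_le D R j)
    have hall : ∀ i : ℕ, ∀ g ∈ relLower D R i, c * g * c⁻¹ * g⁻¹ ∈ relLower D R (i + 1) := by
      intro i g hg
      rw [hc]
      exact section_pow_pred R (relLower D R i) (relLower D R (i + 1))
        (relLower_succ_le D R hRD i) ((relLower_le D R hRD i).trans hDR)
        (hR.to_le ((relLower_le D R hRD i).trans hDR)) (hnorm i) (hnorm (i + 1)) (hchain i)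
        a ha g hg
    have h1 := pow_mem_centralizer_of_stabilizes D R hRD hexp c hall (Nat.card D)
      (relLower_eq_bot D R hR hDR hRD)
    exact mem_of_pow_prime_pow_mem hccop h1

end Main

end Cfsg.Agent.Lib.Helper10
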