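import Mathlib
import Cfsg.Prelude.Def_Transfer
import Cfsg.Agent.Lib.Helper10.NormalEpCube
import Cfsg.Agent.Lib.Helper10.MetaCrit
import Cfsg.Agent.Lib.Helper1.NormalElemAb
import Cfsg.Agent.Lib.Helper1.Hall
import Cfsg.Agent.Lib.Helper1.Extraspecial
import Cfsg.Agent.Lib.Helper1.Frattini
import Cfsg.Agent.Lib.Helper1.ClassTwo
import Cfsg.Agent.Lib.Helper2.NormalEpSqOdd
import Cfsg.Agent.Lib.Helper18.ProductFormula

/-!
A `3`-group containing an elementary abelian subgroup of order at least `81` has a normal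
elementary abelian subgroup of order at least `81`.

Also: an element of order dividing `3` normalizing an elementary abelian `3`-group `V`
satisfies `|V| ≤ |C_V(b)| ^ 3`.
-/

set_option autoImplicit false

open scoped commutatorElement

namespace Cfsg.Agent.Lib.Helper10

namespace NormalEp4

universe u

/-! ### generalities -/

theorem card_eq_card_ker_mul_card_range {A B : Type*} [Group A] [Group B] (f : A →* B) :
    Nat.card A = Nat.card f.ker * Nat.card f.range := by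
  rw [← Nat.card_congr (QuotientGroup.quotientKerEquivRange f).toEquiv, mul_comm]
  exact Subgroup.card_eq_card_quotient_mul_card_subgroup f.ker

/-- the map `e ↦ ⁅n, e⁆` from `E` to a subgroup `T` centralized by `E`, counting form -/
theorem commutator_map_facts {G : Type*} [Group G] [Finite G] (E T K : Subgroup G) (n : G)
    (hT : ∀ e ∈ E, ⁅n, e⁆ ∈ T) (hcent : ∀ e ∈ E, ∀ t ∈ T, e * t = t * e)
    (hK : ∀ e ∈ E, ⁅n, e⁆ = 1 → e ∈ K) :
    Nat.card E ≤ Nat.card T * Nat.card K ∧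
    (Nat.card T * Nat.card K ≤ Nat.card E → ∀ t ∈ T, ∃ e ∈ E, ⁅n, e⁆ = t) := by
  let f : E →* T :=
    { toFun := fun e => ⟨⁅n, (e : G)⁆, hT e e.2⟩
      map_one' := by
        apply Subtype.ext
        simp
      map_mul' := by
        intro e e'
        apply Subtype.ext
        show ⁅n, (e : G) * (e' : G)⁆ = ⁅n, (e : G)⁆ * ⁅n, (e' : G)⁆
        have h := hcent e e.2 _ (hT e' e'.2)
        have h2 : ⁅n, (e : G) * (e' : G)⁆ =
            ⁅n, (e : G)⁆ * ((e : G) * ⁅n, (e' : G)⁆ * (e : G)⁻¹) := by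
          simp only [commutatorElement_def]; group
        rw [h2, h]; group }
  have hf : ∀ e : E, ((f e : T) : G) = ⁅n, (e : G)⁆ := fun e => rfl
  have hker : Nat.card f.ker ≤ Nat.card K := by
    have hmem : ∀ x : f.ker, ((x : E) : G) ∈ K := by
      intro x
      apply hK _ (x : E).2
      have h1 : f (x : E) = 1 := MonoidHom.mem_ker.mp x.2
      have h2 := congrArg Subtype.val h1
      rw [hf] at h2
      simpa using h2
    apply Nat.card_le_card_of_injective (fun x : f.ker => (⟨((x : E) : G), hmem x⟩ : K))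
    intro x y hxy
    have h1 : ((x : E) : G) = ((y : E) : G) := by
      have := congrArg Subtype.val hxy
      exact this
    exact Subtype.ext (Subtype.ext h1)
  have hrange : Nat.card f.range ≤ Nat.card T :=
    Nat.card_le_card_of_injective Subtype.val Subtype.val_injective
  have hcard := card_eq_card_ker_mul_card_range f
  constructor
  · calc Nat.card E = Nat.card f.ker * Nat.card f.range := hcard
      _ ≤ Nat.card K * Nat.card T := Nat.mul_le_mul hker hrange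
      _ = Nat.card T * Nat.card K := mul_comm _ _
  · intro hle t ht
    have hr : Nat.card T ≤ Nat.card f.range := by
      have hKpos : 0 < Nat.card K := Nat.card_pos
      have h1 : Nat.card K * Nat.card T ≤ Nat.card K * Nat.card f.range := by
        calc Nat.card K * Nat.card T = Nat.card T * Nat.card K := mul_comm _ _
          _ ≤ Nat.card E := hle
          _ = Nat.card f.ker * Nat.card f.range := hcard
          _ ≤ Nat.card K * Nat.card f.range := Nat.mul_le_mul_right _ hker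
      exact Nat.le_of_mul_le_mul_left h1 hKpos
    have htop : f.range = ⊤ := by
      apply Subgroup.eq_top_of_le_card
      exact hr
    have hmem : (⟨t, ht⟩ : T) ∈ f.range := htop ▸ Subgroup.mem_top _
    obtain ⟨e, he⟩ := hmem
    refine ⟨e, e.2, ?_⟩
    have := congrArg Subtype.val he
    rw [hf] at this
    exact this

/-- if `A ≤ B` are normal in a `p`-group with `|B| = p |A|` then `B / A` is central -/
theorem commutator_mem_of_card_eq_mul {P : Type*} [Group P] [Finite P] {p : ℕ} [Fact p.Prime]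
    (hP : IsPGroup p P) (A B : Subgroup P) [A.Normal] [hBn : B.Normal] (hAB : A ≤ B)
    (hcard : Nat.card B = p * Nat.card A) : ∀ b ∈ B, ∀ g : P, ⁅b, g⁆ ∈ A := by
  intro b hb g
  have hBn' : (B.map (QuotientGroup.mk' A)).Normal :=
    Subgroup.Normal.map hBn _ (QuotientGroup.mk'_surjective A)
  have hc : Nat.card (B.map (QuotientGroup.mk' A)) = p := by
    have h1 := Cfsg.Agent.Lib.Helper1.card_map_mk_of_le A hAB
    have hpos : 0 < Nat.card A := Nat.card_pos
    apply Nat.eq_of_mul_eq_mul_right hpos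
    rw [h1, hcard]
  have hQ : IsPGroup p (P ⧸ A) := hP.to_quotient A
  have hcen := Cfsg.Agent.Lib.Helper1.le_center_of_normal_of_card_prime hQ
    (B.map (QuotientGroup.mk' A)) hc
  have hmem : (QuotientGroup.mk' A) b ∈ Subgroup.center (P ⧸ A) :=
    hcen (Subgroup.mem_map_of_mem _ hb)
  rw [← QuotientGroup.eq_one_iff, ← QuotientGroup.mk'_apply, map_commutatorElement,
    commutatorElement_eq_one_iff_commute]
  exact (Subgroup.mem_center_iff.mp hmem _).symm

/-- no subgroup lies strictly between `A` and `C` when `|C| = p |A|` -/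
theorem eq_of_lt_of_le_of_card' {R : Type*} [Group R] [Finite R] {p : ℕ} [Fact p.Prime]
    (hR : IsPGroup p R) {A B C : Subgroup R} (hAB : A < B) (hBC : B ≤ C)
    (hcard : Nat.card C = p * Nat.card A) : B = C := by
  apply Subgroup.eq_of_le_of_card_ge hBC
  rw [hcard]
  exact card_mul_le_of_lt hR hAB

/-- an element commuting with `A` and with some `b ∈ B \ A`, where `|B| = p |A|`, commutes
with `B` -/
theorem commute_of_card_eq_mul {P : Type*} [Group P] [Finite P] {p : ℕ} [Fact p.Prime]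
    (hP : IsPGroup p P) {A B : Subgroup P} (hAB : A ≤ B) (hcard : Nat.card B = p * Nat.card A)
    {b x : P} (hb : b ∈ B) (hbA : b ∉ A) (hxA : ∀ a ∈ A, x * a = a * x) (hxb : x * b = b * x) :
    ∀ y ∈ B, x * y = y * x := by
  have hmemc : ∀ y : P, y ∈ Subgroup.centralizer ({x} : Set P) ↔ x * y = y * x := by
    intro y
    rw [Subgroup.mem_centralizer_iff]
    constructor
    · intro h; exact h x rfl
    · intro h z hz
      rw [Set.mem_singleton_iff] at hz
      rw [hz]; exact h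
  have hAX : A ≤ Subgroup.centralizer ({x} : Set P) ⊓ B := fun a ha =>
    ⟨(hmemc a).mpr (hxA a ha), hAB ha⟩
  have hlt : A < Subgroup.centralizer ({x} : Set P) ⊓ B := by
    refine lt_of_le_of_ne hAX ?_
    intro h
    apply hbA
    rw [h]
    exact ⟨(hmemc b).mpr hxb, hb⟩
  have heq := eq_of_lt_of_le_of_card' hP hlt inf_le_right hcard
  intro y hy
  have : y ∈ Subgroup.centralizer ({x} : Set P) ⊓ B := by rw [heq]; exact hy
  exact (hmemc y).mp this.1

/-! ### the configuration -/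

/-- a `3`-group with a normal elementary abelian subgroup `N` of order `27` which contains
every element of order dividing `3` of its centralizer, with a normal series
`N₁ ≤ N₂ ≤ N`. -/
structure Cfg (P : Type u) [Group P] [Finite P] where
  N : Subgroup P
  N₂ : Subgroup P
  N₁ : Subgroup P
  hP : IsPGroup 3 P
  hNn : N.Normal
  hN₂n : N₂.Normal
  hN₁n : N₁.Normal
  hNc : ∀ x ∈ N, ∀ y ∈ N, x * y = y * x
  hN3 : ∀ x ∈ N, x ^ 3 = 1
  hNcard : Nat.card N = 27
  hN₂card : Nat.card N₂ = 9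
  hN₁card : Nat.card N₁ = 3
  h12 : N₁ ≤ N₂
  h2N : N₂ ≤ N
  hΩ : ∀ x : P, (∀ n ∈ N, x * n = n * x) → x ^ 3 = 1 → x ∈ N

variable {P : Type u} [Group P] [Finite P]

theorem Cfg.c1 (c : Cfg P) : ∀ n ∈ c.N, ∀ g : P, ⁅n, g⁆ ∈ c.N₂ := by
  haveI := c.hNn; haveI := c.hN₂n
  exact commutator_mem_of_card_eq_mul c.hP c.N₂ c.N c.h2N (by rw [c.hNcard, c.hN₂card] <;> norm_num)

theorem Cfg.c2 (c : Cfg P) : ∀ n ∈ c.N₂, ∀ g : P, ⁅n, g⁆ ∈ c.N₁ := by
  haveI := c.hN₂n; haveI := c.hN₁n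
  exact commutator_mem_of_card_eq_mul c.hP c.N₁ c.N₂ c.h12 (by rw [c.hN₂card, c.hN₁card] <;> norm_num)

theorem Cfg.c3 (c : Cfg P) : ∀ z ∈ c.N₁, ∀ g : P, g * z = z * g := by
  haveI := c.hN₁n
  intro z hz g
  have h := Cfsg.Agent.Lib.Helper1.le_center_of_normal_of_card_prime c.hP c.N₁ c.hN₁card hz
  exact Subgroup.mem_center_iff.mp h g

theorem Cfg.c1' (c : Cfg P) : ∀ n ∈ c.N, ∀ g : P, ⁅g, n⁆ ∈ c.N₂ := by
  intro n hn g
  rw [← commutatorElement_inv]
  exact c.N₂.inv_mem (c.c1 n hn g)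

theorem Cfg.exists_not_mem_N₂ (c : Cfg P) : ∃ x ∈ c.N, x ∉ c.N₂ := by
  by_contra h
  push_neg at h
  have := Subgroup.card_le_of_le (show c.N ≤ c.N₂ from h)
  rw [c.hNcard, c.hN₂card] at this
  omega

theorem Cfg.exists_not_mem_N₁ (c : Cfg P) : ∃ x ∈ c.N₂, x ∉ c.N₁ := by
  by_contra h
  push_neg at h
  have := Subgroup.card_le_of_le (show c.N₂ ≤ c.N₁ from h)
  rw [c.hN₂card, c.hN₁card] at this
  omega

/-- an element centralizing `N₂` and some `n ∈ N \ N₂` centralizes `N` -/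
theorem Cfg.commute_N (c : Cfg P) {n x : P} (hn : n ∈ c.N) (hn2 : n ∉ c.N₂)
    (hx2 : ∀ t ∈ c.N₂, x * t = t * x) (hxn : x * n = n * x) : ∀ y ∈ c.N, x * y = y * x :=
  commute_of_card_eq_mul c.hP c.h2N (by rw [c.hNcard, c.hN₂card] <;> norm_num) hn hn2 hx2 hxn

/-- an element commuting with some `n ∈ N₂ \ N₁` centralizes `N₂` -/
theorem Cfg.commute_N₂ (c : Cfg P) {n x : P} (hn : n ∈ c.N₂) (hn1 : n ∉ c.N₁)
    (hxn : x * n = n * x) : ∀ y ∈ c.N₂, x * y = y * x :=
  commute_of_card_eq_mul c.hP c.h12 (by rw [c.hN₂card, c.hN₁card] <;> norm_num) hn hn1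
    (fun a ha => c.c3 a ha x) hxn

/-- the structure of the elementary abelian subgroups of order at least `81` -/
theorem Cfg.elemAb_facts (c : Cfg P) (E : Subgroup P) (hEc : ∀ x ∈ E, ∀ y ∈ E, x * y = y * x)
    (hE3 : ∀ x ∈ E, x ^ 3 = 1) (hEcard : 81 ≤ Nat.card E) :
    c.N₂ ≤ E ∧ (∀ x ∈ E, (∀ n ∈ c.N, x * n = n * x) → x ∈ c.N₂) ∧ Nat.card E = 81 ∧
    (∀ n ∈ c.N, n ∉ c.N₂ → ∀ m ∈ c.N₂, ∃ e ∈ E, ⁅n, e⁆ = m) := by
  have hP := c.hP
  have c1 := c.c1
  have c2 := c.c2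
  have c3 := c.c3
  set K : Subgroup P := E ⊓ Subgroup.centralizer (c.N : Set P) with hKdef
  have hKE : K ≤ E := inf_le_left
  have hKN : K ≤ c.N := by
    intro x hx
    exact c.hΩ x (fun n hn => ((Subgroup.mem_centralizer_iff.mp hx.2) n hn).symm) (hE3 x hx.1)
  have hKmem : ∀ x ∈ E, (∀ n ∈ c.N, x * n = n * x) → x ∈ K := fun x hx h =>
    ⟨hx, Subgroup.mem_centralizer_iff.mpr (fun n hn => (h n hn).symm)⟩
  have hNE : ¬ c.N ≤ E := by
    intro hle
    have h1 : E ≤ c.N := by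
      intro e he
      exact c.hΩ e (fun n hn => hEc e he n (hle hn)) (hE3 e he)
    have := Subgroup.card_le_of_le h1
    rw [c.hNcard] at this; omega
  obtain ⟨n₂, hn₂, hn₂1⟩ := c.exists_not_mem_N₁
  obtain ⟨n, hn, hn2⟩ := c.exists_not_mem_N₂
  set E₁ : Subgroup P := E ⊓ Subgroup.centralizer (c.N₂ : Set P) with hE₁def
  have hE₁E : E₁ ≤ E := inf_le_left
  have hE₁cent : ∀ e ∈ E₁, ∀ t ∈ c.N₂, e * t = t * e := fun e he t ht =>
    ((Subgroup.mem_centralizer_iff.mp he.2) t ht).symm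
  have hE₁mem : ∀ e ∈ E, e * n₂ = n₂ * e → e ∈ E₁ := by
    intro e he hcomm
    refine ⟨he, Subgroup.mem_centralizer_iff.mpr (fun y hy => ?_)⟩
    exact (c.commute_N₂ hn₂ hn₂1 hcomm y hy).symm
  -- |E| ≤ 3 |E₁|
  have h3 := (commutator_map_facts E c.N₁ E₁ n₂ (fun e _ => c2 n₂ hn₂ e)
    (fun e _ t ht => c3 t ht e) (by
      intro e he h1
      rw [commutatorElement_eq_one_iff_mul_comm] at h1
      exact hE₁mem e he h1.symm)).1
  rw [c.hN₁card] at h3
  -- |E₁| ≤ 9 |K|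
  have h4 := commutator_map_facts E₁ c.N₂ K n (fun e _ => c1 n hn e) hE₁cent (by
      intro e he h1
      rw [commutatorElement_eq_one_iff_mul_comm] at h1
      exact hKmem e he.1 (c.commute_N hn hn2 (hE₁cent e he) h1.symm))
  rw [c.hN₂card] at h4
  have hKdvd : Nat.card K ∣ 3 ^ 3 := by
    have := Subgroup.card_dvd_of_le hKN
    rw [c.hNcard] at this
    simpa using this
  have hKne27 : Nat.card K ≠ 27 := by
    intro h
    have : K = c.N := Subgroup.eq_of_le_of_card_ge hKN (le_of_eq (by rw [h, c.hNcard]))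
    apply hNE
    rw [← this]
    exact hKE
  have hK3 : 3 ≤ Nat.card K := by
    have := h4.1
    omega
  have hKcases : Nat.card K = 3 ∨ Nat.card K = 9 := by
    obtain ⟨k, hk, hk'⟩ := (Nat.dvd_prime_pow Nat.prime_three).mp hKdvd
    have h27 : Nat.card K = 1 ∨ Nat.card K = 3 ∨ Nat.card K = 9 ∨ Nat.card K = 27 := by
      interval_cases k
      · left; rw [hk']; norm_num
      · right; left; rw [hk']; norm_num
      · right; right; left; rw [hk']; norm_num
      · right; right; right; rw [hk']; norm_num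
    rcases h27 with h | h | h | h
    · omega
    · left; exact h
    · right; exact h
    · exact absurd h hKne27
  rcases hKcases with hK | hK
  · -- impossible case
    exfalso
    have h41 := h4.1
    rw [hK] at h41
    have hE₁card : Nat.card E₁ = 27 := by omega
    have hEcard' : Nat.card E = 81 := by omega
    obtain ⟨e₁, he₁, he₁n⟩ := h4.2 (by omega) n₂ hn₂
    obtain ⟨g, hg, hgE₁⟩ : ∃ g ∈ E, g ∉ E₁ := by
      by_contra h
      push_neg at h
      have := Subgroup.card_le_of_le (show E ≤ E₁ from h)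
      omega
    apply hgE₁
    apply hE₁mem g hg
    -- the computation
    have id1 : ∀ a b : P, ⁅n, a * b⁆ = ⁅n, a⁆ * (a * ⁅n, b⁆ * a⁻¹) := by
      intro a b; simp only [commutatorElement_def]; group
    have hcomm : e₁ * g = g * e₁ := hEc e₁ (hE₁E he₁) g hg
    have hA := id1 e₁ g
    have hB := id1 g e₁
    rw [hcomm, hB] at hA
    have hm : ⁅n, g⁆ ∈ c.N₂ := c1 n hn g
    have hem : e₁ * ⁅n, g⁆ * e₁⁻¹ = ⁅n, g⁆ := by
      rw [hE₁cent e₁ he₁ _ hm]; group
    rw [hem, he₁n] at hA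
    -- hA : ⁅n, g⁆ * (g * n₂ * g⁻¹) = n₂ * ⁅n, g⁆
    have hcm : n₂ * ⁅n, g⁆ = ⁅n, g⁆ * n₂ := c.hNc _ (c.h2N hn₂) _ (c.h2N hm)
    rw [hcm] at hA
    have hA' : g * n₂ * g⁻¹ = n₂ := mul_left_cancel hA
    calc g * n₂ = g * n₂ * g⁻¹ * g := by group
      _ = n₂ * g := by rw [hA']
  · -- the main case
    have hKN₂ : K = c.N₂ := by
      by_contra hne
      obtain ⟨n', hn', hn'K⟩ : ∃ x ∈ c.N₂, x ∉ K := by
        by_contra h
        push_neg at h
        apply hne
        exact (Subgroup.eq_of_le_of_card_ge (show c.N₂ ≤ K from h)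
          (le_of_eq (by rw [hK, c.hN₂card]))).symm
      have h5 := (commutator_map_facts E c.N₁ K n' (fun e _ => c2 n' hn' e)
        (fun e _ t ht => c3 t ht e) (by
          intro e he h1
          rw [commutatorElement_eq_one_iff_mul_comm] at h1
          apply hKmem e he
          exact commute_of_card_eq_mul hP hKN (by rw [c.hNcard, hK] <;> norm_num) (c.h2N hn') hn'K
            (fun a ha => hEc e he a (hKE ha)) h1.symm)).1
      rw [c.hN₁card, hK] at h5
      omega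
    have hN₂E : c.N₂ ≤ E := hKN₂ ▸ hKE
    have hEN₂ : ∀ e ∈ E, ∀ t ∈ c.N₂, e * t = t * e := fun e he t ht => hEc e he t (hN₂E ht)
    have hfacts : ∀ n' ∈ c.N, n' ∉ c.N₂ →
        Nat.card E ≤ Nat.card c.N₂ * Nat.card c.N₂ ∧
        (Nat.card c.N₂ * Nat.card c.N₂ ≤ Nat.card E → ∀ t ∈ c.N₂, ∃ e ∈ E, ⁅n', e⁆ = t) := by
      intro n' hn' hn'2
      exact commutator_map_facts E c.N₂ c.N₂ n' (fun e _ => c1 n' hn' e) hEN₂ (by
        intro e he h1
        rw [commutatorElement_eq_one_iff_mul_comm] at h1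
        rw [← hKN₂]
        exact hKmem e he (c.commute_N hn' hn'2 (hEN₂ e he) h1.symm))
    have hcardE : Nat.card E = 81 := by
      have := (hfacts n hn hn2).1
      rw [c.hN₂card] at this
      omega
    refine ⟨hN₂E, ?_, hcardE, ?_⟩
    · intro x hx h
      rw [← hKN₂]
      exact hKmem x hx h
    · intro n' hn' hn'2 m hm
      exact (hfacts n' hn' hn'2).2 (by rw [c.hN₂card, hcardE]) m hm

/-- commutators of elements centralizing `N₂` centralize `N` -/
theorem Cfg.commutator_centralizes (c : Cfg P) {x y : P} (hx : ∀ t ∈ c.N₂, x * t = t * x)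
    (hy : ∀ t ∈ c.N₂, y * t = t * y) : ∀ n ∈ c.N, ⁅x, y⁆ * n = n * ⁅x, y⁆ := by
  have hNn := c.hNn
  have key : ∀ n ∈ c.N, x * y * n * (x * y)⁻¹ = y * x * n * (y * x)⁻¹ := by
    intro n hn
    have ha : ⁅y, n⁆ ∈ c.N₂ := c.c1' n hn y
    have hb : ⁅x, n⁆ ∈ c.N₂ := c.c1' n hn x
    have e1 : y * n * y⁻¹ = ⁅y, n⁆ * n := by simp only [commutatorElement_def]; group
    have e2 : x * n * x⁻¹ = ⁅x, n⁆ * n := by simp only [commutatorElement_def]; group
    have e3 : x * ⁅y, n⁆ * x⁻¹ = ⁅y, n⁆ := by rw [hx _ ha]; group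
    have e4 : y * ⁅x, n⁆ * y⁻¹ = ⁅x, n⁆ := by rw [hy _ hb]; group
    have l1 : x * y * n * (x * y)⁻¹ = ⁅y, n⁆ * (⁅x, n⁆ * n) := by
      calc x * y * n * (x * y)⁻¹ = x * (y * n * y⁻¹) * x⁻¹ := by group
        _ = x * (⁅y, n⁆ * n) * x⁻¹ := by rw [e1]
        _ = (x * ⁅y, n⁆ * x⁻¹) * (x * n * x⁻¹) := by group
        _ = ⁅y, n⁆ * (⁅x, n⁆ * n) := by rw [e3, e2]
    have l2 : y * x * n * (y * x)⁻¹ = ⁅x, n⁆ * (⁅y, n⁆ * n) := by
      calc y * x * n * (y * x)⁻¹ = y * (x * n * x⁻¹) * y⁻¹ := by group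
        _ = y * (⁅x, n⁆ * n) * y⁻¹ := by rw [e2]
        _ = (y * ⁅x, n⁆ * y⁻¹) * (y * n * y⁻¹) := by group
        _ = ⁅x, n⁆ * (⁅y, n⁆ * n) := by rw [e4, e1]
    rw [l1, l2, ← mul_assoc, ← mul_assoc, c.hNc _ (c.h2N ha) _ (c.h2N hb)]
  intro n hn
  have hn'' : (y * x)⁻¹ * n * (y * x) ∈ c.N := by
    have := hNn.conj_mem n hn (y * x)⁻¹
    simpa using this
  have hk := key _ hn''
  have h2 : ⁅x, y⁆ * n * ⁅x, y⁆⁻¹ = n := by
    have e : ⁅x, y⁆ * n * ⁅x, y⁆⁻¹ = x * y * ((y * x)⁻¹ * n * (y * x)) * (x * y)⁻¹ := by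
      simp only [commutatorElement_def]; group
    rw [e, hk]; group
  calc ⁅x, y⁆ * n = ⁅x, y⁆ * n * ⁅x, y⁆⁻¹ * ⁅x, y⁆ := by group
    _ = n * ⁅x, y⁆ := by rw [h2]

/-- two distinct elementary abelian subgroups of order at least `81` cannot both be normal in
a subgroup containing them. -/
theorem Cfg.false_of_two (c : Cfg P) (M V W : Subgroup P)
    (hVc : ∀ x ∈ V, ∀ y ∈ V, x * y = y * x) (hV3 : ∀ x ∈ V, x ^ 3 = 1)
    (hVcard : 81 ≤ Nat.card V)
    (hWc : ∀ x ∈ W, ∀ y ∈ W, x * y = y * x) (hW3 : ∀ x ∈ W, x ^ 3 = 1)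
    (hWcard : 81 ≤ Nat.card W) (hWM : W ≤ M)
    (hMV : ∀ m ∈ M, ∀ v ∈ V, m * v * m⁻¹ ∈ V)
    (hne : V ≠ W) : False := by
  haveI := c.hNn
  obtain ⟨hN₂V, hVC, hVcard', hVsurj⟩ := c.elemAb_facts V hVc hV3 hVcard
  obtain ⟨hN₂W, hWC, hWcard', hWsurj⟩ := c.elemAb_facts W hWc hW3 hWcard
  obtain ⟨n, hn, hn2⟩ := c.exists_not_mem_N₂
  have hV2 : ∀ v ∈ V, ∀ t ∈ c.N₂, v * t = t * v := fun v hv t ht => hVc v hv t (hN₂V ht)
  have hW2 : ∀ w ∈ W, ∀ t ∈ c.N₂, w * t = t * w := fun w hw t ht => hWc w hw t (hN₂W ht)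
  -- (i)
  have hcomm : ∀ v ∈ V, ∀ w ∈ W, ⁅v, w⁆ ∈ c.N₂ := by
    intro v hv w hw
    have h1 : ⁅v, w⁆ ∈ V := by
      have h := V.mul_mem hv (hMV w (hWM hw) v⁻¹ (V.inv_mem hv))
      have e : ⁅v, w⁆ = v * (w * v⁻¹ * w⁻¹) := by simp only [commutatorElement_def]; group
      rw [e]; exact h
    exact hVC _ h1 (c.commutator_centralizes (hV2 v hv) (hW2 w hw))
  -- (ii)
  have hdecomp : ∀ w ∈ W, ∃ v ∈ V, ∃ c' ∈ c.N, w = v * c' := by
    intro w hw
    obtain ⟨v, hv, hvw⟩ := hVsurj n hn hn2 ⁅n, w⁆ (c.c1 n hn w)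
    have hc'n : (v⁻¹ * w) * n = n * (v⁻¹ * w) := by
      have h := hvw
      simp only [commutatorElement_def] at h
      have h' : v * n⁻¹ * v⁻¹ = w * n⁻¹ * w⁻¹ := by
        have := congrArg (fun t => n⁻¹ * t) h
        simpa [mul_assoc] using this
      have h3 : (v⁻¹ * w) * n⁻¹ * (v⁻¹ * w)⁻¹ = n⁻¹ := by
        calc (v⁻¹ * w) * n⁻¹ * (v⁻¹ * w)⁻¹ = v⁻¹ * (w * n⁻¹ * w⁻¹) * v := by group
          _ = v⁻¹ * (v * n⁻¹ * v⁻¹) * v := by rw [h']
          _ = n⁻¹ := by group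
      have h4 : (v⁻¹ * w) * n⁻¹ = n⁻¹ * (v⁻¹ * w) := by
        calc (v⁻¹ * w) * n⁻¹ = ((v⁻¹ * w) * n⁻¹ * (v⁻¹ * w)⁻¹) * (v⁻¹ * w) := by group
          _ = n⁻¹ * (v⁻¹ * w) := by rw [h3]
      calc (v⁻¹ * w) * n = n * (n⁻¹ * (v⁻¹ * w)) * n := by group
        _ = n * ((v⁻¹ * w) * n⁻¹) * n := by rw [h4]
        _ = n * (v⁻¹ * w) := by group
    have hc2 : ∀ t ∈ c.N₂, (v⁻¹ * w) * t = t * (v⁻¹ * w) := by
      intro t ht
      have h1 := hV2 v hv t ht
      have h2 := hW2 w hw t ht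
      have h1' : v⁻¹ * t = t * v⁻¹ := by
        calc v⁻¹ * t = v⁻¹ * (t * v) * v⁻¹ := by group
          _ = v⁻¹ * (v * t) * v⁻¹ := by rw [h1]
          _ = t * v⁻¹ := by group
      calc (v⁻¹ * w) * t = v⁻¹ * (w * t) := by group
        _ = v⁻¹ * (t * w) := by rw [h2]
        _ = (v⁻¹ * t) * w := by group
        _ = (t * v⁻¹) * w := by rw [h1']
        _ = t * (v⁻¹ * w) := by group
    have hcN := c.commute_N hn hn2 hc2 hc'n
    have hcube : (v⁻¹ * w) ^ 3 = 1 := by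
      have hcm : ⁅w, v⁻¹⁆ ∈ c.N₂ := by
        have := hcomm v⁻¹ (V.inv_mem hv) w hw
        rw [← commutatorElement_inv]
        exact c.N₂.inv_mem this
      have hx : ⁅w, v⁻¹⁆ * v⁻¹ = v⁻¹ * ⁅w, v⁻¹⁆ := hVc _ (hN₂V hcm) _ (V.inv_mem hv)
      have hy : ⁅w, v⁻¹⁆ * w = w * ⁅w, v⁻¹⁆ := hWc _ (hN₂W hcm) _ hw
      have h := Cfsg.Agent.Lib.Helper1.mul_pow_of_commutator_central hx hy 3
      rw [h, hV3 _ (V.inv_mem hv), hW3 _ hw]
      have h3 : Nat.choose 3 2 = 3 := by decide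
      rw [h3, c.hN3 _ (c.h2N hcm)]
      simp
    exact ⟨v, hv, v⁻¹ * w, c.hΩ _ hcN hcube, by group⟩
  -- (iii)
  have hWle : W ≤ V ⊔ c.N := by
    intro w hw
    obtain ⟨v, hv, c', hc', rfl⟩ := hdecomp w hw
    exact Subgroup.mul_mem _ (Subgroup.mem_sup_left hv) (Subgroup.mem_sup_right hc')
  have hVN : V ⊓ c.N = c.N₂ := by
    apply le_antisymm
    · intro x hx
      exact hVC x hx.1 (fun n' hn' => c.hNc x hx.2 n' hn')
    · exact le_inf hN₂V c.h2N
  have hcardsup : Nat.card (V ⊔ c.N : Subgroup P) = 243 := by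
    have h := Cfsg.Agent.Lib.Helper1.card_sup_mul_card_inf V c.N
    rw [hVN, c.hN₂card, hVcard', c.hNcard] at h
    omega
  -- (iv)
  have h1 := Cfsg.Agent.Lib.Helper18.card_mul_card_le_card_sup_mul_card_inf V W
  have h2 : Nat.card (V ⊔ W : Subgroup P) ≤ 243 := by
    rw [← hcardsup]
    exact Subgroup.card_le_of_le (sup_le le_sup_left hWle)
  have h3 : 27 ≤ Nat.card (V ⊓ W : Subgroup P) := by
    rw [hVcard', hWcard'] at h1
    have : 81 * 81 ≤ 243 * Nat.card (V ⊓ W : Subgroup P) :=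
      h1.trans (Nat.mul_le_mul_right _ h2)
    omega
  obtain ⟨w', hw', hw'2⟩ : ∃ x ∈ V ⊓ W, x ∉ c.N₂ := by
    by_contra h
    push_neg at h
    have := Subgroup.card_le_of_le (show V ⊓ W ≤ c.N₂ from h)
    rw [c.hN₂card] at this
    omega
  -- (v)
  obtain ⟨w, hw, hwV⟩ : ∃ x ∈ W, x ∉ V := by
    by_contra h
    push_neg at h
    apply hne
    exact (Subgroup.eq_of_le_of_card_ge (show W ≤ V from h) (le_of_eq (by rw [hVcard', hWcard']))).symm
  obtain ⟨v, hv, c', hc', hwv⟩ := hdecomp w hw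
  have hc'2 : c' ∉ c.N₂ := by
    intro h
    apply hwV
    rw [hwv]
    exact V.mul_mem hv (hN₂V h)
  have hw'w : w' * w = w * w' := hWc w' hw'.2 w hw
  have hw'v : w' * v = v * w' := hVc w' hw'.1 v hv
  have hw'c : w' * c' = c' * w' := by
    have hc'eq : c' = v⁻¹ * w := by rw [hwv]; group
    have hw'vinv : w' * v⁻¹ = v⁻¹ * w' := by
      calc w' * v⁻¹ = v⁻¹ * (v * w') * v⁻¹ := by group
        _ = v⁻¹ * (w' * v) * v⁻¹ := by rw [hw'v]
        _ = v⁻¹ * w' := by group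
    rw [hc'eq]
    calc w' * (v⁻¹ * w) = (w' * v⁻¹) * w := by group
      _ = (v⁻¹ * w') * w := by rw [hw'vinv]
      _ = v⁻¹ * (w' * w) := by group
      _ = v⁻¹ * (w * w') := by rw [hw'w]
      _ = v⁻¹ * w * w' := by group
  have hw'N := c.commute_N hc' hc'2 (hV2 w' hw'.1) hw'c
  exact hw'2 (hVC w' hw'.1 hw'N)

/-! ### the main theorem -/

theorem exists_normal_elemAb_81_aux : ∀ (n : ℕ) (P : Type u) [Group P] [Finite P],
    Nat.card P = n → IsPGroup 3 P →
    (∃ E : Subgroup P, (∀ x ∈ E, ∀ y ∈ E, x * y = y * x) ∧ (∀ x ∈ E, x ^ 3 = 1) ∧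
      81 ≤ Nat.card E) →
    ∃ V : Subgroup P, V.Normal ∧ (∀ x ∈ V, ∀ y ∈ V, x * y = y * x) ∧ (∀ x ∈ V, x ^ 3 = 1) ∧
      81 ≤ Nat.card V := by
  intro n
  induction n using Nat.strong_induction_on with
  | _ n ih =>
    intro P _ _ hn hP hE
    obtain ⟨E, hEc, hE3, hEcard⟩ := hE
    by_contra hno
    push_neg at hno
    -- the normal subgroup `N`
    obtain ⟨N, hNn, hNc, hN3, hNcard⟩ :=
      Cfsg.Agent.Lib.Helper1.NormalElemAb.exists_normal_EA_cube 3 (by norm_num) (Nat.card P) P rfl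
        hP E hEc hE3 (le_trans (by norm_num) hEcard)
    haveI := hNn
    have hNcard' : Nat.card N = 27 := by rw [hNcard]; norm_num
    have hΩ : ∀ x : P, (∀ n ∈ N, x * n = n * x) → x ^ 3 = 1 → x ∈ N := by
      intro x hx hx3
      by_contra hxN
      have hEA : Cfsg.IsElementaryAbelian 3 N :=
        ⟨⟨⟨fun a b => Subtype.ext (hNc a a.2 b b.2)⟩⟩, hN3⟩
      obtain ⟨F, hFn, hFe, hlt⟩ := exists_normal_elemAb_gt (p := 3) (by norm_num) hP N hEA
        ⟨x, Subgroup.mem_centralizer_iff.mpr (fun n hn => (hx n hn).symm), hxN, hx3⟩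
      have hFcard : 81 ≤ Nat.card F := by
        have h1 := Cfsg.Agent.Lib.Helper1.card_lt_of_lt hlt
        obtain ⟨k, hk⟩ := (hP.to_subgroup F).exists_card_eq
        rw [hNcard', hk] at h1
        rw [hk]
        have hk4 : 4 ≤ k := by
          by_contra hk4
          push_neg at hk4
          have : 3 ^ k ≤ 3 ^ 3 := Nat.pow_le_pow_right (by norm_num) (by omega)
          omega
        calc 81 = 3 ^ 4 := by norm_num
          _ ≤ 3 ^ k := Nat.pow_le_pow_right (by norm_num) hk4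
      have := hno F hFn (fun a ha b hb =>
        congrArg Subtype.val (hFe.1.is_comm.comm ⟨a, ha⟩ ⟨b, hb⟩)) hFe.2
      omega
    obtain ⟨N₂, hN₂n, hN₂N, hN₂card⟩ :=
      Cfsg.Agent.Lib.Helper2.NormalEpSq.exists_normal_le_card_pow' hP 3 N hNcard 2 (by norm_num)
    haveI := hN₂n
    obtain ⟨N₁, hN₁n, hN₁N₂, hN₁card⟩ :=
      Cfsg.Agent.Lib.Helper2.NormalEpSq.exists_normal_le_card_pow' hP 2 N₂ hN₂card 1 (by norm_num)
    let c : Cfg P :=
      { N := N, N₂ := N₂, N₁ := N₁, hP := hP, hNn := hNn, hN₂n := hN₂n, hN₁n := hN₁n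
        hNc := hNc, hN3 := hN3, hNcard := hNcard'
        hN₂card := by rw [hN₂card]; norm_num
        hN₁card := by rw [hN₁card]; norm_num
        h12 := hN₁N₂, h2N := hN₂N, hΩ := hΩ }
    -- a maximal subgroup containing `E`
    have hEtop : E ≠ ⊤ := by
      intro h
      have := hno E (h ▸ inferInstance) hEc hE3
      omega
    obtain ⟨M, hMco, hEM⟩ := (eq_top_or_exists_le_coatom E).resolve_left hEtop
    have hMn : M.Normal := Cfsg.Agent.Lib.Helper1.IsPGroup.normal_of_isCoatom hP hMco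
    have hMcard : Nat.card M < n := by
      rw [← hn]
      exact Cfsg.Agent.Lib.Helper1.card_subgroup_lt_of_ne_top hMco.1
    -- induction
    obtain ⟨V', hV'n, hV'c, hV'3, hV'card⟩ := ih (Nat.card M) hMcard M rfl (hP.to_subgroup M)
      ⟨E.subgroupOf M, by
        intro x hx y hy
        exact Subtype.ext (hEc _ (Subgroup.mem_subgroupOf.mp hx) _ (Subgroup.mem_subgroupOf.mp hy)),
       by
        intro x hx
        exact Subtype.ext (by simpa using hE3 _ (Subgroup.mem_subgroupOf.mp hx)),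
       by
        rw [Nat.card_congr (Subgroup.subgroupOfEquivOfLe hEM).toEquiv]
        exact hEcard⟩
    set V : Subgroup P := V'.map M.subtype with hVdef
    have hVM : V ≤ M := by
      intro x hx
      obtain ⟨y, _, rfl⟩ := hx
      exact y.2
    have hVc : ∀ x ∈ V, ∀ y ∈ V, x * y = y * x := by
      intro x hx y hy
      obtain ⟨x', hx', rfl⟩ := hx
      obtain ⟨y', hy', rfl⟩ := hy
      exact congrArg Subtype.val (hV'c x' hx' y' hy')
    have hV3 : ∀ x ∈ V, x ^ 3 = 1 := by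
      intro x hx
      obtain ⟨x', hx', rfl⟩ := hx
      have := congrArg Subtype.val (hV'3 x' hx')
      simpa using this
    have hVcard : 81 ≤ Nat.card V := by
      rw [hVdef, Subgroup.card_map_of_injective M.subtype_injective]
      exact hV'card
    have hMV : ∀ m ∈ M, ∀ v ∈ V, m * v * m⁻¹ ∈ V := by
      intro m hm v hv
      obtain ⟨v', hv', rfl⟩ := hv
      have := hV'n.conj_mem v' hv' ⟨m, hm⟩
      exact ⟨_, this, by simp⟩
    -- `V` is not normal
    have hVnn : ¬ V.Normal := by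
      intro h
      have := hno V h hVc hV3
      omega
    have hex : ∃ g : P, ∃ v ∈ V, g * v * g⁻¹ ∉ V := by
      by_contra h
      push_neg at h
      exact hVnn ⟨fun v hv g => h g v hv⟩
    obtain ⟨g, v₀, hv₀, hgv₀⟩ := hex
    set W : Subgroup P := V.map (MulAut.conj g).toMonoidHom with hWdef
    have hWmem : ∀ x, x ∈ W ↔ ∃ v ∈ V, g * v * g⁻¹ = x := by
      intro x
      rw [hWdef, Subgroup.mem_map]
      simp [MulAut.conj_apply]
    have hWc : ∀ x ∈ W, ∀ y ∈ W, x * y = y * x := by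
      intro x hx y hy
      obtain ⟨x', hx', rfl⟩ := (hWmem x).mp hx
      obtain ⟨y', hy', rfl⟩ := (hWmem y).mp hy
      have := hVc x' hx' y' hy'
      calc g * x' * g⁻¹ * (g * y' * g⁻¹) = g * (x' * y') * g⁻¹ := by group
        _ = g * (y' * x') * g⁻¹ := by rw [this]
        _ = g * y' * g⁻¹ * (g * x' * g⁻¹) := by group
    have hW3 : ∀ x ∈ W, x ^ 3 = 1 := by
      intro x hx
      obtain ⟨x', hx', rfl⟩ := (hWmem x).mp hx
      rw [conj_pow, hV3 x' hx']
      group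
    have hWcard : 81 ≤ Nat.card W := by
      rw [hWdef, Subgroup.card_map_of_injective (MulAut.conj g).injective]
      exact hVcard
    have hWM : W ≤ M := by
      intro x hx
      obtain ⟨x', hx', rfl⟩ := (hWmem x).mp hx
      exact hMn.conj_mem x' (hVM hx') g
    have hne : V ≠ W := by
      intro h
      apply hgv₀
      rw [h]
      exact (hWmem _).mpr ⟨v₀, hv₀, rfl⟩
    exact c.false_of_two M V W hVc hV3 hVcard hWc hW3 hWcard hWM hMV hne

/-- a `3`-group with an elementary abelian subgroup of order at least `81` has a normal one -/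
theorem exists_normal_elemAb_81 {P : Type u} [Group P] [Finite P] (hP : IsPGroup 3 P)
    (E : Subgroup P) (hE : Cfsg.IsElementaryAbelian 3 E) (hEcard : 81 ≤ Nat.card E) :
    ∃ V : Subgroup P, V.Normal ∧ Cfsg.IsElementaryAbelian 3 V ∧ 81 ≤ Nat.card V := by
  obtain ⟨V, hVn, hVc, hV3, hVcard⟩ := exists_normal_elemAb_81_aux (Nat.card P) P rfl hP
    ⟨E, fun a ha b hb => congrArg Subtype.val (hE.1.is_comm.comm ⟨a, ha⟩ ⟨b, hb⟩), hE.2, hEcard⟩
  exact ⟨V, hVn, ⟨⟨⟨fun a b => Subtype.ext (hVc a a.2 b b.2)⟩⟩, hV3⟩, hVcard⟩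

/-! ### fixed points of an element of order `3` -/

/-- an endomorphism `f` of a finite group with `f ∘ f ∘ f` trivial: `|A| ≤ |ker f| ^ 3` -/
theorem card_le_card_ker_pow_three {A : Type*} [Group A] [Finite A] (f : A →* A)
    (hf : ∀ a, f (f (f a)) = 1) : Nat.card A ≤ Nat.card f.ker ^ 3 := by
  have h1 := card_eq_card_ker_mul_card_range f
  -- restrict `f` to its range
  let g : f.range →* A := f.comp f.range.subtype
  have h2 := card_eq_card_ker_mul_card_range g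
  have hgk : Nat.card g.ker ≤ Nat.card f.ker := by
    have hmem : ∀ x : g.ker, ((x : f.range) : A) ∈ f.ker := by
      intro x
      have : g (x : f.range) = 1 := MonoidHom.mem_ker.mp x.2
      exact MonoidHom.mem_ker.mpr this
    apply Nat.card_le_card_of_injective (fun x : g.ker => (⟨((x : f.range) : A), hmem x⟩ : f.ker))
    intro x y hxy
    have : ((x : f.range) : A) = ((y : f.range) : A) := by
      have h0 := congrArg Subtype.val hxy
      exact h0
    exact Subtype.ext (Subtype.ext this)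
  have hgr : Nat.card g.range ≤ Nat.card f.ker := by
    have hmem : ∀ x : g.range, (x : A) ∈ f.ker := by
      intro x
      obtain ⟨y, hy⟩ := x.2
      obtain ⟨a, ha⟩ := y.2
      rw [MonoidHom.mem_ker, ← hy]
      show f (f ((y : f.range) : A)) = 1
      rw [← ha]
      exact hf a
    apply Nat.card_le_card_of_injective (fun x : g.range => (⟨(x : A), hmem x⟩ : f.ker))
    intro x y hxy
    have : (x : A) = (y : A) := by
      have h0 := congrArg Subtype.val hxy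
      exact h0
    exact Subtype.ext this
  calc Nat.card A = Nat.card f.ker * Nat.card f.range := h1
    _ = Nat.card f.ker * (Nat.card g.ker * Nat.card g.range) := by rw [h2]
    _ ≤ Nat.card f.ker * (Nat.card f.ker * Nat.card f.ker) :=
        Nat.mul_le_mul_left _ (Nat.mul_le_mul hgk hgr)
    _ = Nat.card f.ker ^ 3 := by ring

theorem mul_mul_self_of_pow_three {G : Type*} [Group G] {a : G} (h : a ^ 3 = 1) :
    a * a * a = 1 := by
  rw [← h, pow_succ, pow_two]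

theorem inv_mul_inv_mul_inv_of_pow_three {G : Type*} [Group G] {a : G} (h : a ^ 3 = 1) :
    a⁻¹ * a⁻¹ * a⁻¹ = 1 := by
  have h0 : (a * a * a)⁻¹ = 1 := by rw [mul_mul_self_of_pow_three h, inv_one]
  rw [mul_inv_rev, mul_inv_rev] at h0
  rw [mul_assoc]; exact h0

/-- an element `b` with `b ^ 3 = 1` normalizing an elementary abelian `3`-subgroup `V`:
`|V| ≤ |C_V(b)| ^ 3`. -/
theorem card_le_card_centralizer_pow_three {G : Type*} [Group G] [Finite G] (V : Subgroup G)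
    (hVc : ∀ x ∈ V, ∀ y ∈ V, x * y = y * x) (hV3 : ∀ x ∈ V, x ^ 3 = 1) (b : G)
    (hb3 : b ^ 3 = 1) (hbV : ∀ v ∈ V, b * v * b⁻¹ ∈ V) :
    Nat.card V ≤ Nat.card (V ⊓ Subgroup.centralizer ({b} : Set G) : Subgroup G) ^ 3 := by
  have hmemV : ∀ v : V, (v : G) * (b * (v : G)⁻¹ * b⁻¹) ∈ V := fun v =>
    V.mul_mem v.2 (hbV _ (V.inv_mem v.2))
  let f : V →* V :=
    { toFun := fun v => ⟨(v : G) * (b * (v : G)⁻¹ * b⁻¹), hmemV v⟩
      map_one' := by
        apply Subtype.ext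
        simp
      map_mul' := by
        intro v w
        apply Subtype.ext
        show (v : G) * (w : G) * (b * ((v : G) * (w : G))⁻¹ * b⁻¹) =
          (v : G) * (b * (v : G)⁻¹ * b⁻¹) * ((w : G) * (b * (w : G)⁻¹ * b⁻¹))
        have h1 : (w : G) * (b * (v : G)⁻¹ * b⁻¹) = (b * (v : G)⁻¹ * b⁻¹) * (w : G) :=
          hVc _ w.2 _ (hbV _ (V.inv_mem v.2))
        have h2 : (b * (w : G)⁻¹ * b⁻¹) * (b * (v : G)⁻¹ * b⁻¹) =
            (b * (v : G)⁻¹ * b⁻¹) * (b * (w : G)⁻¹ * b⁻¹) :=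
          hVc _ (hbV _ (V.inv_mem w.2)) _ (hbV _ (V.inv_mem v.2))
        calc (v : G) * (w : G) * (b * ((v : G) * (w : G))⁻¹ * b⁻¹)
            = (v : G) * (w : G) * ((b * (w : G)⁻¹ * b⁻¹) * (b * (v : G)⁻¹ * b⁻¹)) := by group
          _ = (v : G) * (w : G) * ((b * (v : G)⁻¹ * b⁻¹) * (b * (w : G)⁻¹ * b⁻¹)) := by rw [h2]
          _ = (v : G) * ((w : G) * (b * (v : G)⁻¹ * b⁻¹)) * (b * (w : G)⁻¹ * b⁻¹) := by group
          _ = (v : G) * ((b * (v : G)⁻¹ * b⁻¹) * (w : G)) * (b * (w : G)⁻¹ * b⁻¹) := by rw [h1]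
          _ = (v : G) * (b * (v : G)⁻¹ * b⁻¹) * ((w : G) * (b * (w : G)⁻¹ * b⁻¹)) := by group }
  have hfv : ∀ v : V, ((f v : V) : G) = (v : G) * (b * (v : G)⁻¹ * b⁻¹) := fun v => rfl
  have hf3 : ∀ v : V, f (f (f v)) = 1 := by
    intro v
    apply Subtype.ext
    -- write `σ x = b x b⁻¹`
    set x : G := (v : G) with hx
    have hxV : x ∈ V := v.2
    set y : G := b * x * b⁻¹ with hy
    set z : G := b * y * b⁻¹ with hz
    have hyV : y ∈ V := hbV x hxV
    have hzV : z ∈ V := hbV y hyV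
    have hbz : b * z * b⁻¹ = x := by
      have hb3' : b * b * b = 1 := mul_mul_self_of_pow_three hb3
      have hbinv : b⁻¹ * b⁻¹ * b⁻¹ = 1 := inv_mul_inv_mul_inv_of_pow_three hb3
      calc b * z * b⁻¹ = b * (b * (b * x * b⁻¹) * b⁻¹) * b⁻¹ := by rw [hz, hy]
        _ = (b * b * b) * x * (b⁻¹ * b⁻¹ * b⁻¹) := by simp only [mul_assoc]
        _ = x := by rw [hb3', hbinv, one_mul, mul_one]
    have hxy : x * y = y * x := hVc x hxV y hyV
    have hxz : x * z = z * x := hVc x hxV z hzV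
    have hyz : y * z = z * y := hVc y hyV z hzV
    have hx3 : x ^ 3 = 1 := hV3 x hxV
    have hy3 : y ^ 3 = 1 := hV3 y hyV
    have hz3 : z ^ 3 = 1 := hV3 z hzV
    -- first application
    have e1 : ((f v : V) : G) = x * y⁻¹ := by
      rw [hfv]
      show x * (b * x⁻¹ * b⁻¹) = x * y⁻¹
      rw [hy]; group
    have hyz' : y * z⁻¹ = b * (x * y⁻¹) * b⁻¹ := by
      rw [hz]
      nth_rewrite 1 [hy]
      group
    have hzx : z * (b * z * b⁻¹)⁻¹ = b * (y * z⁻¹) * b⁻¹ := by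
      nth_rewrite 1 [hz]
      group
    have e2 : ((f (f v) : V) : G) = x * y⁻¹ * (y * z⁻¹)⁻¹ := by
      rw [hfv, e1]
      have : b * (x * y⁻¹)⁻¹ * b⁻¹ = (y * z⁻¹)⁻¹ := by
        rw [hyz']; group
      rw [this]
    have e3 : ((f (f (f v)) : V) : G) =
        x * y⁻¹ * (y * z⁻¹)⁻¹ * ((y * z⁻¹) * (z * (b * z * b⁻¹)⁻¹)⁻¹)⁻¹ := by
      rw [hfv, e2]
      have : b * (x * y⁻¹ * (y * z⁻¹)⁻¹)⁻¹ * b⁻¹ =
          ((y * z⁻¹) * (z * (b * z * b⁻¹)⁻¹)⁻¹)⁻¹ := by
        rw [hzx]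
        calc b * (x * y⁻¹ * (y * z⁻¹)⁻¹)⁻¹ * b⁻¹
            = ((b * (x * y⁻¹) * b⁻¹) * (b * (y * z⁻¹) * b⁻¹)⁻¹)⁻¹ := by group
          _ = ((y * z⁻¹) * (b * (y * z⁻¹) * b⁻¹)⁻¹)⁻¹ := by rw [← hyz']
      rw [this]
    rw [hbz] at e3
    rw [e3]
    show x * y⁻¹ * (y * z⁻¹)⁻¹ * ((y * z⁻¹) * (z * x⁻¹)⁻¹)⁻¹ = 1
    -- commutative computation: the product is `y⁻³ z³ = 1`
    have hcx : Commute x y := hxy
    have hcz : Commute x z := hxz
    have hyzc : Commute y z := hyz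
    have hz3' : z * z * z = 1 := mul_mul_self_of_pow_three hz3
    have hy3' : y⁻¹ * y⁻¹ * y⁻¹ = 1 := inv_mul_inv_mul_inv_of_pow_three hy3
    have h1 : (y * z⁻¹)⁻¹ = z * y⁻¹ := by group
    have h2 : ((y * z⁻¹) * (z * x⁻¹)⁻¹)⁻¹ = z * x⁻¹ * (z * y⁻¹) := by group
    rw [h1, h2]
    -- everything commutes
    have c1 : x * y⁻¹ = y⁻¹ * x := (hcx.inv_right).eq
    have c2 : x * z = z * x := hxz
    have c3 : y⁻¹ * z = z * y⁻¹ := (hyzc.inv_left).eq
    calc x * y⁻¹ * (z * y⁻¹) * (z * x⁻¹ * (z * y⁻¹))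
        = y⁻¹ * x * (z * y⁻¹) * (z * x⁻¹ * (z * y⁻¹)) := by rw [c1]
      _ = y⁻¹ * (x * z) * y⁻¹ * (z * x⁻¹ * (z * y⁻¹)) := by group
      _ = y⁻¹ * (z * x) * y⁻¹ * (z * x⁻¹ * (z * y⁻¹)) := by rw [c2]
      _ = (y⁻¹ * z) * (x * y⁻¹) * (z * x⁻¹ * (z * y⁻¹)) := by group
      _ = (z * y⁻¹) * (y⁻¹ * x) * (z * x⁻¹ * (z * y⁻¹)) := by rw [c3, c1]
      _ = z * y⁻¹ * y⁻¹ * (x * z) * x⁻¹ * (z * y⁻¹) := by simp only [mul_assoc]
      _ = z * y⁻¹ * y⁻¹ * (z * x) * x⁻¹ * (z * y⁻¹) := by rw [c2]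
      _ = z * y⁻¹ * (y⁻¹ * z) * (z * y⁻¹) := by simp only [mul_assoc, mul_inv_cancel_left]
      _ = z * y⁻¹ * (z * y⁻¹) * (z * y⁻¹) := by rw [c3]
      _ = z * (y⁻¹ * z) * y⁻¹ * (z * y⁻¹) := by simp only [mul_assoc]
      _ = z * (z * y⁻¹) * y⁻¹ * (z * y⁻¹) := by rw [c3]
      _ = z * z * y⁻¹ * (y⁻¹ * z) * y⁻¹ := by simp only [mul_assoc]
      _ = z * z * y⁻¹ * (z * y⁻¹) * y⁻¹ := by rw [c3]
      _ = z * z * (y⁻¹ * z) * y⁻¹ * y⁻¹ := by simp only [mul_assoc]
      _ = z * z * (z * y⁻¹) * y⁻¹ * y⁻¹ := by rw [c3]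
      _ = (z * z * z) * (y⁻¹ * y⁻¹ * y⁻¹) := by simp only [mul_assoc]
      _ = 1 := by rw [hz3', hy3', one_mul]
  have h := card_le_card_ker_pow_three f hf3
  have hk : Nat.card f.ker ≤
      Nat.card (V ⊓ Subgroup.centralizer ({b} : Set G) : Subgroup G) := by
    have hmem : ∀ x : f.ker, ((x : V) : G) ∈ V ⊓ Subgroup.centralizer ({b} : Set G) := by
      intro x
      refine Subgroup.mem_inf.mpr ⟨(x : V).2, ?_⟩
      rw [Subgroup.mem_centralizer_iff]
      intro t ht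
      rw [Set.mem_singleton_iff] at ht
      rw [ht]
      have h1 : f (x : V) = 1 := MonoidHom.mem_ker.mp x.2
      have h2 := congrArg Subtype.val h1
      rw [hfv] at h2
      have h3 : ((x : V) : G) * (b * ((x : V) : G)⁻¹ * b⁻¹) = 1 := by simpa using h2
      -- x b x⁻¹ b⁻¹ = 1
      have h4 : ((x : V) : G) * b = b * ((x : V) : G) := by
        calc ((x : V) : G) * b
            = (((x : V) : G) * (b * ((x : V) : G)⁻¹ * b⁻¹)) * (b * ((x : V) : G)) := by group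
          _ = b * ((x : V) : G) := by rw [h3, one_mul]
      exact h4.symm
    apply Nat.card_le_card_of_injective (fun x : f.ker =>
      (⟨((x : V) : G), hmem x⟩ : (V ⊓ Subgroup.centralizer ({b} : Set G) : Subgroup G)))
    intro x y hxy
    have : ((x : V) : G) = ((y : V) : G) := by
      have h0 := congrArg Subtype.val hxy
      exact h0
    exact Subtype.ext (Subtype.ext this)
  exact h.trans (Nat.pow_le_pow_left hk 3)

end NormalEp4

end Cfsg.Agent.Lib.Helper10
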