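import Mathlib
import Cfsg.Prelude.Def_Transfer
import Cfsg.Agent.Lib.Helper10.NormalEp4

/-!
For an odd prime `p`, a `p`-group containing an elementary abelian subgroup of order at least
`p ^ 4` has a normal elementary abelian subgroup of order at least `p ^ 4` (and one of order
exactly `p ^ 4`).  This is the all-odd-`p` version of `NormalEp4`.
-/

set_option autoImplicit false

open scoped commutatorElement

namespace Cfsg.Agent.Lib.Helper10

namespace NormalEp4Gen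

open Cfsg.Agent.Lib.Helper10.NormalEp4

universe u

section Arith

variable {p : ℕ} [hpf : Fact p.Prime]

theorem exp_le {a b : ℕ} (h : p ^ a ≤ p ^ b) : a ≤ b :=
  (Nat.pow_le_pow_iff_right hpf.out.one_lt).mp h

theorem exp_eq {a b : ℕ} (h : p ^ a = p ^ b) : a = b :=
  Nat.pow_right_injective hpf.out.two_le h

end Arith

/-- a `p`-group with a normal elementary abelian subgroup `N` of order `p ^ 3` which contains
every element of order dividing `p` of its centralizer, with a normal series `N₁ ≤ N₂ ≤ N`. -/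
structure Cfg (p : ℕ) (P : Type u) [Group P] [Finite P] where
  N : Subgroup P
  N₂ : Subgroup P
  N₁ : Subgroup P
  hP : IsPGroup p P
  hNn : N.Normal
  hN₂n : N₂.Normal
  hN₁n : N₁.Normal
  hNc : ∀ x ∈ N, ∀ y ∈ N, x * y = y * x
  hNp : ∀ x ∈ N, x ^ p = 1
  hNcard : Nat.card N = p ^ 3
  hN₂card : Nat.card N₂ = p ^ 2
  hN₁card : Nat.card N₁ = p ^ 1
  h12 : N₁ ≤ N₂
  h2N : N₂ ≤ N
  hΩ : ∀ x : P, (∀ n ∈ N, x * n = n * x) → x ^ p = 1 → x ∈ N

variable {p : ℕ} [hpf : Fact p.Prime] {P : Type u} [Group P] [Finite P]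

theorem Cfg.cardN (c : Cfg p P) : Nat.card c.N = p * Nat.card c.N₂ := by
  rw [c.hNcard, c.hN₂card]; ring

theorem Cfg.cardN₂ (c : Cfg p P) : Nat.card c.N₂ = p * Nat.card c.N₁ := by
  rw [c.hN₂card, c.hN₁card]; ring

theorem Cfg.c1 (c : Cfg p P) : ∀ n ∈ c.N, ∀ g : P, ⁅n, g⁆ ∈ c.N₂ := by
  haveI := c.hNn; haveI := c.hN₂n
  exact commutator_mem_of_card_eq_mul c.hP c.N₂ c.N c.h2N c.cardN

theorem Cfg.c2 (c : Cfg p P) : ∀ n ∈ c.N₂, ∀ g : P, ⁅n, g⁆ ∈ c.N₁ := by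
  haveI := c.hN₂n; haveI := c.hN₁n
  exact commutator_mem_of_card_eq_mul c.hP c.N₁ c.N₂ c.h12 c.cardN₂

theorem Cfg.c3 (c : Cfg p P) : ∀ z ∈ c.N₁, ∀ g : P, g * z = z * g := by
  haveI := c.hN₁n
  intro z hz g
  have h := Cfsg.Agent.Lib.Helper1.le_center_of_normal_of_card_prime c.hP c.N₁
    (by rw [c.hN₁card, pow_one]) hz
  exact Subgroup.mem_center_iff.mp h g

theorem Cfg.c1' (c : Cfg p P) : ∀ n ∈ c.N, ∀ g : P, ⁅g, n⁆ ∈ c.N₂ := by
  intro n hn g
  rw [← commutatorElement_inv]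
  exact c.N₂.inv_mem (c.c1 n hn g)

theorem Cfg.exists_not_mem_N₂ (c : Cfg p P) : ∃ x ∈ c.N, x ∉ c.N₂ := by
  by_contra h
  push_neg at h
  have := Subgroup.card_le_of_le (show c.N ≤ c.N₂ from h)
  rw [c.hNcard, c.hN₂card] at this
  have := exp_le this
  omega

theorem Cfg.exists_not_mem_N₁ (c : Cfg p P) : ∃ x ∈ c.N₂, x ∉ c.N₁ := by
  by_contra h
  push_neg at h
  have := Subgroup.card_le_of_le (show c.N₂ ≤ c.N₁ from h)
  rw [c.hN₂card, c.hN₁card] at this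
  have := exp_le this
  omega

/-- an element centralizing `N₂` and some `n ∈ N \ N₂` centralizes `N` -/
theorem Cfg.commute_N (c : Cfg p P) {n x : P} (hn : n ∈ c.N) (hn2 : n ∉ c.N₂)
    (hx2 : ∀ t ∈ c.N₂, x * t = t * x) (hxn : x * n = n * x) : ∀ y ∈ c.N, x * y = y * x :=
  commute_of_card_eq_mul c.hP c.h2N c.cardN hn hn2 hx2 hxn

/-- an element commuting with some `n ∈ N₂ \ N₁` centralizes `N₂` -/
theorem Cfg.commute_N₂ (c : Cfg p P) {n x : P} (hn : n ∈ c.N₂) (hn1 : n ∉ c.N₁)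
    (hxn : x * n = n * x) : ∀ y ∈ c.N₂, x * y = y * x :=
  commute_of_card_eq_mul c.hP c.h12 c.cardN₂ hn hn1 (fun a ha => c.c3 a ha x) hxn

/-- the structure of the elementary abelian subgroups of order at least `p ^ 4` -/
theorem Cfg.elemAb_facts (c : Cfg p P) (E : Subgroup P) (hEc : ∀ x ∈ E, ∀ y ∈ E, x * y = y * x)
    (hEp : ∀ x ∈ E, x ^ p = 1) (hEcard : p ^ 4 ≤ Nat.card E) :
    c.N₂ ≤ E ∧ (∀ x ∈ E, (∀ n ∈ c.N, x * n = n * x) → x ∈ c.N₂) ∧ Nat.card E = p ^ 4 ∧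
    (∀ n ∈ c.N, n ∉ c.N₂ → ∀ m ∈ c.N₂, ∃ e ∈ E, ⁅n, e⁆ = m) := by
  have hP := c.hP
  have c1 := c.c1
  have c2 := c.c2
  have c3 := c.c3
  set K : Subgroup P := E ⊓ Subgroup.centralizer (c.N : Set P) with hKdef
  have hKE : K ≤ E := inf_le_left
  have hKN : K ≤ c.N := by
    intro x hx
    exact c.hΩ x (fun n hn => ((Subgroup.mem_centralizer_iff.mp hx.2) n hn).symm) (hEp x hx.1)
  have hKmem : ∀ x ∈ E, (∀ n ∈ c.N, x * n = n * x) → x ∈ K := fun x hx h =>
    ⟨hx, Subgroup.mem_centralizer_iff.mpr (fun n hn => (h n hn).symm)⟩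
  have hNE : ¬ c.N ≤ E := by
    intro hle
    have h1 : E ≤ c.N := by
      intro e he
      exact c.hΩ e (fun n hn => hEc e he n (hle hn)) (hEp e he)
    have := Subgroup.card_le_of_le h1
    rw [c.hNcard] at this
    have := exp_le (hEcard.trans this)
    omega
  obtain ⟨n₂, hn₂, hn₂1⟩ := c.exists_not_mem_N₁
  obtain ⟨n, hn, hn2⟩ := c.exists_not_mem_N₂
  set E₁ : Subgroup P := E ⊓ Subgroup.centralizer (c.N₂ : Set P) with hE₁def
  have hE₁E : E₁ ≤ E := inf_le_left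
  have hE₁cent : ∀ e ∈ E₁, ∀ t ∈ c.N₂, e * t = t * e := fun e he t ht =>
    ((Subgroup.mem_centralizer_iff.mp he.2) t ht).symm
  have hE₁mem : ∀ e ∈ E, e * n₂ = n₂ * e → e ∈ E₁ := by
    intro e he hcomm
    refine ⟨he, Subgroup.mem_centralizer_iff.mpr (fun y hy => ?_)⟩
    exact (c.commute_N₂ hn₂ hn₂1 hcomm y hy).symm
  -- |E| ≤ p |E₁|
  have h3 := (commutator_map_facts E c.N₁ E₁ n₂ (fun e _ => c2 n₂ hn₂ e)
    (fun e _ t ht => c3 t ht e) (by
      intro e he h1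
      rw [commutatorElement_eq_one_iff_mul_comm] at h1
      exact hE₁mem e he h1.symm)).1
  -- |E₁| ≤ p² |K|
  have h4 := commutator_map_facts E₁ c.N₂ K n (fun e _ => c1 n hn e) hE₁cent (by
      intro e he h1
      rw [commutatorElement_eq_one_iff_mul_comm] at h1
      exact hKmem e he.1 (c.commute_N hn hn2 (hE₁cent e he) h1.symm))
  -- exponents
  obtain ⟨e, he⟩ := (hP.to_subgroup E).exists_card_eq
  obtain ⟨e₁, he₁⟩ := (hP.to_subgroup E₁).exists_card_eq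
  obtain ⟨k, hk⟩ := (hP.to_subgroup K).exists_card_eq
  have he4 : 4 ≤ e := by rw [he] at hEcard; exact exp_le hEcard
  have hee₁ : e ≤ e₁ + 1 := by
    rw [he, he₁, c.hN₁card, ← pow_add] at h3
    have := exp_le h3
    omega
  have he₁k : e₁ ≤ k + 2 := by
    have := h4.1
    rw [he₁, hk, c.hN₂card, ← pow_add] at this
    have := exp_le this
    omega
  have hk3 : k ≤ 3 := by
    have := Subgroup.card_le_of_le hKN
    rw [hk, c.hNcard] at this
    exact exp_le this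
  have hkne : k ≠ 3 := by
    intro h
    have : K = c.N := Subgroup.eq_of_le_of_card_ge hKN (le_of_eq (by rw [hk, h, c.hNcard]))
    apply hNE
    rw [← this]
    exact hKE
  have hkcases : k = 1 ∨ k = 2 := by omega
  rcases hkcases with hk1 | hk2
  · -- impossible case
    exfalso
    have he₁3 : e₁ = 3 := by
      have := Subgroup.card_le_of_le hE₁E
      omega
    have he4' : e = 4 := by omega
    obtain ⟨e₀, he₀, he₀n⟩ := h4.2 (by
      rw [c.hN₂card, hk, he₁, hk1, he₁3, ← pow_add]) n₂ hn₂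
    obtain ⟨g, hg, hgE₁⟩ : ∃ g ∈ E, g ∉ E₁ := by
      by_contra h
      push_neg at h
      have := Subgroup.card_le_of_le (show E ≤ E₁ from h)
      rw [he, he₁] at this
      have := exp_le this
      omega
    apply hgE₁
    apply hE₁mem g hg
    -- the computation
    have id1 : ∀ a b : P, ⁅n, a * b⁆ = ⁅n, a⁆ * (a * ⁅n, b⁆ * a⁻¹) := by
      intro a b; simp only [commutatorElement_def]; group
    have hcomm : e₀ * g = g * e₀ := hEc e₀ (hE₁E he₀) g hg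
    have hA := id1 e₀ g
    have hB := id1 g e₀
    rw [hcomm, hB] at hA
    have hm : ⁅n, g⁆ ∈ c.N₂ := c1 n hn g
    have hem : e₀ * ⁅n, g⁆ * e₀⁻¹ = ⁅n, g⁆ := by
      rw [hE₁cent e₀ he₀ _ hm]; group
    rw [hem, he₀n] at hA
    have hcm : n₂ * ⁅n, g⁆ = ⁅n, g⁆ * n₂ := c.hNc _ (c.h2N hn₂) _ (c.h2N hm)
    rw [hcm] at hA
    have hA' : g * n₂ * g⁻¹ = n₂ := mul_left_cancel hA
    calc g * n₂ = g * n₂ * g⁻¹ * g := by group
      _ = n₂ * g := by rw [hA']
  · -- the main case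
    have hKcard : Nat.card K = p ^ 2 := by rw [hk, hk2]
    have hKN₂ : K = c.N₂ := by
      by_contra hne
      obtain ⟨n', hn', hn'K⟩ : ∃ x ∈ c.N₂, x ∉ K := by
        by_contra h
        push_neg at h
        apply hne
        exact (Subgroup.eq_of_le_of_card_ge (show c.N₂ ≤ K from h)
          (le_of_eq (by rw [hKcard, c.hN₂card]))).symm
      have h5 := (commutator_map_facts E c.N₁ K n' (fun e _ => c2 n' hn' e)
        (fun e _ t ht => c3 t ht e) (by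
          intro e he h1
          rw [commutatorElement_eq_one_iff_mul_comm] at h1
          apply hKmem e he
          exact commute_of_card_eq_mul hP hKN (by rw [c.hNcard, hKcard]; ring) (c.h2N hn') hn'K
            (fun a ha => hEc e he a (hKE ha)) h1.symm)).1
      rw [c.hN₁card, hKcard, ← pow_add] at h5
      have := exp_le (hEcard.trans h5)
      omega
    have hN₂E : c.N₂ ≤ E := hKN₂ ▸ hKE
    have hEN₂ : ∀ e ∈ E, ∀ t ∈ c.N₂, e * t = t * e := fun e he t ht => hEc e he t (hN₂E ht)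
    have hfacts : ∀ n' ∈ c.N, n' ∉ c.N₂ →
        Nat.card E ≤ Nat.card c.N₂ * Nat.card c.N₂ ∧
        (Nat.card c.N₂ * Nat.card c.N₂ ≤ Nat.card E → ∀ t ∈ c.N₂, ∃ e ∈ E, ⁅n', e⁆ = t) := by
      intro n' hn' hn'2
      exact commutator_map_facts E c.N₂ c.N₂ n' (fun e _ => c1 n' hn' e) hEN₂ (by
        intro e he h1
        rw [commutatorElement_eq_one_iff_mul_comm] at h1
        rw [← hKN₂]
        exact hKmem e he (c.commute_N hn' hn'2 (hEN₂ e he) h1.symm))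
    have hcardE : Nat.card E = p ^ 4 := by
      have := (hfacts n hn hn2).1
      rw [c.hN₂card, ← pow_add] at this
      exact le_antisymm this hEcard
    refine ⟨hN₂E, ?_, hcardE, ?_⟩
    · intro x hx h
      rw [← hKN₂]
      exact hKmem x hx h
    · intro n' hn' hn'2 m hm
      exact (hfacts n' hn' hn'2).2 (by rw [c.hN₂card, hcardE, ← pow_add]) m hm

/-- commutators of elements centralizing `N₂` centralize `N` -/
theorem Cfg.commutator_centralizes (c : Cfg p P) {x y : P} (hx : ∀ t ∈ c.N₂, x * t = t * x)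
    (hy : ∀ t ∈ c.N₂, y * t = t * y) : ∀ n ∈ c.N, ⁅x, y⁆ * n = n * ⁅x, y⁆ := by
  have hNn := c.hNn
  have key : ∀ n ∈ c.N, x * y * n * (x * y)⁻¹ = y * x * n * (y * x)⁻¹ := by
    intro n hn
    have ha : ⁅y, n⁆ ∈ c.N₂ := c.c1' n hn y
    have hb : ⁅x, n⁆ ∈ c.N₂ := c.c1' n hn x
    have e1 : y * n * y⁻¹ = ⁅y, n⁆ * n := by simp only [commutatorElement_def]; group
    have e2 : x * n * x⁻¹ = ⁅x, n⁆ * n := by simp only [commutatorElement_def]; group
    have e3 : x * ⁅y, n⁆ * x⁻¹ = ⁅y, n⁆ := by rw [hx _ ha]; group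
    have e4 : y * ⁅x, n⁆ * y⁻¹ = ⁅x, n⁆ := by rw [hy _ hb]; group
    have l1 : x * y * n * (x * y)⁻¹ = ⁅y, n⁆ * (⁅x, n⁆ * n) := by
      calc x * y * n * (x * y)⁻¹ = x * (y * n * y⁻¹) * x⁻¹ := by group
        _ = x * (⁅y, n⁆ * n) * x⁻¹ := by rw [e1]
        _ = (x * ⁅y, n⁆ * x⁻¹) * (x * n * x⁻¹) := by group
        _ = ⁅y, n⁆ * (⁅x, n⁆ * n) := by rw [e3, e2]
    have l2 : y * x * n * (y * x)⁻¹ = ⁅x, n⁆ * (⁅y, n⁆ * n) := by
      calc y * x * n * (y * x)⁻¹ = y * (x * n * x⁻¹) * y⁻¹ := by group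
        _ = y * (⁅x, n⁆ * n) * y⁻¹ := by rw [e2]
        _ = (y * ⁅x, n⁆ * y⁻¹) * (y * n * y⁻¹) := by group
        _ = ⁅x, n⁆ * (⁅y, n⁆ * n) := by rw [e4, e1]
    rw [l1, l2, ← mul_assoc, ← mul_assoc, c.hNc _ (c.h2N ha) _ (c.h2N hb)]
  intro n hn
  have hn'' : (y * x)⁻¹ * n * (y * x) ∈ c.N := by
    have := hNn.conj_mem n hn (y * x)⁻¹
    simpa using this
  have hk := key _ hn''
  have h2 : ⁅x, y⁆ * n * ⁅x, y⁆⁻¹ = n := by
    have e : ⁅x, y⁆ * n * ⁅x, y⁆⁻¹ = x * y * ((y * x)⁻¹ * n * (y * x)) * (x * y)⁻¹ := by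
      simp only [commutatorElement_def]; group
    rw [e, hk]; group
  calc ⁅x, y⁆ * n = ⁅x, y⁆ * n * ⁅x, y⁆⁻¹ * ⁅x, y⁆ := by group
    _ = n * ⁅x, y⁆ := by rw [h2]

/-- two distinct elementary abelian subgroups of order at least `p ^ 4` cannot both be normal in
a subgroup containing them. -/
theorem Cfg.false_of_two (hp2 : p ≠ 2) (c : Cfg p P) (M V W : Subgroup P)
    (hVc : ∀ x ∈ V, ∀ y ∈ V, x * y = y * x) (hVp : ∀ x ∈ V, x ^ p = 1)
    (hVcard : p ^ 4 ≤ Nat.card V)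
    (hWc : ∀ x ∈ W, ∀ y ∈ W, x * y = y * x) (hWp : ∀ x ∈ W, x ^ p = 1)
    (hWcard : p ^ 4 ≤ Nat.card W) (hWM : W ≤ M)
    (hMV : ∀ m ∈ M, ∀ v ∈ V, m * v * m⁻¹ ∈ V)
    (hne : V ≠ W) : False := by
  haveI := c.hNn
  have hpp : p.Prime := hpf.out
  obtain ⟨hN₂V, hVC, hVcard', hVsurj⟩ := c.elemAb_facts V hVc hVp hVcard
  obtain ⟨hN₂W, hWC, hWcard', hWsurj⟩ := c.elemAb_facts W hWc hWp hWcard
  obtain ⟨n, hn, hn2⟩ := c.exists_not_mem_N₂
  have hV2 : ∀ v ∈ V, ∀ t ∈ c.N₂, v * t = t * v := fun v hv t ht => hVc v hv t (hN₂V ht)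
  have hW2 : ∀ w ∈ W, ∀ t ∈ c.N₂, w * t = t * w := fun w hw t ht => hWc w hw t (hN₂W ht)
  -- (i)
  have hcomm : ∀ v ∈ V, ∀ w ∈ W, ⁅v, w⁆ ∈ c.N₂ := by
    intro v hv w hw
    have h1 : ⁅v, w⁆ ∈ V := by
      have h := V.mul_mem hv (hMV w (hWM hw) v⁻¹ (V.inv_mem hv))
      have e : ⁅v, w⁆ = v * (w * v⁻¹ * w⁻¹) := by simp only [commutatorElement_def]; group
      rw [e]; exact h
    exact hVC _ h1 (c.commutator_centralizes (hV2 v hv) (hW2 w hw))
  -- (ii)
  have hdecomp : ∀ w ∈ W, ∃ v ∈ V, ∃ c' ∈ c.N, w = v * c' := by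
    intro w hw
    obtain ⟨v, hv, hvw⟩ := hVsurj n hn hn2 ⁅n, w⁆ (c.c1 n hn w)
    have hc'n : (v⁻¹ * w) * n = n * (v⁻¹ * w) := by
      have h := hvw
      simp only [commutatorElement_def] at h
      have h' : v * n⁻¹ * v⁻¹ = w * n⁻¹ * w⁻¹ := by
        have := congrArg (fun t => n⁻¹ * t) h
        simpa [mul_assoc] using this
      have h3 : (v⁻¹ * w) * n⁻¹ * (v⁻¹ * w)⁻¹ = n⁻¹ := by
        calc (v⁻¹ * w) * n⁻¹ * (v⁻¹ * w)⁻¹ = v⁻¹ * (w * n⁻¹ * w⁻¹) * v := by group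
          _ = v⁻¹ * (v * n⁻¹ * v⁻¹) * v := by rw [h']
          _ = n⁻¹ := by group
      have h4 : (v⁻¹ * w) * n⁻¹ = n⁻¹ * (v⁻¹ * w) := by
        calc (v⁻¹ * w) * n⁻¹ = ((v⁻¹ * w) * n⁻¹ * (v⁻¹ * w)⁻¹) * (v⁻¹ * w) := by group
          _ = n⁻¹ * (v⁻¹ * w) := by rw [h3]
      calc (v⁻¹ * w) * n = n * (n⁻¹ * (v⁻¹ * w)) * n := by group
        _ = n * ((v⁻¹ * w) * n⁻¹) * n := by rw [h4]
        _ = n * (v⁻¹ * w) := by group
    have hc2 : ∀ t ∈ c.N₂, (v⁻¹ * w) * t = t * (v⁻¹ * w) := by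
      intro t ht
      have h1 := hV2 v hv t ht
      have h2 := hW2 w hw t ht
      have h1' : v⁻¹ * t = t * v⁻¹ := by
        calc v⁻¹ * t = v⁻¹ * (t * v) * v⁻¹ := by group
          _ = v⁻¹ * (v * t) * v⁻¹ := by rw [h1]
          _ = t * v⁻¹ := by group
      calc (v⁻¹ * w) * t = v⁻¹ * (w * t) := by group
        _ = v⁻¹ * (t * w) := by rw [h2]
        _ = (v⁻¹ * t) * w := by group
        _ = (t * v⁻¹) * w := by rw [h1']
        _ = t * (v⁻¹ * w) := by group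
    have hcN := c.commute_N hn hn2 hc2 hc'n
    have hcube : (v⁻¹ * w) ^ p = 1 := by
      have hcm : ⁅w, v⁻¹⁆ ∈ c.N₂ := by
        have := hcomm v⁻¹ (V.inv_mem hv) w hw
        rw [← commutatorElement_inv]
        exact c.N₂.inv_mem this
      have hx : ⁅w, v⁻¹⁆ * v⁻¹ = v⁻¹ * ⁅w, v⁻¹⁆ := hVc _ (hN₂V hcm) _ (V.inv_mem hv)
      have hy : ⁅w, v⁻¹⁆ * w = w * ⁅w, v⁻¹⁆ := hWc _ (hN₂W hcm) _ hw
      have h := Cfsg.Agent.Lib.Helper1.mul_pow_of_commutator_central hx hy p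
      rw [h, hVp _ (V.inv_mem hv), hWp _ hw]
      have hdvd : p ∣ p.choose 2 := hpp.dvd_choose_self (by norm_num)
        (by have := hpp.two_le; omega)
      obtain ⟨m, hm⟩ := hdvd
      rw [hm, pow_mul, c.hNp _ (c.h2N hcm)]
      simp
    exact ⟨v, hv, v⁻¹ * w, c.hΩ _ hcN hcube, by group⟩
  -- (iii)
  have hWle : W ≤ V ⊔ c.N := by
    intro w hw
    obtain ⟨v, hv, c', hc', rfl⟩ := hdecomp w hw
    exact Subgroup.mul_mem _ (Subgroup.mem_sup_left hv) (Subgroup.mem_sup_right hc')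
  have hVN : V ⊓ c.N = c.N₂ := by
    apply le_antisymm
    · intro x hx
      exact hVC x hx.1 (fun n' hn' => c.hNc x hx.2 n' hn')
    · exact le_inf hN₂V c.h2N
  have hppos : 0 < p := hpp.pos
  have hcardsup : Nat.card (V ⊔ c.N : Subgroup P) = p ^ 5 := by
    have h := Cfsg.Agent.Lib.Helper1.card_sup_mul_card_inf V c.N
    rw [hVN, c.hN₂card, hVcard', c.hNcard] at h
    have h' : Nat.card (V ⊔ c.N : Subgroup P) * p ^ 2 = p ^ 5 * p ^ 2 := by
      rw [h]; ring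
    exact Nat.eq_of_mul_eq_mul_right (pow_pos hppos 2) h'
  -- (iv)
  have h1 := Cfsg.Agent.Lib.Helper18.card_mul_card_le_card_sup_mul_card_inf V W
  have h2 : Nat.card (V ⊔ W : Subgroup P) ≤ p ^ 5 := by
    rw [← hcardsup]
    exact Subgroup.card_le_of_le (sup_le le_sup_left hWle)
  have h3 : p ^ 3 ≤ Nat.card (V ⊓ W : Subgroup P) := by
    rw [hVcard', hWcard'] at h1
    have h4 : p ^ 5 * p ^ 3 ≤ p ^ 5 * Nat.card (V ⊓ W : Subgroup P) := by
      calc p ^ 5 * p ^ 3 = p ^ 4 * p ^ 4 := by ring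
        _ ≤ Nat.card (V ⊔ W : Subgroup P) * Nat.card (V ⊓ W : Subgroup P) := h1
        _ ≤ p ^ 5 * Nat.card (V ⊓ W : Subgroup P) := Nat.mul_le_mul_right _ h2
    exact Nat.le_of_mul_le_mul_left h4 (pow_pos hppos 5)
  obtain ⟨w', hw', hw'2⟩ : ∃ x ∈ V ⊓ W, x ∉ c.N₂ := by
    by_contra h
    push_neg at h
    have := Subgroup.card_le_of_le (show V ⊓ W ≤ c.N₂ from h)
    rw [c.hN₂card] at this
    have := exp_le (h3.trans this)
    omega
  -- (v)
  obtain ⟨w, hw, hwV⟩ : ∃ x ∈ W, x ∉ V := by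
    by_contra h
    push_neg at h
    apply hne
    exact (Subgroup.eq_of_le_of_card_ge (show W ≤ V from h)
      (le_of_eq (by rw [hVcard', hWcard']))).symm
  obtain ⟨v, hv, c', hc', hwv⟩ := hdecomp w hw
  have hc'2 : c' ∉ c.N₂ := by
    intro h
    apply hwV
    rw [hwv]
    exact V.mul_mem hv (hN₂V h)
  have hw'w : w' * w = w * w' := hWc w' hw'.2 w hw
  have hw'v : w' * v = v * w' := hVc w' hw'.1 v hv
  have hw'c : w' * c' = c' * w' := by
    have hc'eq : c' = v⁻¹ * w := by rw [hwv]; group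
    have hw'vinv : w' * v⁻¹ = v⁻¹ * w' := by
      calc w' * v⁻¹ = v⁻¹ * (v * w') * v⁻¹ := by group
        _ = v⁻¹ * (w' * v) * v⁻¹ := by rw [hw'v]
        _ = v⁻¹ * w' := by group
    rw [hc'eq]
    calc w' * (v⁻¹ * w) = (w' * v⁻¹) * w := by group
      _ = (v⁻¹ * w') * w := by rw [hw'vinv]
      _ = v⁻¹ * (w' * w) := by group
      _ = v⁻¹ * (w * w') := by rw [hw'w]
      _ = v⁻¹ * w * w' := by group
  have hw'N := c.commute_N hc' hc'2 (hV2 w' hw'.1) hw'c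
  exact hw'2 (hVC w' hw'.1 hw'N)

/-! ### the main theorem -/

theorem exists_normal_elemAb_pow_four_aux (hp2 : p ≠ 2) : ∀ (n : ℕ) (P : Type u) [Group P]
    [Finite P], Nat.card P = n → IsPGroup p P →
    (∃ E : Subgroup P, (∀ x ∈ E, ∀ y ∈ E, x * y = y * x) ∧ (∀ x ∈ E, x ^ p = 1) ∧
      p ^ 4 ≤ Nat.card E) →
    ∃ V : Subgroup P, V.Normal ∧ (∀ x ∈ V, ∀ y ∈ V, x * y = y * x) ∧ (∀ x ∈ V, x ^ p = 1) ∧
      p ^ 4 ≤ Nat.card V := by
  have hpp : p.Prime := hpf.out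
  intro n
  induction n using Nat.strong_induction_on with
  | _ n ih =>
    intro P _ _ hn hP hE
    obtain ⟨E, hEc, hEp, hEcard⟩ := hE
    by_contra hno
    push_neg at hno
    -- the normal subgroup `N`
    obtain ⟨N, hNn, hNc, hNp, hNcard⟩ :=
      Cfsg.Agent.Lib.Helper1.NormalElemAb.exists_normal_EA_cube p hp2 (Nat.card P) P rfl
        hP E hEc hEp (le_trans (Nat.pow_le_pow_right hpp.pos (by norm_num)) hEcard)
    haveI := hNn
    have hΩ : ∀ x : P, (∀ n ∈ N, x * n = n * x) → x ^ p = 1 → x ∈ N := by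
      intro x hx hxp
      by_contra hxN
      have hEA : Cfsg.IsElementaryAbelian p N :=
        ⟨⟨⟨fun a b => Subtype.ext (hNc a a.2 b b.2)⟩⟩, hNp⟩
      obtain ⟨F, hFn, hFe, hlt⟩ := exists_normal_elemAb_gt (p := p) hp2 hP N hEA
        ⟨x, Subgroup.mem_centralizer_iff.mpr (fun n hn => (hx n hn).symm), hxN, hxp⟩
      have hFcard : p ^ 4 ≤ Nat.card F := by
        have h1 := Cfsg.Agent.Lib.Helper1.card_lt_of_lt hlt
        obtain ⟨k, hk⟩ := (hP.to_subgroup F).exists_card_eq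
        rw [hNcard, hk] at h1
        rw [hk]
        have hk4 : 3 < k := (Nat.pow_lt_pow_iff_right hpp.one_lt).mp h1
        exact Nat.pow_le_pow_right hpp.pos hk4
      have := hno F hFn (fun a ha b hb =>
        congrArg Subtype.val (hFe.1.is_comm.comm ⟨a, ha⟩ ⟨b, hb⟩)) hFe.2
      omega
    obtain ⟨N₂, hN₂n, hN₂N, hN₂card⟩ :=
      Cfsg.Agent.Lib.Helper2.NormalEpSq.exists_normal_le_card_pow' hP 3 N hNcard 2 (by norm_num)
    haveI := hN₂n
    obtain ⟨N₁, hN₁n, hN₁N₂, hN₁card⟩ :=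
      Cfsg.Agent.Lib.Helper2.NormalEpSq.exists_normal_le_card_pow' hP 2 N₂ hN₂card 1 (by norm_num)
    let c : Cfg p P :=
      { N := N, N₂ := N₂, N₁ := N₁, hP := hP, hNn := hNn, hN₂n := hN₂n, hN₁n := hN₁n
        hNc := hNc, hNp := hNp, hNcard := hNcard
        hN₂card := hN₂card
        hN₁card := hN₁card
        h12 := hN₁N₂, h2N := hN₂N, hΩ := hΩ }
    -- a maximal subgroup containing `E`
    have hEtop : E ≠ ⊤ := by
      intro h
      have := hno E (h ▸ inferInstance) hEc hEp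
      omega
    obtain ⟨M, hMco, hEM⟩ := (eq_top_or_exists_le_coatom E).resolve_left hEtop
    have hMn : M.Normal := Cfsg.Agent.Lib.Helper1.IsPGroup.normal_of_isCoatom hP hMco
    have hMcard : Nat.card M < n := by
      rw [← hn]
      exact Cfsg.Agent.Lib.Helper1.card_subgroup_lt_of_ne_top hMco.1
    -- induction
    obtain ⟨V', hV'n, hV'c, hV'p, hV'card⟩ := ih (Nat.card M) hMcard M rfl (hP.to_subgroup M)
      ⟨E.subgroupOf M, by
        intro x hx y hy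
        exact Subtype.ext (hEc _ (Subgroup.mem_subgroupOf.mp hx) _ (Subgroup.mem_subgroupOf.mp hy)),
       by
        intro x hx
        exact Subtype.ext (by simpa using hEp _ (Subgroup.mem_subgroupOf.mp hx)),
       by
        rw [Nat.card_congr (Subgroup.subgroupOfEquivOfLe hEM).toEquiv]
        exact hEcard⟩
    set V : Subgroup P := V'.map M.subtype with hVdef
    have hVM : V ≤ M := by
      intro x hx
      obtain ⟨y, _, rfl⟩ := hx
      exact y.2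
    have hVc : ∀ x ∈ V, ∀ y ∈ V, x * y = y * x := by
      intro x hx y hy
      obtain ⟨x', hx', rfl⟩ := hx
      obtain ⟨y', hy', rfl⟩ := hy
      exact congrArg Subtype.val (hV'c x' hx' y' hy')
    have hVp : ∀ x ∈ V, x ^ p = 1 := by
      intro x hx
      obtain ⟨x', hx', rfl⟩ := hx
      have := congrArg Subtype.val (hV'p x' hx')
      simpa using this
    have hVcard : p ^ 4 ≤ Nat.card V := by
      rw [hVdef, Subgroup.card_map_of_injective M.subtype_injective]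
      exact hV'card
    have hMV : ∀ m ∈ M, ∀ v ∈ V, m * v * m⁻¹ ∈ V := by
      intro m hm v hv
      obtain ⟨v', hv', rfl⟩ := hv
      have := hV'n.conj_mem v' hv' ⟨m, hm⟩
      exact ⟨_, this, by simp⟩
    -- `V` is not normal
    have hVnn : ¬ V.Normal := by
      intro h
      have := hno V h hVc hVp
      omega
    have hex : ∃ g : P, ∃ v ∈ V, g * v * g⁻¹ ∉ V := by
      by_contra h
      push_neg at h
      exact hVnn ⟨fun v hv g => h g v hv⟩
    obtain ⟨g, v₀, hv₀, hgv₀⟩ := hex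
    set W : Subgroup P := V.map (MulAut.conj g).toMonoidHom with hWdef
    have hWmem : ∀ x, x ∈ W ↔ ∃ v ∈ V, g * v * g⁻¹ = x := by
      intro x
      rw [hWdef, Subgroup.mem_map]
      simp [MulAut.conj_apply]
    have hWc : ∀ x ∈ W, ∀ y ∈ W, x * y = y * x := by
      intro x hx y hy
      obtain ⟨x', hx', rfl⟩ := (hWmem x).mp hx
      obtain ⟨y', hy', rfl⟩ := (hWmem y).mp hy
      have := hVc x' hx' y' hy'
      calc g * x' * g⁻¹ * (g * y' * g⁻¹) = g * (x' * y') * g⁻¹ := by group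
        _ = g * (y' * x') * g⁻¹ := by rw [this]
        _ = g * y' * g⁻¹ * (g * x' * g⁻¹) := by group
    have hWp : ∀ x ∈ W, x ^ p = 1 := by
      intro x hx
      obtain ⟨x', hx', rfl⟩ := (hWmem x).mp hx
      rw [conj_pow, hVp x' hx']
      group
    have hWcard : p ^ 4 ≤ Nat.card W := by
      rw [hWdef, Subgroup.card_map_of_injective (MulAut.conj g).injective]
      exact hVcard
    have hWM : W ≤ M := by
      intro x hx
      obtain ⟨x', hx', rfl⟩ := (hWmem x).mp hx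
      exact hMn.conj_mem x' (hVM hx') g
    have hne : V ≠ W := by
      intro h
      apply hgv₀
      rw [h]
      exact (hWmem _).mpr ⟨v₀, hv₀, rfl⟩
    exact c.false_of_two hp2 M V W hVc hVp hVcard hWc hWp hWcard hWM hMV hne

/-- for odd `p`, a `p`-group with an elementary abelian subgroup of order at least `p ^ 4` has a
normal one -/
theorem exists_normal_elemAb_ge_pow_four (hp2 : p ≠ 2) (hP : IsPGroup p P)
    (E : Subgroup P) (hE : Cfsg.IsElementaryAbelian p E) (hEcard : p ^ 4 ≤ Nat.card E) :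
    ∃ V : Subgroup P, V.Normal ∧ Cfsg.IsElementaryAbelian p V ∧ p ^ 4 ≤ Nat.card V := by
  obtain ⟨V, hVn, hVc, hVp, hVcard⟩ := exists_normal_elemAb_pow_four_aux hp2 (Nat.card P) P rfl hP
    ⟨E, fun a ha b hb => congrArg Subtype.val (hE.1.is_comm.comm ⟨a, ha⟩ ⟨b, hb⟩), hE.2, hEcard⟩
  exact ⟨V, hVn, ⟨⟨⟨fun a b => Subtype.ext (hVc a a.2 b b.2)⟩⟩, hVp⟩, hVcard⟩

/-- for odd `p`, a `p`-group with an elementary abelian subgroup of order at least `p ^ 4` has a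
normal elementary abelian subgroup of order exactly `p ^ 4` -/
theorem exists_normal_elemAb_pow_four (hp2 : p ≠ 2) (hP : IsPGroup p P)
    (E : Subgroup P) (hE : Cfsg.IsElementaryAbelian p E) (hEcard : p ^ 4 ≤ Nat.card E) :
    ∃ A : Subgroup P, A.Normal ∧ Cfsg.IsElementaryAbelian p A ∧ Nat.card A = p ^ 4 := by
  obtain ⟨V, hVn, hVEA, hVcard⟩ := exists_normal_elemAb_ge_pow_four hp2 hP E hE hEcard
  haveI := hVn
  obtain ⟨k, hk⟩ := (hP.to_subgroup V).exists_card_eq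
  have hk4 : 4 ≤ k := by rw [hk] at hVcard; exact exp_le hVcard
  obtain ⟨A, hAn, hAV, hAcard⟩ :=
    Cfsg.Agent.Lib.Helper2.NormalEpSq.exists_normal_le_card_pow' hP k V hk 4 hk4
  refine ⟨A, hAn, ⟨⟨⟨fun a b => Subtype.ext ?_⟩⟩, fun a ha => hVEA.2 a (hAV ha)⟩, hAcard⟩
  have h0 := congrArg Subtype.val (hVEA.1.is_comm.comm ⟨a, hAV a.2⟩ ⟨b, hAV b.2⟩)
  exact h0

end NormalEp4Gen

end Cfsg.Agent.Lib.Helper10
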