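import Cfsg.Agent.Lib.Helper28.Ord459648.Basic
import Cfsg.Agent.Lib.Helper7.PrimeSylowNC
import Cfsg.Agent.S1018

/-!
# S1022 piece [P1a]: the normalizer of a Sylow 19-subgroup has order 456 (helper10)

Also a general lemma `Helper10.card_centralizer_dvd_of_perm`: in a faithful permutation
representation on `p * k + f` points, an element of prime order `p` with `f` fixed points has a
centralizer of order dividing `f! * p ^ k * k!`.
-/

set_option autoImplicit false

namespace Cfsg.Agent.Lib.Helper28.Ord459648

namespace Helper10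

variable {G : Type*} [Group G] [Finite G]

/-- If `G` acts faithfully on `p * k + f` points and `g` of prime order `p` has exactly `f` fixed
points, then `|C_G(g)|` divides `f! * p ^ k * k!`. -/
theorem card_centralizer_dvd_of_perm {α : Type*} [Fintype α] [DecidableEq α]
    (φ : G →* Equiv.Perm α) (hφ : Function.Injective φ) (g : G) {p : ℕ} (hp : p.Prime)
    (hg : orderOf g = p) (k f : ℕ)
    (hfix : Nat.card (Function.fixedPoints (φ g)) = f) (hcard : Fintype.card α = p * k + f) :
    Nat.card (Subgroup.centralizer ({g} : Set G)) ∣ f.factorial * p ^ k * k.factorial := by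
  have hoσ : orderOf (φ g) = p := by rw [orderOf_injective φ hφ g, hg]
  obtain ⟨n, hn⟩ := Equiv.Perm.cycleType_prime_order (σ := φ g) (by rw [hoσ]; exact hp)
  rw [hoσ] at hn
  have hsum : (φ g).cycleType.sum = (n + 1) * p := by
    rw [hn, Multiset.sum_replicate, smul_eq_mul]
  have hfp : f = Fintype.card α - (φ g).cycleType.sum := by
    rw [← hfix, Nat.card_eq_fintype_card]
    convert Equiv.Perm.card_fixedPoints (φ g)
  have hle := Equiv.Perm.sum_cycleType_le (φ g)
  rw [hsum] at hfp hle
  have hk : n + 1 = k := by
    have h1 : p * (n + 1) = p * k := by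
      rw [mul_comm p (n + 1)]; omega
    exact Nat.eq_of_mul_eq_mul_left hp.pos h1
  have hcent := Equiv.Perm.nat_card_centralizer (φ g)
  have hfin : (Multiset.replicate (n + 1) p).toFinset = {p} := by
    rw [Multiset.toFinset_replicate, if_neg (Nat.succ_ne_zero n)]
  rw [hn, hfin, Finset.prod_singleton, Multiset.count_replicate_self, Multiset.prod_replicate,
    Multiset.sum_replicate, smul_eq_mul, hk] at hcent
  have hf : Fintype.card α - k * p = f := by
    rw [hcard, mul_comm k p]; omega
  rw [hf] at hcent
  have hmap : ∀ x ∈ Subgroup.centralizer ({g} : Set G),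
      φ x ∈ Subgroup.centralizer ({φ g} : Set (Equiv.Perm α)) := by
    intro x hx
    rw [Subgroup.mem_centralizer_singleton_iff] at hx ⊢
    rw [← map_mul, ← map_mul, hx]
  let ψ : Subgroup.centralizer ({g} : Set G) →*
      Subgroup.centralizer ({φ g} : Set (Equiv.Perm α)) :=
    (φ.comp (Subgroup.subtype _)).codRestrict _ (fun x => hmap x.1 x.2)
  have hψ : Function.Injective ψ := by
    intro a b hab
    apply Subtype.ext
    apply hφ
    exact congrArg Subtype.val hab
  have hdvd := Subgroup.card_dvd_of_injective ψ hψ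
  rw [hcent] at hdvd
  exact hdvd

/-- A simple group acts faithfully on the cosets of a proper subgroup. -/
theorem toPermHom_quotient_injective [IsSimpleGroup G] (H : Subgroup G) (hH : H ≠ ⊤) :
    Function.Injective (MulAction.toPermHom G (G ⧸ H)) := by
  rw [← MonoidHom.ker_eq_bot_iff]
  rcases (Subgroup.Normal.eq_bot_or_eq_top
    (H := (MulAction.toPermHom G (G ⧸ H)).ker) inferInstance) with h | h
  · exact h
  · exfalso
    apply hH
    rw [eq_top_iff]
    intro g _
    have hg : g ∈ (MulAction.toPermHom G (G ⧸ H)).ker := by rw [h]; trivial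
    rw [MonoidHom.mem_ker] at hg
    have h3 : g • ((1 : G) : G ⧸ H) = ((1 : G) : G ⧸ H) := by
      have := congrArg (fun σ : Equiv.Perm (G ⧸ H) => σ ((1 : G) : G ⧸ H)) hg
      simpa using this
    rw [MulAction.Quotient.smul_mk, QuotientGroup.eq] at h3
    simpa using h3

/-- A Sylow subgroup of prime order contains an element of that order. -/
theorem exists_mem_orderOf_eq {p : ℕ} [Fact p.Prime] (P : Sylow p G)
    (hP : Nat.card (P : Subgroup G) = p) : ∃ g ∈ (P : Subgroup G), orderOf g = p := by
  have hp : p.Prime := Fact.out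
  obtain ⟨g, hgP, hg1⟩ : ∃ g ∈ (P : Subgroup G), g ≠ 1 := by
    by_contra hcon
    push Not at hcon
    have hbot : (P : Subgroup G) = ⊥ := (Subgroup.eq_bot_iff_forall _).mpr hcon
    rw [hbot, Subgroup.card_bot] at hP
    exact hp.one_lt.ne hP
  refine ⟨g, hgP, ?_⟩
  have h1 : orderOf g ∣ p := by
    have := orderOf_dvd_natCard (⟨g, hgP⟩ : (P : Subgroup G))
    rwa [Subgroup.orderOf_mk, hP] at this
  rcases (Nat.dvd_prime hp).mp h1 with h | h
  · exact absurd (orderOf_eq_one_iff.mp h) hg1
  · exact h

theorem divisors_key_aux : ∀ a < 32, ∀ b < 40, (19 * (40 * a + b) + 1) ∣ 24192 →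
    (19 * (40 * a + b) + 1 = 1 ∨ 19 * (40 * a + b) + 1 = 96 ∨ 19 * (40 * a + b) + 1 = 1008) := by
  decide +kernel

theorem divisors_key (n : ℕ) (hn : n ≤ 24192) (hd : n ∣ 24192) (hmod : n % 19 = 1) :
    n = 1 ∨ n = 96 ∨ n = 1008 := by
  have h1 : n = 19 * (40 * (n / 19 / 40) + (n / 19) % 40) + 1 := by omega
  have h2 := divisors_key_aux (n / 19 / 40) (by omega) ((n / 19) % 40) (by omega)
  rw [← h1] at h2
  exact h2 hd

end Helper10

variable {G : Type*} [Group G] [Finite G]

/-- [P1a] -/
theorem card_normalizer_sylow19 [IsSimpleGroup G] (hG : Nat.card G = 459648) (P : Sylow 19 G) :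
    Nat.card (Subgroup.normalizer ((P : Subgroup G) : Set G)) = 456 := by
  classical
  have hP : Nat.card (P : Subgroup G) = 19 :=
    Cfsg.Agent.Lib.Helper7.card_eq_prime_of_sylow P (by rw [hG]; norm_num) (by rw [hG]; norm_num)
  have hPN : (P : Subgroup G) ≤ Subgroup.normalizer ((P : Subgroup G) : Set G) :=
    Subgroup.le_normalizer
  have h19N : 19 ∣ Nat.card (Subgroup.normalizer ((P : Subgroup G) : Set G)) := by
    have := Subgroup.card_dvd_of_le hPN
    rwa [hP] at this
  have hidx : Nat.card (Subgroup.normalizer ((P : Subgroup G) : Set G)) *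
      (Subgroup.normalizer ((P : Subgroup G) : Set G)).index = 459648 := by
    rw [Subgroup.card_mul_index, hG]
  have hmod : (Subgroup.normalizer ((P : Subgroup G) : Set G)).index % 19 = 1 := by
    have h1 : Nat.card (Sylow 19 G) ≡ 1 [MOD 19] := card_sylow_modEq_one 19 G
    have h2 : Nat.card (Sylow 19 G) =
        (Subgroup.normalizer ((P : Subgroup G) : Set G)).index := Sylow.card_eq_index_normalizer P
    rw [h2] at h1
    have h3 : (Subgroup.normalizer ((P : Subgroup G) : Set G)).index % 19 = 1 % 19 := h1
    simpa using h3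
  obtain ⟨m, hm⟩ := h19N
  have hdiv : (Subgroup.normalizer ((P : Subgroup G) : Set G)).index ∣ 24192 := by
    refine Dvd.intro_left m ?_
    rw [hm, mul_assoc] at hidx
    have h459 : (459648 : ℕ) = 19 * 24192 := by norm_num
    rw [h459] at hidx
    exact Nat.eq_of_mul_eq_mul_left (by norm_num) hidx
  have hrange : (Subgroup.normalizer ((P : Subgroup G) : Set G)).index ≤ 24192 :=
    Nat.le_of_dvd (by norm_num) hdiv
  rcases Helper10.divisors_key _ hrange hdiv hmod with h | h | h
  · -- index 1: P is normal
    exfalso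
    have hNtop : Subgroup.normalizer ((P : Subgroup G) : Set G) = ⊤ := Subgroup.index_eq_one.mp h
    have hnorm : (P : Subgroup G).Normal := Subgroup.normalizer_eq_top_iff.mp hNtop
    rcases hnorm.eq_bot_or_eq_top with hb | ht
    · rw [hb, Subgroup.card_bot] at hP; omega
    · rw [ht, Subgroup.card_top, hG] at hP; omega
  · -- index 96
    exfalso
    have hN : Nat.card (Subgroup.normalizer ((P : Subgroup G) : Set G)) = 4788 := by
      rw [h] at hidx; omega
    have hCN : Subgroup.centralizer ((P : Subgroup G) : Set G) ≤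
        Subgroup.normalizer ((P : Subgroup G) : Set G) := Subgroup.centralizer_le_normalizer _
    have hrel : (Subgroup.centralizer ((P : Subgroup G) : Set G)).relIndex
        (Subgroup.normalizer ((P : Subgroup G) : Set G)) ∣ 19 - 1 :=
      Cfsg.Agent.Lib.Helper7.relIndex_centralizer_normalizer_dvd_sub_one (P : Subgroup G)
        (by norm_num : Nat.Prime 19) hP
    have hmul : Nat.card (Subgroup.centralizer ((P : Subgroup G) : Set G)) *
        (Subgroup.centralizer ((P : Subgroup G) : Set G)).relIndex
          (Subgroup.normalizer ((P : Subgroup G) : Set G)) =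
        Nat.card (Subgroup.normalizer ((P : Subgroup G) : Set G)) := by
      have := Subgroup.relIndex_mul_relIndex (⊥ : Subgroup G) _ _ bot_le hCN
      rwa [Subgroup.relIndex_bot_left, Subgroup.relIndex_bot_left] at this
    have h7C : 7 ∣ Nat.card (Subgroup.centralizer ((P : Subgroup G) : Set G)) := by
      have h7 : 7 ∣ Nat.card (Subgroup.centralizer ((P : Subgroup G) : Set G)) *
          (Subgroup.centralizer ((P : Subgroup G) : Set G)).relIndex
            (Subgroup.normalizer ((P : Subgroup G) : Set G)) := by
        rw [hmul, hN]; norm_num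
      rcases (Nat.Prime.dvd_mul (by norm_num : Nat.Prime 7)).mp h7 with h' | h'
      · exact h'
      · exfalso
        have h718 : 7 ∣ 19 - 1 := h'.trans hrel
        norm_num at h718
    obtain ⟨g, hgP, hog⟩ := Helper10.exists_mem_orderOf_eq P hP
    have hfixed := (Cfsg.Agent.S1018.result 19 P hP).1 g hog
    have : Fintype (G ⧸ Subgroup.normalizer ((P : Subgroup G) : Set G)) := Fintype.ofFinite _
    have hcard : Fintype.card (G ⧸ Subgroup.normalizer ((P : Subgroup G) : Set G)) =
        19 * 5 + 1 := by
      rw [← Nat.card_eq_fintype_card, ← Subgroup.index_eq_card, h]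
    have hNne : Subgroup.normalizer ((P : Subgroup G) : Set G) ≠ ⊤ := by
      intro htop
      rw [Subgroup.index_eq_one.mpr htop] at h
      omega
    have hfix : Nat.card (Function.fixedPoints
        (MulAction.toPermHom G (G ⧸ Subgroup.normalizer ((P : Subgroup G) : Set G)) g)) = 1 :=
      hfixed
    have hdvd := Helper10.card_centralizer_dvd_of_perm
      (MulAction.toPermHom G (G ⧸ Subgroup.normalizer ((P : Subgroup G) : Set G)))
      (Helper10.toPermHom_quotient_injective _ hNne) g (by norm_num : Nat.Prime 19) hog 5 1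
      hfix hcard
    have hCle : Subgroup.centralizer ((P : Subgroup G) : Set G) ≤
        Subgroup.centralizer ({g} : Set G) :=
      Subgroup.centralizer_le (Set.singleton_subset_iff.mpr hgP)
    have h7 : 7 ∣ Nat.factorial 1 * 19 ^ 5 * Nat.factorial 5 :=
      h7C.trans ((Subgroup.card_dvd_of_le hCle).trans hdvd)
    norm_num [Nat.factorial] at h7
  · -- index 1008
    rw [h] at hidx; omega

end Cfsg.Agent.Lib.Helper28.Ord459648
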