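import Mathlib
import Cfsg.Agent.S0215
import Cfsg.Agent.S0111
import Cfsg.Agent.Lib.Helper18.SylowFix
import Cfsg.Agent.Lib.Helper18.Ord3960

/-!
# Order 5040, generic lemmas (helper10)

* a non-central involution of a non-abelian simple group commutes with another conjugate of itself
  (Glauberman's `Z*`-theorem plus the dihedral trick);
* the Thompson transfer lemma in a simple group;
* fixed cosets of a subgroup containing a Sylow normalizer.
-/

set_option autoImplicit false
set_option linter.unusedSectionVars false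

namespace Cfsg.Agent.Lib.Helper10.Ord5040

open MulAction

variable {G : Type*} [Group G] [Finite G]

/-- the dihedral trick: two distinct involutions `s`, `u = g s g⁻¹` whose product has 2-power
order yield a conjugate of `s` different from `s` that commutes with `s`. -/
theorem exists_conj_commute {s g : G} (hs : s ^ 2 = 1) (hne : g * s * g⁻¹ ≠ s)
    {k : ℕ} (hd : orderOf (s * (g * s * g⁻¹)) = 2 ^ k) :
    ∃ w : G, w * s * w⁻¹ ≠ s ∧ Commute (w * s * w⁻¹) s := by
  set u := g * s * g⁻¹ with hu
  set d := s * u with hdd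
  have hsinv : s⁻¹ = s := by
    rw [inv_eq_iff_mul_eq_one, ← sq]; exact hs
  have hu2 : u ^ 2 = 1 := by
    rw [hu, sq]
    calc g * s * g⁻¹ * (g * s * g⁻¹) = g * (s * s) * g⁻¹ := by group
      _ = 1 := by rw [← sq, hs]; group
  have huinv : u⁻¹ = u := by
    rw [inv_eq_iff_mul_eq_one, ← sq]; exact hu2
  have hconj : s * d * s⁻¹ = d⁻¹ := by
    rw [hdd, mul_inv_rev, huinv, hsinv]
    calc s * (s * u) * s = (s * s) * u * s := by group
      _ = u * s := by rw [← sq, hs, one_mul]
  have hconjpow : ∀ m : ℕ, s * d ^ m * s⁻¹ = (d ^ m)⁻¹ := by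
    intro m
    have : s * d ^ m * s⁻¹ = (s * d * s⁻¹) ^ m := by
      rw [conj_pow]
    rw [this, hconj, inv_pow]
  have hd1 : d ≠ 1 := by
    intro h
    apply hne
    have : u = s⁻¹ := by
      rw [hdd] at h
      exact (eq_inv_of_mul_eq_one_right h)
    rw [this, hsinv]
  rcases Nat.lt_or_ge k 2 with hk | hk
  · -- `d ^ 2 = 1`: `u` commutes with `s`
    refine ⟨g, hne, ?_⟩
    have hd2 : d ^ 2 = 1 := by
      have : orderOf d ∣ 2 := by
        rw [hd]
        interval_cases k
        · norm_num
        · norm_num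
      exact orderOf_dvd_iff_pow_eq_one.mp this
    show u * s = s * u
    have h1 : d = d⁻¹ := by
      rw [eq_inv_iff_mul_eq_one, ← sq]; exact hd2
    rw [hdd, mul_inv_rev, huinv, hsinv] at h1
    exact h1.symm
  · obtain ⟨j, rfl⟩ : ∃ j, k = j + 2 := ⟨k - 2, by omega⟩
    set w := d ^ (2 ^ j) with hw
    set z := d ^ (2 ^ (j + 1)) with hz
    have hz1 : z ≠ 1 := by
      intro h
      have := orderOf_dvd_of_pow_eq_one h
      rw [hd] at this
      have h2 := Nat.le_of_dvd (by positivity) this
      have : 2 ^ (j + 1) < 2 ^ (j + 2) := Nat.pow_lt_pow_right (by norm_num) (by omega)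
      omega
    have hz2 : z * z = 1 := by
      rw [hz, ← pow_add, ← two_mul, ← pow_succ', ← hd]
      exact pow_orderOf_eq_one d
    have hzinv : z⁻¹ = z := by
      rw [inv_eq_iff_mul_eq_one]; exact hz2
    have hww : w * w = z := by
      rw [hw, hz, ← pow_add, ← two_mul, ← pow_succ']
    have hsz : s * z * s⁻¹ = z := by
      rw [hz, hconjpow, ← hz, hzinv]
    have hsw : s * w⁻¹ = w * s := by
      have h0 := hconjpow (2 ^ j)
      rw [← hw] at h0
      have h' : s * w⁻¹ * s⁻¹ = w := by
        have h1 := congrArg (fun x => x⁻¹) h0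
        simp only [mul_inv_rev, inv_inv] at h1
        rw [← mul_assoc] at h1
        exact h1
      calc s * w⁻¹ = (s * w⁻¹ * s⁻¹) * s := by group
        _ = w * s := by rw [h']
    have hwsw : w * s * w⁻¹ = z * s := by
      calc w * s * w⁻¹ = w * (s * w⁻¹) := by group
        _ = w * (w * s) := by rw [hsw]
        _ = (w * w) * s := by group
        _ = z * s := by rw [hww]
    refine ⟨w, ?_, ?_⟩
    · rw [hwsw]
      intro h
      apply hz1
      calc z = z * s * s⁻¹ := by group
        _ = s * s⁻¹ := by rw [h]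
        _ = 1 := by group
    · rw [hwsw]
      show z * s * s = s * (z * s)
      have : s * z = z * s := by
        calc s * z = (s * z * s⁻¹) * s := by group
          _ = z * s := by rw [hsz]
      calc z * s * s = (z * s) * s := rfl
        _ = (s * z) * s := by rw [this]
        _ = s * (z * s) := by group

/-- an involution of a non-abelian finite simple group commutes with another conjugate of itself -/
theorem exists_commuting_conj [IsSimpleGroup G] (hG : ¬ IsMulCommutative G) {s : G}
    (hs : orderOf s = 2) : ∃ g : G, g * s * g⁻¹ ≠ s ∧ Commute (g * s * g⁻¹) s := by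
  by_contra hcon
  push Not at hcon
  haveI : Fact (Nat.Prime 2) := ⟨by norm_num⟩
  have hs2 : s ^ 2 = 1 := by rw [← hs]; exact pow_orderOf_eq_one s
  have hs1 : s ≠ 1 := by
    intro h; rw [h, orderOf_one] at hs; omega
  have hpz : IsPGroup 2 (Subgroup.zpowers s) := by
    apply IsPGroup.of_card (n := 1)
    rw [Nat.card_zpowers, hs, pow_one]
  obtain ⟨T, hT⟩ := hpz.exists_le_sylow
  have hsT : s ∈ (T : Subgroup G) := hT (Subgroup.mem_zpowers s)
  have hiso : ∀ g : G, g * s * g⁻¹ ∈ T → g * s * g⁻¹ = s := by
    intro g hg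
    by_contra hne
    have hmem : s * (g * s * g⁻¹) ∈ (T : Subgroup G) := (T : Subgroup G).mul_mem hsT hg
    obtain ⟨k, hk⟩ := T.2 ⟨_, hmem⟩
    have hk' : (s * (g * s * g⁻¹)) ^ 2 ^ k = 1 := by
      have := congrArg Subtype.val hk
      simpa using this
    obtain ⟨j, -, hj⟩ := (Nat.dvd_prime_pow Nat.prime_two).mp (orderOf_dvd_of_pow_eq_one hk')
    obtain ⟨w, hw1, hw2⟩ := exists_conj_commute hs2 hne hj
    exact hcon w hw1 hw2
  obtain ⟨N, hNn, hNodd, hNc⟩ := Cfsg.Agent.S0215.result T s hs hsT hiso
  have hcenter := Cfsg.Agent.Lib.Helper18.Ord3960.center_eq_bot hG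
  rcases hNn.eq_bot_or_eq_top with hb | ht
  · have huc : s ∈ Subgroup.center G := by
      rw [Subgroup.mem_center_iff]
      intro g
      have := hNc g
      rw [hb, Subgroup.mem_bot] at this
      calc g * s = (s * g * s⁻¹ * g⁻¹)⁻¹ * (s * g) := by group
        _ = s * g := by rw [this]; group
    rw [hcenter, Subgroup.mem_bot] at huc
    exact hs1 huc
  · rw [ht, Subgroup.card_top] at hNodd
    have h2 : 2 ∣ Nat.card G := by
      rw [← hs]; exact orderOf_dvd_natCard s
    exact (Nat.not_even_iff_odd.mpr hNodd) (even_iff_two_dvd.mpr h2)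

/-- Thompson transfer in a non-abelian simple group -/
theorem thompson_simple [IsSimpleGroup G] (hG : ¬ IsMulCommutative G) (T : Sylow 2 G)
    (Q : Subgroup G) (hQT : Q ≤ (T : Subgroup G)) (hQi : Q.relIndex (T : Subgroup G) = 2)
    {s : G} (hs : orderOf s = 2) (hsT : s ∈ (T : Subgroup G)) (hsQ : s ∉ Q) :
    ∃ g : G, g * s * g⁻¹ ∈ Q := by
  rcases Cfsg.Agent.S0111.result T Q hQT hQi s hs hsT hsQ with ⟨M, hMn, hMi, hsM⟩ | h
  · exfalso
    rcases hMn.eq_bot_or_eq_top with hb | ht
    · -- `G` has order 2
      rw [hb, Subgroup.index_bot] at hMi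
      apply hG
      have : IsCyclic G := isCyclic_of_prime_card (p := 2) hMi
      exact ⟨⟨fun a b => by
        obtain ⟨c, hc⟩ := IsCyclic.exists_generator (α := G)
        obtain ⟨m, rfl⟩ := Subgroup.mem_zpowers_iff.mp (hc a)
        obtain ⟨n, rfl⟩ := Subgroup.mem_zpowers_iff.mp (hc b)
        rw [← zpow_add, ← zpow_add, add_comm]⟩⟩
    · rw [ht, Subgroup.index_top] at hMi
      omega
  · exact h

/-- If `M` contains the normalizer of the Sylow `p`-subgroup `P` and `u` centralizes `P`, the number
of cosets of `M` fixed by `u` is `≡ 1 (mod p)`. -/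
theorem card_fixed_coset_mod {p : ℕ} [hp : Fact p.Prime] (P : Sylow p G) (M : Subgroup G)
    (hNM : Subgroup.normalizer ((P : Subgroup G) : Set G) ≤ M) (u : G)
    (hu : ∀ x ∈ (P : Subgroup G), u * x = x * u) :
    Nat.card {q : G ⧸ M // u • q = q} % p = 1 := by
  have hPM : (P : Subgroup G) ≤ M := Subgroup.le_normalizer.trans hNM
  let F : SubMulAction (P : Subgroup G) (G ⧸ M) :=
    { carrier := {q | u • q = q}
      smul_mem' := by
        intro c q hq
        show u • ((c : G) • q) = (c : G) • q
        rw [← mul_smul, hu _ c.2, mul_smul]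
        have hq' : u • q = q := hq
        rw [hq'] }
  have h1 := P.2.card_modEq_card_fixedPoints F
  have hbase : u • ((1 : G) : G ⧸ M) = ((1 : G) : G ⧸ M) := by
    show ((u * 1 : G) : G ⧸ M) = ((1 : G) : G ⧸ M)
    rw [QuotientGroup.eq]
    have : u ∈ M := by
      apply hNM
      apply Subgroup.centralizer_le_normalizer
      rw [Subgroup.mem_centralizer_iff]
      intro x hx
      exact (hu x hx).symm
    simpa using M.inv_mem this
  have h2 : Nat.card (fixedPoints (P : Subgroup G) F) = 1 := by
    rw [Nat.card_eq_one_iff_unique]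
    constructor
    · constructor
      have key : ∀ (q : G ⧸ M) (hqF : q ∈ F),
          (⟨q, hqF⟩ : F) ∈ fixedPoints (P : Subgroup G) F → q = ((1 : G) : G ⧸ M) := by
        intro q hqF hq
        induction q using QuotientGroup.induction_on with
        | H g =>
          -- `g⁻¹ P g ≤ M`
          have hfix : ∀ c ∈ (P : Subgroup G), g⁻¹ * c * g ∈ M := by
            intro c hc
            have := hq ⟨c, hc⟩
            have h3 : (c : G) • ((g : G) : G ⧸ M) = ((g : G) : G ⧸ M) := congrArg Subtype.val this
            have h4 : ((c * g : G) : G ⧸ M) = ((g : G) : G ⧸ M) := h3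
            rw [QuotientGroup.eq] at h4
            have h5 := M.inv_mem h4
            have : ((c * g)⁻¹ * g)⁻¹ = g⁻¹ * c * g := by group
            rwa [this] at h5
          -- the conjugate Sylow subgroup `g⁻¹ • P` lies in `M`
          have hle : ((g⁻¹ • P : Sylow p G) : Subgroup G) ≤ M := by
            intro x hx
            rw [Sylow.coe_subgroup_smul, Subgroup.mem_pointwise_smul_iff_inv_smul_mem] at hx
            have hx' : g * x * g⁻¹ ∈ (P : Subgroup G) := by
              simpa [MulAut.smul_def, MulAut.conj_apply] using hx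
            have := hfix _ hx'
            have e : g⁻¹ * (g * x * g⁻¹) * g = x := by group
            rwa [e] at this
          -- conjugate inside `M`
          obtain ⟨m, hm⟩ := MulAction.exists_smul_eq M ((g⁻¹ • P : Sylow p G).subtype hle)
            (P.subtype hPM)
          rw [Sylow.smul_subtype] at hm
          have hm1 : m • (g⁻¹ • P) = P := Sylow.subtype_injective hm
          have hm' : ((m : G) * g⁻¹) • P = P := by
            rw [mul_smul]; exact hm1
          have hmg : (m : G) * g⁻¹ ∈ M := hNM (Sylow.smul_eq_iff_mem_normalizer.mp hm')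
          have hgM : g ∈ M := by
            have := M.mul_mem (M.inv_mem hmg) m.2
            have e : ((m : G) * g⁻¹)⁻¹ * m = g := by group
            rwa [e] at this
          show ((g : G) : G ⧸ M) = ((1 : G) : G ⧸ M)
          rw [QuotientGroup.eq]
          simpa using M.inv_mem hgM
      rintro ⟨⟨q, hqF⟩, hq⟩ ⟨⟨q', hqF'⟩, hq'⟩
      have e1 := key q hqF hq
      have e2 := key q' hqF' hq'
      subst e1
      subst e2
      rfl
    · refine ⟨⟨⟨((1 : G) : G ⧸ M), hbase⟩, ?_⟩⟩
      intro c
      apply Subtype.ext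
      show ((c : G) • ((1 : G) : G ⧸ M)) = ((1 : G) : G ⧸ M)
      show (((c : G) * 1 : G) : G ⧸ M) = ((1 : G) : G ⧸ M)
      rw [QuotientGroup.eq]
      simpa using M.inv_mem (hPM c.2)
  rw [h2] at h1
  have h3 : Nat.card F = Nat.card {q : G ⧸ M // u • q = q} := rfl
  rw [h3] at h1
  unfold Nat.ModEq at h1
  rw [h1, Nat.mod_eq_of_lt hp.out.one_lt]

end Cfsg.Agent.Lib.Helper10.Ord5040
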