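import Mathlib
import Cfsg.Agent.Lib.Helper10.Ord7920D

/-!
# Order 5040: a 2-group of order 16 with an abelian maximal subgroup (helper10)

Pure group theory: the quaternion subgroup generated by two elements, the index two calculus, and
the existence of a maximal subgroup with a single involution in the configuration arising as a
Sylow 2-subgroup in the last case of the analysis of order 5040.
-/

set_option autoImplicit false
set_option linter.unusedSectionVars false

namespace Cfsg.Agent.Lib.Helper10.Ord5040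

variable {G : Type*} [Group G]

section Q8

variable {x y z : G}

theorem q8_pow_four (hx : x * x = z) (hz : z * z = 1) : x ^ 4 = 1 := by
  have : x ^ 4 = (x * x) * (x * x) := by
    rw [pow_succ, pow_succ, pow_succ, pow_one]; simp only [mul_assoc]
  rw [this, hx, hz]

theorem q8_y_mul_pow (hx : x * x = z) (hyx : y * x * y⁻¹ = x * z) (k : ℕ) :
    y * x ^ k = x ^ (3 * k) * y := by
  induction k with
  | zero => simp
  | succ k ih =>
    have h1 : y * x = x * z * y := by
      calc y * x = (y * x * y⁻¹) * y := by group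
        _ = x * z * y := by rw [hyx]
    calc y * x ^ (k + 1) = (y * x ^ k) * x := by rw [pow_succ, mul_assoc]
      _ = x ^ (3 * k) * (y * x) := by rw [ih, mul_assoc]
      _ = x ^ (3 * k) * (x * z * y) := by rw [h1]
      _ = x ^ (3 * k) * (x * (x * x) * y) := by rw [hx]
      _ = x ^ (3 * (k + 1)) * y := by
          have : 3 * (k + 1) = 3 * k + 1 + 1 + 1 := by ring
          rw [this, pow_succ, pow_succ, pow_succ]
          simp only [mul_assoc]

theorem q8_mem_form (hx : x * x = z) (hy : y * y = z) (hz : z * z = 1)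
    (hyx : y * x * y⁻¹ = x * z) {g : G} (hg : g ∈ Subgroup.closure ({x, y} : Set G)) :
    ∃ i : ℕ, g = x ^ i ∨ g = x ^ i * y := by
  have h4 := q8_pow_four hx hz
  have hyk := q8_y_mul_pow hx hyx
  have hz2 : z = x ^ 2 := by rw [sq, hx]
  induction hg using Subgroup.closure_induction with
  | mem g hg =>
    rcases hg with rfl | rfl
    · exact ⟨1, Or.inl (pow_one _).symm⟩
    · exact ⟨0, Or.inr (by simp)⟩
  | one => exact ⟨0, Or.inl (by simp)⟩
  | mul a b _ _ iha ihb =>
    obtain ⟨i, hi | hi⟩ := iha <;> obtain ⟨k, hk | hk⟩ := ihb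
    · exact ⟨i + k, Or.inl (by rw [hi, hk, pow_add])⟩
    · exact ⟨i + k, Or.inr (by rw [hi, hk, pow_add, mul_assoc])⟩
    · refine ⟨i + 3 * k, Or.inr ?_⟩
      rw [hi, hk, mul_assoc, hyk, pow_add, mul_assoc]
    · refine ⟨i + 3 * k + 2, Or.inl ?_⟩
      rw [hi, hk]
      calc x ^ i * y * (x ^ k * y) = x ^ i * (y * x ^ k) * y := by simp only [mul_assoc]
        _ = x ^ i * (x ^ (3 * k) * y) * y := by rw [hyk]
        _ = x ^ i * x ^ (3 * k) * (y * y) := by simp only [mul_assoc]
        _ = x ^ (i + 3 * k + 2) := by rw [hy, hz2, ← pow_add, ← pow_add]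
  | inv a _ iha =>
    obtain ⟨i, hi | hi⟩ := iha
    · refine ⟨3 * i, Or.inl ?_⟩
      rw [hi, inv_eq_iff_mul_eq_one, ← pow_add]
      have : i + 3 * i = 4 * i := by ring
      rw [this, pow_mul, h4, one_pow]
    · refine ⟨2 + 9 * i, Or.inr ?_⟩
      rw [hi, inv_eq_iff_mul_eq_one]
      calc x ^ i * y * (x ^ (2 + 9 * i) * y) = x ^ i * (y * x ^ (2 + 9 * i)) * y := by
            simp only [mul_assoc]
        _ = x ^ i * (x ^ (3 * (2 + 9 * i)) * y) * y := by rw [hyk]
        _ = x ^ i * x ^ (3 * (2 + 9 * i)) * (y * y) := by simp only [mul_assoc]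
        _ = x ^ (i + 3 * (2 + 9 * i) + 2) := by rw [hy, hz2, ← pow_add, ← pow_add]
        _ = 1 := by
            have : i + 3 * (2 + 9 * i) + 2 = 4 * (7 * i + 2) := by ring
            rw [this, pow_mul, h4, one_pow]

theorem q8_sq_eq_one (hx : x * x = z) (hy : y * y = z) (hz : z * z = 1) (hz1 : z ≠ 1)
    (hyx : y * x * y⁻¹ = x * z) {g : G} (hg : g ∈ Subgroup.closure ({x, y} : Set G))
    (hgg : g * g = 1) : g = 1 ∨ g = z := by
  obtain ⟨i, hi | hi⟩ := q8_mem_form hx hy hz hyx hg
  · rcases Nat.even_or_odd' i with ⟨m, rfl | rfl⟩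
    · have hgm : g = z ^ m := by rw [hi, pow_mul, sq, hx]
      rcases Nat.even_or_odd' m with ⟨n, rfl | rfl⟩
      · left; rw [hgm, pow_mul, sq, hz, one_pow]
      · right; rw [hgm, pow_succ, pow_mul, sq, hz, one_pow, one_mul]
    · exfalso
      apply hz1
      have : g * g = z := by
        rw [hi, ← pow_add]
        have : 2 * m + 1 + (2 * m + 1) = 2 * (2 * m + 1) := by ring
        rw [this, pow_mul, sq, hx, pow_succ, pow_mul, sq, hz, one_pow, one_mul]
      rw [← this, hgg]
  · exfalso
    apply hz1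
    have : g * g = z := by
      rw [hi]
      calc x ^ i * y * (x ^ i * y) = x ^ i * (y * x ^ i) * y := by simp only [mul_assoc]
        _ = x ^ i * (x ^ (3 * i) * y) * y := by rw [q8_y_mul_pow hx hyx]
        _ = x ^ (i + 3 * i) * (y * y) := by rw [pow_add]; simp only [mul_assoc]
        _ = z := by
            have : i + 3 * i = 4 * i := by ring
            rw [this, pow_mul, q8_pow_four hx hz, one_pow, one_mul, hy]
    rw [← this, hgg]

end Q8

/-! ### index two calculus -/

theorem mul_mem_iff_of_relIndex_two {H K : Subgroup G} (h : H.relIndex K = 2) {a b : G}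
    (ha : a ∈ K) (hb : b ∈ K) : a * b ∈ H ↔ (a ∈ H ↔ b ∈ H) := by
  have := Subgroup.mul_mem_iff_of_index_two (H := H.subgroupOf K) h
    (a := ⟨a, ha⟩) (b := ⟨b, hb⟩)
  simpa [Subgroup.mem_subgroupOf] using this

theorem relIndex_eq_two_of_card [Finite G] {H K : Subgroup G} (hHK : H ≤ K) {n : ℕ} (hn : 0 < n)
    (hH : Nat.card H = n) (hK : Nat.card K = 2 * n) : H.relIndex K = 2 := by
  have := Cfsg.Agent.Lib.Helper10.Ord7920.card_mul_relIndex' hHK
  rw [hH, hK] at this
  have h2 : n * H.relIndex K = n * 2 := by rw [this]; ring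
  exact Nat.eq_of_mul_eq_mul_left hn h2

end Cfsg.Agent.Lib.Helper10.Ord5040
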