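import Mathlib
import Cfsg.Agent.Lib.Helper10.Ord5040B

/-!
# Order 5040: the maximal subgroup with a single involution (helper10)

`T` of order 16 with an abelian subgroup `A` of order 8 containing an involution `s` which is not
central in `T` and an element whose square is neither `1` nor `s`: then `T` has a subgroup `Q` of
order 8 avoiding `s` whose only involution is central in `T`.
-/

set_option autoImplicit false
set_option linter.unusedSectionVars false

namespace Cfsg.Agent.Lib.Helper10.Ord5040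

variable {G : Type*} [Group G]

theorem exists_index_two_unique_involution [Finite G] {T A : Subgroup G}
    (hT : Nat.card T = 16) (hA : Nat.card A = 8) (hAT : A ≤ T)
    (hAc : ∀ x ∈ A, ∀ y ∈ A, x * y = y * x)
    {s τ a : G} (hsA : s ∈ A) (hs2 : s * s = 1) (hs1 : s ≠ 1) (hτT : τ ∈ T) (hτA : τ ∉ A)
    (hτs : τ * s * τ⁻¹ ≠ s)
    (haA : a ∈ A) (ha1 : a * a ≠ 1) (has : a * a ≠ s) :
    ∃ (Q : Subgroup G) (z : G), Q ≤ T ∧ Nat.card Q = 8 ∧ s ∉ Q ∧ (∀ x ∈ T, x * z = z * x) ∧
      z ≠ 1 ∧ ∀ x ∈ Q, x * x = 1 → x = 1 ∨ x = z := by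
  classical
  have hrel : A.relIndex T = 2 := relIndex_eq_two_of_card hAT (by norm_num) hA (by rw [hT])
  have hidx : ∀ {u v : G}, u ∈ T → v ∈ T → (u * v ∈ A ↔ (u ∈ A ↔ v ∈ A)) :=
    fun hu hv => mul_mem_iff_of_relIndex_two hrel hu hv
  have hτinvT : τ⁻¹ ∈ T := T.inv_mem hτT
  have hτinvA : τ⁻¹ ∉ A := fun h => hτA (by simpa using A.inv_mem h)
  have hnorm : ∀ x ∈ A, τ * x * τ⁻¹ ∈ A := by
    intro x hx
    have h1 : τ * x ∉ A := by
      rw [hidx hτT (hAT hx)]
      intro h; exact hτA (h.mpr hx)
    rw [hidx (T.mul_mem hτT (hAT hx)) hτinvT]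
    constructor
    · intro h; exact absurd h h1
    · intro h; exact absurd h hτinvA
  have hττ : τ * τ ∈ A := by rw [hidx hτT hτT]
  -- conjugation by `τ` twice is trivial on `A`
  have hconj2 : ∀ x ∈ A, τ * (τ * x * τ⁻¹) * τ⁻¹ = x := by
    intro x hx
    have h1 := hAc _ hττ x hx
    calc τ * (τ * x * τ⁻¹) * τ⁻¹ = (τ * τ * x) * (τ * τ)⁻¹ := by group
      _ = (x * (τ * τ)) * (τ * τ)⁻¹ := by rw [h1]
      _ = x := by group
  have hconjmul : ∀ x y : G, τ * (x * y) * τ⁻¹ = (τ * x * τ⁻¹) * (τ * y * τ⁻¹) := by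
    intro x y; group
  have hconj_inj : ∀ x y : G, τ * x * τ⁻¹ = τ * y * τ⁻¹ → x = y := by
    intro x y h
    calc x = τ⁻¹ * (τ * x * τ⁻¹) * τ := by group
      _ = τ⁻¹ * (τ * y * τ⁻¹) * τ := by rw [h]
      _ = y := by group
  have hconj_one : τ * 1 * τ⁻¹ = 1 := by group
  -- the second involution
  obtain ⟨s', hs'⟩ : ∃ s' : G, s' = τ * s * τ⁻¹ := ⟨_, rfl⟩
  have hs'A : s' ∈ A := by rw [hs']; exact hnorm s hsA
  have hs's : s' ≠ s := by rw [hs']; exact hτs
  have hs'2 : s' * s' = 1 := by
    rw [hs', ← hconjmul, hs2, hconj_one]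
  have hs'1 : s' ≠ 1 := by
    intro h
    apply hs1
    apply hconj_inj
    rw [hconj_one, ← hs']; exact h
  have hτs' : τ * s' * τ⁻¹ = s := by rw [hs']; exact hconj2 s hsA
  have hss' : s * s' = s' * s := hAc s hsA s' hs'A
  obtain ⟨z, hz⟩ : ∃ z : G, z = s * s' := ⟨_, rfl⟩
  have hzA : z ∈ A := by rw [hz]; exact A.mul_mem hsA hs'A
  have hz2 : z * z = 1 := by
    calc z * z = s * (s' * s) * s' := by rw [hz]; group
      _ = s * (s * s') * s' := by rw [hss']
      _ = (s * s) * (s' * s') := by group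
      _ = 1 := by rw [hs2, hs'2, one_mul]
  have hsinv : s⁻¹ = s := by rw [inv_eq_iff_mul_eq_one]; exact hs2
  have hs'inv : s'⁻¹ = s' := by rw [inv_eq_iff_mul_eq_one]; exact hs'2
  have hzinv : z⁻¹ = z := by rw [inv_eq_iff_mul_eq_one]; exact hz2
  have hz1 : z ≠ 1 := by
    intro h
    apply hs's
    rw [hz] at h
    have : s' = s⁻¹ := eq_inv_of_mul_eq_one_right h
    rw [this, hsinv]
  have hzs : z ≠ s := by
    intro h
    apply hs'1
    calc s' = s⁻¹ * (s * s') := by group
      _ = s⁻¹ * s := by rw [← hz, h]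
      _ = 1 := by group
  have hzs' : z ≠ s' := by
    intro h
    apply hs1
    calc s = (s * s') * s'⁻¹ := by group
      _ = s' * s'⁻¹ := by rw [← hz, h]
      _ = 1 := by group
  have hs'z : s' = s * z := by
    rw [hz, ← mul_assoc, hs2, one_mul]
  have hτz : τ * z * τ⁻¹ = z := by
    rw [hz, hconjmul, hτs', ← hs', hss']
  -- the subgroup of elements of `A` squaring to 1
  let V : Subgroup G :=
    { carrier := {x | x ∈ A ∧ x * x = 1}
      one_mem' := ⟨A.one_mem, by simp⟩
      mul_mem' := by
        rintro x y ⟨hx, hx2⟩ ⟨hy, hy2⟩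
        refine ⟨A.mul_mem hx hy, ?_⟩
        have := hAc x hx y hy
        calc x * y * (x * y) = x * (y * x) * y := by group
          _ = x * (x * y) * y := by rw [this]
          _ = (x * x) * (y * y) := by group
          _ = 1 := by rw [hx2, hy2, one_mul]
      inv_mem' := by
        rintro x ⟨hx, hx2⟩
        refine ⟨A.inv_mem hx, ?_⟩
        rw [← mul_inv_rev, hx2, inv_one] }
  have hVmem : ∀ x, x ∈ V ↔ x ∈ A ∧ x * x = 1 := fun x => Iff.rfl
  have hVA : V ≤ A := fun x hx => hx.1
  have haV : a ∉ V := fun h => ha1 h.2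
  let S : Finset G := {1, s, s', z}
  have hScard : S.card = 4 := by
    have h1 : (1 : G) ∉ ({s, s', z} : Finset G) := by
      simp only [Finset.mem_insert, Finset.mem_singleton, not_or]
      exact ⟨fun h => hs1 h.symm, fun h => hs'1 h.symm, fun h => hz1 h.symm⟩
    have h2 : s ∉ ({s', z} : Finset G) := by
      simp only [Finset.mem_insert, Finset.mem_singleton, not_or]
      exact ⟨fun h => hs's h.symm, fun h => hzs h.symm⟩
    have h3 : s' ∉ ({z} : Finset G) := by
      simp only [Finset.mem_singleton]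
      exact fun h => hzs' h.symm
    show (insert 1 (insert s (insert s' {z})) : Finset G).card = 4
    rw [Finset.card_insert_of_notMem h1, Finset.card_insert_of_notMem h2,
      Finset.card_insert_of_notMem h3, Finset.card_singleton]
  have hSV : (S : Set G) ⊆ (V : Set G) := by
    intro x hx
    simp only [S, Finset.coe_insert, Finset.coe_singleton, Set.mem_insert_iff,
      Set.mem_singleton_iff] at hx
    rcases hx with rfl | rfl | rfl | rfl
    · exact V.one_mem
    · exact ⟨hsA, hs2⟩
    · exact ⟨hs'A, hs'2⟩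
    · exact ⟨hzA, hz2⟩
  have hVncard : (V : Set G).ncard = Nat.card V := (Nat.card_coe_set_eq (V : Set G)).symm
  have hV4 : 4 ≤ Nat.card V := by
    rw [← hVncard, ← hScard, ← Set.ncard_coe_finset]
    exact Set.ncard_le_ncard hSV (Set.toFinite _)
  have hVcard : Nat.card V = 4 := by
    have hdvd : Nat.card V ∣ 8 := by rw [← hA]; exact Subgroup.card_dvd_of_le hVA
    have hne : Nat.card V ≠ 8 := by
      intro h
      have := Subgroup.eq_of_le_of_card_ge hVA (by rw [h, hA])
      exact haV (this ▸ haA)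
    have hle : Nat.card V ≤ 8 := Nat.le_of_dvd (by norm_num) hdvd
    generalize Nat.card V = n at hdvd hne hle hV4
    interval_cases n <;> first | rfl | (exfalso; exact hne rfl) | (exfalso; revert hdvd; decide)
  have hVrel : V.relIndex A = 2 := relIndex_eq_two_of_card hVA (by norm_num) hVcard (by rw [hA])
  have hVset : ∀ v ∈ V, v = 1 ∨ v = s ∨ v = s' ∨ v = z := by
    have heq : (S : Set G) = (V : Set G) := by
      apply Set.eq_of_subset_of_ncard_le hSV _ (Set.toFinite _)
      rw [hVncard, hVcard, Set.ncard_coe_finset, hScard]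
    intro v hv
    have : v ∈ (S : Set G) := by rw [heq]; exact hv
    simpa [S] using this
  -- squares in `A`
  obtain ⟨w, hw⟩ : ∃ w : G, w = a * a := ⟨_, rfl⟩
  have hwV : w ∈ V := by
    rw [hw, mul_mem_iff_of_relIndex_two hVrel haA haA]
  have hw2 : w * w = 1 := hwV.2
  have hwinv : w⁻¹ = w := by rw [inv_eq_iff_mul_eq_one]; exact hw2
  have hsq : ∀ x ∈ A, x * x = 1 ∨ x * x = w := by
    intro x hx
    by_cases hxV : x ∈ V
    · exact Or.inl hxV.2
    · right
      have h1 : x * a ∈ V := by
        rw [mul_mem_iff_of_relIndex_two hVrel hx haA]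
        exact ⟨fun h => absurd h hxV, fun h => absurd h haV⟩
      have h2 := h1.2
      have h3 := hAc a haA x hx
      have h4 : x * x * w = 1 := by
        calc x * x * w = x * (x * a) * a := by rw [hw]; group
          _ = x * (a * x) * a := by rw [h3]
          _ = x * a * (x * a) := by group
          _ = 1 := h2
      calc x * x = x * x * w * w⁻¹ := by group
        _ = w := by rw [h4, one_mul, hwinv]
  have hτw : τ * w * τ⁻¹ = w := by
    have h1 : τ * w * τ⁻¹ = (τ * a * τ⁻¹) * (τ * a * τ⁻¹) := by rw [hw, hconjmul]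
    rcases hsq _ (hnorm a haA) with h | h
    · exfalso
      apply ha1
      apply hconj_inj
      rw [hconj_one, ← hw, h1, h]
    · rw [h1, h]
  have hwz : w = z := by
    rcases hVset w hwV with h | h | h | h
    · exact absurd (by rw [← hw]; exact h) ha1
    · exact absurd (by rw [← hw]; exact h) has
    · exfalso
      rw [h, hτs'] at hτw
      exact hs's hτw.symm
    · exact h
  -- an element of order 4 commuting with `τ`
  obtain ⟨b, hbA, hbb, hτb⟩ : ∃ b ∈ A, b * b = z ∧ τ * b * τ⁻¹ = b := by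
    obtain ⟨a', ha'⟩ : ∃ a' : G, a' = τ * a * τ⁻¹ := ⟨_, rfl⟩
    have ha'A : a' ∈ A := by rw [ha']; exact hnorm a haA
    have ha'2 : a' * a' = z := by
      rw [ha', ← hconjmul, ← hw, hτw, hwz]
    have hτa' : τ * a' * τ⁻¹ = a := by rw [ha']; exact hconj2 a haA
    obtain ⟨v, hv⟩ : ∃ v : G, v = a⁻¹ * a' := ⟨_, rfl⟩
    have hvA : v ∈ A := by rw [hv]; exact A.mul_mem (A.inv_mem haA) ha'A
    have hvV : v ∈ V := by
      refine ⟨hvA, ?_⟩
      have h1 := hAc a' ha'A a⁻¹ (A.inv_mem haA)
      calc v * v = a⁻¹ * (a' * a⁻¹) * a' := by rw [hv]; group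
        _ = a⁻¹ * (a⁻¹ * a') * a' := by rw [h1]
        _ = (a * a)⁻¹ * (a' * a') := by group
        _ = 1 := by rw [ha'2, ← hw, hwz, hzinv, hz2]
    have ha'v : a' = a * v := by rw [hv]; group
    rcases hVset v hvV with h | h | h | h
    · refine ⟨a, haA, by rw [← hw, hwz], ?_⟩
      rw [← ha', ha'v, h, mul_one]
    · exfalso
      -- `a' = a s`
      have h1 : τ * a' * τ⁻¹ = a * z := by
        rw [ha'v, h, hconjmul, ← ha', ← hs', ha'v, h, hz]; group
      rw [hτa'] at h1
      apply hz1
      calc z = a⁻¹ * (a * z) := by group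
        _ = a⁻¹ * a := by rw [← h1]
        _ = 1 := by group
    · exfalso
      -- `a' = a s'`
      have h1 : τ * a' * τ⁻¹ = a * z := by
        rw [ha'v, h, hconjmul, ← ha', hτs', ha'v, h, hz, mul_assoc, ← hss']
      rw [hτa'] at h1
      apply hz1
      calc z = a⁻¹ * (a * z) := by group
        _ = a⁻¹ * a := by rw [← h1]
        _ = 1 := by group
    · -- `a' = a z`
      refine ⟨a * s, A.mul_mem haA hsA, ?_, ?_⟩
      · have h1 := hAc s hsA a haA
        calc a * s * (a * s) = a * (s * a) * s := by group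
          _ = a * (a * s) * s := by rw [h1]
          _ = (a * a) * (s * s) := by group
          _ = z := by rw [hs2, mul_one, ← hw, hwz]
      · rw [hconjmul, ← ha', ← hs', ha'v, h, hs'z]
        have h1 := hAc z hzA s hsA
        calc a * z * (s * z) = a * (z * s) * z := by group
          _ = a * (s * z) * z := by rw [h1]
          _ = a * s * (z * z) := by group
          _ = a * s := by rw [hz2, mul_one]
  have hτb' : τ * b = b * τ := by
    calc τ * b = (τ * b * τ⁻¹) * τ := by group
      _ = b * τ := by rw [hτb]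
  have hτz' : τ * z = z * τ := by
    calc τ * z = (τ * z * τ⁻¹) * τ := by group
      _ = z * τ := by rw [hτz]
  have hcentral : ∀ u ∈ A, τ * u = u * τ → ∀ x ∈ T, x * u = u * x := by
    intro u hu hτu x hx
    by_cases hxA : x ∈ A
    · exact hAc x hxA u hu
    · have hy : x * τ⁻¹ ∈ A := by
        rw [hidx hx hτinvT]
        exact ⟨fun h => absurd h hxA, fun h => absurd h hτinvA⟩
      have h1 := hAc _ hy u hu
      calc x * u = (x * τ⁻¹) * (τ * u) := by group
        _ = (x * τ⁻¹) * (u * τ) := by rw [hτu]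
        _ = ((x * τ⁻¹) * u) * τ := by group
        _ = (u * (x * τ⁻¹)) * τ := by rw [h1]
        _ = u * x := by group
  have hbT := hcentral b hbA hτb'
  have hzT := hcentral z hzA hτz'
  have hb1 : b ≠ 1 := by
    intro h
    apply hz1
    rw [← hbb, h, one_mul]
  -- the square of `τ`
  have ht2 := hsq _ hττ
  rw [hwz] at ht2
  have hτconj : τ * (τ * τ) * τ⁻¹ = τ * τ := by group
  rcases ht2 with h1 | hzz
  · -- `τ ^ 4 = 1`: a quaternion subgroup
    have ht2V : τ * τ ∈ V := ⟨hττ, h1⟩
    have ht2' : τ * τ = 1 ∨ τ * τ = z := by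
      rcases hVset _ ht2V with h | h | h | h
      · exact Or.inl h
      · exfalso
        rw [h] at hτconj
        exact hτs hτconj
      · exfalso
        rw [h, hτs'] at hτconj
        exact hs's hτconj.symm
      · exact Or.inr h
    obtain ⟨τ₁, hτ₁T, hτ₁A, hτ₁2, hτ₁s⟩ :
        ∃ τ₁ ∈ T, τ₁ ∉ A ∧ τ₁ * τ₁ = z ∧ τ₁ * s * τ₁⁻¹ = s' := by
      rcases ht2' with h | h
      · refine ⟨τ * b, T.mul_mem hτT (hAT hbA), ?_, ?_, ?_⟩
        · intro hmem
          apply hτA
          have := A.mul_mem hmem (A.inv_mem hbA)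
          have e : τ * b * b⁻¹ = τ := by group
          rwa [e] at this
        · calc τ * b * (τ * b) = τ * (b * τ) * b := by group
            _ = τ * (τ * b) * b := by rw [hτb']
            _ = (τ * τ) * (b * b) := by group
            _ = z := by rw [h, hbb, one_mul]
        · have h2 := hAc b hbA s hsA
          calc τ * b * s * (τ * b)⁻¹ = τ * ((b * s) * b⁻¹) * τ⁻¹ := by group
            _ = τ * ((s * b) * b⁻¹) * τ⁻¹ := by rw [h2]
            _ = τ * s * τ⁻¹ := by group
            _ = s' := hs'.symm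
      · exact ⟨τ, hτT, hτA, h, hs'.symm⟩
    have hτ₁b : τ₁ * b = b * τ₁ := hbT τ₁ hτ₁T
    obtain ⟨x, hx⟩ : ∃ x : G, x = b * s := ⟨_, rfl⟩
    have hbs := hAc b hbA s hsA
    have hxx : x * x = z := by
      calc x * x = b * (s * b) * s := by rw [hx]; group
        _ = b * (b * s) * s := by rw [← hbs]
        _ = (b * b) * (s * s) := by group
        _ = z := by rw [hbb, hs2, mul_one]
    have hxA : x ∈ A := by rw [hx]; exact A.mul_mem hbA hsA
    have hyx : τ₁ * x * τ₁⁻¹ = x * z := by
      calc τ₁ * x * τ₁⁻¹ = (τ₁ * b) * τ₁⁻¹ * (τ₁ * s * τ₁⁻¹) := by rw [hx]; group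
        _ = (b * τ₁) * τ₁⁻¹ * s' := by rw [hτ₁b, hτ₁s]
        _ = b * (s * z) := by rw [hs'z]; group
        _ = x * z := by rw [hx]; group
    refine ⟨Subgroup.closure {x, τ₁}, z, ?_, ?_, ?_, hzT, hz1, ?_⟩
    · rw [Subgroup.closure_le]
      intro g hg
      rcases hg with rfl | rfl
      · exact hAT hxA
      · exact hτ₁T
    · -- the order
      have hsQ : s ∉ Subgroup.closure {x, τ₁} := by
        intro hmem
        obtain ⟨i, hi | hi⟩ := q8_mem_form hxx hτ₁2 hz2 hyx hmem
        · rcases Nat.even_or_odd' i with ⟨m, rfl | rfl⟩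
          · have hsm : s = z ^ m := by rw [hi, pow_mul, sq, hxx]
            rcases Nat.even_or_odd' m with ⟨n, rfl | rfl⟩
            · apply hs1; rw [hsm, pow_mul, sq, hz2, one_pow]
            · apply hzs; rw [hsm, pow_succ, pow_mul, sq, hz2, one_pow, one_mul]
          · apply hz1
            have : s * s = z := by
              rw [hi, ← pow_add]
              have : 2 * m + 1 + (2 * m + 1) = 2 * (2 * m + 1) := by ring
              rw [this, pow_mul, sq, hxx, pow_succ, pow_mul, sq, hz2, one_pow, one_mul]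
            rw [← this, hs2]
        · apply hτ₁A
          have : τ₁ = (x ^ i)⁻¹ * s := by rw [hi]; group
          rw [this]
          exact A.mul_mem (A.inv_mem (A.pow_mem hxA i)) hsA
      have hQT : Subgroup.closure {x, τ₁} ≤ T := by
        rw [Subgroup.closure_le]
        intro g hg
        rcases hg with rfl | rfl
        · exact hAT hxA
        · exact hτ₁T
      have hdvd : Nat.card (Subgroup.closure {x, τ₁}) ∣ 16 := by
        rw [← hT]; exact Subgroup.card_dvd_of_le hQT
      have hox : orderOf x = 2 ^ 2 := by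
        apply orderOf_eq_prime_pow
        · rw [pow_one, sq, hxx]; exact hz1
        · exact q8_pow_four hxx hz2
      have hzx : Subgroup.zpowers x ≤ Subgroup.closure {x, τ₁} := by
        rw [Subgroup.zpowers_le]
        exact Subgroup.subset_closure (by simp)
      have h4 : 4 ∣ Nat.card (Subgroup.closure {x, τ₁}) := by
        have := Subgroup.card_dvd_of_le hzx
        rw [Nat.card_zpowers, hox] at this
        exact this
      have hne4 : Nat.card (Subgroup.closure {x, τ₁}) ≠ 4 := by
        intro h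
        have := Subgroup.eq_of_le_of_card_ge hzx (by rw [h, Nat.card_zpowers, hox]; norm_num)
        apply hτ₁A
        have hmem : τ₁ ∈ Subgroup.zpowers x := by
          rw [this]; exact Subgroup.subset_closure (by simp)
        exact (Subgroup.zpowers_le.mpr hxA) hmem
      have hne16 : Nat.card (Subgroup.closure {x, τ₁}) ≠ 16 := by
        intro h
        have := Subgroup.eq_of_le_of_card_ge hQT (by rw [h, hT])
        apply hsQ
        rw [this]; exact hAT hsA
      have hle : Nat.card (Subgroup.closure {x, τ₁}) ≤ 16 := Nat.le_of_dvd (by norm_num) hdvd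
      generalize Nat.card (Subgroup.closure {x, τ₁}) = n at hdvd h4 hne4 hne16 hle
      interval_cases n <;> first | rfl | omega | (exfalso; revert hdvd; decide)
    · intro hmem
      obtain ⟨i, hi | hi⟩ := q8_mem_form hxx hτ₁2 hz2 hyx hmem
      · rcases Nat.even_or_odd' i with ⟨m, rfl | rfl⟩
        · have hsm : s = z ^ m := by rw [hi, pow_mul, sq, hxx]
          rcases Nat.even_or_odd' m with ⟨n, rfl | rfl⟩
          · apply hs1; rw [hsm, pow_mul, sq, hz2, one_pow]
          · apply hzs; rw [hsm, pow_succ, pow_mul, sq, hz2, one_pow, one_mul]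
        · apply hz1
          have : s * s = z := by
            rw [hi, ← pow_add]
            have : 2 * m + 1 + (2 * m + 1) = 2 * (2 * m + 1) := by ring
            rw [this, pow_mul, sq, hxx, pow_succ, pow_mul, sq, hz2, one_pow, one_mul]
          rw [← this, hs2]
      · apply hτ₁A
        have : τ₁ = (x ^ i)⁻¹ * s := by rw [hi]; group
        rw [this]
        exact A.mul_mem (A.inv_mem (A.pow_mem hxA i)) hsA
    · intro g hg hgg
      exact q8_sq_eq_one hxx hτ₁2 hz2 hz1 hyx hg hgg
  · -- `τ ^ 4 = z`: a cyclic subgroup of order 8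
    have hτ4 : τ ^ 4 = z := by
      have : τ ^ 4 = (τ * τ) * (τ * τ) := by
        rw [pow_succ, pow_succ, pow_succ, pow_one]; simp only [mul_assoc]
      rw [this, hzz]
    have hoτ : orderOf τ = 2 ^ 3 := by
      apply orderOf_eq_prime_pow
      · have : (2 : ℕ) ^ 2 = 4 := by norm_num
        rw [this, hτ4]; exact hz1
      · have : (2 : ℕ) ^ (2 + 1) = 4 + 4 := by norm_num
        rw [this, pow_add, hτ4, hz2]
    refine ⟨Subgroup.zpowers τ, z, ?_, ?_, ?_, hzT, hz1, ?_⟩
    · rw [Subgroup.zpowers_le]; exact hτT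
    · rw [Nat.card_zpowers, hoτ]; norm_num
    · intro hmem
      obtain ⟨k, hk⟩ := Subgroup.mem_zpowers_iff.mp hmem
      apply hτs
      have hcomm : Commute τ s := by
        rw [← hk]
        exact (Commute.refl τ).zpow_right k
      calc τ * s * τ⁻¹ = (s * τ) * τ⁻¹ := by rw [hcomm.eq]
        _ = s := by group
    · intro g hg hgg
      obtain ⟨k, rfl⟩ := Subgroup.mem_zpowers_iff.mp hg
      have h1 : τ ^ (k + k) = 1 := by rw [zpow_add]; exact hgg
      have h2 : ((orderOf τ : ℕ) : ℤ) ∣ k + k := orderOf_dvd_iff_zpow_eq_one.mpr h1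
      rw [hoτ] at h2
      obtain ⟨m, hm⟩ : (4 : ℤ) ∣ k := by
        obtain ⟨c, hc⟩ := h2
        refine ⟨c, ?_⟩
        push_cast at hc
        omega
      have h3 : τ ^ k = z ^ m := by
        rw [hm, zpow_mul, ← hτ4]
        norm_cast
      rw [h3]
      rcases Int.even_or_odd' m with ⟨n, rfl | rfl⟩
      · left
        rw [zpow_mul, zpow_two, hz2, one_zpow]
      · right
        rw [zpow_add, zpow_mul, zpow_two, hz2, one_zpow, one_mul, zpow_one]

end Cfsg.Agent.Lib.Helper10.Ord5040
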