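import Mathlib
import Cfsg.Agent.H5.SylowTupleS
import Cfsg.Agent.Lib.Helper18.SylowOver
import Cfsg.Agent.Lib.Helper18.SylowFix
import Cfsg.Agent.Lib.Helper18.Ord3960
import Cfsg.Agent.Lib.Helper10.Ord7920J
import Cfsg.Agent.Lib.Helper10.Ord5040A
import Cfsg.Agent.Lib.Helper10.Ord5040C

/-!
# Order 5040: local lemmas for the last case (helper10)
-/

set_option autoImplicit false
set_option linter.unusedSectionVars false
set_option maxRecDepth 100000

namespace Cfsg.Agent.Lib.Helper10.Ord5040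

open Cfsg.H5.SmallOrd Cfsg.H5.SylowTuple Cfsg.Agent.Lib.Helper18.SylowOver
  Cfsg.Agent.Lib.Helper18.SylowFix

variable {G : Type*} [Group G] [Finite G]

theorem mem_centralizer_singleton {s g : G} :
    g ∈ Subgroup.centralizer ({s} : Set G) ↔ s * g = g * s := by
  rw [Subgroup.mem_centralizer_iff]
  simp

/-- order of a Sylow subgroup from the group order -/
theorem card_sylow_of' {N0 : ℕ} (hord : Nat.card G = N0) {p k : ℕ} [hp : Fact p.Prime]
    (P : Sylow p G) (hk : p ^ k ∣ N0) (hk' : ¬ p ^ (k + 1) ∣ N0) :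
    Nat.card (P : Subgroup G) = p ^ k := by
  obtain ⟨n, hn⟩ := IsPGroup.iff_card.mp P.2
  have hdvd : Nat.card (P : Subgroup G) ∣ N0 := by
    rw [← hord]; exact Subgroup.card_subgroup_dvd_card _
  have hidx : ¬ p ∣ (P : Subgroup G).index := P.not_dvd_index
  have hmul : Nat.card (P : Subgroup G) * (P : Subgroup G).index = N0 := by
    rw [Subgroup.card_mul_index, hord]
  rw [hn] at hdvd hmul ⊢
  have hnk : n ≤ k := by
    by_contra h
    exact hk' ((pow_dvd_pow p (by omega)).trans hdvd)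
  rcases Nat.lt_or_ge n k with hlt | hge
  · exfalso
    apply hidx
    have h1 : p ^ (n + 1) ∣ p ^ n * (P : Subgroup G).index := by
      rw [hmul]; exact (pow_dvd_pow p (by omega)).trans hk
    rw [pow_succ] at h1
    exact Nat.dvd_of_mul_dvd_mul_left (pow_pos hp.out.pos n) h1
  · have : n = k := le_antisymm hnk hge
    rw [this]

/-- no involution commutes with an element of order 7 -/
theorem not_commute_two_seven [Fact (Nat.Prime 7)] {k7 e7 c7 : ℕ} (h7 : IsSD G 7 k7 e7 c7) (hc7 : ¬ 2 ∣ c7) {s y : G}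
    (hs : orderOf s = 2) (hy : orderOf y = 7) : ¬ Commute s y := by
  intro hc
  obtain ⟨Q, hQ⟩ := h7.exists_sylow_eq_zpowers y hy
  have hsC : s ∈ Subgroup.centralizer ((Q : Subgroup G) : Set G) :=
    Cfsg.Agent.Lib.Helper10.Ord7920.mem_centralizer_of_commute hQ.symm hc
  have h1 : orderOf s ∣ Nat.card (Subgroup.centralizer ((Q : Subgroup G) : Set G)) :=
    Cfsg.Agent.Lib.Helper10.Ord7920.orderOf_dvd_card_of_mem hsC
  rw [h7.card_C Q, hs] at h1
  rcases (Nat.Prime.dvd_mul Nat.prime_two).mp h1 with h | h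
  · omega
  · exact hc7 h

theorem not_seven_dvd_centralizer [Fact (Nat.Prime 7)] {k7 e7 c7 : ℕ} (h7 : IsSD G 7 k7 e7 c7) (hc7 : ¬ 2 ∣ c7) {s : G}
    (hs : orderOf s = 2) : ¬ 7 ∣ Nat.card (Subgroup.centralizer ({s} : Set G)) := by
  intro h
  obtain ⟨y, hy⟩ := exists_prime_orderOf_dvd_card' 7 h
  have hy' : orderOf (y : G) = 7 := by rw [Subgroup.orderOf_coe]; exact hy
  have hc : s * (y : G) = (y : G) * s := mem_centralizer_singleton.mp y.2
  exact not_commute_two_seven h7 hc7 hs hy' hc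

/-- a subgroup of order 8 of a subgroup of order 40 -/
theorem exists_subgroup_card_eight (N : Subgroup G) (hN : Nat.card N = 40) :
    ∃ A : Subgroup G, A ≤ N ∧ Nat.card A = 8 := by
  have : Fact (Nat.Prime 2) := ⟨by norm_num⟩
  obtain ⟨T0, hT0⟩ := Sylow.exists_subgroup_card_pow_prime (G := N) 2 (n := 3)
    (by rw [hN]; norm_num)
  refine ⟨T0.map N.subtype, Subgroup.map_subtype_le T0, ?_⟩
  have : Nat.card (T0.map N.subtype) = Nat.card T0 :=
    Nat.card_congr (T0.equivMapOfInjective N.subtype N.subtype_injective).symm.toEquiv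
  rw [this, hT0]; norm_num

/-- if `v` commutes with subgroups of orders 5 and 8 of a subgroup of order 40, it commutes with
the whole subgroup -/
theorem commute_of_commute_five_eight {P A N : Subgroup G} (hPN : P ≤ N) (hAN : A ≤ N)
    (hP : Nat.card P = 5) (hA : Nat.card A = 8) (hN : Nat.card N = 40) {v : G}
    (hvP : ∀ x ∈ P, x * v = v * x) (hvA : ∀ x ∈ A, x * v = v * x) :
    ∀ n ∈ N, n * v = v * n := by
  set M := Subgroup.centralizer ({v} : Set G) with hM
  have hPM : P ≤ M ⊓ N := le_inf (fun x hx => mem_centralizer_singleton.mpr (hvP x hx).symm) hPN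
  have hAM : A ≤ M ⊓ N := le_inf (fun x hx => mem_centralizer_singleton.mpr (hvA x hx).symm) hAN
  have h5 : 5 ∣ Nat.card (M ⊓ N : Subgroup G) := by
    rw [← hP]; exact Subgroup.card_dvd_of_le hPM
  have h8 : 8 ∣ Nat.card (M ⊓ N : Subgroup G) := by
    rw [← hA]; exact Subgroup.card_dvd_of_le hAM
  have h40 : 40 ∣ Nat.card (M ⊓ N : Subgroup G) :=
    Nat.Coprime.mul_dvd_of_dvd_of_dvd (by norm_num : Nat.Coprime 5 8) h5 h8
  have hle : 40 ≤ Nat.card (M ⊓ N : Subgroup G) := Nat.le_of_dvd Nat.card_pos h40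
  have heq : M ⊓ N = N := Subgroup.eq_of_le_of_card_ge inf_le_right (by rw [hN]; exact hle)
  intro n hn
  have : n ∈ M ⊓ N := by rw [heq]; exact hn
  exact (mem_centralizer_singleton.mp this.1).symm

end Cfsg.Agent.Lib.Helper10.Ord5040
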