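import Mathlib
import Cfsg.Agent.Lib.Helper10.Ord5040D

/-!
# Order 5040: the centralizer of an involution central in the normalizer of a Sylow 5-subgroup
(helper10)
-/

set_option autoImplicit false
set_option linter.unusedSectionVars false
set_option maxRecDepth 100000

namespace Cfsg.Agent.Lib.Helper10.Ord5040

open Cfsg.H5.SmallOrd Cfsg.H5.SylowTuple Cfsg.Agent.Lib.Helper18.SylowOver
  Cfsg.Agent.Lib.Helper18.SylowFix

variable {G : Type*} [Group G] [Finite G]

/-- **The centralizer of a 5-central involution.**  In a simple group of order 5040 in which no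
involution commutes with an element of order 7 and the normalizer `N` of a Sylow 5-subgroup has
order 40, an involution `s` centralizing `N` has `C(s) = N`. -/
theorem mem_normalizer_of_commute [IsSimpleGroup G] (hG : ¬ IsMulCommutative G)
    (hcard : Nat.card G = 5040) [Fact (Nat.Prime 5)] [Fact (Nat.Prime 7)]
    {k7 e7 c7 : ℕ} (h7 : IsSD G 7 k7 e7 c7) (hc7 : ¬ 2 ∣ c7) (P : Sylow 5 G)
    (hN : Nat.card (Subgroup.normalizer ((P : Subgroup G) : Set G)) = 40)
    {s : G} (hs : orderOf s = 2)
    (hsN : ∀ n ∈ Subgroup.normalizer ((P : Subgroup G) : Set G), n * s = s * n) :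
    ∀ g : G, g * s = s * g → g ∈ Subgroup.normalizer ((P : Subgroup G) : Set G) := by
  classical
  set N := Subgroup.normalizer ((P : Subgroup G) : Set G) with hNdef
  set M := Subgroup.centralizer ({s} : Set G) with hMdef
  have hmemM : ∀ g, g ∈ M ↔ s * g = g * s := fun g => mem_centralizer_singleton
  have hs2 : s ^ 2 = 1 := by rw [← hs]; exact pow_orderOf_eq_one s
  have hs1 : s ≠ 1 := by
    intro h; rw [h, orderOf_one] at hs; omega
  have hNM : N ≤ M := by
    intro n hn; rw [hmemM]; exact (hsN n hn).symm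
  have hPM : (P : Subgroup G) ≤ M := Subgroup.le_normalizer.trans hNM
  have h1 := card_eq_card_normalizer_mul P M hNM
  have h2 := card_sylow_subgroup_mod (p := 5) M
  rw [← hNdef, hN] at h1
  have h3 : Nat.card M ∣ 5040 := by rw [← hcard]; exact Subgroup.card_subgroup_dvd_card M
  have h7M : ¬ 7 ∣ Nat.card M := not_seven_dvd_centralizer h7 hc7 hs
  generalize Nat.card (Sylow 5 M) = j at h1 h2
  have hj : j = 1 ∨ j = 6 := by
    rw [h1] at h3 h7M
    have hj126 : j ∣ 126 := by
      have : 40 * j ∣ 40 * 126 := by norm_num; exact h3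
      exact Nat.dvd_of_mul_dvd_mul_left (by norm_num) this
    have hjle : j ≤ 126 := Nat.le_of_dvd (by norm_num) hj126
    have h7j : ¬ 7 ∣ j := fun h => h7M (Dvd.dvd.mul_left h 40)
    clear h1 h3 h7M
    interval_cases j <;>
      first | (left; rfl) | (right; rfl) | omega | (exfalso; revert hj126; decide)
  rcases hj with rfl | rfl
  · have heq : N = M := Subgroup.eq_of_le_of_card_ge hNM (by rw [h1, hN])
    intro g hg
    rw [heq, hmemM]
    exact hg.symm
  · exfalso
    have hM240 : Nat.card M = 240 := by rw [h1]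
    haveI : Fintype (G ⧸ M) := Fintype.ofFinite _
    have h21 : Fintype.card (G ⧸ M) = 21 := by
      rw [← Nat.card_eq_fintype_card, ← Subgroup.index_eq_card]
      have := Subgroup.card_mul_index M
      rw [hM240, hcard] at this
      omega
    have hu : ∀ x ∈ (P : Subgroup G), s * x = x * s :=
      fun x hx => (hsN x (Subgroup.le_normalizer hx)).symm
    have hmove : ∃ q : G ⧸ M, s • q ≠ q := by
      by_contra hcon
      push Not at hcon
      have hker : s ∈ (MulAction.toPermHom G (G ⧸ M)).ker := by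
        rw [MonoidHom.mem_ker]
        apply Equiv.ext
        intro q
        exact hcon q
      rcases (MonoidHom.normal_ker (MulAction.toPermHom G (G ⧸ M))).eq_bot_or_eq_top with hk | hk
      · rw [hk, Subgroup.mem_bot] at hker
        exact hs1 hker
      · have hMtop : M = ⊤ := by
          rw [eq_top_iff]
          intro g _
          have hg : g ∈ (MulAction.toPermHom G (G ⧸ M)).ker := by rw [hk]; trivial
          rw [MonoidHom.mem_ker] at hg
          have h5 : g • ((1 : G) : G ⧸ M) = ((1 : G) : G ⧸ M) :=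
            congrArg (fun σ : Equiv.Perm (G ⧸ M) => σ ((1 : G) : G ⧸ M)) hg
          have h6 : ((g * 1 : G) : G ⧸ M) = ((1 : G) : G ⧸ M) := h5
          rw [QuotientGroup.eq] at h6
          simpa using M.inv_mem h6
        rw [hMtop, Subgroup.card_top, hcard] at hM240
        omega
    obtain ⟨m, hm0, hm⟩ := card_fixed_involution hG (α := G ⧸ M) s hs2 hmove
    have hmod := card_fixed_coset_mod P M hNM s hu
    rw [Nat.card_eq_fintype_card, Fintype.card_subtype] at hmod
    rw [h21] at hm
    -- two fixed cosets from the `Z*`-theorem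
    obtain ⟨g, hg1, hg2⟩ := exists_commuting_conj hG hs
    have hq0 : s • ((g⁻¹ : G) : G ⧸ M) = ((g⁻¹ : G) : G ⧸ M) := by
      show ((s * g⁻¹ : G) : G ⧸ M) = ((g⁻¹ : G) : G ⧸ M)
      rw [QuotientGroup.eq]
      have : (s * g⁻¹)⁻¹ * g⁻¹ = (g * s * g⁻¹)⁻¹ := by group
      rw [this]
      apply M.inv_mem
      rw [hmemM]
      exact hg2.eq.symm
    have hq1 : s • ((1 : G) : G ⧸ M) = ((1 : G) : G ⧸ M) := by
      show ((s * 1 : G) : G ⧸ M) = ((1 : G) : G ⧸ M)
      rw [QuotientGroup.eq]
      have : s ∈ M := by rw [hmemM]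
      simpa using M.inv_mem this
    have hne : ((g⁻¹ : G) : G ⧸ M) ≠ ((1 : G) : G ⧸ M) := by
      intro h
      rw [QuotientGroup.eq] at h
      have hgM : g ∈ M := by simpa using h
      rw [hmemM] at hgM
      apply hg1
      calc g * s * g⁻¹ = (s * g) * g⁻¹ := by rw [hgM]
        _ = s := by group
    have hf2 : 1 < (Finset.univ.filter (fun q : G ⧸ M => s • q = q)).card := by
      rw [Finset.one_lt_card]
      exact ⟨_, Finset.mem_filter.mpr ⟨Finset.mem_univ _, hq0⟩, _,
        Finset.mem_filter.mpr ⟨Finset.mem_univ _, hq1⟩, hne⟩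
    generalize (Finset.univ.filter (fun q : G ⧸ M => s • q = q)).card = f at hm hmod hf2
    omega

/-- **Control of fusion.**  If `s` centralizes the normalizer of the Sylow subgroup `P`, a
conjugate of `s` centralizing `P` equals `s`. -/
theorem eq_of_conj_mem_centralizer {p : ℕ} [Fact p.Prime] (P : Sylow p G) {s : G}
    (hsN : ∀ n ∈ Subgroup.normalizer ((P : Subgroup G) : Set G), n * s = s * n) {g : G}
    (hx : ∀ y ∈ (P : Subgroup G), (g * s * g⁻¹) * y = y * (g * s * g⁻¹)) :
    g * s * g⁻¹ = s := by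
  set x := g * s * g⁻¹ with hxdef
  set M := Subgroup.centralizer ({x} : Set G) with hMdef
  have hmemM : ∀ u, u ∈ M ↔ x * u = u * x := fun u => mem_centralizer_singleton
  have hPM : (P : Subgroup G) ≤ M := fun y hy => (hmemM y).mpr (hx y hy)
  have hgPM : ((g • P : Sylow p G) : Subgroup G) ≤ M := by
    intro z hz
    rw [Sylow.coe_subgroup_smul, Subgroup.mem_pointwise_smul_iff_inv_smul_mem] at hz
    have hz' : g⁻¹ * z * g ∈ (P : Subgroup G) := by
      simpa [MulAut.smul_def, MulAut.conj_apply] using hz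
    have h1 := hsN _ (Subgroup.le_normalizer hz')
    rw [hmemM, hxdef]
    calc g * s * g⁻¹ * z = g * (s * (g⁻¹ * z * g)) * g⁻¹ := by group
      _ = g * ((g⁻¹ * z * g) * s) * g⁻¹ := by rw [h1]
      _ = z * (g * s * g⁻¹) := by group
  obtain ⟨m, hm⟩ := MulAction.exists_smul_eq M ((g • P : Sylow p G).subtype hgPM)
    (P.subtype hPM)
  rw [Sylow.smul_subtype] at hm
  have hm1 : m • (g • P) = P := Sylow.subtype_injective hm
  have hm' : ((m : G) * g) • P = P := by
    rw [mul_smul]; exact hm1
  have hmgN : (m : G) * g ∈ Subgroup.normalizer ((P : Subgroup G) : Set G) :=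
    Sylow.smul_eq_iff_mem_normalizer.mp hm'
  have h2 := hsN _ hmgN
  have h3 : x * (m : G) = (m : G) * x := (hmemM _).mp m.2
  calc x = (x * (m : G)) * (m : G)⁻¹ := by group
    _ = ((m : G) * x) * (m : G)⁻¹ := by rw [h3]
    _ = (((m : G) * g) * s) * ((m : G) * g)⁻¹ := by rw [hxdef]; group
    _ = (s * ((m : G) * g)) * ((m : G) * g)⁻¹ := by rw [h2]
    _ = s := by group

end Cfsg.Agent.Lib.Helper10.Ord5040
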