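import Mathlib
import Cfsg.Agent.Lib.Helper10.Ord5040B

/-!
# Order 5040: three small group-theoretic lemmas (helper10)
-/

set_option autoImplicit false
set_option linter.unusedSectionVars false
set_option maxRecDepth 100000

namespace Cfsg.Agent.Lib.Helper10.Ord5040

variable {G : Type*} [Group G]

/-- a subgroup of relative index two is normalized -/
theorem conj_mem_of_relIndex_two {H K : Subgroup G} (h : H.relIndex K = 2) (hHK : H ≤ K)
    {t x : G} (ht : t ∈ K) (hx : x ∈ H) : t * x * t⁻¹ ∈ H := by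
  have hn : (H.subgroupOf K).Normal := Subgroup.normal_of_index_eq_two h
  have := hn.conj_mem ⟨x, hHK hx⟩ (Subgroup.mem_subgroupOf.mpr hx) ⟨t, ht⟩
  rw [Subgroup.mem_subgroupOf] at this
  simpa using this

/-- a group of order 8 with two distinct central involutions is abelian -/
theorem abelian_of_center_big [Finite G] {A : Subgroup G} (hA : Nat.card A = 8) {s s' : G}
    (hs : s ∈ A) (hs' : s' ∈ A) (hs1 : s ≠ 1) (hs'1 : s' ≠ 1) (hne : s ≠ s')
    (hsc : ∀ y ∈ A, y * s = s * y) (hs'c : ∀ y ∈ A, y * s' = s' * y) :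
    ∀ x ∈ A, ∀ y ∈ A, x * y = y * x := by
  classical
  set Z : Subgroup G := A ⊓ Subgroup.centralizer (A : Set G) with hZ
  have hmemZ : ∀ x, x ∈ Z ↔ x ∈ A ∧ ∀ y ∈ A, y * x = x * y := by
    intro x
    rw [hZ, Subgroup.mem_inf, Subgroup.mem_centralizer_iff]
    rfl
  have hZA : Z ≤ A := inf_le_left
  let S : Finset G := {1, s, s'}
  have hScard : S.card = 3 := by
    have h1 : (1 : G) ∉ ({s, s'} : Finset G) := by
      simp only [Finset.mem_insert, Finset.mem_singleton, not_or]
      exact ⟨fun h => hs1 h.symm, fun h => hs'1 h.symm⟩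
    have h2 : s ∉ ({s'} : Finset G) := by
      simp only [Finset.mem_singleton]
      exact hne
    show (insert 1 (insert s {s'}) : Finset G).card = 3
    rw [Finset.card_insert_of_notMem h1, Finset.card_insert_of_notMem h2, Finset.card_singleton]
  have hSZ : (S : Set G) ⊆ (Z : Set G) := by
    intro x hx
    simp only [S, Finset.coe_insert, Finset.coe_singleton, Set.mem_insert_iff,
      Set.mem_singleton_iff] at hx
    rcases hx with rfl | rfl | rfl
    · exact Z.one_mem
    · exact (hmemZ _).mpr ⟨hs, hsc⟩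
    · exact (hmemZ _).mpr ⟨hs', hs'c⟩
  have hZncard : (Z : Set G).ncard = Nat.card Z := (Nat.card_coe_set_eq (Z : Set G)).symm
  have hZ3 : 3 ≤ Nat.card Z := by
    rw [← hZncard, ← hScard, ← Set.ncard_coe_finset]
    exact Set.ncard_le_ncard hSZ (Set.toFinite _)
  have hdvd : Nat.card Z ∣ 8 := by rw [← hA]; exact Subgroup.card_dvd_of_le hZA
  have hle : Nat.card Z ≤ 8 := Nat.le_of_dvd (by norm_num) hdvd
  have hcases : Nat.card Z = 4 ∨ Nat.card Z = 8 := by
    generalize Nat.card Z = n at hdvd hle hZ3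
    interval_cases n <;> first | (left; rfl) | (right; rfl) | (exfalso; revert hdvd; decide)
  rcases hcases with h4 | h8
  · have hrel : Z.relIndex A = 2 := relIndex_eq_two_of_card hZA (by norm_num) h4 (by rw [hA])
    intro u hu v hv
    by_cases huZ : u ∈ Z
    · exact (((hmemZ u).mp huZ).2 v hv).symm
    by_cases hvZ : v ∈ Z
    · exact ((hmemZ v).mp hvZ).2 u hu
    have huinv : u⁻¹ ∉ Z := fun h => huZ (by simpa using Z.inv_mem h)
    have hz : u⁻¹ * v ∈ Z := by
      rw [mul_mem_iff_of_relIndex_two hrel (A.inv_mem hu) hv]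
      exact ⟨fun h => absurd h huinv, fun h => absurd h hvZ⟩
    have h1 := ((hmemZ _).mp hz).2 u hu
    calc u * v = u * (u * (u⁻¹ * v)) := by group
      _ = u * ((u⁻¹ * v) * u) := by rw [h1]
      _ = v * u := by group
  · have heq : Z = A := Subgroup.eq_of_le_of_card_ge hZA (by rw [h8, hA])
    intro u hu v hv
    have huZ : u ∈ Z := by rw [heq]; exact hu
    exact (((hmemZ u).mp huZ).2 v hv).symm

/-- if a subgroup `A` of order 8 normalizes a subgroup `P` of order 5 and only two of its elements
centralize `P`, some element of `A` has a square which does not centralize `P` -/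
theorem exists_sq_not_mem_centralizer [Finite G] {P A : Subgroup G} (hP : Nat.card P = 5)
    (hAN : A ≤ Subgroup.normalizer (P : Set G)) (hA : Nat.card A = 8)
    (hK : Nat.card (A ⊓ Subgroup.centralizer (P : Set G) : Subgroup G) = 2) :
    ∃ a ∈ A, a * a ∉ Subgroup.centralizer (P : Set G) := by
  haveI hprime : Fact (Nat.card P).Prime := ⟨by rw [hP]; norm_num⟩
  haveI hcyc : IsCyclic P := isCyclic_of_prime_card (p := Nat.card P) rfl
  let f : A →* MulAut P := (P.normalizerMonoidHom).comp (Subgroup.inclusion hAN)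
  have hker : ∀ x : A, x ∈ f.ker ↔ (x : G) ∈ Subgroup.centralizer (P : Set G) := by
    intro x
    rw [MonoidHom.mem_ker]
    show P.normalizerMonoidHom (Subgroup.inclusion hAN x) = 1 ↔ _
    rw [← MonoidHom.mem_ker, Subgroup.normalizerMonoidHom_ker, Subgroup.mem_subgroupOf]
    rfl
  have hkercard : Nat.card f.ker = 2 := by
    rw [← hK]
    refine Nat.card_congr ⟨fun x => ⟨(x : A), ⟨(x : A).2, (hker _).mp x.2⟩⟩,
      fun y => ⟨⟨(y : G), y.2.1⟩, (hker _).mpr y.2.2⟩, fun x => rfl, fun y => rfl⟩
  have hrange : Nat.card f.range = 4 := by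
    have h1 := Subgroup.card_mul_index f.ker
    rw [Subgroup.index_ker, hkercard, hA] at h1
    omega
  have hAut : Nat.card (MulAut P) = 4 := by
    rw [IsCyclic.card_mulAut, hP]
    exact Nat.totient_prime (by norm_num)
  haveI : Finite (MulAut P) := Nat.finite_of_card_ne_zero (by rw [hAut]; norm_num)
  have htop : f.range = ⊤ := Subgroup.eq_top_of_card_eq _ (by rw [hrange, hAut])
  haveI : IsCyclic (MulAut P) := by
    have e := IsCyclic.mulAutMulEquiv P
    exact isCyclic_of_surjective e.symm.toMonoidHom e.symm.surjective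
  obtain ⟨γ, hγ⟩ := IsCyclic.exists_generator (α := MulAut P)
  have hoγ : orderOf γ = 4 := by
    rw [orderOf_eq_card_of_forall_mem_zpowers hγ, hAut]
  have hγ2 : γ * γ ≠ 1 := by
    intro h
    have : orderOf γ ∣ 2 := orderOf_dvd_of_pow_eq_one (by rw [sq]; exact h)
    rw [hoγ] at this
    omega
  obtain ⟨a, ha⟩ : ∃ a : A, f a = γ := by
    have : γ ∈ f.range := by rw [htop]; trivial
    exact MonoidHom.mem_range.mp this
  refine ⟨(a : G), a.2, ?_⟩
  intro hmem
  have : a * a ∈ f.ker := (hker (a * a)).mpr hmem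
  rw [MonoidHom.mem_ker, map_mul, ha] at this
  exact hγ2 this

end Cfsg.Agent.Lib.Helper10.Ord5040
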