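import Mathlib
import Cfsg.Agent.Lib.Helper10.Ord5040E
import Cfsg.Agent.Lib.Helper10.Ord5040F

/-!
# Order 5040: the last case (helper10)

A simple group of order 5040 has no Sylow data `7:(120,6,1)`, `5:(126,2,4)` or `5:(126,4,2)`.
-/

set_option autoImplicit false
set_option linter.unusedSectionVars false
set_option maxRecDepth 100000

namespace Cfsg.Agent.Lib.Helper10.Ord5040

open Cfsg.H5.SmallOrd Cfsg.H5.SylowTuple Cfsg.Agent.Lib.Helper18.SylowOver
  Cfsg.Agent.Lib.Helper18.SylowFix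

variable {G : Type*} [Group G] [Finite G]

theorem endgame_5040 [IsSimpleGroup G] (hG : ¬ IsMulCommutative G) (hcard : Nat.card G = 5040)
    [h5p : Fact (Nat.Prime 5)] [h7p : Fact (Nat.Prime 7)] {k7 e7 c7 : ℕ} (h7 : IsSD G 7 k7 e7 c7) (hc7 : ¬ 2 ∣ c7) {e c : ℕ}
    (h5 : IsSD G 5 126 e c) (hec : (e = 2 ∧ c = 4) ∨ (e = 4 ∧ c = 2)) : False := by
  classical
  haveI : Fact (Nat.Prime 2) := ⟨by norm_num⟩
  obtain ⟨P⟩ : Nonempty (Sylow 5 G) := inferInstance
  set N := Subgroup.normalizer ((P : Subgroup G) : Set G) with hNdef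
  set C := Subgroup.centralizer ((P : Subgroup G) : Set G) with hCdef
  have hPcard : Nat.card (P : Subgroup G) = 5 := h5.card_P P
  have hNcard : Nat.card N = 40 := by
    rw [hNdef, h5.card_N P]
    rcases hec with ⟨rfl, rfl⟩ | ⟨rfl, rfl⟩ <;> norm_num
  have hCcard : Nat.card C = 5 * c := h5.card_C P
  have hCN : C ≤ N := Subgroup.centralizer_le_normalizer _
  have hPN : (P : Subgroup G) ≤ N := Subgroup.le_normalizer
  have hec8 : e * c = 8 := by
    rcases hec with ⟨rfl, rfl⟩ | ⟨rfl, rfl⟩ <;> norm_num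
  have hc0 : 0 < c := by
    rcases hec with ⟨rfl, rfl⟩ | ⟨rfl, rfl⟩ <;> norm_num
  -- a Sylow 2-subgroup `A` of `N` and a Sylow 2-subgroup `T` of `G` containing it
  obtain ⟨A, hAN, hAcard⟩ := exists_subgroup_card_eight N hNcard
  have hAp : IsPGroup 2 A := IsPGroup.of_card (n := 3) (by rw [hAcard]; norm_num)
  obtain ⟨T, hAT⟩ := hAp.exists_le_sylow
  have hTcard : Nat.card (T : Subgroup G) = 16 := by
    have := card_sylow_of' hcard T (k := 4) (by norm_num) (by norm_num)
    simpa using this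
  have hrelAT : A.relIndex (T : Subgroup G) = 2 :=
    relIndex_eq_two_of_card hAT (by norm_num) hAcard (by rw [hTcard])
  -- `K = A ⊓ C` has order `c`
  have hrelC : C.relIndex N = e := by
    have := Cfsg.Agent.Lib.Helper10.Ord7920.card_mul_relIndex' hCN
    rw [hCcard, hNcard] at this
    have h40 : 5 * c * e = 40 := by rw [mul_assoc, mul_comm c e, hec8]; norm_num
    have : 5 * c * C.relIndex N = 5 * c * e := by rw [this, h40]
    exact Nat.eq_of_mul_eq_mul_left (by omega) this
  set K : Subgroup G := A ⊓ C with hKdef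
  have hKcard : Nat.card K = c := by
    have h1 : Nat.card K ∣ 8 := by
      rw [← hAcard]; exact Subgroup.card_dvd_of_le inf_le_left
    have h2 : Nat.card K ∣ 5 * c := by
      rw [← hCcard]; exact Subgroup.card_dvd_of_le inf_le_right
    have h4 : K.relIndex A = C.relIndex A := Subgroup.inf_relIndex_left A C
    have h5' : C.relIndex A ≤ e :=
      (Subgroup.relIndex_le_of_le_right hAN (by rw [hrelC]; omega)).trans (le_of_eq hrelC)
    have h6 : Nat.card K * K.relIndex A = 8 := by
      rw [← hAcard]; exact Cfsg.Agent.Lib.Helper10.Ord7920.card_mul_relIndex' inf_le_left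
    rw [h4] at h6
    have hKle : Nat.card K ≤ 8 := Nat.le_of_dvd (by norm_num) h1
    generalize Nat.card K = k at h1 h2 h6 hKle
    generalize C.relIndex A = r at h5' h6
    rcases hec with ⟨rfl, rfl⟩ | ⟨rfl, rfl⟩
    · interval_cases r <;> interval_cases k <;> first | rfl | omega | (exfalso; revert h2; decide)
    · interval_cases r <;> interval_cases k <;> first | rfl | omega | (exfalso; revert h2; decide)
  have hKnorm : ∀ z ∈ A, ∀ g ∈ K, z * g * z⁻¹ ∈ K := by
    intro z hz g hg
    exact ⟨A.mul_mem (A.mul_mem hz hg.1) (A.inv_mem hz),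
      Cfsg.Agent.Lib.Helper18.Ord3960.conj_mem_centralizer _ (hAN hz) hg.2⟩
  have hKne : K ≠ ⊥ := by
    intro h
    rw [h, Subgroup.card_bot] at hKcard
    rcases hec with ⟨-, rfl⟩ | ⟨-, rfl⟩ <;> omega
  obtain ⟨s, hsK, hs, hsAc⟩ :=
    Cfsg.Agent.Lib.Helper10.Ord7920.exists_central_involution hAp inf_le_left hKnorm hKne
  have hsA : s ∈ A := hsK.1
  have hsC : s ∈ C := hsK.2
  have hs2 : s * s = 1 := by
    have : s ^ 2 = 1 := by rw [← hs]; exact pow_orderOf_eq_one s
    rwa [sq] at this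
  have hs1 : s ≠ 1 := by
    intro h; rw [h, orderOf_one] at hs; omega
  have hcommC : ∀ v ∈ C, ∀ x ∈ (P : Subgroup G), x * v = v * x := by
    intro v hv x hx
    exact (Subgroup.mem_centralizer_iff.mp hv) x hx
  -- elements of `K` commuting with `A` are central in `N`
  have hcentral : ∀ v ∈ C, (∀ x ∈ A, x * v = v * x) → ∀ n ∈ N, n * v = v * n :=
    fun v hv hvA => commute_of_commute_five_eight hPN hAN hPcard hAcard hNcard (hcommC v hv) hvA
  have hsN : ∀ n ∈ N, n * s = s * n :=
    hcentral s hsC (fun x hx => ((hsAc x hx).eq).symm)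
  have hCs := mem_normalizer_of_commute hG hcard h7 hc7 P hNcard hs hsN
  -- `T ⊓ N = A`
  have hTN : ∀ x ∈ (T : Subgroup G), x ∈ N → x ∈ A := by
    have hle : A ≤ (T : Subgroup G) ⊓ N := le_inf hAT hAN
    have h1 : Nat.card ((T : Subgroup G) ⊓ N : Subgroup G) ∣ 16 := by
      rw [← hTcard]; exact Subgroup.card_dvd_of_le inf_le_left
    have h2 : Nat.card ((T : Subgroup G) ⊓ N : Subgroup G) ∣ 40 := by
      rw [← hNcard]; exact Subgroup.card_dvd_of_le inf_le_right
    have h3 : Nat.card ((T : Subgroup G) ⊓ N : Subgroup G) ∣ 8 := by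
      have := Nat.dvd_gcd h1 h2
      norm_num at this
      exact this
    have heq := Subgroup.eq_of_le_of_card_ge hle
      (by rw [hAcard]; exact Nat.le_of_dvd (by norm_num) h3)
    intro x hxT hxN
    rw [heq]
    exact ⟨hxT, hxN⟩
  obtain ⟨τ, hτT, hτA⟩ : ∃ τ ∈ (T : Subgroup G), τ ∉ A := by
    by_contra hcon
    push Not at hcon
    have hle : (T : Subgroup G) ≤ A := hcon
    have := Subgroup.card_dvd_of_le hle
    rw [hTcard, hAcard] at this
    omega
  have hτs : τ * s * τ⁻¹ ≠ s := by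
    intro h
    apply hτA
    apply hTN τ hτT
    apply hCs
    calc τ * s = (τ * s * τ⁻¹) * τ := by group
      _ = s * τ := by rw [h]
  -- `A` is abelian
  have hs'A : τ * s * τ⁻¹ ∈ A := conj_mem_of_relIndex_two hrelAT hAT hτT hsA
  have hs'c : ∀ y ∈ A, y * (τ * s * τ⁻¹) = (τ * s * τ⁻¹) * y := by
    intro y hy
    have hy' : τ⁻¹ * y * τ ∈ A := by
      have := conj_mem_of_relIndex_two hrelAT hAT ((T : Subgroup G).inv_mem hτT) hy
      simpa using this
    have h1 := (hsAc _ hy').eq
    calc y * (τ * s * τ⁻¹) = τ * ((τ⁻¹ * y * τ) * s) * τ⁻¹ := by group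
      _ = τ * (s * (τ⁻¹ * y * τ)) * τ⁻¹ := by rw [h1]
      _ = (τ * s * τ⁻¹) * y := by group
  have hs'1 : τ * s * τ⁻¹ ≠ 1 := by
    intro h
    apply hs1
    calc s = τ⁻¹ * (τ * s * τ⁻¹) * τ := by group
      _ = 1 := by rw [h]; group
  have hAc : ∀ x ∈ A, ∀ y ∈ A, x * y = y * x :=
    abelian_of_center_big hAcard hsA hs'A hs1 hs'1 (fun h => hτs h.symm)
      (fun y hy => ((hsAc y hy).eq).symm) hs'c
  rcases hec with ⟨rfl, rfl⟩ | ⟨rfl, rfl⟩
  · -- `c = 4`
    set K' : Subgroup G := K.map (MulAut.conj τ).toMonoidHom with hK'def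
    have hmemK' : ∀ x, x ∈ K' ↔ ∃ y ∈ K, τ * y * τ⁻¹ = x := by
      intro x
      rw [hK'def, Subgroup.mem_map]
      simp [MulAut.conj_apply]
    have hK'card : Nat.card K' = 4 := by
      rw [← hKcard]
      exact Nat.card_congr (K.equivMapOfInjective _ (MulAut.conj τ).injective).symm.toEquiv
    have hK'A : K' ≤ A := by
      intro x hx
      obtain ⟨y, hy, rfl⟩ := (hmemK' x).mp hx
      exact conj_mem_of_relIndex_two hrelAT hAT hτT hy.1
    have hrelK : K.relIndex A = 2 :=
      relIndex_eq_two_of_card inf_le_left (by norm_num) hKcard (by rw [hAcard])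
    have hrelK' : K'.relIndex A = 2 :=
      relIndex_eq_two_of_card hK'A (by norm_num) hK'card (by rw [hAcard])
    have hinf : (K ⊓ K').relIndex A ≤ 4 := by
      have := Subgroup.relIndex_inf_le (H := K) (K := K') (L := A)
      rw [hrelK, hrelK'] at this
      exact this
    have hinfcard : Nat.card (K ⊓ K' : Subgroup G) * (K ⊓ K').relIndex A = 8 := by
      rw [← hAcard]
      exact Cfsg.Agent.Lib.Helper10.Ord7920.card_mul_relIndex' (inf_le_left.trans inf_le_left)
    have hne : K ⊓ K' ≠ ⊥ := by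
      intro h
      rw [h] at hinf
      rw [h, Subgroup.card_bot] at hinfcard
      omega
    obtain ⟨x, hxmem, hx1⟩ : ∃ x : G, x ∈ K ⊓ K' ∧ x ≠ 1 := by
      obtain ⟨x, hx⟩ := (Subgroup.ne_bot_iff_exists_ne_one).mp hne
      exact ⟨(x : G), x.2, fun h => hx (Subtype.ext h)⟩
    obtain ⟨y, hyK, hyx⟩ := (hmemK' x).mp hxmem.2
    -- pass to involutions
    have hxo : orderOf x ∣ 2 ^ 3 := by
      have := Cfsg.Agent.Lib.Helper10.Ord7920.orderOf_dvd_card_of_mem (hK'A hxmem.2)
      rw [hAcard] at this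
      exact this
    set k := orderOf x / 2 with hk
    have hv'o : orderOf (x ^ k) = 2 :=
      Cfsg.Agent.Lib.Helper10.Ord7920.exists_pow_orderOf_eq_prime (by norm_num) hx1 hxo
    have hv'K : x ^ k ∈ K := K.pow_mem hxmem.1 k
    have hvK : y ^ k ∈ K := K.pow_mem hyK k
    have hconj : τ * y ^ k * τ⁻¹ = x ^ k := by
      rw [← hyx, conj_pow]
    have hv'N : ∀ n ∈ N, n * x ^ k = x ^ k * n :=
      hcentral _ hv'K.2 (fun a ha => hAc a ha _ hv'K.1)
    have hCv' := mem_normalizer_of_commute hG hcard h7 hc7 P hNcard hv'o hv'N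
    have hfus : τ⁻¹ * x ^ k * τ⁻¹⁻¹ = x ^ k := by
      apply eq_of_conj_mem_centralizer P hv'N
      intro u hu
      have e : τ⁻¹ * x ^ k * τ⁻¹⁻¹ = y ^ k := by
        rw [← hconj]; group
      rw [e]
      exact ((Subgroup.mem_centralizer_iff.mp hvK.2) u hu).symm
    apply hτA
    apply hTN τ hτT
    have hinv : τ⁻¹ ∈ N := by
      apply hCv'
      calc τ⁻¹ * x ^ k = (τ⁻¹ * x ^ k * τ⁻¹⁻¹) * τ⁻¹ := by group
        _ = x ^ k * τ⁻¹ := by rw [hfus]
    simpa using N.inv_mem hinv
  · -- `c = 2`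
    have hKs : ∀ x ∈ K, x = 1 ∨ x = s := by
      have hz : Subgroup.zpowers s = K :=
        Subgroup.eq_of_le_of_card_ge (Subgroup.zpowers_le.mpr hsK)
          (by rw [Nat.card_zpowers, hs, hKcard])
      intro x hx
      rw [← hz] at hx
      obtain ⟨n, rfl⟩ := Subgroup.mem_zpowers_iff.mp hx
      rcases Int.even_or_odd' n with ⟨m, rfl | rfl⟩
      · left
        rw [zpow_mul, zpow_two, hs2, one_zpow]
      · right
        rw [zpow_add, zpow_mul, zpow_two, hs2, one_zpow, one_mul, zpow_one]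
    obtain ⟨a, haA, haC⟩ := exists_sq_not_mem_centralizer hPcard hAN hAcard hKcard
    have ha1 : a * a ≠ 1 := by
      intro h; apply haC; rw [h]; exact Subgroup.one_mem _
    have has : a * a ≠ s := by
      intro h; apply haC; rw [h]; exact hsC
    obtain ⟨Q, z, hQT, hQcard, hsQ, hzT, hz1, hQinv⟩ :=
      exists_index_two_unique_involution hTcard hAcard hAT hAc hsA hs2 hs1 hτT hτA hτs haA ha1 has
    have hQi : Q.relIndex (T : Subgroup G) = 2 :=
      relIndex_eq_two_of_card hQT (by norm_num) hQcard (by rw [hTcard])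
    obtain ⟨g, hg⟩ := thompson_simple hG T Q hQT hQi hs (hAT hsA) hsQ
    have hgg : (g * s * g⁻¹) * (g * s * g⁻¹) = 1 := by
      calc (g * s * g⁻¹) * (g * s * g⁻¹) = g * (s * s) * g⁻¹ := by group
        _ = 1 := by rw [hs2]; group
    rcases hQinv _ hg hgg with h | h
    · apply hs1
      calc s = g⁻¹ * (g * s * g⁻¹) * g := by group
        _ = 1 := by rw [h]; group
    · -- `z` is conjugate to `s` and central in `T`: `16 ∣ 40`
      set T' : Subgroup G := (T : Subgroup G).map (MulAut.conj g⁻¹).toMonoidHom with hT'def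
      have hT'card : Nat.card T' = 16 := by
        rw [← hTcard]
        exact Nat.card_congr
          ((T : Subgroup G).equivMapOfInjective _ (MulAut.conj g⁻¹).injective).symm.toEquiv
      have hT'N : T' ≤ N := by
        intro x hx
        rw [hT'def, Subgroup.mem_map] at hx
        obtain ⟨y, hy, rfl⟩ := hx
        have h1 := hzT y hy
        rw [← h] at h1
        apply hCs
        simp only [MulEquiv.coe_toMonoidHom, MulAut.conj_apply, inv_inv]
        calc g⁻¹ * y * g * s = g⁻¹ * (y * (g * s * g⁻¹)) * g := by group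
          _ = g⁻¹ * ((g * s * g⁻¹) * y) * g := by rw [h1]
          _ = s * (g⁻¹ * y * g) := by group
      have := Subgroup.card_dvd_of_le hT'N
      rw [hT'card, hNcard] at this
      omega

end Cfsg.Agent.Lib.Helper10.Ord5040
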