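import Mathlib
import Cfsg.Agent.Lib.Helper10.Ord5040E
import Cfsg.Agent.Lib.Helper10.Ord5040F

/-!
# Order 5040: the Sylow 7-datum `(120, 3, 2)` (helper10)
-/

set_option autoImplicit false
set_option linter.unusedSectionVars false
set_option maxRecDepth 100000

namespace Cfsg.Agent.Lib.Helper10.Ord5040

open Cfsg.H5.SmallOrd Cfsg.H5.SylowTuple Cfsg.Agent.Lib.Helper18.SylowOver
  Cfsg.Agent.Lib.Helper18.SylowFix

variable {G : Type*} [Group G] [Finite G]

/-- in a group whose order is divisible by 4, the centralizer of an involution has order divisible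
by 4 -/
theorem four_dvd_card_centralizer (h4 : 4 ∣ Nat.card G) {s : G} (hs : orderOf s = 2) :
    4 ∣ Nat.card (Subgroup.centralizer ({s} : Set G)) := by
  classical
  haveI : Fact (Nat.Prime 2) := ⟨by norm_num⟩
  have hs1 : s ≠ 1 := by
    intro h; rw [h, orderOf_one] at hs; omega
  have hpz : IsPGroup 2 (Subgroup.zpowers s) := by
    apply IsPGroup.of_card (n := 1)
    rw [Nat.card_zpowers, hs, pow_one]
  obtain ⟨T, hT⟩ := hpz.exists_le_sylow
  have hsT : s ∈ (T : Subgroup G) := hT (Subgroup.mem_zpowers s)
  obtain ⟨n, hn⟩ := IsPGroup.iff_card.mp T.2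
  have hn2 : 2 ≤ n := by
    by_contra hlt
    have hidx : ¬ 2 ∣ (T : Subgroup G).index := T.not_dvd_index
    have hmul : Nat.card (T : Subgroup G) * (T : Subgroup G).index = Nat.card G :=
      Subgroup.card_mul_index _
    rw [hn] at hmul
    rw [← hmul] at h4
    apply hidx
    have hn' : n = 0 ∨ n = 1 := by omega
    rcases hn' with rfl | rfl
    · simp only [pow_zero, one_mul] at h4
      exact (Dvd.intro _ rfl : 2 ∣ 2 * 2).trans h4
    · have : 2 * 2 ∣ 2 * (T : Subgroup G).index := by simpa using h4
      exact Nat.dvd_of_mul_dvd_mul_left (by norm_num) this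
  set D : Subgroup G := (T : Subgroup G) ⊓ Subgroup.centralizer ({s} : Set G) with hD
  have hDT : D ≤ (T : Subgroup G) := inf_le_left
  have hDp : IsPGroup 2 D := T.2.to_le hDT
  obtain ⟨k, hk⟩ := IsPGroup.iff_card.mp hDp
  have hsD : s ∈ D := ⟨hsT, mem_centralizer_singleton.mpr rfl⟩
  have hTne : (T : Subgroup G) ≠ ⊥ := by
    intro h; rw [h, Subgroup.mem_bot] at hsT; exact hs1 hsT
  obtain ⟨t, htT, hto, htc⟩ :=
    Cfsg.Agent.Lib.Helper10.Ord7920.exists_central_involution T.2 le_rfl
      (fun z hz g hg => (T : Subgroup G).mul_mem ((T : Subgroup G).mul_mem hz hg)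
        ((T : Subgroup G).inv_mem hz)) hTne
  have ht1 : t ≠ 1 := by
    intro h; rw [h, orderOf_one] at hto; omega
  have htD : t ∈ D := ⟨htT, mem_centralizer_singleton.mpr ((htc s hsT).eq).symm⟩
  have hk2 : 2 ≤ k := by
    by_cases hts : t = s
    · -- `T ≤ C(s)`
      have hTD : (T : Subgroup G) ≤ D := by
        intro x hx
        refine ⟨hx, mem_centralizer_singleton.mpr ?_⟩
        rw [← hts]
        exact (htc x hx).eq
      have := Subgroup.card_le_of_le hTD
      rw [hn, hk] at this
      have := (Nat.pow_le_pow_iff_right (by norm_num : 1 < 2)).mp this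
      omega
    · let S : Finset G := {1, s, t}
      have hScard : S.card = 3 := by
        have h1 : (1 : G) ∉ ({s, t} : Finset G) := by
          simp only [Finset.mem_insert, Finset.mem_singleton, not_or]
          exact ⟨fun h => hs1 h.symm, fun h => ht1 h.symm⟩
        have h2 : s ∉ ({t} : Finset G) := by
          simp only [Finset.mem_singleton]
          exact fun h => hts h.symm
        show (insert 1 (insert s {t}) : Finset G).card = 3
        rw [Finset.card_insert_of_notMem h1, Finset.card_insert_of_notMem h2,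
          Finset.card_singleton]
      have hSD : (S : Set G) ⊆ (D : Set G) := by
        intro x hx
        simp only [S, Finset.coe_insert, Finset.coe_singleton, Set.mem_insert_iff,
          Set.mem_singleton_iff] at hx
        rcases hx with rfl | rfl | rfl
        · exact D.one_mem
        · exact hsD
        · exact htD
      have hDncard : (D : Set G).ncard = Nat.card D := (Nat.card_coe_set_eq (D : Set G)).symm
      have hD3 : 3 ≤ Nat.card D := by
        rw [← hDncard, ← hScard, ← Set.ncard_coe_finset]
        exact Set.ncard_le_ncard hSD (Set.toFinite _)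
      rw [hk] at hD3
      by_contra hlt
      have hk' : k = 0 ∨ k = 1 := by omega
      rcases hk' with rfl | rfl <;> norm_num at hD3
  have h4D : 4 ∣ Nat.card D := by
    rw [hk]
    exact (pow_dvd_pow 2 hk2 : 2 ^ 2 ∣ 2 ^ k)
  exact h4D.trans (Subgroup.card_dvd_of_le inf_le_right)

/-- the Sylow 7-datum `(120, 3, 2)` does not occur in a simple group of order 5040 -/
theorem kill_120_3_2 [IsSimpleGroup G] (hG : ¬ IsMulCommutative G) (hcard : Nat.card G = 5040)
    [h7p : Fact (Nat.Prime 7)] (h7 : IsSD G 7 120 3 2) : False := by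
  classical
  haveI : Fact (Nat.Prime 2) := ⟨by norm_num⟩
  obtain ⟨P⟩ : Nonempty (Sylow 7 G) := inferInstance
  set N := Subgroup.normalizer ((P : Subgroup G) : Set G) with hNdef
  set C := Subgroup.centralizer ((P : Subgroup G) : Set G) with hCdef
  have hPcard : Nat.card (P : Subgroup G) = 7 := h7.card_P P
  have hNcard : Nat.card N = 42 := by rw [hNdef, h7.card_N P]
  have hCcard : Nat.card C = 14 := by rw [hCdef, h7.card_C P]
  have hCN : C ≤ N := Subgroup.centralizer_le_normalizer _
  -- `P ≤ C`
  have hPC : (P : Subgroup G) ≤ C := by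
    obtain ⟨y, hy⟩ := exists_prime_orderOf_dvd_card' (G := (P : Subgroup G)) 7
      (by rw [hPcard])
    have hy' : orderOf (y : G) = 7 := by rw [Subgroup.orderOf_coe]; exact hy
    have hz : Subgroup.zpowers (y : G) = (P : Subgroup G) :=
      Subgroup.eq_of_le_of_card_ge (Subgroup.zpowers_le.mpr y.2)
        (by rw [Nat.card_zpowers, hy', hPcard])
    exact Cfsg.Agent.Lib.Helper10.Ord7920.le_centralizer_of_zpowers hz
  have hrelPC : (P : Subgroup G).relIndex C = 2 :=
    relIndex_eq_two_of_card hPC (by norm_num) hPcard (by rw [hCcard])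
  -- the involution of `C`
  obtain ⟨s0, hs0⟩ := exists_prime_orderOf_dvd_card' (G := C) 2 (by rw [hCcard]; norm_num)
  obtain ⟨s, hsC, hs⟩ : ∃ s : G, s ∈ C ∧ orderOf s = 2 :=
    ⟨(s0 : G), s0.2, by rw [Subgroup.orderOf_coe]; exact hs0⟩
  have hs2 : s * s = 1 := by
    have : s ^ 2 = 1 := by rw [← hs]; exact pow_orderOf_eq_one s
    rwa [sq] at this
  have hs1 : s ≠ 1 := by
    intro h; rw [h, orderOf_one] at hs; omega
  have hsinv : s⁻¹ = s := by rw [inv_eq_iff_mul_eq_one]; exact hs2
  have hnotP : ∀ u : G, u * u = 1 → u ≠ 1 → u ∉ (P : Subgroup G) := by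
    intro u hu2 hu1 huP
    have h1 : orderOf u ∣ 7 := by
      rw [← hPcard]; exact Cfsg.Agent.Lib.Helper10.Ord7920.orderOf_dvd_card_of_mem huP
    have h2 : orderOf u ∣ 2 := orderOf_dvd_of_pow_eq_one (by rw [sq]; exact hu2)
    have h3 : orderOf u ∣ Nat.gcd 7 2 := Nat.dvd_gcd h1 h2
    have h4 : Nat.gcd 7 2 = 1 := by norm_num
    rw [h4] at h3
    exact hu1 (orderOf_eq_one_iff.mp (Nat.dvd_one.mp h3))
  have huniq : ∀ u ∈ C, u * u = 1 → u ≠ 1 → u = s := by
    intro u huC hu2 hu1
    have h1 : s * u ∈ (P : Subgroup G) := by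
      rw [mul_mem_iff_of_relIndex_two hrelPC hsC huC]
      exact ⟨fun h => absurd h (hnotP s hs2 hs1), fun h => absurd h (hnotP u hu2 hu1)⟩
    have h2 : (s * u) * s = s * (s * u) := (Subgroup.mem_centralizer_iff.mp hsC) _ h1
    have h3 : u * s = s * u := by
      calc u * s = s⁻¹ * ((s * u) * s) := by group
        _ = s⁻¹ * (s * (s * u)) := by rw [h2]
        _ = s * u := by group
    have h4 : (s * u) * (s * u) = 1 := by
      calc (s * u) * (s * u) = s * (u * s) * u := by group
        _ = s * (s * u) * u := by rw [h3]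
        _ = (s * s) * (u * u) := by group
        _ = 1 := by rw [hs2, hu2, one_mul]
    have h5 : s * u = 1 := by
      by_contra hne
      exact hnotP _ h4 hne h1
    calc u = s⁻¹ * (s * u) := by group
      _ = s := by rw [h5, mul_one, hsinv]
  -- `s` is central in `N`
  have hsN : ∀ n ∈ N, n * s = s * n := by
    intro n hn
    have h1 : n * s * n⁻¹ ∈ C :=
      Cfsg.Agent.Lib.Helper18.Ord3960.conj_mem_centralizer _ hn hsC
    have h2 : (n * s * n⁻¹) * (n * s * n⁻¹) = 1 := by
      calc (n * s * n⁻¹) * (n * s * n⁻¹) = n * (s * s) * n⁻¹ := by group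
        _ = 1 := by rw [hs2]; group
    have h3 : n * s * n⁻¹ ≠ 1 := by
      intro h
      apply hs1
      calc s = n⁻¹ * (n * s * n⁻¹) * n := by group
        _ = 1 := by rw [h]; group
    have h4 := huniq _ h1 h2 h3
    calc n * s = (n * s * n⁻¹) * n := by group
      _ = s * n := by rw [h4]
  -- the centralizer of `s`
  set M := Subgroup.centralizer ({s} : Set G) with hMdef
  have hmemM : ∀ g, g ∈ M ↔ s * g = g * s := fun g => mem_centralizer_singleton
  have hNM : N ≤ M := by
    intro n hn; rw [hmemM]; exact (hsN n hn).symm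
  have h1 := card_eq_card_normalizer_mul P M hNM
  have h2 := card_sylow_subgroup_mod (p := 7) M
  rw [← hNdef, hNcard] at h1
  have h3 : Nat.card M ∣ 5040 := by rw [← hcard]; exact Subgroup.card_subgroup_dvd_card M
  have h4M : 4 ∣ Nat.card M := four_dvd_card_centralizer (by rw [hcard]; norm_num) hs
  generalize Nat.card (Sylow 7 M) = j at h1 h2
  have hj : j = 8 ∨ j = 120 := by
    rw [h1] at h3 h4M
    have hj120 : j ∣ 120 := by
      have : 42 * j ∣ 42 * 120 := by norm_num; exact h3
      exact Nat.dvd_of_mul_dvd_mul_left (by norm_num) this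
    have hjle : j ≤ 120 := Nat.le_of_dvd (by norm_num) hj120
    clear h1 h3
    interval_cases j <;>
      first | (left; rfl) | (right; rfl) | omega | (exfalso; revert hj120; decide)
  have hcenter := Cfsg.Agent.Lib.Helper18.Ord3960.center_eq_bot hG
  rcases hj with rfl | rfl
  · have hM336 : Nat.card M = 336 := by rw [h1]
    haveI : Fintype (G ⧸ M) := Fintype.ofFinite _
    have h15 : Fintype.card (G ⧸ M) = 15 := by
      rw [← Nat.card_eq_fintype_card, ← Subgroup.index_eq_card]
      have := Subgroup.card_mul_index M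
      rw [hM336, hcard] at this
      omega
    have hu : ∀ x ∈ (P : Subgroup G), s * x = x * s :=
      fun x hx => (hsN x (Subgroup.le_normalizer hx)).symm
    have hmove : ∃ q : G ⧸ M, s • q ≠ q := by
      by_contra hcon
      push Not at hcon
      have hker : s ∈ (MulAction.toPermHom G (G ⧸ M)).ker := by
        rw [MonoidHom.mem_ker]
        apply Equiv.ext
        intro q
        exact hcon q
      rcases (MonoidHom.normal_ker (MulAction.toPermHom G (G ⧸ M))).eq_bot_or_eq_top with hk | hk
      · rw [hk, Subgroup.mem_bot] at hker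
        exact hs1 hker
      · have hMtop : M = ⊤ := by
          rw [eq_top_iff]
          intro g _
          have hg : g ∈ (MulAction.toPermHom G (G ⧸ M)).ker := by rw [hk]; trivial
          rw [MonoidHom.mem_ker] at hg
          have h5 : g • ((1 : G) : G ⧸ M) = ((1 : G) : G ⧸ M) :=
            congrArg (fun σ : Equiv.Perm (G ⧸ M) => σ ((1 : G) : G ⧸ M)) hg
          have h6 : ((g * 1 : G) : G ⧸ M) = ((1 : G) : G ⧸ M) := h5
          rw [QuotientGroup.eq] at h6
          simpa using M.inv_mem h6
        rw [hMtop, Subgroup.card_top, hcard] at hM336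
        omega
    have hs2' : s ^ 2 = 1 := by rw [sq]; exact hs2
    obtain ⟨m, hm0, hm⟩ := card_fixed_involution hG (α := G ⧸ M) s hs2' hmove
    have hmod := card_fixed_coset_mod P M hNM s hu
    rw [Nat.card_eq_fintype_card, Fintype.card_subtype] at hmod
    rw [h15] at hm
    generalize (Finset.univ.filter (fun q : G ⧸ M => s • q = q)).card = f at hm hmod
    omega
  · have hMtop : M = ⊤ := by
      apply Subgroup.eq_top_of_card_eq
      rw [h1, hcard]
    have hsc : s ∈ Subgroup.center G := by
      rw [Subgroup.mem_center_iff]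
      intro g
      have : g ∈ M := by rw [hMtop]; trivial
      exact ((hmemM g).mp this).symm
    rw [hcenter, Subgroup.mem_bot] at hsc
    exact hs1 hsc

end Cfsg.Agent.Lib.Helper10.Ord5040
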