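import Mathlib
import Cfsg.Agent.Lib.Helper18.SylowRules
import Cfsg.Agent.Lib.Helper10.Ord5040G
import Cfsg.Agent.Lib.Helper10.Ord5040H

/-!
# Order 5040: assembly modulo the Sylow 5-data `(36, ·, ·)` and `(56, 2, 9)` (helper10)
-/

set_option autoImplicit false
set_option linter.unusedSectionVars false
set_option maxRecDepth 100000

namespace Cfsg.Agent.Lib.Helper10.Ord5040

open Cfsg.H5.SmallOrd Cfsg.H5.SylowTuple Cfsg.Agent.Lib.Helper18.SylowRules

variable {G : Type*} [Group G] [Finite G]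

/-- a simple group of order 5040 has Sylow 5-data `(36, 2, 14)`, `(36, 4, 7)` or `(56, 2, 9)` -/
theorem sylow_five_cases [IsSimpleGroup G] (hG : ¬ IsMulCommutative G)
    (hn : Nat.card G = 5040) [Fact (Nat.Prime 5)] :
    (∃ e c : ℕ, IsSD G 5 36 e c ∧ ((e = 2 ∧ c = 14) ∨ (e = 4 ∧ c = 7))) ∨ IsSD G 5 56 2 9 := by
  classical
  haveI h7 : Fact (Nat.Prime 7) := ⟨by norm_num⟩
  obtain ⟨t5, ht5, hsd5'⟩ :=
    exists_mem_ftriples hG 5040 5 hn (by norm_num) (by norm_num) (by norm_num) (by norm_num)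
  obtain ⟨t7, ht7, hsd7'⟩ :=
    exists_mem_ftriples hG 5040 7 hn (by norm_num) (by norm_num) (by norm_num) (by norm_num)
  have hl5 : ftriples 5040 5 = [(36, 2, 14), (36, 4, 7), (56, 2, 9), (126, 2, 4), (126, 4, 2)] := by
    decide +kernel
  have hl7 : ftriples 5040 7 = [(36, 2, 10), (120, 2, 3), (120, 3, 2), (120, 6, 1)] := by
    decide +kernel
  rw [hl5] at ht5
  rw [hl7] at ht7
  simp only [List.mem_cons, List.not_mem_nil, or_false] at ht5 ht7
  obtain ⟨_, hsd5⟩ := hsd5'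
  obtain ⟨_, hsd7⟩ := hsd7'
  -- the last two cases
  have key : ∀ e c : ℕ, IsSD G 5 126 e c → ((e = 2 ∧ c = 4) ∨ (e = 4 ∧ c = 2)) → False := by
    intro e c h5 hec
    rcases ht7 with rfl | rfl | rfl | rfl
    · have hsd7 : IsSD G 7 36 2 10 := hsd7
      have hadj : 7 ∣ c := hsd7.adj h5 (by norm_num) (by norm_num)
      rcases hec with ⟨-, rfl⟩ | ⟨-, rfl⟩ <;> omega
    · have hsd7 : IsSD G 7 120 2 3 := hsd7
      exact endgame_5040 hG hn hsd7 (by norm_num) h5 hec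
    · have hsd7 : IsSD G 7 120 3 2 := hsd7
      exact kill_120_3_2 hG hn hsd7
    · have hsd7 : IsSD G 7 120 6 1 := hsd7
      exact endgame_5040 hG hn hsd7 (by norm_num) h5 hec
  rcases ht5 with rfl | rfl | rfl | rfl | rfl
  · left
    have hsd5 : IsSD G 5 36 2 14 := hsd5
    exact ⟨2, 14, hsd5, Or.inl ⟨rfl, rfl⟩⟩
  · left
    have hsd5 : IsSD G 5 36 4 7 := hsd5
    exact ⟨4, 7, hsd5, Or.inr ⟨rfl, rfl⟩⟩
  · right
    exact hsd5
  · exfalso
    have hsd5 : IsSD G 5 126 2 4 := hsd5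
    exact key 2 4 hsd5 (Or.inl ⟨rfl, rfl⟩)
  · exfalso
    have hsd5 : IsSD G 5 126 4 2 := hsd5
    exact key 4 2 hsd5 (Or.inr ⟨rfl, rfl⟩)

end Cfsg.Agent.Lib.Helper10.Ord5040
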