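import Mathlib
import Cfsg.Agent.S1018
import Cfsg.Agent.Lib.Helper29.Ord5040A
import Cfsg.Agent.Lib.Helper10.Ord5040H

/-!
# Order 5040: the Sylow 7-datum `(36, 2, 10)` (helper10)

An involution `t` centralizing a Sylow 7-subgroup `P` fixes 8 of the 36 cosets of `N = N(P)`; the
conjugates of `t` inside `N` centralize `P` (an element of `N` outside `C(P)` fixes at most 6
cosets) and their number is odd, so `140 * 8 = |C(t)| * j` with `j` odd forces `32 ∣ 5040`.
-/

set_option autoImplicit false
set_option linter.unusedSectionVars false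
set_option maxRecDepth 100000

namespace Cfsg.Agent.Lib.Helper10.Ord5040

open Cfsg.H5.SmallOrd Cfsg.H5.SylowTuple

variable {G : Type*} [Group G] [Finite G]

/-- conjugate elements fix the same number of points -/
theorem card_fixedBy_conj {α : Type*} [MulAction G α] (g h : G) :
    Nat.card (MulAction.fixedBy α (h * g * h⁻¹)) = Nat.card (MulAction.fixedBy α g) := by
  rw [← MulAction.smul_fixedBy]
  exact Nat.card_congr
    ⟨fun x => ⟨h⁻¹ • (x : α), by
        obtain ⟨y, hy, hxy⟩ := x.2
        have : h⁻¹ • (x : α) = y := by rw [← hxy]; simp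
        rw [this]; exact hy⟩,
      fun y => ⟨h • (y : α), ⟨(y : α), y.2, rfl⟩⟩,
      fun x => by apply Subtype.ext; simp,
      fun y => by apply Subtype.ext; simp⟩

/-- the number of orbits of a Sylow subgroup of prime order `p` on the cosets of its normalizer -/
theorem card_orbits_mul {p : ℕ} [Fact p.Prime] (P : Sylow p G)
    (hP : Nat.card (P : Subgroup G) = p) :
    Nat.card (MulAction.orbitRel.Quotient (P : Subgroup G)
        (G ⧸ Subgroup.normalizer ((P : Subgroup G) : Set G))) * p =
      (Subgroup.normalizer ((P : Subgroup G) : Set G)).index + (p - 1) := by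
  classical
  set N := Subgroup.normalizer ((P : Subgroup G) : Set G) with hN
  haveI : Fintype (G ⧸ N) := Fintype.ofFinite _
  haveI : Fintype (P : Subgroup G) := Fintype.ofFinite _
  haveI : ∀ a : (P : Subgroup G), Fintype (MulAction.fixedBy (G ⧸ N) a) :=
    fun a => Fintype.ofFinite _
  haveI : Fintype (MulAction.orbitRel.Quotient (P : Subgroup G) (G ⧸ N)) := Fintype.ofFinite _
  have hB := MulAction.sum_card_fixedBy_eq_card_orbits_mul_card_group (P : Subgroup G) (G ⧸ N)
  have h1 := (Cfsg.Agent.S1018.result p P hP).1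
  have hcardP : Fintype.card (P : Subgroup G) = p := by
    rw [← Nat.card_eq_fintype_card, hP]
  have hval : ∀ a : (P : Subgroup G),
      Fintype.card (MulAction.fixedBy (G ⧸ N) a) = 1 + if a = 1 then (N.index - 1) else 0 := by
    intro a
    by_cases ha : a = 1
    · subst ha
      rw [if_pos rfl]
      have : MulAction.fixedBy (G ⧸ N) (1 : (P : Subgroup G)) = Set.univ := by
        ext x; simp [MulAction.mem_fixedBy]
      rw [← Nat.card_eq_fintype_card, this, Nat.card_coe_set_eq, Set.ncard_univ,
        ← Subgroup.index_eq_card]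
      have : 0 < N.index := Nat.pos_of_ne_zero (Subgroup.index_ne_zero_of_finite)
      omega
    · rw [if_neg ha, add_zero, ← Nat.card_eq_fintype_card]
      have ho : orderOf (a : G) = p := by
        have h2 : orderOf a ∣ Nat.card (P : Subgroup G) := orderOf_dvd_natCard a
        rw [hP] at h2
        rw [Subgroup.orderOf_coe]
        rcases (Nat.dvd_prime (Fact.out : p.Prime)).mp h2 with h | h
        · exact absurd (orderOf_eq_one_iff.mp h) ha
        · exact h
      exact h1 (a : G) ho
  rw [Finset.sum_congr rfl (fun a _ => hval a), Finset.sum_add_distrib, Finset.sum_const,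
    Finset.sum_ite_eq' Finset.univ (1 : (P : Subgroup G))] at hB
  simp only [Finset.mem_univ, if_true, Finset.card_univ, smul_eq_mul, mul_one] at hB
  rw [hcardP] at hB
  rw [Nat.card_eq_fintype_card, ← hB]
  have : 0 < N.index := Nat.pos_of_ne_zero (Subgroup.index_ne_zero_of_finite)
  have hp2 : 2 ≤ p := (Fact.out : p.Prime).two_le
  omega

/-- the Sylow 7-datum `(36, 2, 10)` does not occur in a simple group of order 5040 -/
theorem kill_36_2_10 [IsSimpleGroup G] (hG : ¬ IsMulCommutative G) (hn : Nat.card G = 5040)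
    [h7p : Fact (Nat.Prime 7)] (h7 : IsSD G 7 36 2 10) : False := by
  classical
  haveI : Fact (Nat.Prime 2) := ⟨by norm_num⟩
  obtain ⟨P⟩ : Nonempty (Sylow 7 G) := inferInstance
  set N := Subgroup.normalizer ((P : Subgroup G) : Set G) with hNdef
  set C := Subgroup.centralizer ((P : Subgroup G) : Set G) with hCdef
  have hPcard : Nat.card (P : Subgroup G) = 7 := h7.card_P P
  have hNcard : Nat.card N = 140 := by rw [hNdef, h7.card_N P]
  have hCcard : Nat.card C = 70 := by rw [hCdef, h7.card_C P]
  have hCN : C ≤ N := Subgroup.centralizer_le_normalizer _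
  obtain ⟨t0, ht0⟩ := exists_prime_orderOf_dvd_card' (G := C) 2 (by rw [hCcard]; norm_num)
  obtain ⟨t, htC, ht⟩ : ∃ t : G, t ∈ C ∧ orderOf t = 2 :=
    ⟨(t0 : G), t0.2, by rw [Subgroup.orderOf_coe]; exact ht0⟩
  have ht2 : t * t = 1 := by
    have : t ^ 2 = 1 := by rw [← ht]; exact pow_orderOf_eq_one t
    rwa [sq] at this
  have ht1 : t ≠ 1 := by
    intro h; rw [h, orderOf_one] at ht; omega
  have htinv : t⁻¹ = t := by rw [inv_eq_iff_mul_eq_one]; exact ht2
  have htP : ∀ x ∈ (P : Subgroup G), t * x = x * t :=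
    fun x hx => ((Subgroup.mem_centralizer_iff.mp htC) x hx).symm
  have hNtop : N ≠ ⊤ := by
    intro h
    rw [h, Subgroup.card_top, hn] at hNcard
    omega
  have hidx : N.index = 36 := by
    have := Subgroup.card_mul_index N
    rw [hNcard, hn] at this
    omega
  obtain ⟨m, hm0, hm⟩ := Cfsg.Agent.Lib.Helper29.Ord5040.fixed_parity hG N hNtop t ht
  have hmod := Cfsg.Agent.Lib.Helper29.Ord5040.fixed_mod_p P N le_rfl t htP
  have hf : Nat.card (MulAction.fixedBy (G ⧸ N) t) = 8 := by
    rw [hidx] at hm; omega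
  have hcount := Cfsg.Agent.Lib.Helper29.Ord5040.card_mul_fixed N t
  rw [hNcard, hf] at hcount
  -- the orbits of `P`
  have horb : Nat.card (MulAction.orbitRel.Quotient (P : Subgroup G) (G ⧸ N)) = 6 := by
    have := card_orbits_mul P hPcard
    rw [← hNdef, hidx] at this
    omega
  -- conjugates of `t` in `N` centralize `P`
  have hconjC : ∀ y : G, IsConj t y → y ∈ N → y ∈ C := by
    intro y hy hyN
    by_contra hyC
    have h1 := (Cfsg.Agent.S1018.result 7 P hPcard).2 y hyN hyC
    obtain ⟨g, hg⟩ := isConj_iff.mp hy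
    have h2 : Nat.card (MulAction.fixedBy (G ⧸ N) y) = 8 := by
      rw [← hg, card_fixedBy_conj, hf]
    rw [← hNdef, h2, horb] at h1
    omega
  -- the number of conjugates of `t` in `N` is odd
  set J := {y : G // IsConj t y ∧ y ∈ N} with hJ
  haveI : Fintype J := Fintype.ofFinite _
  have htN : t ∈ N := hCN htC
  let φ' : J → J := fun y => ⟨t * (y : G) * t⁻¹, by
    refine ⟨?_, N.mul_mem (N.mul_mem htN y.2.2) (N.inv_mem htN)⟩
    exact y.2.1.trans (isConj_iff.mpr ⟨t, rfl⟩)⟩
  let φ : Function.End J := φ'
  have hφ2 : φ ^ 2 ^ 1 = 1 := by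
    rw [pow_one, sq]
    funext y
    apply Subtype.ext
    show t * (t * (y : G) * t⁻¹) * t⁻¹ = (y : G)
    rw [htinv]
    calc t * (t * (y : G) * t) * t = (t * t) * (y : G) * (t * t) := by group
      _ = (y : G) := by rw [ht2, one_mul, mul_one]
  have hmodJ := Equiv.Perm.card_fixedPoints_modEq (f := φ) (p := 2) (n := 1) hφ2
  have hfixφ : Nat.card (Function.fixedPoints φ') = 1 := by
    have key : ∀ y : J, φ' y = y → y = ⟨t, IsConj.refl t, htN⟩ := by
      rintro ⟨y, hy1, hy2⟩ hyfix
      apply Subtype.ext
      show y = t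
      have hyfix' : t * y * t⁻¹ = y := congrArg Subtype.val hyfix
      have hcomm : y * t = t * y := by
        calc y * t = (t * y * t⁻¹) * t := by rw [hyfix']
          _ = t * y := by group
      have hyC : y ∈ C := hconjC y hy1 hy2
      -- `⟨y⟩⟨t⟩` is a 2-subgroup of `C`
      have hyo : orderOf y = 2 := by
        obtain ⟨g, hg⟩ := isConj_iff.mp hy1
        rw [← hg]
        have : g * t * g⁻¹ = (MulAut.conj g) t := by simp [MulAut.conj_apply]
        rw [this, MulEquiv.orderOf_eq, ht]
      have hpy : IsPGroup 2 (Subgroup.zpowers y) := by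
        apply IsPGroup.of_card (n := 1)
        rw [Nat.card_zpowers, hyo, pow_one]
      have hpt : IsPGroup 2 (Subgroup.zpowers t) := by
        apply IsPGroup.of_card (n := 1)
        rw [Nat.card_zpowers, ht, pow_one]
      have hle : Subgroup.zpowers y ≤
          Subgroup.normalizer ((Subgroup.zpowers t : Subgroup G) : Set G) := by
        rw [Subgroup.zpowers_le]
        apply Subgroup.centralizer_le_normalizer
        rw [Subgroup.mem_centralizer_iff]
        intro x hx
        obtain ⟨k, rfl⟩ := Subgroup.mem_zpowers_iff.mp hx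
        have hc : Commute t y := hcomm.symm
        exact (hc.zpow_left k).eq
      have hD : IsPGroup 2 (Subgroup.zpowers y ⊔ Subgroup.zpowers t : Subgroup G) :=
        IsPGroup.to_sup_of_normal_right' hpy hpt hle
      have hDC : Subgroup.zpowers y ⊔ Subgroup.zpowers t ≤ C :=
        sup_le (Subgroup.zpowers_le.mpr hyC) (Subgroup.zpowers_le.mpr htC)
      obtain ⟨k, hk⟩ := IsPGroup.iff_card.mp hD
      have hdvd : 2 ^ k ∣ 70 := by
        rw [← hk, ← hCcard]; exact Subgroup.card_dvd_of_le hDC
      have hk1 : k ≤ 1 := by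
        by_contra hlt
        have : 2 ^ 2 ∣ 2 ^ k := pow_dvd_pow 2 (by omega)
        have := this.trans hdvd
        omega
      have hDle : Nat.card (Subgroup.zpowers y ⊔ Subgroup.zpowers t : Subgroup G) ≤ 2 := by
        rw [hk]
        calc 2 ^ k ≤ 2 ^ 1 := Nat.pow_le_pow_right (by norm_num) hk1
          _ = 2 := by norm_num
      have heq : Subgroup.zpowers t = Subgroup.zpowers y ⊔ Subgroup.zpowers t :=
        Subgroup.eq_of_le_of_card_ge le_sup_right (by rw [Nat.card_zpowers, ht]; exact hDle)
      have hymem : y ∈ Subgroup.zpowers t := by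
        have hle' : Subgroup.zpowers y ≤ Subgroup.zpowers y ⊔ Subgroup.zpowers t := le_sup_left
        rw [heq]; exact hle' (Subgroup.mem_zpowers y)
      obtain ⟨k', hk'⟩ := Subgroup.mem_zpowers_iff.mp hymem
      have hy1' : y ≠ 1 := by
        intro h; rw [h, orderOf_one] at hyo; omega
      rcases Int.even_or_odd' k' with ⟨j, rfl | rfl⟩
      · exfalso
        apply hy1'
        rw [← hk', zpow_mul, zpow_two, ht2, one_zpow]
      · rw [← hk', zpow_add, zpow_mul, zpow_two, ht2, one_zpow, one_mul, zpow_one]
    rw [Nat.card_eq_one_iff_unique]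
    refine ⟨⟨?_⟩, ⟨⟨⟨t, IsConj.refl t, htN⟩, ?_⟩⟩⟩
    · intro a b
      apply Subtype.ext
      rw [key a a.2, key b b.2]
    · show φ' _ = _
      apply Subtype.ext
      show t * t * t⁻¹ = t
      group
  have hjodd : Odd (Nat.card J) := by
    rw [Nat.odd_iff]
    have := hmodJ
    unfold Nat.ModEq at this
    rw [← Nat.card_eq_fintype_card, ← Nat.card_eq_fintype_card] at this
    have h' : Nat.card (Function.fixedPoints φ) = 1 := hfixφ
    rw [h'] at this
    exact this
  -- arithmetic
  have hdvdC : Nat.card (Subgroup.centralizer ({t} : Set G)) ∣ 5040 := by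
    rw [← hn]; exact Subgroup.card_subgroup_dvd_card _
  have hcop : Nat.Coprime 32 (Nat.card J) := by
    have : Nat.Coprime (2 ^ 5) (Nat.card J) :=
      Nat.Coprime.pow_left 5 (Nat.coprime_two_left.mpr hjodd)
    simpa using this
  have h32 : 32 ∣ Nat.card (Subgroup.centralizer ({t} : Set G)) * Nat.card J := by
    rw [← hcount]; norm_num
  have := (hcop.dvd_of_dvd_mul_right h32).trans hdvdC
  omega

end Cfsg.Agent.Lib.Helper10.Ord5040
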