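import Mathlib
import Cfsg.Agent.Lib.Helper18.SylowRules
import Cfsg.Agent.Lib.Helper17.Ord5040L56
import Cfsg.Agent.Lib.Helper10.Ord5040G
import Cfsg.Agent.Lib.Helper10.Ord5040H
import Cfsg.Agent.Lib.Helper10.Ord5040K

/-!
# No simple group of order 5040 (helper10; `kill_56` by helper17, tools by helper5, helper18,
helper29)
-/

set_option autoImplicit false
set_option linter.unusedSectionVars false
set_option maxRecDepth 100000

namespace Cfsg.Agent.Lib.Helper10.Ord5040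

open Cfsg.H5.SmallOrd Cfsg.H5.SylowTuple Cfsg.Agent.Lib.Helper18.SylowRules

variable {G : Type*} [Group G] [Finite G]

/-- **There is no non-abelian simple group of order 5040.** -/
theorem no_5040 [IsSimpleGroup G] (hG : ¬ IsMulCommutative G) : Nat.card G ≠ 5040 := by
  intro hn
  classical
  haveI h7 : Fact (Nat.Prime 7) := ⟨by norm_num⟩
  haveI h5 : Fact (Nat.Prime 5) := ⟨by norm_num⟩
  obtain ⟨t5, ht5, hsd5'⟩ :=
    exists_mem_ftriples hG 5040 5 hn (by norm_num) (by norm_num) (by norm_num) (by norm_num)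
  obtain ⟨t7, ht7, hsd7'⟩ :=
    exists_mem_ftriples hG 5040 7 hn (by norm_num) (by norm_num) (by norm_num) (by norm_num)
  have hl5 : ftriples 5040 5 = [(36, 2, 14), (36, 4, 7), (56, 2, 9), (126, 2, 4), (126, 4, 2)] := by
    decide +kernel
  have hl7 : ftriples 5040 7 = [(36, 2, 10), (120, 2, 3), (120, 3, 2), (120, 6, 1)] := by
    decide +kernel
  rw [hl5] at ht5
  rw [hl7] at ht7
  simp only [List.mem_cons, List.not_mem_nil, or_false] at ht5 ht7
  obtain ⟨_, hsd5⟩ := hsd5'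
  obtain ⟨_, hsd7⟩ := hsd7'
  -- the case of a 7-datum `(120, e, c)` with `c` odd
  have key : ∀ e7 c7 : ℕ, IsSD G 7 120 e7 c7 → ¬ 2 ∣ c7 → ¬ 5 ∣ c7 → False := by
    intro e7 c7 h7' hc2 hc5
    rcases ht5 with rfl | rfl | rfl | rfl | rfl
    · have hsd5 : IsSD G 5 36 2 14 := hsd5
      exact hc5 (hsd5.adj h7' (by norm_num) (by norm_num))
    · have hsd5 : IsSD G 5 36 4 7 := hsd5
      exact hc5 (hsd5.adj h7' (by norm_num) (by norm_num))
    · have hsd5 : IsSD G 5 56 2 9 := hsd5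
      exact Cfsg.Agent.Lib.Helper17.Ord5040L56.kill_56 hG hn hsd5
    · have hsd5 : IsSD G 5 126 2 4 := hsd5
      exact endgame_5040 hG hn h7' hc2 hsd5 (Or.inl ⟨rfl, rfl⟩)
    · have hsd5 : IsSD G 5 126 4 2 := hsd5
      exact endgame_5040 hG hn h7' hc2 hsd5 (Or.inr ⟨rfl, rfl⟩)
  rcases ht7 with rfl | rfl | rfl | rfl
  · have hsd7 : IsSD G 7 36 2 10 := hsd7
    exact kill_36_2_10 hG hn hsd7
  · have hsd7 : IsSD G 7 120 2 3 := hsd7
    exact key 2 3 hsd7 (by norm_num) (by norm_num)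
  · have hsd7 : IsSD G 7 120 3 2 := hsd7
    exact kill_120_3_2 hG hn hsd7
  · have hsd7 : IsSD G 7 120 6 1 := hsd7
    exact key 6 1 hsd7 (by norm_num) (by norm_num)

end Cfsg.Agent.Lib.Helper10.Ord5040
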