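import Mathlib
import Cfsg.Agent.Lib.Helper7.Orbits
import Cfsg.Agent.Lib.Helper7.Orbits2

set_option autoImplicit false

/-!
General tools for the order 720 argument: parity of the action on a finite set for a group
without subgroups of index two, and fixed point congruences on invariant subsets.
-/

namespace Cfsg.Agent.Lib.Helper10.Ord720

open MulAction

/-- In a group without subgroups of index two every element acts as an even permutation on
every finite set. -/
theorem sign_toPerm_eq_one {G : Type*} [Group G] (hG : ∀ H : Subgroup G, H.index ≠ 2)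
    {X : Type*} [Fintype X] [DecidableEq X] [MulAction G X] (g : G) :
    Equiv.Perm.sign (MulAction.toPerm g : Equiv.Perm X) = 1 := by
  classical
  set φ : G →* ℤˣ := (Equiv.Perm.sign).comp (MulAction.toPermHom G X) with hφ
  by_contra hne
  have hg : φ g = -1 := by
    have := Int.units_eq_one_or (φ g)
    rcases this with h | h
    · exact absurd h hne
    · exact h
  apply hG φ.ker
  rw [Subgroup.index_ker]
  have htop : φ.range = ⊤ := by
    rw [eq_top_iff]
    intro y _
    rcases Int.units_eq_one_or y with h | h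
    · rw [h]; exact one_mem _
    · rw [h, ← hg]; exact ⟨g, rfl⟩
  rw [htop]
  simp [Nat.card_eq_fintype_card]

/-- An involution acting as an even permutation: the number of moved points is divisible
by four. -/
theorem four_dvd_card_moved_of_sq_eq_one {G : Type*} [Group G]
    {X : Type*} [Fintype X] [DecidableEq X] [MulAction G X] (g : G) (hg : g ^ 2 = 1)
    (hs : Equiv.Perm.sign (MulAction.toPerm g : Equiv.Perm X) = 1) :
    4 ∣ (Finset.univ.filter (fun x : X => g • x ≠ x)).card := by
  classical
  set σ : Equiv.Perm X := MulAction.toPerm g with hσ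
  have hσ2 : σ ^ 2 = 1 := by
    ext x
    simp only [hσ, pow_two, Equiv.Perm.coe_mul, Function.comp_apply, MulAction.toPerm_apply,
      Equiv.Perm.coe_one, id_eq]
    rw [smul_smul, ← pow_two, hg, one_smul]
  have hall : ∀ n ∈ σ.cycleType, n = 2 := by
    intro n hn
    have h1 := Equiv.Perm.dvd_of_mem_cycleType hn
    have h2 := Equiv.Perm.two_le_of_mem_cycleType hn
    have h3 : orderOf σ ∣ 2 := orderOf_dvd_of_pow_eq_one hσ2
    have h4 : n ∣ 2 := h1.trans h3
    have h5 : n ≤ 2 := Nat.le_of_dvd (by norm_num) h4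
    omega
  have hrep : σ.cycleType = Multiset.replicate (Multiset.card σ.cycleType) 2 :=
    Multiset.eq_replicate_card.2 hall
  have hsum : σ.cycleType.sum = 2 * Multiset.card σ.cycleType := by
    conv_lhs => rw [hrep]
    rw [Multiset.sum_replicate, smul_eq_mul, mul_comm]
  have hsign := Equiv.Perm.sign_of_cycleType σ
  rw [hs, hsum] at hsign
  have hev : Even (2 * Multiset.card σ.cycleType + Multiset.card σ.cycleType) := by
    have h := hsign.symm
    rwa [neg_one_pow_eq_one_iff_even (by decide : (-1 : ℤˣ) ≠ 1)] at h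
  have hk : Even (Multiset.card σ.cycleType) := by
    rcases hev with ⟨r, hr⟩
    exact ⟨r - Multiset.card σ.cycleType, by omega⟩
  have hsupp : σ.support.card = 2 * Multiset.card σ.cycleType := by
    rw [← hsum, Equiv.Perm.sum_cycleType]
  have hsupp' : σ.support = Finset.univ.filter (fun x : X => g • x ≠ x) := by
    ext x
    simp [Equiv.Perm.mem_support, hσ]
  rw [← hsupp', hsupp]
  rcases hk with ⟨r, hr⟩
  exact ⟨r, by omega⟩

/-- The sub-action of a subgroup on an invariant finite subset. -/
def invSub {G : Type*} [Group G] {X : Type*} [MulAction G X] (H : Subgroup G) (S : Finset X)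
    (hS : ∀ h ∈ H, ∀ x ∈ S, h • x ∈ S) : SubMulAction ↥H X where
  carrier := (S : Set X)
  smul_mem' := fun c x hx => by
    have := hS c.1 c.2 x (by simpa using hx)
    simpa [Subgroup.smul_def] using this

theorem mem_invSub {G : Type*} [Group G] {X : Type*} [MulAction G X] (H : Subgroup G)
    (S : Finset X) (hS : ∀ h ∈ H, ∀ x ∈ S, h • x ∈ S) (x : X) :
    x ∈ invSub H S hS ↔ x ∈ S := Iff.rfl

theorem card_invSub {G : Type*} [Group G] {X : Type*} [MulAction G X] (H : Subgroup G)
    (S : Finset X) (hS : ∀ h ∈ H, ∀ x ∈ S, h • x ∈ S) :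
    Nat.card ↥(invSub H S hS) = S.card := by
  have : Nat.card ↥(invSub H S hS) = Nat.card ↥(S : Set X) := rfl
  rw [this, Nat.card_eq_fintype_card]
  simp

/-- Fixed point congruence for a `p`-subgroup acting on an invariant finite subset. -/
theorem card_modEq_card_fixed_of_isPGroup {G : Type*} [Group G] {X : Type*} [DecidableEq X]
    [MulAction G X] {p : ℕ} [Fact p.Prime] (H : Subgroup G) (hH : IsPGroup p H) (S : Finset X)
    (hS : ∀ h ∈ H, ∀ x ∈ S, h • x ∈ S) (F : Finset X)
    (hF : ∀ x, x ∈ F ↔ x ∈ S ∧ ∀ h ∈ H, h • x = x) :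
    S.card ≡ F.card [MOD p] := by
  classical
  haveI hfin : Finite ↥(invSub H S hS) := by
    have : Finite ↥(S : Set X) := inferInstance
    exact this
  have h1 := hH.card_modEq_card_fixedPoints (p := p) ↥(invSub H S hS)
  rw [card_invSub] at h1
  have h2 : Nat.card ↥(fixedPoints ↥H ↥(invSub H S hS)) = F.card := by
    rw [← Fintype.card_coe F, ← Nat.card_eq_fintype_card]
    apply Nat.card_congr
    refine
      { toFun := fun y => ⟨y.1.1, ?_⟩
        invFun := fun y => ⟨⟨y.1, ?_⟩, ?_⟩
        left_inv := fun y => rfl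
        right_inv := fun y => rfl }
    · rw [hF]
      refine ⟨(mem_invSub H S hS _).1 y.1.2, fun h hh => ?_⟩
      have := y.2 ⟨h, hh⟩
      exact congrArg Subtype.val this
    · exact (mem_invSub H S hS _).2 ((hF y.1).1 y.2).1
    · intro c
      apply Subtype.ext
      exact ((hF y.1).1 y.2).2 c.1 c.2
  rwa [h2] at h1

/-- Orbit congruence on an invariant finite subset with a fixed base point. -/
theorem card_modEq_one_of_orbit_dvd {G : Type*} [Group G] {X : Type*} [DecidableEq X]
    [MulAction G X] (H : Subgroup G) (S : Finset X)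
    (hS : ∀ h ∈ H, ∀ x ∈ S, h • x ∈ S) (m : ℕ) (x₀ : X) (hx₀ : x₀ ∈ S)
    (hfix : ∀ h ∈ H, h • x₀ = x₀)
    (hdiv : ∀ x ∈ S, x ≠ x₀ → m ∣ Nat.card (MulAction.orbit ↥H x)) :
    S.card ≡ 1 [MOD m] := by
  classical
  haveI hfin : Finite ↥(invSub H S hS) := by
    have : Finite ↥(S : Set X) := inferInstance
    exact this
  have h1 := Cfsg.Agent.Lib.Helper7.card_modEq_one_of_orbits (P := ↥H)
    (X := ↥(invSub H S hS)) m ⟨x₀, (mem_invSub H S hS _).2 hx₀⟩
    (fun g => Subtype.ext (hfix g.1 g.2)) ?_
  · rwa [card_invSub] at h1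
  · intro x hx
    have hx' : x.1 ≠ x₀ := fun h => hx (Subtype.ext h)
    have hd := hdiv x.1 ((mem_invSub H S hS _).1 x.2) hx'
    have : Nat.card (MulAction.orbit ↥H x) = Nat.card (MulAction.orbit ↥H x.1) := by
      apply Nat.card_congr
      refine
        { toFun := fun y => ⟨y.1.1, ?_⟩
          invFun := fun y => ⟨⟨y.1, ?_⟩, ?_⟩
          left_inv := fun y => rfl
          right_inv := fun y => rfl }
      · obtain ⟨c, hc⟩ := y.2
        exact ⟨c, by rw [← hc]; rfl⟩
      · obtain ⟨c, hc⟩ := y.2
        rw [← hc]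
        exact (c • x).2
      · obtain ⟨c, hc⟩ := y.2
        exact ⟨c, Subtype.ext hc⟩
    rwa [this]

/-- Orbit–stabilizer for a subgroup acting through the ambient action. -/
theorem card_orbit_subgroup_mul {G : Type*} [Group G] [Finite G] {X : Type*} [MulAction G X]
    (H : Subgroup G) (x : X) :
    Nat.card (MulAction.orbit ↥H x) * Nat.card ↥(H ⊓ MulAction.stabilizer G x) = Nat.card H := by
  have h1 := Cfsg.Agent.Lib.Helper7.card_orbit_mul_card_stabilizer (P := ↥H) x
  have h2 : Nat.card ↥(MulAction.stabilizer ↥H x) = Nat.card ↥(H ⊓ MulAction.stabilizer G x) := by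
    apply Nat.card_congr
    refine
      { toFun := fun y => ⟨y.1.1, ⟨y.1.2, ?_⟩⟩
        invFun := fun y => ⟨⟨y.1, y.2.1⟩, ?_⟩
        left_inv := fun y => rfl
        right_inv := fun y => rfl }
    · have := y.2
      rw [MulAction.mem_stabilizer_iff] at this
      show (y.1.1 : G) ∈ MulAction.stabilizer G x
      rw [MulAction.mem_stabilizer_iff]
      exact this
    · have : (y.1 : G) ∈ MulAction.stabilizer G x := y.2.2
      rw [MulAction.mem_stabilizer_iff] at this
      rw [MulAction.mem_stabilizer_iff]
      exact this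
  rwa [h2] at h1

end Cfsg.Agent.Lib.Helper10.Ord720
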