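import Mathlib
import Cfsg.Agent.Lib.Helper7.SylowBasic
import Cfsg.Agent.S0991
import Cfsg.Agent.S0904
import Cfsg.Agent.Lib.Helper10.Ord720A

set_option autoImplicit false

/-!
Basic facts on a simple group of order 720: subgroup indices, Sylow 5 and Sylow 3 numbers.
-/

namespace Cfsg.Agent.Lib.Helper10.Ord720

open Cfsg.Agent.Lib.Helper7

variable {G : Type*} [Group G] [Finite G] [IsSimpleGroup G]

theorem ncomm (hG : Nat.card G = 720) : ¬ IsMulCommutative G := by
  intro h
  letI : CommGroup G := { ‹Group G› with mul_comm := h.is_comm.comm }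
  have hprime : (Nat.card G).Prime := IsSimpleGroup.prime_card
  rw [hG] at hprime
  norm_num at hprime

theorem no_index_two (hG : Nat.card G = 720) (H : Subgroup G) : H.index ≠ 2 := by
  intro h
  have hn : H.Normal := Subgroup.normal_of_index_eq_two h
  rcases hn.eq_bot_or_eq_top with h' | h'
  · rw [h', Subgroup.index_bot, hG] at h
    norm_num at h
  · rw [h', Subgroup.index_top] at h
    norm_num at h

theorem card_mul_index' (hG : Nat.card G = 720) (H : Subgroup G) :
    Nat.card H * H.index = 720 := by
  rw [← hG]; exact Subgroup.card_mul_index H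

/-- A proper subgroup has index at least eight. -/
theorem eight_le_index (hG : Nat.card G = 720) (H : Subgroup G) (hH : H ≠ ⊤) :
    8 ≤ H.index := by
  have h1 := card_dvd_factorial_index_of_simple H hH
  rw [hG] at h1
  have h2 := card_mul_index' hG H
  have hpos : 0 < H.index := Nat.pos_of_ne_zero Subgroup.index_ne_zero_of_finite
  by_contra hlt
  push_neg at hlt
  have key : ∀ k : ℕ, k = H.index →
      (∃ f : G →* ↥(alternatingGroup (Fin k)), Function.Injective f) := by
    intro k hk
    subst hk
    exact Cfsg.Agent.S0991.result (ncomm hG) _ hH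
  interval_cases hk : H.index
  · revert h1; decide
  · revert h1; decide
  · revert h1; decide
  · revert h1; decide
  · revert h1; decide
  · obtain ⟨f, hf⟩ := key 6 rfl
    have hA : Nat.card ↥(alternatingGroup (Fin 6)) = 360 := by
      rw [nat_card_alternatingGroup, Nat.card_eq_fintype_card, Fintype.card_fin]
      decide
    have hle := Nat.card_le_card_of_injective f hf
    rw [hG, hA] at hle
    omega
  · omega

/-- A proper subgroup has order at most ninety. -/
theorem card_le_ninety (hG : Nat.card G = 720) (H : Subgroup G) (hH : H ≠ ⊤) :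
    Nat.card H ≤ 90 := by
  have h1 := eight_le_index hG H hH
  have h2 := card_mul_index' hG H
  nlinarith

/-! ### Sylow 5 -/

theorem card_sylow5 (hG : Nat.card G = 720) (R : Sylow 5 G) :
    Nat.card (R : Subgroup G) = 5 := by
  have : Fact (Nat.Prime 5) := ⟨by norm_num⟩
  have := card_sylow_subgroup_eq R 1 144 (by rw [hG]; norm_num) (by norm_num)
  simpa using this

theorem centralizer_sylow5 (hG : Nat.card G = 720) (R : Sylow 5 G) :
    Subgroup.centralizer ((R : Subgroup G) : Set G) = (R : Subgroup G) := by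
  have : Fact (Nat.Prime 5) := ⟨by norm_num⟩
  exact Cfsg.Agent.S0904.result 2 3 5 4 2 Nat.prime_two Nat.prime_three (by norm_num)
    (by norm_num) (by norm_num) (by rw [hG]; norm_num) R

theorem card_normalizer_sylow5_dvd (hG : Nat.card G = 720) (R : Sylow 5 G) :
    Nat.card (Subgroup.normalizer ((R : Subgroup G) : Set G)) ∣ 20 := by
  have : Fact (Nat.Prime 5) := ⟨by norm_num⟩
  have hR := card_sylow5 hG R
  have hC := centralizer_sylow5 hG R
  have h1 := relIndex_centralizer_normalizer_dvd (R : Subgroup G)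
  rw [hC] at h1
  haveI : IsCyclic (R : Subgroup G) := isCyclic_of_prime_card hR
  rw [IsCyclic.card_mulAut, hR] at h1
  have h4 : Nat.totient 5 = 4 := by decide
  rw [h4] at h1
  have h2 := card_mul_relIndex (Subgroup.le_normalizer (H := (R : Subgroup G)))
  rw [hR] at h2
  rw [← h2]
  exact Nat.mul_dvd_mul_left 5 h1

/-- A subgroup of order five is a Sylow subgroup. -/
theorem exists_sylow5_eq (hG : Nat.card G = 720) (K : Subgroup G) (hK : Nat.card K = 5) :
    ∃ R : Sylow 5 G, (R : Subgroup G) = K := by
  have : Fact (Nat.Prime 5) := ⟨by norm_num⟩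
  have hp : IsPGroup 5 K := IsPGroup.of_card (n := 1) (by simpa using hK)
  obtain ⟨R, hR⟩ := hp.exists_le_sylow
  refine ⟨R, ?_⟩
  have h5 := card_sylow5 hG R
  exact (Subgroup.eq_of_le_of_card_ge hR (by rw [h5, hK])).symm

/-- Arithmetic of the Sylow 5-subgroups of a subgroup of order divisible by five. -/
theorem sylow5_arith (hG : Nat.card G = 720) (H : Subgroup G) (h5 : 5 ∣ Nat.card H) :
    ∃ a n : ℕ, a ∣ 20 ∧ 5 ∣ a ∧ n % 5 = 1 ∧ a * n = Nat.card H := by
  have : Fact (Nat.Prime 5) := ⟨by norm_num⟩
  obtain ⟨R⟩ : Nonempty (Sylow 5 ↥H) := inferInstance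
  have hRcard : Nat.card (R : Subgroup ↥H) = 5 := by
    have h1 : Nat.card (R : Subgroup ↥H) ∣ 720 := by
      rw [← hG]
      exact (Subgroup.card_subgroup_dvd_card _).trans (Subgroup.card_subgroup_dvd_card H)
    obtain ⟨k, hk⟩ := R.isPGroup'.exists_card_eq
    have h2 : 5 ∣ Nat.card (R : Subgroup ↥H) := R.dvd_card_of_dvd_card h5
    rw [hk] at h1 h2 ⊢
    have hk1 : k ≠ 0 := by
      rintro rfl
      norm_num at h2
    have hk2 : k < 2 := by
      by_contra hge
      push_neg at hge
      have : (5 : ℕ) ^ 2 ∣ 5 ^ k := pow_dvd_pow 5 hge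
      have := this.trans h1
      norm_num at this
    have : k = 1 := by omega
    rw [this]; norm_num
  refine ⟨Nat.card (Subgroup.normalizer ((R : Subgroup ↥H) : Set ↥H)), Nat.card (Sylow 5 ↥H),
    ?_, ?_, ?_, ?_⟩
  · -- the normalizer embeds in the normalizer of a Sylow 5-subgroup of `G`
    have hK : Nat.card ((R : Subgroup ↥H).map H.subtype) = 5 := by
      rw [Subgroup.card_map_of_injective H.subtype_injective, hRcard]
    obtain ⟨R', hR'⟩ := exists_sylow5_eq hG _ hK
    have h1 := card_normalizer_sylow5_dvd hG R'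
    have h2 : (Subgroup.normalizer ((R : Subgroup ↥H) : Set ↥H)).map H.subtype ≤
        Subgroup.normalizer ((R' : Subgroup G) : Set G) := by
      rw [hR']
      exact Subgroup.le_normalizer_map H.subtype
    have h3 := Subgroup.card_dvd_of_le h2
    rw [Subgroup.card_map_of_injective H.subtype_injective] at h3
    exact h3.trans h1
  · have := Subgroup.card_dvd_of_le (Subgroup.le_normalizer (H := (R : Subgroup ↥H)))
    rwa [hRcard] at this
  · exact card_sylow_modEq_one 5 ↥H
  · rw [Sylow.card_eq_index_normalizer R]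
    exact Subgroup.card_mul_index _

theorem card_ne_45 (hG : Nat.card G = 720) (H : Subgroup G) : Nat.card H ≠ 45 := by
  intro h
  obtain ⟨a, n, ha, h5, hn, han⟩ := sylow5_arith hG H (by rw [h]; norm_num)
  rw [h] at han
  have ha' : a ∈ Nat.divisors 20 := Nat.mem_divisors.2 ⟨ha, by norm_num⟩
  simp only [Nat.divisors_ofNat, Finset.mem_insert, Finset.mem_singleton] at ha'
  rcases ha' with rfl | rfl | rfl | rfl | rfl | rfl <;> omega

theorem card_ne_90 (hG : Nat.card G = 720) (H : Subgroup G) : Nat.card H ≠ 90 := by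
  intro h
  obtain ⟨a, n, ha, h5, hn, han⟩ := sylow5_arith hG H (by rw [h]; norm_num)
  rw [h] at han
  have ha' : a ∈ Nat.divisors 20 := Nat.mem_divisors.2 ⟨ha, by norm_num⟩
  simp only [Nat.divisors_ofNat, Finset.mem_insert, Finset.mem_singleton] at ha'
  rcases ha' with rfl | rfl | rfl | rfl | rfl | rfl <;> omega

/-! ### Sylow 3 -/

theorem card_sylow3 (hG : Nat.card G = 720) (P : Sylow 3 G) :
    Nat.card (P : Subgroup G) = 9 := by
  have : Fact (Nat.Prime 3) := ⟨by norm_num⟩
  have := card_sylow_subgroup_eq P 2 80 (by rw [hG]; norm_num) (by norm_num)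
  simpa using this

theorem card_normalizer_mul_card_sylow3 (hG : Nat.card G = 720) (P : Sylow 3 G) :
    Nat.card (Subgroup.normalizer ((P : Subgroup G) : Set G)) * Nat.card (Sylow 3 G) = 720 := by
  have : Fact (Nat.Prime 3) := ⟨by norm_num⟩
  have hidx : Nat.card (Sylow 3 G) = (Subgroup.normalizer ((P : Subgroup G) : Set G)).index :=
    Sylow.card_eq_index_normalizer P
  rw [hidx]
  exact card_mul_index' hG _

/-- The number of Sylow 3-subgroups is 10 or 40. -/
theorem card_sylow3_mem (hG : Nat.card G = 720) :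
    Nat.card (Sylow 3 G) = 10 ∨ Nat.card (Sylow 3 G) = 40 := by
  have : Fact (Nat.Prime 3) := ⟨by norm_num⟩
  obtain ⟨P⟩ : Nonempty (Sylow 3 G) := inferInstance
  have hP := card_sylow3 hG P
  have h1 : Nat.card (Sylow 3 G) ∣ 80 := by
    have := Sylow.card_dvd_index P
    have h2 := card_mul_index' hG (P : Subgroup G)
    rw [hP] at h2
    have : (P : Subgroup G).index = 80 := by omega
    rw [← this]
    exact Sylow.card_dvd_index P
  have h2 : Nat.card (Sylow 3 G) % 3 = 1 := card_sylow_modEq_one 3 G
  have h3 : Nat.card (Sylow 3 G) ≠ 1 :=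
    card_sylow_ne_one_of_simple P (by rw [hP]; norm_num) (by rw [hP, hG]; norm_num)
  have h4 := card_normalizer_mul_card_sylow3 hG P
  have hidx : Nat.card (Sylow 3 G) = (Subgroup.normalizer ((P : Subgroup G) : Set G)).index :=
    Sylow.card_eq_index_normalizer P
  have h5 : Subgroup.normalizer ((P : Subgroup G) : Set G) ≠ ⊤ := by
    intro htop
    apply h3
    rw [hidx, htop, Subgroup.index_top]
  have h6 := eight_le_index hG _ h5
  rw [← hidx] at h6
  have h7 := card_ne_45 hG (Subgroup.normalizer ((P : Subgroup G) : Set G))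
  have hmem : Nat.card (Sylow 3 G) ∈ Nat.divisors 80 := Nat.mem_divisors.2 ⟨h1, by norm_num⟩
  simp only [Nat.divisors_ofNat, Finset.mem_insert, Finset.mem_singleton] at hmem
  rcases hmem with h | h | h | h | h | h | h | h | h | h <;> rw [h] at h2 h3 h4 h6 <;>
    first | omega | (left; exact h) | (right; exact h)

end Cfsg.Agent.Lib.Helper10.Ord720
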