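import Mathlib
import Cfsg.Agent.S0985
import Cfsg.Agent.S0105
import Cfsg.Agent.Lib.Helper10.Ord720B

set_option autoImplicit false

/-!
A simple group of order 720 cannot have forty Sylow 3-subgroups: local preparations.
-/

namespace Cfsg.Agent.Lib.Helper10.Ord720

open Cfsg.Agent.Lib.Helper7

variable {G : Type*} [Group G] [Finite G] [IsSimpleGroup G]

theorem sylow3_comm (hG : Nat.card G = 720) (P : Sylow 3 G) :
    ∀ x ∈ (P : Subgroup G), ∀ y ∈ (P : Subgroup G), x * y = y * x := by
  have : Fact (Nat.Prime 3) := ⟨by norm_num⟩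
  have h9 : Nat.card (P : Subgroup G) = 3 ^ 2 := by rw [card_sylow3 hG P]; norm_num
  intro x hx y hy
  have := IsPGroup.commutative_of_card_eq_prime_sq h9 ⟨x, hx⟩ ⟨y, hy⟩
  exact congrArg Subtype.val this

/-- With forty Sylow 3-subgroups the normalizer of each has order 18. -/
theorem card_normalizer_of_forty (hG : Nat.card G = 720) (h40 : Nat.card (Sylow 3 G) = 40)
    (P : Sylow 3 G) : Nat.card (Subgroup.normalizer ((P : Subgroup G) : Set G)) = 18 := by
  have := card_normalizer_mul_card_sylow3 hG P
  rw [h40] at this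
  omega

/-- The part of a Sylow 3-subgroup central in its normalizer is trivial. -/
theorem sylow3_inf_centralizer_normalizer (hG : Nat.card G = 720) (P : Sylow 3 G) :
    (P : Subgroup G) ⊓ Subgroup.centralizer
      (Subgroup.normalizer ((P : Subgroup G) : Set G) : Set G) = ⊥ := by
  have : Fact (Nat.Prime 3) := ⟨by norm_num⟩
  have hcomm : IsMulCommutative (P : Subgroup G) :=
    ⟨⟨fun a b => Subtype.ext (sylow3_comm hG P a.1 a.2 b.1 b.2)⟩⟩
  obtain ⟨N, hN, ⟨e0⟩⟩ := Cfsg.Agent.S0105.result P hcomm
  have e : G ⧸ N ≃* ↥((P : Subgroup G) ⊓ Subgroup.centralizer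
      (Subgroup.normalizer ((P : Subgroup G) : Set G) : Set G) : Subgroup G) := e0
  rcases hN.eq_bot_or_eq_top with h | h
  · exfalso
    have h1 : Nat.card (G ⧸ N) = 720 := by
      rw [← Subgroup.index_eq_card, h, Subgroup.index_bot, hG]
    have h2 := Nat.card_congr e.toEquiv
    rw [h1] at h2
    have h3 := Subgroup.card_le_of_le (inf_le_left : (P : Subgroup G) ⊓ Subgroup.centralizer
      (Subgroup.normalizer ((P : Subgroup G) : Set G) : Set G) ≤ (P : Subgroup G))
    rw [card_sylow3 hG P, ← h2] at h3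
    omega
  · have h1 : Nat.card (G ⧸ N) = 1 := by
      rw [← Subgroup.index_eq_card, h, Subgroup.index_top]
    have h2 := Nat.card_congr e.toEquiv
    rw [h1] at h2
    exact Subgroup.card_eq_one.mp h2.symm

/-- With forty Sylow 3-subgroups, some involution of the normalizer inverts the Sylow
3-subgroup, and together they generate the normalizer. -/
theorem exists_inverting (hG : Nat.card G = 720) (h40 : Nat.card (Sylow 3 G) = 40)
    (P : Sylow 3 G) :
    ∃ s : G, orderOf s = 2 ∧
      Subgroup.normalizer ((P : Subgroup G) : Set G) = (P : Subgroup G) ⊔ Subgroup.zpowers s ∧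
      ∀ x ∈ (P : Subgroup G), s * x * s⁻¹ = x⁻¹ := by
  have : Fact (Nat.Prime 3) := ⟨by norm_num⟩
  have : Fact (Nat.Prime 2) := ⟨by norm_num⟩
  have hN := card_normalizer_of_forty hG h40 P
  have hP := card_sylow3 hG P
  obtain ⟨s', hs'⟩ := exists_prime_orderOf_dvd_card' (G := ↥(Subgroup.normalizer
    ((P : Subgroup G) : Set G))) 2 (by rw [hN]; norm_num)
  set s : G := s'.1 with hs
  have hs2 : orderOf s = 2 := by rw [hs, Subgroup.orderOf_coe]; exact hs'
  have hsN : s ∈ Subgroup.normalizer ((P : Subgroup G) : Set G) := s'.2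
  have hsP : s ∉ (P : Subgroup G) := by
    intro h
    have h1 : orderOf s ∣ Nat.card (P : Subgroup G) := by
      have := orderOf_dvd_natCard (⟨s, h⟩ : (P : Subgroup G))
      rwa [Subgroup.orderOf_mk] at this
    rw [hs2, hP] at h1
    norm_num at h1
  have hsup : Subgroup.normalizer ((P : Subgroup G) : Set G) =
      (P : Subgroup G) ⊔ Subgroup.zpowers s := by
    have hle : (P : Subgroup G) ⊔ Subgroup.zpowers s ≤
        Subgroup.normalizer ((P : Subgroup G) : Set G) :=
      sup_le Subgroup.le_normalizer (by rw [Subgroup.zpowers_le]; exact hsN)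
    symm
    apply Subgroup.eq_of_le_of_card_ge hle
    have h1 : Nat.card (P : Subgroup G) ∣ Nat.card ((P : Subgroup G) ⊔ Subgroup.zpowers s :
        Subgroup G) := Subgroup.card_dvd_of_le le_sup_left
    have h2 : Nat.card ((P : Subgroup G) ⊔ Subgroup.zpowers s : Subgroup G) ∣ 18 := by
      rw [← hN]; exact Subgroup.card_dvd_of_le hle
    have h3 : Nat.card ((P : Subgroup G) ⊔ Subgroup.zpowers s : Subgroup G) ≠ 9 := by
      intro h9
      apply hsP
      have : (P : Subgroup G) = (P : Subgroup G) ⊔ Subgroup.zpowers s :=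
        Subgroup.eq_of_le_of_card_ge le_sup_left (by rw [h9, hP])
      rw [this]
      exact (le_sup_right : Subgroup.zpowers s ≤ _) (Subgroup.mem_zpowers s)
    rw [hP] at h1
    rw [hN]
    obtain ⟨c, hc⟩ := h1
    rw [hc] at h2 h3 ⊢
    have hc2 : c ∣ 2 := (Nat.mul_dvd_mul_iff_left (by norm_num : 0 < 9)).mp (by simpa using h2)
    have : c ≤ 2 := Nat.le_of_dvd (by norm_num) hc2
    interval_cases c <;> simp_all
  refine ⟨s, hs2, hsup, ?_⟩
  intro x hx
  have hsx : s * x * s⁻¹ ∈ (P : Subgroup G) := by
    have := (Subgroup.mem_normalizer_iff.mp hsN x).mp hx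
    exact this
  set y := x * (s * x * s⁻¹) with hy
  have hyP : y ∈ (P : Subgroup G) := mul_mem hx hsx
  have hss : s * s = 1 := by rw [← pow_two, ← hs2, pow_orderOf_eq_one]
  have hsinv : s⁻¹ = s := inv_eq_of_mul_eq_one_left hss
  have hys : s * y = y * s := by
    have hc := sylow3_comm hG P x hx (s * x * s⁻¹) hsx
    have h1 : s * y * s⁻¹ = y := by
      rw [hy]
      calc s * (x * (s * x * s⁻¹)) * s⁻¹ = (s * x * s⁻¹) * ((s * s) * x * (s * s)⁻¹) := by group
        _ = (s * x * s⁻¹) * x := by rw [hss]; group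
        _ = x * (s * x * s⁻¹) := hc.symm
    exact mul_inv_eq_iff_eq_mul.mp h1
  have hyC : y ∈ Subgroup.centralizer (Subgroup.normalizer ((P : Subgroup G) : Set G) : Set G) := by
    rw [Subgroup.mem_centralizer_iff]
    intro n hn
    have hn' : n ∈ Subgroup.centralizer ({y} : Set G) := by
      have hle : Subgroup.normalizer ((P : Subgroup G) : Set G) ≤
          Subgroup.centralizer ({y} : Set G) := by
        rw [hsup]
        refine sup_le ?_ ?_
        · intro z hz
          rw [Subgroup.mem_centralizer_iff]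
          intro w hw
          rw [Set.mem_singleton_iff] at hw
          subst hw
          exact (sylow3_comm hG P z hz _ hyP).symm
        · rw [Subgroup.zpowers_le, Subgroup.mem_centralizer_iff]
          intro w hw
          rw [Set.mem_singleton_iff] at hw
          subst hw
          exact hys.symm
      exact hle hn
    rw [Subgroup.mem_centralizer_iff] at hn'
    exact (hn' y rfl).symm
  have hy1 : y = 1 := by
    have : y ∈ (P : Subgroup G) ⊓ Subgroup.centralizer
      (Subgroup.normalizer ((P : Subgroup G) : Set G) : Set G) := ⟨hyP, hyC⟩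
    rw [sylow3_inf_centralizer_normalizer hG P] at this
    exact Subgroup.mem_bot.mp this
  rw [hy] at hy1
  exact (eq_inv_of_mul_eq_one_right hy1)

/-- With forty Sylow 3-subgroups two of them meet in a subgroup of order three. -/
theorem exists_inter_three (hG : Nat.card G = 720) (h40 : Nat.card (Sylow 3 G) = 40) :
    ∃ P Q : Sylow 3 G, P ≠ Q ∧
      Nat.card ((P : Subgroup G) ⊓ (Q : Subgroup G) : Subgroup G) = 3 := by
  have : Fact (Nat.Prime 3) := ⟨by norm_num⟩
  obtain ⟨P, R, hPR, hidx⟩ := Cfsg.Agent.S0985.result (G := G) 3 2 (by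
    rw [h40]; decide)
  refine ⟨P, R, hPR, ?_⟩
  have h1 : ((P : Subgroup G) ⊓ (R : Subgroup G)).relIndex (P : Subgroup G) =
      ((R : Subgroup G).subgroupOf (P : Subgroup G)).index := by
    rw [Subgroup.inf_relIndex_left]; rfl
  have h2 := card_mul_relIndex (inf_le_left : (P : Subgroup G) ⊓ (R : Subgroup G) ≤ (P : Subgroup G))
  rw [card_sylow3 hG P, h1] at h2
  have h3 : ((R : Subgroup G).subgroupOf (P : Subgroup G)).index ≤ 3 := by simpa using hidx
  set k := ((R : Subgroup G).subgroupOf (P : Subgroup G)).index with hk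
  set c := Nat.card ((P : Subgroup G) ⊓ (R : Subgroup G) : Subgroup G) with hc
  have hc9 : c ≠ 9 := by
    intro h9
    apply hPR
    have hle : (P : Subgroup G) ≤ (R : Subgroup G) := by
      have : (P : Subgroup G) ⊓ (R : Subgroup G) = (P : Subgroup G) :=
        Subgroup.eq_of_le_of_card_ge inf_le_left (by rw [card_sylow3 hG P, ← hc, h9])
      rw [← this]; exact inf_le_right
    have : (P : Subgroup G) = (R : Subgroup G) :=
      Subgroup.eq_of_le_of_card_ge hle (by rw [card_sylow3 hG P, card_sylow3 hG R])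
    exact Sylow.ext this
  have hk0 : k ≠ 0 := by
    rintro h0
    rw [h0] at h2
    omega
  interval_cases k
  · omega
  · omega
  · omega
  · omega

/-- A subgroup containing two distinct Sylow 3-subgroups has order at least 36. -/
theorem card_ge_of_two_sylow3 (hG : Nat.card G = 720) (C : Subgroup G) (P Q : Sylow 3 G)
    (hPQ : P ≠ Q) (hP : (P : Subgroup G) ≤ C) (hQ : (Q : Subgroup G) ≤ C) :
    36 ≤ Nat.card C ∧ 4 ≤ Nat.card (Sylow 3 ↥C) := by
  have : Fact (Nat.Prime 3) := ⟨by norm_num⟩
  set P' : Sylow 3 ↥C := P.subtype hP with hP'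
  set Q' : Sylow 3 ↥C := Q.subtype hQ with hQ'
  have hne : P' ≠ Q' := fun h => hPQ (Sylow.subtype_injective h)
  have hn2 : 2 ≤ Nat.card (Sylow 3 ↥C) := by
    by_contra hlt
    push_neg at hlt
    have : Nat.card (Sylow 3 ↥C) ≤ 1 := by omega
    have hsub : Subsingleton (Sylow 3 ↥C) := (Finite.card_le_one_iff_subsingleton).mp this
    exact hne (Subsingleton.elim _ _)
  have hmod : Nat.card (Sylow 3 ↥C) % 3 = 1 := card_sylow_modEq_one 3 ↥C
  have hn4 : 4 ≤ Nat.card (Sylow 3 ↥C) := by omega
  refine ⟨?_, hn4⟩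
  have hidx : Nat.card (Sylow 3 ↥C) =
      (Subgroup.normalizer ((P' : Subgroup ↥C) : Set ↥C)).index :=
    Sylow.card_eq_index_normalizer P'
  have h1 := Subgroup.card_mul_index (Subgroup.normalizer ((P' : Subgroup ↥C) : Set ↥C))
  rw [← hidx] at h1
  have h2 : Nat.card (P' : Subgroup ↥C) = 9 := by
    have : (P' : Subgroup ↥C) = (P : Subgroup G).subgroupOf C := rfl
    rw [this, Nat.card_congr (Subgroup.subgroupOfEquivOfLe hP).toEquiv, card_sylow3 hG P]
  have h3 : 9 ≤ Nat.card (Subgroup.normalizer ((P' : Subgroup ↥C) : Set ↥C)) := by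
    rw [← h2]
    exact Subgroup.card_le_of_le Subgroup.le_normalizer
  nlinarith

/-- The centralizer and the normalizer of the intersection of two Sylow 3-subgroups meeting in
order three, when there are forty Sylow 3-subgroups. -/
theorem card_normalizer_inter (hG : Nat.card G = 720) (h40 : Nat.card (Sylow 3 G) = 40)
    (P Q : Sylow 3 G) (hPQ : P ≠ Q)
    (h3 : Nat.card ((P : Subgroup G) ⊓ (Q : Subgroup G) : Subgroup G) = 3) :
    Nat.card (Subgroup.centralizer (((P : Subgroup G) ⊓ (Q : Subgroup G) : Subgroup G) : Set G))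
      = 36 ∧
    Nat.card (Subgroup.normalizer (((P : Subgroup G) ⊓ (Q : Subgroup G) : Subgroup G) : Set G))
      = 72 := by
  have : Fact (Nat.Prime 3) := ⟨by norm_num⟩
  set D : Subgroup G := (P : Subgroup G) ⊓ (Q : Subgroup G) with hD
  set C := Subgroup.centralizer (D : Set G) with hC
  set H := Subgroup.normalizer (D : Set G) with hH
  have hCH : C ≤ H := Subgroup.centralizer_le_normalizer _
  have hPC : (P : Subgroup G) ≤ C := by
    intro x hx
    rw [hC, Subgroup.mem_centralizer_iff]
    intro d hd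
    exact sylow3_comm hG P d hd.1 x hx
  have hQC : (Q : Subgroup G) ≤ C := by
    intro x hx
    rw [hC, Subgroup.mem_centralizer_iff]
    intro d hd
    exact sylow3_comm hG Q d hd.2 x hx
  have hHtop : H ≠ ⊤ := by
    intro htop
    have hn : D.Normal := Subgroup.normalizer_eq_top_iff.mp htop
    rcases hn.eq_bot_or_eq_top with h | h
    · rw [h] at h3; simp at h3
    · rw [h] at h3
      rw [Subgroup.card_top, hG] at h3
      norm_num at h3
  have hH90 := card_le_ninety hG H hHtop
  have hC36 := (card_ge_of_two_sylow3 hG C P Q hPQ hPC hQC).1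
  -- the inverting involution
  obtain ⟨s, hs2, -, hsinv⟩ := exists_inverting hG h40 P
  have hss : s * s = 1 := by rw [← pow_two, ← hs2, pow_orderOf_eq_one]
  have hsi : s⁻¹ = s := inv_eq_of_mul_eq_one_left hss
  have hsH : s ∈ H := by
    rw [hH, Subgroup.mem_normalizer_iff]
    intro x
    constructor
    · intro hx
      rw [hsinv x hx.1]
      exact inv_mem hx
    · intro hx
      have h1 := hsinv _ hx.1
      have h2 : s * (s * x * s⁻¹) * s⁻¹ = x := by
        rw [hsi]
        calc s * (s * x * s) * s = (s * s) * x * (s * s) := by group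
          _ = x := by rw [hss]; group
      rw [h2] at h1
      rw [h1]
      exact inv_mem hx
  have hsC : s ∉ C := by
    intro hsC
    rw [hC, Subgroup.mem_centralizer_iff] at hsC
    obtain ⟨d, hd, hd1⟩ : ∃ d ∈ D, d ≠ 1 := by
      by_contra hcon
      push Not at hcon
      have : D = ⊥ := by
        rw [eq_bot_iff]
        intro d hd
        rw [Subgroup.mem_bot]
        exact hcon d hd
      rw [this] at h3
      simp at h3
    have h1 := hsinv d hd.1
    have h2 : s * d * s⁻¹ = d := by
      rw [← hsC d hd]; group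
    rw [h2] at h1
    -- `d = d⁻¹` and `d ^ 3 = 1`
    have h4 : d ^ 3 = 1 := by
      have := orderOf_dvd_natCard (⟨d, hd⟩ : D)
      rw [h3, Subgroup.orderOf_mk] at this
      exact orderOf_dvd_iff_pow_eq_one.mp this
    apply hd1
    have h5 : d * d = 1 := by
      calc d * d = d * d⁻¹ := by rw [← h1]
        _ = 1 := mul_inv_cancel d
    calc d = d ^ 3 * (d * d)⁻¹ := by group
      _ = 1 := by rw [h4, h5]; simp
  -- the index of `C` in `H` is two
  have hrel : C.relIndex H = 2 := by
    have h1 := relIndex_centralizer_normalizer_dvd D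
    have : IsCyclic D := isCyclic_of_prime_card h3
    rw [IsCyclic.card_mulAut, h3] at h1
    have h4 : Nat.totient 3 = 2 := by decide
    rw [h4] at h1
    have h5 : C.relIndex H ≠ 1 := by
      intro h
      rw [Subgroup.relIndex_eq_one] at h
      exact hsC (h hsH)
    have h6 : C.relIndex H ≤ 2 := Nat.le_of_dvd (by norm_num) h1
    have h7 : C.relIndex H ≠ 0 := by
      intro h
      rw [h] at h1
      norm_num at h1
    omega
  have hmul := card_mul_relIndex hCH
  rw [hrel] at hmul
  have h9 : 9 ∣ Nat.card C := by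
    rw [← card_sylow3 hG P]
    exact Subgroup.card_dvd_of_le hPC
  have h45 := card_ne_45 hG C
  obtain ⟨c, hc⟩ := h9
  constructor <;> omega

end Cfsg.Agent.Lib.Helper10.Ord720
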