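import Mathlib
import Cfsg.Agent.Lib.Helper10.Ord720C

set_option autoImplicit false

/-!
A simple group of order 720 cannot have forty Sylow 3-subgroups: the subgroup of order 72.
-/

namespace Cfsg.Agent.Lib.Helper10.Ord720

open Cfsg.Agent.Lib.Helper7

variable {G : Type*} [Group G] [Finite G] [IsSimpleGroup G]

/-- An element of square one inverting a subgroup normalizes each of its subgroups. -/
theorem mem_normalizer_of_inverting {G : Type*} [Group G] (s : G) (hss : s * s = 1)
    (K D : Subgroup G) (hDK : D ≤ K) (hinv : ∀ x ∈ K, s * x * s⁻¹ = x⁻¹) :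
    s ∈ Subgroup.normalizer (D : Set G) := by
  have hsi : s⁻¹ = s := inv_eq_of_mul_eq_one_left hss
  rw [Subgroup.mem_normalizer_iff]
  intro x
  constructor
  · intro hx
    rw [hinv x (hDK hx)]
    exact inv_mem hx
  · intro hx
    have h1 := hinv _ (hDK hx)
    have h2 : s * (s * x * s⁻¹) * s⁻¹ = x := by
      rw [hsi]
      calc s * (s * x * s) * s = (s * s) * x * (s * s) := by group
        _ = x := by rw [hss]; group
    rw [h2] at h1
    rw [h1]
    exact inv_mem hx

section Local

variable (hG : Nat.card G = 720) (h40 : Nat.card (Sylow 3 G) = 40)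
  (D : Subgroup G) (hD3 : Nat.card D = 3)

include hD3 in
/-- A normal 3-subgroup of a subgroup lies in each Sylow 3-subgroup inside it. -/
theorem le_sylow_of_le_normalizer (P' : Sylow 3 G)
    (hP' : (P' : Subgroup G) ≤ Subgroup.normalizer (D : Set G)) : D ≤ (P' : Subgroup G) := by
  have : Fact (Nat.Prime 3) := ⟨by norm_num⟩
  have hDp : IsPGroup 3 D := IsPGroup.of_card (n := 1) (by simpa using hD3)
  have h1 : IsPGroup 3 ((P' : Subgroup G) ⊔ D : Subgroup G) :=
    IsPGroup.to_sup_of_normal_right' P'.isPGroup' hDp hP'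
  have h2 := P'.is_maximal' h1 le_sup_left
  rw [← h2]
  exact le_sup_right

include hG h40 hD3 in
theorem normalizer_sylow_le (P' : Sylow 3 G)
    (hP' : (P' : Subgroup G) ≤ Subgroup.normalizer (D : Set G)) :
    Subgroup.normalizer ((P' : Subgroup G) : Set G) ≤ Subgroup.normalizer (D : Set G) := by
  obtain ⟨s, hs2, hsup, hsinv⟩ := exists_inverting hG h40 P'
  have hss : s * s = 1 := by rw [← pow_two, ← hs2, pow_orderOf_eq_one]
  rw [hsup]
  refine sup_le hP' ?_
  rw [Subgroup.zpowers_le]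
  exact mem_normalizer_of_inverting s hss _ D (le_sylow_of_le_normalizer D hD3 P' hP') hsinv

/-- Sylow 3-subgroups inside a subgroup are conjugate in it. -/
theorem exists_smul_eq_of_le (H : Subgroup G) (P₁ P₂ : Sylow 3 G)
    (h1 : (P₁ : Subgroup G) ≤ H) (h2 : (P₂ : Subgroup G) ≤ H) :
    ∃ h ∈ H, h • P₁ = P₂ := by
  have : Fact (Nat.Prime 3) := ⟨by norm_num⟩
  obtain ⟨h, hh⟩ := MulAction.exists_smul_eq ↥H (P₁.subtype h1) (P₂.subtype h2)
  rw [Sylow.smul_subtype] at hh
  refine ⟨h.1, h.2, ?_⟩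
  exact Sylow.subtype_injective hh

include hG h40 hD3 in
theorem mem_of_smul_le (P' : Sylow 3 G)
    (hP' : (P' : Subgroup G) ≤ Subgroup.normalizer (D : Set G)) (g : G)
    (hg : ((g⁻¹ • P' : Sylow 3 G) : Subgroup G) ≤ Subgroup.normalizer (D : Set G)) :
    g ∈ Subgroup.normalizer (D : Set G) := by
  have : Fact (Nat.Prime 3) := ⟨by norm_num⟩
  obtain ⟨h, hh, heq⟩ := exists_smul_eq_of_le _ (g⁻¹ • P') P' hg hP'
  rw [← mul_smul] at heq
  have h1 : h * g⁻¹ ∈ Subgroup.normalizer ((P' : Subgroup G) : Set G) :=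
    Sylow.smul_eq_iff_mem_normalizer.mp heq
  have h2 := normalizer_sylow_le hG h40 D hD3 P' hP' h1
  have h3 : g⁻¹ ∈ Subgroup.normalizer (D : Set G) := by
    have := mul_mem (inv_mem hh) h2
    simpa using this
  simpa using inv_mem h3

include hG h40 hD3 in
/-- The subgroup `D` lies in no other conjugate of its normalizer. -/
theorem mem_of_conj_le (g : G)
    (hg : ∀ d ∈ D, g⁻¹ * d * g ∈ Subgroup.normalizer (D : Set G)) :
    g ∈ Subgroup.normalizer (D : Set G) := by
  have : Fact (Nat.Prime 3) := ⟨by norm_num⟩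
  by_contra hgH
  set H := Subgroup.normalizer (D : Set G) with hH
  set c : G →* G := (MulAut.conj g).toMonoidHom with hc
  have hcapp : ∀ x, c x = g * x * g⁻¹ := fun x => by simp [hc]
  have hcinj : Function.Injective c := (MulAut.conj g).injective
  set D' : Subgroup G := D.map c with hD'
  have hD'3 : Nat.card D' = 3 := by
    rw [hD', Subgroup.card_map_of_injective hcinj, hD3]
  have hne : D' ≠ D := by
    intro h
    apply hgH
    rw [hH, Subgroup.mem_normalizer_iff_map_conj_eq]
    exact h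
  have hDp : IsPGroup 3 D := IsPGroup.of_card (n := 1) (by simpa using hD3)
  have hD'p : IsPGroup 3 D' := IsPGroup.of_card (n := 1) (by simpa using hD'3)
  have hDN : D ≤ Subgroup.normalizer (D' : Set G) := by
    intro d hd
    have h1 : c (g⁻¹ * d * g) ∈ (Subgroup.normalizer (D : Set G)).map c :=
      Subgroup.mem_map_of_mem c (hg d hd)
    have h2 : c (g⁻¹ * d * g) = d := by rw [hcapp]; group
    rw [h2] at h1
    exact Subgroup.le_normalizer_map c h1
  have hE : IsPGroup 3 (D ⊔ D' : Subgroup G) := IsPGroup.to_sup_of_normal_right' hDp hD'p hDN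
  obtain ⟨P₁, hP₁⟩ := hE.exists_le_sylow
  have hDP : D ≤ (P₁ : Subgroup G) := le_sup_left.trans hP₁
  have hD'P : D' ≤ (P₁ : Subgroup G) := le_sup_right.trans hP₁
  -- `D ⊔ D'` is the whole Sylow subgroup
  have hEP : (D ⊔ D' : Subgroup G) = (P₁ : Subgroup G) := by
    apply Subgroup.eq_of_le_of_card_ge hP₁
    rw [card_sylow3 hG P₁]
    have h1 : Nat.card (D ⊔ D' : Subgroup G) ∣ 9 := by
      rw [← card_sylow3 hG P₁]; exact Subgroup.card_dvd_of_le hP₁
    have h2 : 3 ∣ Nat.card (D ⊔ D' : Subgroup G) := by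
      rw [← hD3]; exact Subgroup.card_dvd_of_le le_sup_left
    have h3 : Nat.card (D ⊔ D' : Subgroup G) ≠ 3 := by
      intro h3
      apply hne
      have h4 : D = D ⊔ D' := Subgroup.eq_of_le_of_card_ge le_sup_left (by rw [h3, hD3])
      have h5 : D' ≤ D := by rw [h4]; exact le_sup_right
      exact Subgroup.eq_of_le_of_card_ge h5 (by rw [hD3, hD'3])
    obtain ⟨k, hk⟩ := h2
    rw [hk] at h1 h3 ⊢
    have hk3 : k ∣ 3 := (Nat.mul_dvd_mul_iff_left (by norm_num : 0 < 3)).mp (by simpa using h1)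
    have : k ≤ 3 := Nat.le_of_dvd (by norm_num) hk3
    interval_cases k <;> simp_all
  have hDH : D ≤ H := Subgroup.le_normalizer
  have hD'H : D' ≤ H := by
    intro x hx
    apply Subgroup.centralizer_le_normalizer (D : Set G)
    rw [Subgroup.mem_centralizer_iff]
    intro d hd
    exact sylow3_comm hG P₁ d (hDP hd) x (hD'P hx)
  have hP₁H : (P₁ : Subgroup G) ≤ H := by
    rw [← hEP]; exact sup_le hDH hD'H
  -- the conjugate subgroup
  have hDK : D ≤ H.map c := by
    intro d hd
    refine ⟨g⁻¹ * d * g, hg d hd, ?_⟩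
    rw [hcapp]; group
  have hD'K : D' ≤ H.map c := Subgroup.map_mono hDH
  have hP₁K : (P₁ : Subgroup G) ≤ H.map c := by
    rw [← hEP]; exact sup_le hDK hD'K
  apply hgH
  apply mem_of_smul_le hG h40 D hD3 P₁ hP₁H g
  intro y hy
  rw [Sylow.coe_subgroup_smul, Subgroup.mem_pointwise_smul_iff_inv_smul_mem] at hy
  have hy' : g * y * g⁻¹ ∈ (P₁ : Subgroup G) := by
    simpa [MulAut.smul_def] using hy
  obtain ⟨h, hh, hhe⟩ := hP₁K hy'
  rw [hcapp] at hhe
  have : h = y := by
    have := congrArg (fun z => g⁻¹ * z * g) hhe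
    simpa [mul_assoc] using this
  rw [← this]; exact hh

end Local

end Cfsg.Agent.Lib.Helper10.Ord720
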