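import Mathlib
import Cfsg.Agent.Lib.Helper10.Ord720D

set_option autoImplicit false

/-!
A simple group of order 720 cannot have forty Sylow 3-subgroups.
-/

namespace Cfsg.Agent.Lib.Helper10.Ord720

open Cfsg.Agent.Lib.Helper7

variable {G : Type*} [Group G] [Finite G] [IsSimpleGroup G]

/-- Fixed points of an element on a coset space. -/
theorem smul_coset_eq_iff {G : Type*} [Group G] (H : Subgroup G) (a g : G) :
    a • ((g : G) : G ⧸ H) = ((g : G) : G ⧸ H) ↔ g⁻¹ * a⁻¹ * g ∈ H := by
  rw [MulAction.Quotient.smul_mk, QuotientGroup.eq]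
  simp [mul_assoc]

/-- No simple group of order 720 has forty Sylow 3-subgroups. -/
theorem false_of_sylow3_forty (hG : Nat.card G = 720) (h40 : Nat.card (Sylow 3 G) = 40) :
    False := by
  classical
  have : Fact (Nat.Prime 3) := ⟨by norm_num⟩
  have : Fact (Nat.Prime 2) := ⟨by norm_num⟩
  obtain ⟨P, Q, hPQ, h3⟩ := exists_inter_three hG h40
  obtain ⟨hC36, hH72⟩ := card_normalizer_inter hG h40 P Q hPQ h3
  set D : Subgroup G := (P : Subgroup G) ⊓ (Q : Subgroup G) with hD
  set H := Subgroup.normalizer (D : Set G) with hH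
  have hDH : D ≤ H := Subgroup.le_normalizer
  -- an involution centralizing `D`
  obtain ⟨v', hv'⟩ := exists_prime_orderOf_dvd_card' (G := ↥(Subgroup.centralizer (D : Set G))) 2
    (by rw [hC36]; norm_num)
  set v : G := v'.1 with hv
  have hv2 : orderOf v = 2 := by rw [hv, Subgroup.orderOf_coe]; exact hv'
  have hvC : v ∈ Subgroup.centralizer (D : Set G) := v'.2
  have hvH : v ∈ H := Subgroup.centralizer_le_normalizer _ hvC
  have hvsq : v ^ 2 = 1 := by rw [← hv2, pow_orderOf_eq_one]
  have hv1 : v ≠ 1 := by
    intro h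
    rw [h, orderOf_one] at hv2
    norm_num at hv2
  -- the coset space
  let _ : Fintype (G ⧸ H) := Fintype.ofFinite _
  have hX : Fintype.card (G ⧸ H) = 10 := by
    rw [← Nat.card_eq_fintype_card, ← Subgroup.index_eq_card]
    have := card_mul_index' hG H
    rw [hH72] at this
    omega
  have hsign := sign_toPerm_eq_one (no_index_two hG) (X := G ⧸ H) v
  have h4 := four_dvd_card_moved_of_sq_eq_one (X := G ⧸ H) v hvsq hsign
  set S : Finset (G ⧸ H) := Finset.univ.filter (fun x => v • x = x) with hS
  have hsplit : S.card + (Finset.univ.filter (fun x : G ⧸ H => v • x ≠ x)).card = 10 := by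
    rw [← hX, ← Finset.card_univ]
    exact Finset.card_filter_add_card_filter_not _
  -- `D` acts on the fixed points of `v`
  have hSinv : ∀ d ∈ D, ∀ x ∈ S, d • x ∈ S := by
    intro d hd x hx
    rw [hS, Finset.mem_filter] at hx ⊢
    refine ⟨Finset.mem_univ _, ?_⟩
    rw [Subgroup.mem_centralizer_iff] at hvC
    rw [smul_smul, ← hvC d hd, ← smul_smul, hx.2]
  have hDp : IsPGroup 3 D := IsPGroup.of_card (n := 1) (by simpa using h3)
  have hF : ∀ x : G ⧸ H, x ∈ ({((1 : G) : G ⧸ H)} : Finset (G ⧸ H)) ↔
      x ∈ S ∧ ∀ d ∈ D, d • x = x := by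
    intro x
    rw [Finset.mem_singleton]
    constructor
    · rintro rfl
      refine ⟨?_, ?_⟩
      · rw [hS, Finset.mem_filter]
        refine ⟨Finset.mem_univ _, ?_⟩
        rw [smul_coset_eq_iff]
        simpa using hvH
      · intro d hd
        rw [smul_coset_eq_iff]
        simpa using hDH hd
    · rintro ⟨-, hfix⟩
      induction x using QuotientGroup.induction_on with
      | H g =>
        have hgH : g ∈ H := by
          apply mem_of_conj_le hG h40 D h3 g
          intro d hd
          have := hfix d⁻¹ (inv_mem hd)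
          rw [smul_coset_eq_iff] at this
          simpa using this
        rw [QuotientGroup.eq]
        simpa using hgH
  have hmod := card_modEq_card_fixed_of_isPGroup D hDp S hSinv _ hF
  rw [Finset.card_singleton] at hmod
  have hmod' : S.card % 3 = 1 := hmod
  -- hence `v` fixes every point
  have hall : S.card = 10 := by
    obtain ⟨k, hk⟩ := h4
    omega
  have hmoved : (Finset.univ.filter (fun x : G ⧸ H => v • x ≠ x)).card = 0 := by omega
  rw [Finset.card_eq_zero, Finset.filter_eq_empty_iff] at hmoved
  have hcore : v ∈ H.normalCore := by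
    intro g
    have := hmoved (Finset.mem_univ ((g⁻¹ : G) : G ⧸ H))
    rw [not_not, smul_coset_eq_iff] at this
    have h5 := inv_mem this
    simpa [mul_assoc] using h5
  rcases (Subgroup.normalCore_normal H).eq_bot_or_eq_top with h | h
  · rw [h, Subgroup.mem_bot] at hcore
    exact hv1 hcore
  · have : H = ⊤ := by
      rw [eq_top_iff, ← h]
      exact Subgroup.normalCore_le H
    rw [this, Subgroup.card_top, hG] at hH72
    norm_num at hH72

end Cfsg.Agent.Lib.Helper10.Ord720
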