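import Mathlib
import Cfsg.Agent.Lib.Helper10.Ord720E
import Cfsg.Agent.Lib.Helper18.Ord720G

set_option autoImplicit false

/-!
There is no simple group of order 720.
-/

namespace Cfsg.Agent.Lib.Helper10.Ord720

/-- There is no simple group of order 720: the number of Sylow 3-subgroups would be 10 or 40,
and both values are impossible. -/
theorem no_simple_720 {G : Type*} [Group G] [Finite G] [IsSimpleGroup G] :
    Nat.card G ≠ 720 := by
  intro hG
  rcases card_sylow3_mem hG with h | h
  · exact Cfsg.Agent.Lib.Helper18.Ord720.false_of_sylow3_ten hG h
  · exact false_of_sylow3_forty hG h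

end Cfsg.Agent.Lib.Helper10.Ord720
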