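import Mathlib
import Cfsg.Agent.S0756
import Cfsg.Agent.Lib.Helper6.Discr
import Cfsg.Agent.Lib.Helper6.OrthForms
import Cfsg.Agent.Lib.Helper15.QuadCount1

/-!
# Nondegenerate symmetric bilinear spaces of odd dimension over a finite field of odd characteristic

Any two of the same dimension are similar; consequences: Witt index, number of isotropic vectors.
-/

set_option autoImplicit false

namespace Cfsg.Agent.Lib.Helper10.OrthTS

open Module Submodule Matrix

section half

variable {F V : Type*} [Field F] [AddCommGroup V] [Module F V] [FiniteDimensional F V]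

/-- totally isotropic subspaces of a nondegenerate space have at most half the dimension -/
theorem two_mul_finrank_ti_le (B : LinearMap.BilinForm F V) (hB : B.Nondegenerate)
    (Z : Submodule F V) (hZ : ∀ a ∈ Z, ∀ b ∈ Z, B a b = 0) : 2 * finrank F Z ≤ finrank F V := by
  have h1 : Z ≤ B.orthogonal Z := fun u hu n hn => hZ n hn u hu
  have h2 := Submodule.finrank_mono h1
  rw [LinearMap.BilinForm.finrank_orthogonal hB] at h2
  have h3 := Submodule.finrank_le Z
  omega

end half

section similar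

variable {F : Type*} [Field F] [Fintype F]

theorem toMatrix_diag {V : Type*} [AddCommGroup V] [Module F V] {n : ℕ}
    (B : LinearMap.BilinForm F V) (b : Basis (Fin (n + 1)) F V)
    (h1 : ∀ i j, i ≠ j → B (b i) (b j) = 0) (h2 : ∀ i, i ≠ Fin.last n → B (b i) (b i) = 1) :
    (LinearMap.BilinForm.toMatrix b B).det = B (b (Fin.last n)) (b (Fin.last n)) := by
  have h : LinearMap.BilinForm.toMatrix b B = Matrix.diagonal (fun i => B (b i) (b i)) := by
    ext i j
    rw [LinearMap.BilinForm.toMatrix_apply]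
    by_cases hij : i = j
    · subst hij
      rw [Matrix.diagonal_apply_eq]
    · rw [Matrix.diagonal_apply_ne _ hij, h1 i j hij]
  rw [h, Matrix.det_diagonal, Fin.prod_univ_castSucc]
  have h3 : ∏ i : Fin n, B (b i.castSucc) (b i.castSucc) = 1 := by
    apply Finset.prod_eq_one
    intro i _
    exact h2 _ (Fin.castSucc_lt_last i).ne
  rw [h3, one_mul]

/-- equal normal forms give an isometry -/
theorem iso_of_normal {V₁ V₂ : Type*} [AddCommGroup V₁] [Module F V₁] [AddCommGroup V₂]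
    [Module F V₂] {n : ℕ} (B₁ : LinearMap.BilinForm F V₁) (B₂ : LinearMap.BilinForm F V₂)
    (b₁ : Basis (Fin (n + 1)) F V₁) (b₂ : Basis (Fin (n + 1)) F V₂)
    (h1 : ∀ i j, i ≠ j → B₁ (b₁ i) (b₁ j) = 0) (h2 : ∀ i, i ≠ Fin.last n → B₁ (b₁ i) (b₁ i) = 1)
    (h1' : ∀ i j, i ≠ j → B₂ (b₂ i) (b₂ j) = 0)
    (h2' : ∀ i, i ≠ Fin.last n → B₂ (b₂ i) (b₂ i) = 1)
    (h3 : B₁ (b₁ (Fin.last n)) (b₁ (Fin.last n)) = B₂ (b₂ (Fin.last n)) (b₂ (Fin.last n))) :
    ∃ Φ : V₁ ≃ₗ[F] V₂, ∀ u v, B₂ (Φ u) (Φ v) = B₁ u v := by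
  refine ⟨b₁.equiv b₂ (Equiv.refl _), ?_⟩
  have h : B₂.compl₁₂ (b₁.equiv b₂ (Equiv.refl _)).toLinearMap
      (b₁.equiv b₂ (Equiv.refl _)).toLinearMap = B₁ := by
    apply LinearMap.BilinForm.ext_basis b₁
    intro i j
    rw [LinearMap.compl₁₂_apply]
    simp only [LinearEquiv.coe_coe, Basis.equiv_apply, Equiv.refl_apply]
    by_cases hij : i = j
    · subst hij
      by_cases hi : i = Fin.last n
      · subst hi
        exact h3.symm
      · rw [h2 i hi, h2' i hi]
    · rw [h1 i j hij, h1' i j hij]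
  intro u v
  rw [← h]
  rfl

theorem isSquare_of_pow_odd (α : F) (hα : α ≠ 0) (e : ℕ) (h : IsSquare (α ^ (2 * e + 1))) :
    IsSquare α := by
  obtain ⟨s, hs⟩ := h
  refine ⟨s / α ^ e, ?_⟩
  have hαe : α ^ e ≠ 0 := pow_ne_zero _ hα
  field_simp
  linear_combination hs

/-- **Similarity of odd-dimensional spaces.** -/
theorem exists_similar_odd (h2 : (2 : F) ≠ 0) {V₁ V₂ : Type*} [AddCommGroup V₁] [Module F V₁]
    [FiniteDimensional F V₁] [AddCommGroup V₂] [Module F V₂] [FiniteDimensional F V₂]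
    (B₁ : LinearMap.BilinForm F V₁) (B₂ : LinearMap.BilinForm F V₂)
    (hS₁ : B₁.IsSymm) (hN₁ : B₁.Nondegenerate) (hS₂ : B₂.IsSymm) (hN₂ : B₂.Nondegenerate)
    (e : ℕ) (hV₁ : finrank F V₁ = 2 * e + 1) (hV₂ : finrank F V₂ = 2 * e + 1) :
    ∃ (Φ : V₁ ≃ₗ[F] V₂) (ν : F), ν ≠ 0 ∧ ∀ u v, B₂ (Φ u) (Φ v) = ν * B₁ u v := by
  classical
  have hchar : ringChar F ≠ 2 := by
    intro h
    apply h2
    have := CharP.cast_eq_zero F (ringChar F)
    rw [h] at this
    exact_mod_cast this
  obtain ⟨α, hα⟩ := FiniteField.exists_nonsquare hchar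
  have hα0 : α ≠ 0 := by
    rintro rfl
    exact hα (IsSquare.zero)
  have hα1 : α ≠ 1 := by
    rintro rfl
    exact hα IsSquare.one
  obtain ⟨b₁, h11, h12, h13⟩ := Cfsg.Agent.S0756.result h2 B₁ hS₁ hN₁ hV₁ α hα
  obtain ⟨b₂, h21, h22, h23⟩ := Cfsg.Agent.S0756.result h2 B₂ hS₂ hN₂ hV₂ α hα
  by_cases hsame : B₁ (b₁ (Fin.last (2 * e))) (b₁ (Fin.last (2 * e))) =
      B₂ (b₂ (Fin.last (2 * e))) (b₂ (Fin.last (2 * e)))
  · obtain ⟨Φ, hΦ⟩ := iso_of_normal B₁ B₂ b₁ b₂ h11 h12 h21 h22 hsame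
    exact ⟨Φ, 1, one_ne_zero, fun u v => by rw [hΦ, one_mul]⟩
  · -- rescale
    have hS₁' : (α • B₁).IsSymm := ⟨fun u v => by
      simp only [LinearMap.smul_apply, smul_eq_mul]
      rw [hS₁.eq]⟩
    have hN₁' : (α • B₁).Nondegenerate := by
      constructor
      · intro u hu
        apply hN₁.1
        intro v
        have := hu v
        simp only [LinearMap.smul_apply, smul_eq_mul] at this
        exact (mul_eq_zero.mp this).resolve_left hα0
      · intro u hu
        apply hN₁.2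
        intro v
        have := hu v
        simp only [LinearMap.smul_apply, smul_eq_mul] at this
        exact (mul_eq_zero.mp this).resolve_left hα0
    obtain ⟨b₁', h11', h12', h13'⟩ := Cfsg.Agent.S0756.result h2 (α • B₁) hS₁' hN₁' hV₁ α hα
    by_cases hsame' : (α • B₁) (b₁' (Fin.last (2 * e))) (b₁' (Fin.last (2 * e))) =
        B₂ (b₂ (Fin.last (2 * e))) (b₂ (Fin.last (2 * e)))
    · obtain ⟨Φ, hΦ⟩ := iso_of_normal (α • B₁) B₂ b₁' b₂ h11' h12' h21 h22 hsame'
      refine ⟨Φ, α, hα0, fun u v => ?_⟩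
      rw [hΦ]
      rfl
    · exfalso
      -- both normal forms of `B₁` and `α • B₁` have the same last entry
      obtain ⟨δ, hδ⟩ : ∃ δ, δ = B₁ (b₁ (Fin.last (2 * e))) (b₁ (Fin.last (2 * e))) := ⟨_, rfl⟩
      have hδ' : (α • B₁) (b₁' (Fin.last (2 * e))) (b₁' (Fin.last (2 * e))) = δ := by
        rw [hδ]
        rcases h13 with h | h <;> rcases h23 with h' | h' <;> rcases h13' with h'' | h'' <;>
          rw [h] at hsame <;> rw [h'] at hsame hsame' <;> rw [h''] at hsame' <;>
          first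
            | exact absurd rfl hsame
            | exact absurd rfl hsame'
            | (rw [h, h''])
      have hδ0 : δ ≠ 0 := by
        rw [hδ]
        rcases h13 with h | h <;> rw [h]
        · exact one_ne_zero
        · exact hα0
      have hd1 : (LinearMap.BilinForm.toMatrix b₁' (α • B₁)).det = δ := by
        rw [toMatrix_diag (α • B₁) b₁' h11' h12', hδ']
      have hd2 : (LinearMap.BilinForm.toMatrix b₁ (α • B₁)).det = α ^ (2 * e + 1) * δ := by
        have : LinearMap.BilinForm.toMatrix b₁ (α • B₁) =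
            α • LinearMap.BilinForm.toMatrix b₁ B₁ := by
          ext i j
          simp [LinearMap.BilinForm.toMatrix_apply]
        rw [this, Matrix.det_smul, Fintype.card_fin, toMatrix_diag B₁ b₁ h11 h12, ← hδ]
      have key := Cfsg.Agent.Lib.Helper6.isSquare_mul_det_toMatrix_iff (α • B₁) b₁ b₁' δ
      rw [hd1, hd2] at key
      have h4 : IsSquare (δ * (α ^ (2 * e + 1) * δ)) := key.mp ⟨δ, rfl⟩
      apply hα
      apply isSquare_of_pow_odd α hα0 e
      obtain ⟨s, hs⟩ := h4
      refine ⟨s / δ, ?_⟩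
      field_simp
      linear_combination hs

end similar


section standard

variable (F : Type*) [Field F]

/-- the polar form of the standard odd-dimensional quadratic form -/
noncomputable def B0 (e : ℕ) : LinearMap.BilinForm F (Unit ⊕ (Fin e ⊕ Fin e) → F) :=
  QuadraticMap.polarBilin (Cfsg.Agent.Lib.Helper6.QOdd F e)

theorem B0_apply (e : ℕ) (u v : Unit ⊕ (Fin e ⊕ Fin e) → F) :
    B0 F e u v = 2 * u (Sum.inl ()) * v (Sum.inl ()) +
      ∑ i : Fin e, (u (Sum.inr (Sum.inl i)) * v (Sum.inr (Sum.inr i)) +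
        u (Sum.inr (Sum.inr i)) * v (Sum.inr (Sum.inl i))) :=
  Cfsg.Agent.Lib.Helper6.polar_QOdd F e u v

theorem B0_self (e : ℕ) (u : Unit ⊕ (Fin e ⊕ Fin e) → F) :
    B0 F e u u = 2 * Cfsg.quadFormOdd e F u := by
  unfold B0
  rw [QuadraticMap.polarBilin_apply_apply, QuadraticMap.polar_self,
    Cfsg.Agent.Lib.Helper6.QOdd_apply, two_smul, two_mul]

theorem B0_symm (e : ℕ) : (B0 F e).IsSymm :=
  ⟨fun u v => by
    unfold B0
    simp only [QuadraticMap.polarBilin_apply_apply]
    exact QuadraticMap.polar_comm _ _ _⟩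

theorem B0_nondeg (h2 : (2 : F) ≠ 0) (e : ℕ) : (B0 F e).Nondegenerate :=
  Cfsg.Agent.Lib.Helper6.nondegenerate_QOdd F h2 e

theorem finrank_std (e : ℕ) : finrank F (Unit ⊕ (Fin e ⊕ Fin e) → F) = 2 * e + 1 := by
  rw [Module.finrank_pi, Fintype.card_sum, Fintype.card_sum, Fintype.card_fin, Fintype.card_unit]
  ring

/-- the standard totally singular subspaces -/
def stdTI (e w : ℕ) : (Fin w → F) →ₗ[F] (Unit ⊕ (Fin e ⊕ Fin e) → F) where
  toFun t k := match k with
    | Sum.inr (Sum.inl i) => if h : (i : ℕ) < w then t ⟨i, h⟩ else 0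
    | _ => 0
  map_add' t t' := by
    funext k
    rcases k with k | k | k
    · simp
    · by_cases h : (k : ℕ) < w <;> simp [h]
    · simp
  map_smul' a t := by
    funext k
    rcases k with k | k | k
    · simp
    · by_cases h : (k : ℕ) < w <;> simp [h]
    · simp

theorem stdTI_inl (e w : ℕ) (t : Fin w → F) : stdTI F e w t (Sum.inl ()) = 0 := rfl

theorem stdTI_inr_inr (e w : ℕ) (t : Fin w → F) (i : Fin e) :
    stdTI F e w t (Sum.inr (Sum.inr i)) = 0 := rfl

theorem stdTI_inr_inl (e w : ℕ) (t : Fin w → F) (i : Fin e) (h : (i : ℕ) < w) :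
    stdTI F e w t (Sum.inr (Sum.inl i)) = t ⟨i, h⟩ := by
  show (if h : (i : ℕ) < w then t ⟨i, h⟩ else 0) = _
  rw [dif_pos h]

theorem stdTI_injective (e w : ℕ) (hw : w ≤ e) : Function.Injective (stdTI F e w) := by
  intro t t' h
  funext j
  have := congrFun h (Sum.inr (Sum.inl ⟨j, by omega⟩))
  rw [stdTI_inr_inl F e w t ⟨j, by omega⟩ j.2, stdTI_inr_inl F e w t' ⟨j, by omega⟩ j.2] at this
  exact this

theorem stdTI_ti (e w : ℕ) (t t' : Fin w → F) : B0 F e (stdTI F e w t) (stdTI F e w t') = 0 := by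
  rw [B0_apply]
  simp only [stdTI_inl, stdTI_inr_inr, mul_zero, zero_mul, add_zero, Finset.sum_const_zero]

end standard

section consequences

variable {F : Type*} [Field F] [Fintype F]

/-- **Witt index of an odd-dimensional space.** -/
theorem exists_ti_odd (h2 : (2 : F) ≠ 0) {V : Type*} [AddCommGroup V] [Module F V]
    [FiniteDimensional F V] (B : LinearMap.BilinForm F V) (hS : B.IsSymm) (hN : B.Nondegenerate)
    (e : ℕ) (hV : finrank F V = 2 * e + 1) (w : ℕ) (hw : w ≤ e) :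
    ∃ Z : Submodule F V, finrank F Z = w ∧ ∀ a ∈ Z, ∀ b ∈ Z, B a b = 0 := by
  obtain ⟨Φ, ν, hν, hΦ⟩ := exists_similar_odd h2 B (B0 F e) hS hN (B0_symm F e) (B0_nondeg F h2 e) e
    hV (finrank_std F e)
  refine ⟨(LinearMap.range (stdTI F e w)).map Φ.symm.toLinearMap, ?_, ?_⟩
  · rw [LinearEquiv.finrank_map_eq, LinearMap.finrank_range_of_inj (stdTI_injective F e w hw),
      Module.finrank_pi, Fintype.card_fin]
  · rintro _ ⟨a, ⟨t, rfl⟩, rfl⟩ _ ⟨b, ⟨t', rfl⟩, rfl⟩
    have := hΦ (Φ.symm (stdTI F e w t)) (Φ.symm (stdTI F e w t'))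
    rw [LinearEquiv.apply_symm_apply, LinearEquiv.apply_symm_apply, stdTI_ti] at this
    exact (mul_eq_zero.mp this.symm).resolve_left hν

/-- **Number of isotropic vectors of an odd-dimensional space.** -/
theorem card_isotropic_odd [DecidableEq F] (h2 : (2 : F) ≠ 0) {V : Type*} [AddCommGroup V] [Module F V]
    [FiniteDimensional F V] (B : LinearMap.BilinForm F V) (hS : B.IsSymm) (hN : B.Nondegenerate)
    (e : ℕ) (hV : finrank F V = 2 * e + 1) :
    Nat.card {v : V // B v v = 0} = Fintype.card F ^ (2 * e) := by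
  obtain ⟨Φ, ν, hν, hΦ⟩ := exists_similar_odd h2 B (B0 F e) hS hN (B0_symm F e) (B0_nondeg F h2 e) e
    hV (finrank_std F e)
  have h1 : Nat.card {v : V // B v v = 0} =
      Nat.card {v : Unit ⊕ (Fin e ⊕ Fin e) → F // (fun w : Unit → F => w () ^ 2)
        (fun i => v (Sum.inl i)) +
        ∑ i : Fin e, v (Sum.inr (Sum.inl i)) * v (Sum.inr (Sum.inr i)) = 0} := by
    apply Nat.card_congr
    apply Φ.toEquiv.subtypeEquiv
    intro v
    have h3 := hΦ v v
    rw [B0_self] at h3
    show B v v = 0 ↔ Cfsg.quadFormOdd e F (Φ v) = 0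
    constructor
    · intro h
      rw [h, mul_zero] at h3
      exact (mul_eq_zero.mp h3).resolve_left h2
    · intro h
      rw [h, mul_zero] at h3
      exact (mul_eq_zero.mp h3.symm).resolve_left hν
  rw [h1, Cfsg.Agent.Lib.Helper15.card_odd_shape e (fun w : Unit → F => w () ^ 2) 0]
  have h4 : Nat.card {w : Unit → F // w () ^ 2 = 0} = 1 := by
    have : Unique {w : Unit → F // w () ^ 2 = 0} :=
      { default := ⟨0, by simp⟩
        uniq := fun w => Subtype.ext (funext fun _ => pow_eq_zero_iff (two_ne_zero) |>.mp w.2) }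
    exact Nat.card_unique
  rw [h4, Fintype.card_unit, mul_one, pow_one]
  obtain ⟨q, hq⟩ : ∃ q, Fintype.card F = q := ⟨_, rfl⟩
  rw [hq]
  rcases Nat.eq_zero_or_pos e with rfl | he
  · simp
  · obtain ⟨k, hk⟩ : ∃ k, q ^ e = k + 1 := ⟨q ^ e - 1, by
      have : 0 < q ^ e := by
        apply pow_pos
        rw [← hq]
        exact Fintype.card_pos
      omega⟩
    have h5 : q ^ (e - 1) * q = q ^ e := by
      rw [← pow_succ]
      congr 1
      omega
    rw [mul_assoc, h5, two_mul, pow_add, hk]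
    simp only [Nat.add_sub_cancel]
    ring

end consequences

end Cfsg.Agent.Lib.Helper10.OrthTS
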