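import Mathlib
import Cfsg.Agent.Lib.Helper10.OrthTS2
import Cfsg.Agent.Lib.Helper15.PSpK1

/-!
# Counting totally isotropic subspaces of an odd-dimensional orthogonal space (odd characteristic)
-/

set_option autoImplicit false

namespace Cfsg.Agent.Lib.Helper10.OrthTS

open Module Submodule Cfsg.Agent.Lib.Helper15 Cfsg.Agent.Lib.Helper15.PSub
  Cfsg.Agent.Lib.Helper15.PSpK

section count

variable {F V : Type*} [Field F] [Fintype F] [AddCommGroup V] [Module F V]
  [FiniteDimensional F V]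
variable (B : V →ₗ[F] V →ₗ[F] F)

/-- the fibres of the restriction map on frames, symmetric case -/
noncomputable def tsFrameEquiv (hsymm : ∀ u v, B u v = B v u) (k : ℕ) :
    TIFrame B (k + 1) ≃
      Σ s : TIFrame B k,
        {w : V // (∀ a, B (s.1 a) w = 0) ∧ B w w = 0 ∧ w ∉ span F (Set.range s.1)} where
  toFun s := ⟨⟨Fin.init s.1, (linearIndependent_finSucc'.mp s.2.1).1,
      fun a b => s.2.2 a.castSucc b.castSucc⟩,
    ⟨s.1 (Fin.last k), fun a => s.2.2 a.castSucc (Fin.last k), s.2.2 (Fin.last k) (Fin.last k),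
      (linearIndependent_finSucc'.mp s.2.1).2⟩⟩
  invFun s := ⟨Fin.snoc s.1.1 s.2.1, linearIndependent_finSnoc.mpr ⟨s.1.2.1, s.2.2.2.2⟩, by
    intro a b
    induction a using Fin.lastCases with
    | last =>
      induction b using Fin.lastCases with
      | last => rw [Fin.snoc_last]; exact s.2.2.2.1
      | cast b =>
        rw [Fin.snoc_last, Fin.snoc_castSucc, hsymm, s.2.2.1 b]
    | cast a =>
      induction b using Fin.lastCases with
      | last => rw [Fin.snoc_last, Fin.snoc_castSucc]; exact s.2.2.1 a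
      | cast b => rw [Fin.snoc_castSucc, Fin.snoc_castSucc]; exact s.1.2.2 a b⟩
  left_inv s := by
    apply Subtype.ext
    exact Fin.snoc_init_self s.1
  right_inv := fun ⟨s, w⟩ => by
    have h1 : Fin.init (Fin.snoc s.1 w.1 : Fin (k + 1) → V) = s.1 := Fin.init_snoc _ _
    refine Sigma.ext (Subtype.ext h1) ?_
    apply (Subtype.heq_iff_coe_eq ?_).mpr
    · show (Fin.snoc s.1 w.1 : Fin (k + 1) → V) (Fin.last k) = w.1
      exact Fin.snoc_last _ _
    · intro x
      show ((∀ a, B (Fin.init (Fin.snoc s.1 w.1 : Fin (k + 1) → V) a) x = 0) ∧ B x x = 0 ∧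
        x ∉ span F (Set.range (Fin.init (Fin.snoc s.1 w.1 : Fin (k + 1) → V)))) ↔ _
      rw [h1]

theorem card_fiber_ts [DecidableEq F] (h2 : (2 : F) ≠ 0) (hsymm : ∀ u v, B u v = B v u)
    (hnd : ∀ x, (∀ y, B x y = 0) → x = 0) (e : ℕ) (hV : finrank F V = 2 * e + 1)
    (k : ℕ) (hk : k ≤ e) (s : TIFrame B k) :
    Nat.card {w : V // (∀ a, B (s.1 a) w = 0) ∧ B w w = 0 ∧ w ∉ span F (Set.range s.1)} =
      Fintype.card F ^ (2 * e - k) - Fintype.card F ^ k := by
  classical
  have : Finite V := Module.finite_of_finite F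
  obtain ⟨U, hU⟩ : ∃ U : Submodule F V, U = span F (Set.range s.1) := ⟨_, rfl⟩
  have hUdim : finrank F U = k := by
    rw [hU, finrank_span_eq_card s.2.1, Fintype.card_fin]
  have hti := PSpD.span_ti B s.1 s.2.2
  rw [← hU] at hti ⊢
  have hBnd : LinearMap.BilinForm.Nondegenerate B := by
    refine ⟨hnd, ?_⟩
    intro y hy
    apply hnd
    intro x
    rw [hsymm, hy x]
  have hBrefl : LinearMap.BilinForm.IsRefl B := fun x y h => by rw [hsymm, h]
  obtain ⟨P, hP⟩ : ∃ P : Submodule F V, P = LinearMap.BilinForm.orthogonal B U := ⟨_, rfl⟩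
  have hPdim : finrank F P = 2 * e + 1 - k := by
    rw [hP, LinearMap.BilinForm.finrank_orthogonal hBnd, hUdim, hV]
  have hUP : U ≤ P := by
    rw [hP]
    exact fun u hu n hn => hti n hn u hu
  have hmemP : ∀ w, w ∈ P ↔ ∀ u ∈ U, B u w = 0 := by
    intro w
    rw [hP]
    exact LinearMap.BilinForm.mem_orthogonal_iff
  -- a complement of `U` in `P`
  obtain ⟨W', hW'⟩ := Submodule.exists_isCompl U
  obtain ⟨W₀, hW₀⟩ : ∃ W₀ : Submodule F V, W₀ = W' ⊓ P := ⟨_, rfl⟩
  have hW₀P : W₀ ≤ P := by rw [hW₀]; exact inf_le_right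
  have hUW₀ : U ⊓ W₀ = ⊥ := by
    rw [eq_bot_iff, hW₀, ← hW'.inf_eq_bot, ← inf_assoc]
    exact inf_le_left
  have hsup : U ⊔ W₀ = P := by
    rw [hW₀, ← sup_inf_assoc_of_le W' hUP, hW'.sup_eq_top, top_inf_eq]
  have hW₀dim : finrank F W₀ = 2 * (e - k) + 1 := by
    have := Submodule.finrank_sup_add_finrank_inf_eq U W₀
    rw [hsup, hUW₀, finrank_bot, add_zero, hPdim, hUdim] at this
    omega
  -- `W₀` is nondegenerate
  have hW₀nd : ∀ w ∈ W₀, (∀ w' ∈ W₀, B w w' = 0) → w = 0 := by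
    intro w hw h
    have h1 : w ∈ LinearMap.BilinForm.orthogonal B P := by
      rw [LinearMap.BilinForm.mem_orthogonal_iff]
      intro p hp
      rw [← hsup] at hp
      obtain ⟨u, hu, w', hw', rfl⟩ := Submodule.mem_sup.mp hp
      show B (u + w') w = 0
      rw [map_add, LinearMap.add_apply, (hmemP w).mp (hW₀P hw) u hu, hsymm, h w' hw', add_zero]
    rw [hP, LinearMap.BilinForm.orthogonal_orthogonal hBnd hBrefl] at h1
    have h2 : w ∈ U ⊓ W₀ := ⟨h1, hw⟩
    rw [hUW₀] at h2
    exact (Submodule.mem_bot F).mp h2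
  -- the count of isotropic vectors of `W₀`
  have hcW₀ : Nat.card {w : ↥W₀ // B (w : V) (w : V) = 0} = Fintype.card F ^ (2 * (e - k)) := by
    have hS : (LinearMap.BilinForm.restrict B W₀).IsSymm := ⟨fun x y => hsymm _ _⟩
    have hN : (LinearMap.BilinForm.restrict B W₀).Nondegenerate := by
      have hl : ∀ x : ↥W₀, (∀ y : ↥W₀, (LinearMap.BilinForm.restrict B W₀) x y = 0) → x = 0 := by
        intro x hx
        apply Subtype.ext
        exact hW₀nd x x.2 (fun w' hw' => hx ⟨w', hw'⟩)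
      refine ⟨hl, ?_⟩
      intro y hy
      apply hl
      intro x
      rw [hS.eq]
      exact hy x
    exact card_isotropic_odd h2 (LinearMap.BilinForm.restrict B W₀) hS hN (e - k) hW₀dim
  -- the count of isotropic vectors of `P`
  have hcP : Nat.card {p : V // p ∈ P ∧ B p p = 0} =
      Fintype.card F ^ k * Fintype.card F ^ (2 * (e - k)) := by
    have hUcard : Nat.card ↥U = Fintype.card F ^ k := by
      rw [Module.natCard_eq_pow_finrank (K := F), hUdim, Nat.card_eq_fintype_card]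
    rw [← hUcard, ← hcW₀, ← Nat.card_prod]
    symm
    apply Nat.card_congr
    have hself : ∀ (u : ↥U) (w : ↥W₀), B ((u : V) + (w : V)) ((u : V) + (w : V)) =
        B (w : V) (w : V) := by
      intro u w
      have h1 : B (u : V) (w : V) = 0 := (hmemP w).mp (hW₀P w.2) u u.2
      simp only [map_add, LinearMap.add_apply, hti u u.2 u u.2, h1, hsymm (w : V) (u : V),
        zero_add]
    refine Equiv.ofBijective
      (fun a : ↥U × {w : ↥W₀ // B (w : V) (w : V) = 0} =>
        (⟨(a.1 : V) + (a.2.1 : V), by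
          rw [← hsup]
          exact Submodule.add_mem_sup a.1.2 a.2.1.2, by
          rw [hself]
          exact a.2.2⟩ : {p : V // p ∈ P ∧ B p p = 0})) ⟨?_, ?_⟩
    · rintro ⟨u, w, hw⟩ ⟨u', w', hw'⟩ h
      have h1 : (u : V) + (w : V) = (u' : V) + (w' : V) := congrArg Subtype.val h
      have h2 : (u : V) - (u' : V) ∈ U ⊓ W₀ := by
        refine ⟨U.sub_mem u.2 u'.2, ?_⟩
        have : (u : V) - (u' : V) = (w' : V) - (w : V) := by
          rw [sub_eq_sub_iff_add_eq_add, h1, add_comm]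
        rw [this]
        exact W₀.sub_mem w'.2 w.2
      rw [hUW₀, Submodule.mem_bot, sub_eq_zero] at h2
      have h3 : (w : V) = (w' : V) := by
        rw [h2] at h1
        exact add_left_cancel h1
      have hu : u = u' := Subtype.ext h2
      have hw2 : w = w' := Subtype.ext h3
      subst hu
      subst hw2
      rfl
    · rintro ⟨p, hpP, hp0⟩
      rw [← hsup] at hpP
      obtain ⟨u, hu, w, hw, rfl⟩ := Submodule.mem_sup.mp hpP
      have := hself ⟨u, hu⟩ ⟨w, hw⟩
      refine ⟨⟨⟨u, hu⟩, ⟨⟨w, hw⟩, ?_⟩⟩, rfl⟩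
      rw [← this]
      exact hp0
  -- the fibre
  have hset : {w : V | (∀ a, B (s.1 a) w = 0) ∧ B w w = 0 ∧ w ∉ U} =
      {p : V | p ∈ P ∧ B p p = 0} \ (U : Set V) := by
    ext w
    simp only [Set.mem_ofPred_eq, Set.mem_sdiff, SetLike.mem_coe]
    constructor
    · rintro ⟨h1, h2, h3⟩
      refine ⟨⟨(hmemP w).mpr fun n hn => ?_, h2⟩, h3⟩
      rw [hU] at hn
      obtain ⟨c, rfl⟩ := (mem_span_range_iff_exists_fun F).mp hn
      simp only [map_sum, map_smul, LinearMap.sum_apply, LinearMap.smul_apply, h1, smul_zero,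
        Finset.sum_const_zero]
    · rintro ⟨⟨h1, h2⟩, h3⟩
      refine ⟨fun a => (hmemP w).mp h1 _ ?_, h2, h3⟩
      rw [hU]
      exact subset_span ⟨a, rfl⟩
  have hsub : (U : Set V) ⊆ {p : V | p ∈ P ∧ B p p = 0} := by
    intro u hu
    exact ⟨hUP hu, hti u hu u hu⟩
  have h1 : Nat.card {w : V // (∀ a, B (s.1 a) w = 0) ∧ B w w = 0 ∧ w ∉ U} =
      Set.ncard {w : V | (∀ a, B (s.1 a) w = 0) ∧ B w w = 0 ∧ w ∉ U} := by
    rw [← Nat.card_coe_set_eq]
    rfl
  rw [h1, hset, Set.ncard_sdiff hsub (Set.toFinite _), ← Nat.card_coe_set_eq,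
    ← Nat.card_coe_set_eq]
  have h3 : Nat.card ↥U = Fintype.card F ^ k := by
    rw [Module.natCard_eq_pow_finrank (K := F), hUdim, Nat.card_eq_fintype_card]
  have h4 : Nat.card ↥{p : V | p ∈ P ∧ B p p = 0} = Fintype.card F ^ (2 * e - k) := by
    have : Nat.card ↥{p : V | p ∈ P ∧ B p p = 0} = Nat.card {p : V // p ∈ P ∧ B p p = 0} := rfl
    rw [this, hcP, ← pow_add]
    congr 1
    omega
  exact congrArg₂ _ h4 h3

theorem card_tsFrame [DecidableEq F] (h2 : (2 : F) ≠ 0) (hsymm : ∀ u v, B u v = B v u)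
    (hnd : ∀ x, (∀ y, B x y = 0) → x = 0) (e : ℕ) (hV : finrank F V = 2 * e + 1)
    (k : ℕ) (hk : k ≤ e) :
    Nat.card (TIFrame B k) =
      ∏ j ∈ Finset.range k, (Fintype.card F ^ (2 * e - j) - Fintype.card F ^ j) := by
  classical
  have : Finite V := Module.finite_of_finite F
  induction k with
  | zero =>
    rw [Finset.range_zero, Finset.prod_empty]
    have : Unique (TIFrame B (V := V) 0) :=
      { default := ⟨Fin.elim0, linearIndependent_empty_type, fun a => a.elim0⟩
        uniq := fun s => Subtype.ext (funext fun a => a.elim0) }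
    exact Nat.card_unique
  | succ k ih =>
    have : Fintype (TIFrame B (V := V) k) := Fintype.ofFinite _
    rw [Nat.card_congr (tsFrameEquiv B hsymm k), Nat.card_sigma,
      Finset.sum_congr rfl (fun s _ => card_fiber_ts B h2 hsymm hnd e hV k (by omega) s),
      Finset.sum_const, smul_eq_mul,
      Finset.card_univ, ← Nat.card_eq_fintype_card, ih (by omega), Finset.prod_range_succ]

/-- `N_ts(m) * ∏_{j<m} (q^m - q^j) = ∏_{j<m} (q^(2e-j) - q^j)` in dimension `2e+1` -/
theorem card_ts_mul [DecidableEq F] (h2 : (2 : F) ≠ 0) (hsymm : ∀ u v, B u v = B v u)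
    (hnd : ∀ x, (∀ y, B x y = 0) → x = 0) (e : ℕ) (hV : finrank F V = 2 * e + 1)
    (m : ℕ) (hm : m ≤ e) :
    Nat.card {W : Submodule F V // finrank F W = m ∧ ∀ u ∈ W, ∀ v ∈ W, B u v = 0} *
        ∏ j : Fin m, (Fintype.card F ^ m - Fintype.card F ^ (j : ℕ)) =
      ∏ j ∈ Finset.range m, (Fintype.card F ^ (2 * e - j) - Fintype.card F ^ j) := by
  classical
  have : Finite V := Module.finite_of_finite F
  rw [← card_tsFrame B h2 hsymm hnd e hV m hm]
  let φ : TIFrame B m → {W : Submodule F V // finrank F W = m ∧ ∀ u ∈ W, ∀ v ∈ W, B u v = 0} :=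
    fun s => ⟨Submodule.span F (Set.range s.1), by
      rw [finrank_span_eq_card s.2.1, Fintype.card_fin], PSpD.span_ti B s.1 s.2.2⟩
  have : Finite {W : Submodule F V // finrank F W = m ∧ ∀ u ∈ W, ∀ v ∈ W, B u v = 0} := by
    have : Finite (Submodule F V) := Finite.of_injective (fun W => (W : Set V)) SetLike.coe_injective
    infer_instance
  have : Fintype {W : Submodule F V // finrank F W = m ∧ ∀ u ∈ W, ∀ v ∈ W, B u v = 0} :=
    Fintype.ofFinite _
  have : Fintype (TIFrame B (V := V) m) := Fintype.ofFinite _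
  rw [Nat.card_congr (Equiv.sigmaFiberEquiv φ).symm, Nat.card_sigma]
  have h2 : ∀ W : {W : Submodule F V // finrank F W = m ∧ ∀ u ∈ W, ∀ v ∈ W, B u v = 0},
      Nat.card {s : TIFrame B m // φ s = W} =
        ∏ j : Fin m, (Fintype.card F ^ m - Fintype.card F ^ (j : ℕ)) := by
    intro W
    rw [← card_bases m W.1 W.2.1, ← Nat.card_congr (PSub.fiberEquiv m W.1)]
    apply Nat.card_congr
    refine
      { toFun := fun s => ⟨⟨s.1.1, s.1.2.1⟩, congrArg Subtype.val s.2⟩
        invFun := fun s => ⟨⟨s.1.1, s.1.2, fun a b => ?_⟩, Subtype.ext s.2⟩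
        left_inv := fun s => rfl
        right_inv := fun s => rfl }
    have hsW : span F (Set.range s.1.1) ≤ W.1 := le_of_eq s.2
    have ha : s.1.1 a ∈ W.1 := hsW (subset_span ⟨a, rfl⟩)
    have hb : s.1.1 b ∈ W.1 := hsW (subset_span ⟨b, rfl⟩)
    exact W.2.2 _ ha _ hb
  rw [Finset.sum_congr rfl (fun W _ => h2 W), Finset.sum_const, smul_eq_mul, Finset.card_univ,
    Nat.card_eq_fintype_card]

/-- the numbers of totally isotropic `m`-spaces of an orthogonal space of dimension `2e+1` and of a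
symplectic space of dimension `2e` coincide -/
theorem card_ts_eq_card_ti [DecidableEq F] (h2 : (2 : F) ≠ 0) (hsymm : ∀ u v, B u v = B v u)
    (hnd : ∀ x, (∀ y, B x y = 0) → x = 0) (e : ℕ) (hV : finrank F V = 2 * e + 1)
    (m : ℕ) (hm : m ≤ e)
    {V' : Type*} [AddCommGroup V'] [Module F V'] [FiniteDimensional F V']
    (A : V' →ₗ[F] V' →ₗ[F] F) (halt : ∀ x, A x x = 0) (hndA : ∀ x, (∀ y, A x y = 0) → x = 0)
    (hV' : finrank F V' = 2 * e) :
    Nat.card {W : Submodule F V // finrank F W = m ∧ ∀ u ∈ W, ∀ v ∈ W, B u v = 0} =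
      Nat.card {W : Submodule F V' // finrank F W = m ∧ ∀ u ∈ W, ∀ v ∈ W, A u v = 0} := by
  have h1 := card_ts_mul B h2 hsymm hnd e hV m hm
  have h3 := card_ti_mul A halt hndA m
  rw [hV'] at h3
  rw [← h3] at h1
  have hpos : 0 < ∏ j : Fin m, (Fintype.card F ^ m - Fintype.card F ^ (j : ℕ)) := by
    apply Finset.prod_pos
    intro j _
    have hq : 1 < Fintype.card F := Fintype.one_lt_card
    have : Fintype.card F ^ (j : ℕ) < Fintype.card F ^ m := Nat.pow_lt_pow_right hq j.2
    omega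
  exact Nat.eq_of_mul_eq_mul_right hpos h1

end count

end Cfsg.Agent.Lib.Helper10.OrthTS
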