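import Mathlib
import Cfsg.Prelude.Def_GeometricClasses
import Cfsg.Agent.Lib.Helper10.OrthTS1
import Cfsg.Agent.Lib.Helper10.OrthTS2
import Cfsg.Agent.Lib.Helper15.PSpK5
import Cfsg.Agent.Lib.Helper6.OmegaOdd

/-!
# Transfer between `Sp_{2d}(q)` and `O_{2d+1}(q)` for elements of odd prime order
-/

set_option autoImplicit false
open scoped MatrixGroups

namespace Cfsg.Agent.Lib.Helper10.OrthTS

open Module Submodule Matrix Cfsg.Agent.Lib.Helper15

section sub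

variable {F V : Type*} [Field F] [Fintype F] [AddCommGroup V] [Module F V] [FiniteDimensional F V]

/-- Witt index of an odd-dimensional nondegenerate subspace -/
theorem exists_ti_odd_sub (h2 : (2 : F) ≠ 0) (B : V →ₗ[F] V →ₗ[F] F)
    (hsymm : ∀ u v, B u v = B v u) (S : Submodule F V)
    (hSn : ∀ u ∈ S, (∀ v ∈ S, B u v = 0) → u = 0) (e : ℕ) (hS : finrank F S = 2 * e + 1)
    (w : ℕ) (hw : w ≤ e) :
    ∃ Z : Submodule F V, Z ≤ S ∧ (∀ a ∈ Z, ∀ b ∈ Z, B a b = 0) ∧ finrank F Z = w := by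
  have hSy : (LinearMap.BilinForm.restrict B S).IsSymm := ⟨fun x y => hsymm _ _⟩
  have hN : (LinearMap.BilinForm.restrict B S).Nondegenerate := by
    have hl : ∀ x : ↥S, (∀ y : ↥S, (LinearMap.BilinForm.restrict B S) x y = 0) → x = 0 := by
      intro x hx
      apply Subtype.ext
      exact hSn x x.2 (fun w' hw' => hx ⟨w', hw'⟩)
    refine ⟨hl, ?_⟩
    intro y hy
    apply hl
    intro x
    rw [hSy.eq]
    exact hy x
  obtain ⟨Z, hZdim, hZti⟩ := exists_ti_odd h2 (LinearMap.BilinForm.restrict B S) hSy hN e hS w hw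
  refine ⟨Z.map S.subtype, Submodule.map_subtype_le S Z, ?_, ?_⟩
  · rintro _ ⟨a, ha, rfl⟩ _ ⟨b, hb, rfl⟩
    exact hZti a ha b hb
  · rw [← hZdim]
    exact (Submodule.equivSubtypeMap S Z).symm.finrank_eq

end sub

section transferOS

variable {F : Type*} [Field F] [Fintype F] {V : Type*} [AddCommGroup V] [Module F V]
  [FiniteDimensional F V]

theorem scalar_eq_one_of (z : F) (r : ℕ) (hodd : Odd r) (hz2 : z * z = 1) (hzr : z ^ r = 1) :
    z = 1 := by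
  obtain ⟨k, rfl⟩ := hodd
  rw [pow_succ, pow_mul, pow_two, hz2, one_pow, one_mul] at hzr
  exact hzr

theorem eq_one_of_movS_eq_bot (X : V →ₗ[F] V) (h : movS X = ⊥) : X = 1 := by
  apply LinearMap.ext
  intro v
  have h1 : X v - v ∈ movS X := mem_movS.mpr ⟨v, rfl⟩
  rw [h, Submodule.mem_bot, sub_eq_zero] at h1
  rw [h1, Module.End.one_apply]

/-- from the orthogonal side to the symplectic side -/
theorem orth_to_symp (p : ℕ) [Fact p.Prime] [CharP F p] (r : ℕ) [hr : Fact r.Prime]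
    (hr2 : r ≠ 2) (hrp : r ≠ p) (h2 : (2 : F) ≠ 0)
    (B : V →ₗ[F] V →ₗ[F] F) (hsymm : ∀ u v, B u v = B v u)
    (hnd : ∀ x, (∀ y, B x y = 0) → x = 0) (d : ℕ) (hd : 1 ≤ d) (hV : finrank F V = 2 * d + 1)
    (X : V →ₗ[F] V) (hiso : ∀ u v, B (X u) (X v) = B u v) (hX : X ^ r = 1) (hX1 : X ≠ 1) (m : ℕ)
    (hsymp : ∀ y : ↥(Matrix.symplecticGroup (Fin d) F),
      (∃ z : F, ((y ^ r : ↥(Matrix.symplecticGroup (Fin d) F)) :
        Matrix (Fin d ⊕ Fin d) (Fin d ⊕ Fin d) F) = z • (1 : Matrix (Fin d ⊕ Fin d) (Fin d ⊕ Fin d) F)) →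
      (∀ z : F, (y : Matrix (Fin d ⊕ Fin d) (Fin d ⊕ Fin d) F) ≠
        z • (1 : Matrix (Fin d ⊕ Fin d) (Fin d ⊕ Fin d) F)) →
      ∃ W : Submodule F (Fin d ⊕ Fin d → F), finrank F W = m ∧
        (∀ u ∈ W, ∀ v ∈ W, Cfsg.sympForm d F u v = 0) ∧
        W.map (Matrix.toLin' (y : Matrix (Fin d ⊕ Fin d) (Fin d ⊕ Fin d) F)) ≤ W) :
    ∃ W : Submodule F V, finrank F W = m ∧ (∀ u ∈ W, ∀ v ∈ W, B u v = 0) ∧ ∀ w ∈ W, X w ∈ W := by
  classical
  have hr0 : (r : F) ≠ 0 := PSpJ.ne_zero_of_ne' p r hr.out hrp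
  have hodd : Odd r := hr.out.odd_of_ne_two hr2
  have hr1 : 1 ≤ r := hr.out.one_le
  have hcompl := isCompl_fixS_movS X r hr0 hX
  have hdimsum : finrank F (fixS X) + finrank F (movS X) = 2 * d + 1 := by
    rw [Submodule.finrank_add_eq_of_isCompl hcompl, hV]
  have halt : ∀ u, twForm B X r u u = 0 := twForm_alt B X hiso r hr1 hX hsymm
  have hMnd : PSpI.NondegOn (twForm B X r) (movS X) :=
    twForm_nondeg_mov B X hiso r hodd hr0 hX hnd
  obtain ⟨k, hk⟩ := PSpJ.even_finrank_of_nondegOn halt (movS X) hMnd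
  obtain ⟨e, he⟩ : ∃ e, finrank F (fixS X) = 2 * e + 1 := ⟨d - k, by omega⟩
  have hB'alt := cForm_alt (stdSymp e F) B X hiso r hr1 hX hsymm stdSymp_alt
  have hB'nd := cForm_nondeg (stdSymp e F) B X hiso r hodd hr0 hX hnd stdSymp_nondeg
  have hC' : finrank F (Fin e ⊕ Fin e → F) = 2 * e := by
    rw [Module.finrank_pi, Fintype.card_sum, Fintype.card_fin, two_mul]
  have hV' : finrank F ((Fin e ⊕ Fin e → F) × ↥(movS X)) = 2 * d := by
    rw [Module.finrank_prod, hC', hk]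
    omega
  obtain ⟨y₀, Ψ, hΨ1, hΨ2⟩ := PSpK.exists_symp_conj_iso (cForm (stdSymp e F) B X r) hB'alt hB'nd
    d hd hV' (cX (Fin e ⊕ Fin e → F) X) (cForm_iso (stdSymp e F) B X hiso r)
  have hpow : ∀ (n : ℕ) (u : Fin d ⊕ Fin d → F),
      Ψ ((Matrix.toLin' (y₀ : Matrix (Fin d ⊕ Fin d) (Fin d ⊕ Fin d) F) ^ n) u) =
        (cX (Fin e ⊕ Fin e → F) X ^ n) (Ψ u) := by
    intro n
    induction n with
    | zero => intro u; simp
    | succ n ih =>
      intro u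
      rw [pow_succ', Module.End.mul_apply, hΨ1, ih, pow_succ', Module.End.mul_apply]
  have hy₀r : (Matrix.toLin' (y₀ : Matrix (Fin d ⊕ Fin d) (Fin d ⊕ Fin d) F)) ^ r = 1 := by
    apply LinearMap.ext
    intro u
    apply Ψ.injective
    rw [hpow, cX_pow_eq_one _ X r hX]
    simp
  have hy₀r' : ((y₀ ^ r : ↥(Matrix.symplecticGroup (Fin d) F)) :
      Matrix (Fin d ⊕ Fin d) (Fin d ⊕ Fin d) F) =
        (1 : F) • (1 : Matrix (Fin d ⊕ Fin d) (Fin d ⊕ Fin d) F) := by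
    rw [one_smul, SubmonoidClass.coe_pow]
    apply Matrix.toLin'.injective
    rw [Matrix.toLin'_pow, hy₀r, Matrix.toLin'_one]
    rfl
  have hns : ∀ z : F, (y₀ : Matrix (Fin d ⊕ Fin d) (Fin d ⊕ Fin d) F) ≠
      z • (1 : Matrix (Fin d ⊕ Fin d) (Fin d ⊕ Fin d) F) := by
    intro z hz
    have hXz : ∀ a, cX (Fin e ⊕ Fin e → F) X a = z • a := by
      intro a
      obtain ⟨u, rfl⟩ := Ψ.surjective a
      rw [← hΨ1, hz, Matrix.toLin'_apply, Matrix.smul_mulVec, Matrix.one_mulVec, map_smul]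
    have hpos : 0 < finrank F ((Fin e ⊕ Fin e → F) × ↥(movS X)) := by rw [hV']; omega
    obtain ⟨a, ha⟩ := Module.finrank_pos_iff_exists_ne_zero.mp hpos
    obtain ⟨b, hb⟩ : ∃ b, cForm (stdSymp e F) B X r a b ≠ 0 := by
      by_contra hcon
      push Not at hcon
      exact ha (hB'nd a hcon)
    have hz2 : z * z = 1 := by
      have h1 := cForm_iso (stdSymp e F) B X hiso r a b
      rw [hXz, hXz] at h1
      simp only [map_smul, LinearMap.smul_apply, smul_eq_mul] at h1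
      have h3 : (z * z - 1) * cForm (stdSymp e F) B X r a b = 0 := by
        linear_combination h1
      exact sub_eq_zero.mp ((mul_eq_zero.mp h3).resolve_right hb)
    have hzpow : ∀ n : ℕ, (cX (Fin e ⊕ Fin e → F) X ^ n) a = z ^ n • a := by
      intro n
      induction n with
      | zero => simp
      | succ n ih => rw [pow_succ', Module.End.mul_apply, ih, map_smul, hXz, smul_smul, pow_succ]
    have hzr : z ^ r = 1 := by
      have h1 := hzpow r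
      rw [cX_pow_eq_one _ X r hX, Module.End.one_apply] at h1
      have h3 : (z ^ r - 1) • a = 0 := by rw [sub_smul, ← h1, one_smul, sub_self]
      exact sub_eq_zero.mp ((smul_eq_zero.mp h3).resolve_right ha)
    have hz1 := scalar_eq_one_of z r hodd hz2 hzr
    apply hX1
    apply eq_one_of_movS_eq_bot
    rw [eq_bot_iff]
    intro u hu
    have h1 := hXz ((0 : Fin e ⊕ Fin e → F), (⟨u, hu⟩ : ↥(movS X)))
    rw [hz1, one_smul] at h1
    have h3 : X u = u := congrArg (fun a : (Fin e ⊕ Fin e → F) × ↥(movS X) => ((a.2 : ↥(movS X)) : V)) h1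
    have h4 : u ∈ fixS X ⊓ movS X := ⟨mem_fixS.mpr h3, hu⟩
    rw [fixS_inf_movS X r hr0 hX] at h4
    exact h4
  obtain ⟨W₀, hW₀dim, hW₀ti, hW₀inv⟩ := hsymp y₀ ⟨1, hy₀r'⟩ hns
  have hW'inv : ∀ w ∈ W₀.map Ψ.toLinearMap, cX (Fin e ⊕ Fin e → F) X w ∈ W₀.map Ψ.toLinearMap := by
    rintro _ ⟨u, hu, rfl⟩
    refine ⟨Matrix.toLin' (y₀ : Matrix (Fin d ⊕ Fin d) (Fin d ⊕ Fin d) F) u,
      hW₀inv ⟨u, hu, rfl⟩, ?_⟩
    exact hΨ1 u
  have hW'ti : ∀ a ∈ W₀.map Ψ.toLinearMap, ∀ b ∈ W₀.map Ψ.toLinearMap,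
      cForm (stdSymp e F) B X r a b = 0 := by
    rintro _ ⟨u, hu, rfl⟩ _ ⟨v, hv, rfl⟩
    rw [LinearEquiv.coe_coe, hΨ2]
    exact hW₀ti u hu v hv
  have hwitt : ∀ Z' : Submodule F (Fin e ⊕ Fin e → F),
      (∀ a ∈ Z', ∀ b ∈ Z', stdSymp e F a b = 0) →
      ∃ Z : Submodule F V, Z ≤ fixS X ∧ (∀ a ∈ Z, ∀ b ∈ Z, B a b = 0) ∧
        finrank F Z = finrank F Z' := by
    intro Z' hZ'
    have hle : finrank F Z' ≤ e := by
      have hBnd : LinearMap.BilinForm.Nondegenerate (stdSymp e F) := by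
        refine ⟨stdSymp_nondeg, ?_⟩
        intro y hy
        apply stdSymp_nondeg
        intro x
        rw [alt_swap (stdSymp e F) stdSymp_alt, hy x, neg_zero]
      have := two_mul_finrank_ti_le (stdSymp e F) hBnd Z' hZ'
      rw [hC'] at this
      omega
    exact exists_ti_odd_sub h2 B hsymm (fixS X) (nondeg_fix B X hiso r hr0 hX hnd) e he _ hle
  obtain ⟨W, hWinv, hWti, hWdim⟩ := transfer (stdSymp e F) B X hiso r hodd hr0 hX hwitt
    (W₀.map Ψ.toLinearMap) hW'inv hW'ti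
  refine ⟨W, ?_, hWti, hWinv⟩
  rw [hWdim, LinearEquiv.finrank_map_eq, hW₀dim]

end transferOS


section transferSO

variable {F : Type*} [Field F] [Fintype F] {V : Type*} [AddCommGroup V] [Module F V]
  [FiniteDimensional F V]

theorem dot_nondeg {n : ℕ} (c : Fin n → F) (h : ∀ c', dotProductBilin F F c c' = 0) : c = 0 := by
  classical
  funext i
  have := h (Pi.single i 1)
  simpa [dotProductBilin_apply_apply] using this

theorem card_ne_two_of (h2 : (2 : F) ≠ 0) : Fintype.card F ≠ 2 := by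
  intro h
  apply h2
  have := Nat.cast_card_eq_zero F
  rw [h] at this
  exact_mod_cast this

/-- from the symplectic side to the orthogonal side -/
theorem symp_to_orth (p : ℕ) [Fact p.Prime] [CharP F p] (r : ℕ) [hr : Fact r.Prime]
    (hr2 : r ≠ 2) (hrp : r ≠ p) (h2 : (2 : F) ≠ 0)
    (A : V →ₗ[F] V →ₗ[F] F) (halt : ∀ x, A x x = 0)
    (hnd : ∀ x, (∀ y, A x y = 0) → x = 0) (d : ℕ) (hd : 1 ≤ d) (hV : finrank F V = 2 * d)
    (Y : V →ₗ[F] V) (hiso : ∀ u v, A (Y u) (Y v) = A u v) (hY : Y ^ r = 1) (hY1 : Y ≠ 1) (m : ℕ)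
    (horth : ∀ x : GL (Unit ⊕ (Fin d ⊕ Fin d)) F,
      x ∈ Cfsg.Geo.omegaGL (Cfsg.quadFormOdd d F) → orderOf x = r →
      ∃ W : Submodule F (Unit ⊕ (Fin d ⊕ Fin d) → F), finrank F W = m ∧
        (∀ w ∈ W, Cfsg.quadFormOdd d F w = 0) ∧
        W.map (Matrix.toLin' (x : Matrix (Unit ⊕ (Fin d ⊕ Fin d)) (Unit ⊕ (Fin d ⊕ Fin d)) F)) ≤ W) :
    ∃ W : Submodule F V, finrank F W = m ∧ (∀ u ∈ W, ∀ v ∈ W, A u v = 0) ∧ ∀ w ∈ W, Y w ∈ W := by
  classical
  have hr0 : (r : F) ≠ 0 := PSpJ.ne_zero_of_ne' p r hr.out hrp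
  have hodd : Odd r := hr.out.odd_of_ne_two hr2
  have hr1 : 1 ≤ r := hr.out.one_le
  have hskew : ∀ u v, A u v = - A v u := alt_swap A halt
  have hcompl := isCompl_fixS_movS Y r hr0 hY
  have hdimsum : finrank F (fixS Y) + finrank F (movS Y) = 2 * d := by
    rw [Submodule.finrank_add_eq_of_isCompl hcompl, hV]
  have hCnd : PSpI.NondegOn A (fixS Y) := nondeg_fix A Y hiso r hr0 hY hnd
  obtain ⟨e, he⟩ := PSpJ.even_finrank_of_nondegOn halt (fixS Y) hCnd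
  -- the model
  have hBCs : ∀ c c' : Fin (2 * e + 1) → F, dotProductBilin F F c c' = dotProductBilin F F c' c := by
    intro c c'
    rw [dotProductBilin_apply_apply, dotProductBilin_apply_apply, dotProduct_comm]
  have hB's := cForm_symm (dotProductBilin F F : (Fin (2 * e + 1) → F) →ₗ[F] _ →ₗ[F] F) A Y hiso r hr1
    hY hskew hBCs
  have hB'nd := cForm_nondeg (dotProductBilin F F : (Fin (2 * e + 1) → F) →ₗ[F] _ →ₗ[F] F) A Y hiso
    r hodd hr0 hY hnd dot_nondeg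
  obtain ⟨B', hB'⟩ : ∃ B' : LinearMap.BilinForm F ((Fin (2 * e + 1) → F) × ↥(movS Y)),
      B' = cForm (dotProductBilin F F : (Fin (2 * e + 1) → F) →ₗ[F] _ →ₗ[F] F) A Y r := ⟨_, rfl⟩
  have hS' : B'.IsSymm := ⟨fun a b => by rw [hB']; exact hB's a b⟩
  have hN' : B'.Nondegenerate := by
    refine ⟨by rw [hB']; exact hB'nd, ?_⟩
    intro y hy
    rw [hB'] at hy
    apply hB'nd
    intro x
    rw [hB's]
    exact hy x
  have hC' : finrank F (Fin (2 * e + 1) → F) = 2 * e + 1 := by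
    rw [Module.finrank_pi, Fintype.card_fin]
  have hV' : finrank F ((Fin (2 * e + 1) → F) × ↥(movS Y)) = 2 * d + 1 := by
    rw [Module.finrank_prod, hC']
    omega
  obtain ⟨Φ, ν, hν, hΦ⟩ := exists_similar_odd h2 B' (B0 F d) hS' hN' (B0_symm F d)
    (B0_nondeg F h2 d) d hV' (finrank_std F d)
  obtain ⟨X', hX'⟩ : ∃ X' : ((Fin (2 * e + 1) → F) × ↥(movS Y)) →ₗ[F] _,
      X' = cX (Fin (2 * e + 1) → F) Y := ⟨_, rfl⟩
  have hX'r : X' ^ r = 1 := by rw [hX']; exact cX_pow_eq_one _ Y r hY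
  have hX'iso : ∀ a b, B' (X' a) (X' b) = B' a b := by
    intro a b
    rw [hB', hX']
    exact cForm_iso _ A Y hiso r a b
  -- the conjugated map
  obtain ⟨L, hL⟩ : ∃ L : (Unit ⊕ (Fin d ⊕ Fin d) → F) →ₗ[F] (Unit ⊕ (Fin d ⊕ Fin d) → F),
      L = Φ.toLinearMap ∘ₗ X' ∘ₗ Φ.symm.toLinearMap := ⟨_, rfl⟩
  have hLapp : ∀ u, L u = Φ (X' (Φ.symm u)) := by
    intro u
    rw [hL]
    rfl
  have hLpow : ∀ (n : ℕ) u, (L ^ n) u = Φ ((X' ^ n) (Φ.symm u)) := by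
    intro n
    induction n with
    | zero => intro u; simp
    | succ n ih =>
      intro u
      rw [pow_succ', Module.End.mul_apply, ih, hLapp, LinearEquiv.symm_apply_apply, pow_succ',
        Module.End.mul_apply]
  have hLr : L ^ r = 1 := by
    apply LinearMap.ext
    intro u
    rw [hLpow, hX'r]
    simp
  have hLL' : L * L ^ (r - 1) = 1 := mul_pow_pred L r hr1 hLr
  have hL'L : L ^ (r - 1) * L = 1 := by
    rw [← pow_succ]
    have : r - 1 + 1 = r := by omega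
    rw [this, hLr]
  obtain ⟨x₀, hx₀⟩ : ∃ x₀ : GL (Unit ⊕ (Fin d ⊕ Fin d)) F,
      (x₀ : Matrix (Unit ⊕ (Fin d ⊕ Fin d)) (Unit ⊕ (Fin d ⊕ Fin d)) F) = LinearMap.toMatrix' L := by
    refine ⟨⟨LinearMap.toMatrix' L, LinearMap.toMatrix' (L ^ (r - 1)), ?_, ?_⟩, rfl⟩
    · rw [← LinearMap.toMatrix'_mul, hLL', LinearMap.toMatrix'_one]
    · rw [← LinearMap.toMatrix'_mul, hL'L, LinearMap.toMatrix'_one]
  have hx₀L : Matrix.toLin' (x₀ : Matrix (Unit ⊕ (Fin d ⊕ Fin d)) (Unit ⊕ (Fin d ⊕ Fin d)) F) = L := by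
    rw [hx₀, Matrix.toLin'_toMatrix']
  have hx₀mul : ∀ u, (x₀ : Matrix (Unit ⊕ (Fin d ⊕ Fin d)) (Unit ⊕ (Fin d ⊕ Fin d)) F) *ᵥ u = L u := by
    intro u
    rw [← hx₀L, Matrix.toLin'_apply]
  -- `L` is an isometry
  have hLiso : ∀ u, Cfsg.quadFormOdd d F (L u) = Cfsg.quadFormOdd d F u := by
    intro u
    have h1 : B0 F d (L u) (L u) = B0 F d u u := by
      rw [hLapp, hΦ, hX'iso, ← hΦ, LinearEquiv.apply_symm_apply]
    rw [B0_self, B0_self] at h1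
    exact mul_left_cancel₀ h2 h1
  have hx₀iso : x₀ ∈ Cfsg.isometryGroup F (Cfsg.quadFormOdd d F) := by
    intro u _
    show Cfsg.quadFormOdd d F ((x₀ : Matrix (Unit ⊕ (Fin d ⊕ Fin d)) (Unit ⊕ (Fin d ⊕ Fin d)) F) *ᵥ u) = _
    rw [hx₀mul, hLiso]
  have hx₀r : x₀ ^ r = 1 := by
    apply Units.ext
    rw [Units.val_pow_eq_pow_val, Units.val_one]
    apply Matrix.toLin'.injective
    rw [Matrix.toLin'_pow, hx₀L, hLr, Matrix.toLin'_one]
    rfl
  have hx₀1 : x₀ ≠ 1 := by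
    intro h
    apply hY1
    apply eq_one_of_movS_eq_bot
    rw [eq_bot_iff]
    intro u hu
    have h1 : L = 1 := by
      rw [← hx₀L, h, Units.val_one, Matrix.toLin'_one]
      rfl
    have h3 : X' ((0 : Fin (2 * e + 1) → F), (⟨u, hu⟩ : ↥(movS Y))) =
        ((0 : Fin (2 * e + 1) → F), (⟨u, hu⟩ : ↥(movS Y))) := by
      have := hLapp (Φ ((0 : Fin (2 * e + 1) → F), (⟨u, hu⟩ : ↥(movS Y))))
      rw [h1, Module.End.one_apply, LinearEquiv.symm_apply_apply] at this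
      exact (Φ.injective this).symm
    rw [hX'] at h3
    have h4 : Y u = u :=
      congrArg (fun a : (Fin (2 * e + 1) → F) × ↥(movS Y) => ((a.2 : ↥(movS Y)) : V)) h3
    have h5 : u ∈ fixS Y ⊓ movS Y := ⟨mem_fixS.mpr h4, hu⟩
    rw [fixS_inf_movS Y r hr0 hY] at h5
    exact h5
  have hord : orderOf x₀ = r := orderOf_eq_prime hx₀r hx₀1
  -- `x₀` lies in `Ω`
  have hQ : (⇑(Cfsg.Agent.Lib.Helper6.QOdd F d) : (Unit ⊕ (Fin d ⊕ Fin d) → F) → F) =
      Cfsg.quadFormOdd d F := funext (Cfsg.Agent.Lib.Helper6.QOdd_apply F d)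
  have hΩ : x₀ ∈ Cfsg.Geo.omegaGL (Cfsg.quadFormOdd d F) := by
    rw [← hQ] at hx₀iso ⊢
    have hcard : 2 ≤ Fintype.card (Unit ⊕ (Fin d ⊕ Fin d)) := by
      rw [Fintype.card_sum, Fintype.card_sum, Fintype.card_fin, Fintype.card_unit]
      omega
    have hmem := Cfsg.Agent.Lib.Helper6.mem_Omega_of_pow_odd' (Cfsg.Agent.Lib.Helper6.QOdd F d)
      (Cfsg.Agent.Lib.Helper6.nondegenerate_QOdd F h2 d) hcard (Or.inl (card_ne_two_of h2))
      ⟨x₀, hx₀iso⟩ r hodd (by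
        apply Subtype.ext
        rw [SubgroupClass.coe_pow]
        exact hx₀r)
    unfold Cfsg.Geo.omegaGL
    exact Subgroup.mem_map.mpr ⟨⟨x₀, hx₀iso⟩, hmem, rfl⟩
  obtain ⟨W₀, hW₀dim, hW₀ts, hW₀inv⟩ := horth x₀ hΩ hord
  -- pull back
  have hW₀ti : ∀ u ∈ W₀, ∀ v ∈ W₀, B0 F d u v = 0 := by
    intro u hu v hv
    unfold B0
    rw [QuadraticMap.polarBilin_apply_apply]
    unfold QuadraticMap.polar
    rw [Cfsg.Agent.Lib.Helper6.QOdd_apply, Cfsg.Agent.Lib.Helper6.QOdd_apply,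
      Cfsg.Agent.Lib.Helper6.QOdd_apply, hW₀ts _ (W₀.add_mem hu hv), hW₀ts u hu, hW₀ts v hv]
    simp
  have hW'inv : ∀ w ∈ W₀.map Φ.symm.toLinearMap,
      cX (Fin (2 * e + 1) → F) Y w ∈ W₀.map Φ.symm.toLinearMap := by
    rintro _ ⟨u, hu, rfl⟩
    refine ⟨L u, ?_, ?_⟩
    · apply hW₀inv
      refine ⟨u, hu, ?_⟩
      rw [hx₀L]
    · rw [hLapp, LinearEquiv.coe_coe, LinearEquiv.symm_apply_apply, hX']
  have hW'ti : ∀ a ∈ W₀.map Φ.symm.toLinearMap, ∀ b ∈ W₀.map Φ.symm.toLinearMap,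
      cForm (dotProductBilin F F : (Fin (2 * e + 1) → F) →ₗ[F] _ →ₗ[F] F) A Y r a b = 0 := by
    rintro _ ⟨u, hu, rfl⟩ _ ⟨v, hv, rfl⟩
    have h1 := hΦ (Φ.symm u) (Φ.symm v)
    rw [LinearEquiv.apply_symm_apply, LinearEquiv.apply_symm_apply, hW₀ti u hu v hv, hB'] at h1
    exact (mul_eq_zero.mp h1.symm).resolve_left hν
  have hwitt : ∀ Z' : Submodule F (Fin (2 * e + 1) → F),
      (∀ a ∈ Z', ∀ b ∈ Z', (dotProductBilin F F : (Fin (2 * e + 1) → F) →ₗ[F] _ →ₗ[F] F) a b = 0) →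
      ∃ Z : Submodule F V, Z ≤ fixS Y ∧ (∀ a ∈ Z, ∀ b ∈ Z, A a b = 0) ∧
        finrank F Z = finrank F Z' := by
    intro Z' hZ'
    have hle : finrank F Z' ≤ e := by
      have hBnd : LinearMap.BilinForm.Nondegenerate
          (dotProductBilin F F : (Fin (2 * e + 1) → F) →ₗ[F] _ →ₗ[F] F) := by
        refine ⟨dot_nondeg, ?_⟩
        intro y hy
        apply dot_nondeg
        intro x
        rw [hBCs]
        exact hy x
      have := two_mul_finrank_ti_le _ hBnd Z' hZ'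
      rw [hC'] at this
      omega
    exact PSpK.exists_ti_le halt (fixS Y) hCnd _ (by omega)
  obtain ⟨W, hWinv, hWti, hWdim⟩ := transfer
    (dotProductBilin F F : (Fin (2 * e + 1) → F) →ₗ[F] _ →ₗ[F] F) A Y hiso r hodd hr0 hY hwitt
    (W₀.map Φ.symm.toLinearMap) hW'inv hW'ti
  refine ⟨W, ?_, hWti, hWinv⟩
  rw [hWdim, LinearEquiv.finrank_map_eq, hW₀dim]

end transferSO

end Cfsg.Agent.Lib.Helper10.OrthTS
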