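import Mathlib
import Cfsg.Agent.Lib.Helper10.OrthTS4
import Cfsg.Agent.Lib.Helper6.Spinor3
import Cfsg.Agent.Lib.Helper6.Lagrangian

/-!
# Involutions of an orthogonal group in odd characteristic and totally singular subspaces
-/

set_option autoImplicit false
open scoped MatrixGroups

namespace Cfsg.Agent.Lib.Helper10.OrthTS

open Module Submodule Matrix Cfsg.Agent.Lib.Helper6 Cfsg.Agent.Lib.Helper15

section refl

variable {F : Type*} [Field F] {ι : Type} [Fintype ι] [DecidableEq ι]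
  (Q : QuadraticForm F (ι → F))

theorem prod_refl_fix (l : List (ι → F)) (u : ι → F)
    (hu : ∀ v ∈ l, QuadraticMap.polar ⇑Q v u = 0) :
    (l.map (fun v => Cfsg.reflectionMatrix ⇑Q v)).prod *ᵥ u = u := by
  induction l with
  | nil => simp
  | cons a t ih =>
    rw [List.map_cons, List.prod_cons, ← mulVec_mulVec,
      ih (fun v hv => hu v (List.mem_cons_of_mem _ hv)), reflectionMatrix_mulVec,
      hu a List.mem_cons_self, mul_zero, zero_smul, sub_zero]

theorem refl_self (a : ι → F) (ha : Q a ≠ 0) : Cfsg.reflectionMatrix ⇑Q a *ᵥ a = -a := by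
  rw [reflectionMatrix_mulVec, QuadraticMap.polar_self, two_smul, ← two_mul]
  have : (Q a)⁻¹ * (2 * Q a) = 2 := by
    rw [mul_comm 2, ← mul_assoc, inv_mul_cancel₀ ha, one_mul]
  rw [this]
  module

theorem prod_refl_neg (l : List (ι → F)) (hl : ∀ v ∈ l, Q v ≠ 0)
    (hpw : l.Pairwise (fun a b => QuadraticMap.polar ⇑Q a b = 0)) (u : ι → F) (hu : u ∈ l) :
    (l.map (fun v => Cfsg.reflectionMatrix ⇑Q v)).prod *ᵥ u = -u := by
  induction l with
  | nil => simp at hu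
  | cons a t ih =>
    rw [List.pairwise_cons] at hpw
    rw [List.map_cons, List.prod_cons, ← mulVec_mulVec]
    by_cases hua : u = a
    · subst hua
      rw [prod_refl_fix Q t u (fun v hv => by rw [QuadraticMap.polar_comm]; exact hpw.1 v hv),
        refl_self Q u (hl u List.mem_cons_self)]
    · have hut : u ∈ t := (List.mem_cons.mp hu).resolve_left hua
      rw [ih (fun v hv => hl v (List.mem_cons_of_mem _ hv)) hpw.2 hut, mulVec_neg,
        reflectionMatrix_mulVec, hpw.1 u hut, mul_zero, zero_smul, sub_zero]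

end refl

section invol

variable {F : Type*} [Field F] [Fintype F] {ι : Type} [Fintype ι] [DecidableEq ι]
  (Q : QuadraticForm F (ι → F))

/-- **Structure of an involution**: it is the product of the reflections in an orthogonal basis of
its moved space; this computes its spinor norm. -/
theorem involution_struct (h2 : (2 : F) ≠ 0) (hQ : (QuadraticMap.polarBilin Q).Nondegenerate)
    (hcard : 2 ≤ Fintype.card ι) (g : ↥(Cfsg.isometryGroup F ⇑Q))
    (X : (ι → F) →ₗ[F] (ι → F)) (hX : X = Matrix.toLin' ((g.1 : GL ι F) : Matrix ι ι F))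
    (hX2 : X ^ 2 = 1) :
    ∃ v : Basis (Fin (finrank F ↥(movS X))) F ↥(movS X),
      (∀ i j, i ≠ j → QuadraticMap.polarBilin Q (v i : ι → F) (v j : ι → F) = 0) ∧
      (∀ i, Q (v i : ι → F) ≠ 0) ∧
      (g ∈ Cfsg.Omega F ⇑Q ↔ (Even (finrank F ↥(movS X)) ∧
        IsSquare (∏ i, Q (v i : ι → F)))) := by
  classical
  obtain ⟨B, hB⟩ : ∃ B : (ι → F) →ₗ[F] (ι → F) →ₗ[F] F, B = QuadraticMap.polarBilin Q := ⟨_, rfl⟩
  have hBapp : ∀ u w, B u w = QuadraticMap.polar ⇑Q u w := by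
    intro u w
    rw [hB]
    rfl
  have hsymm : ∀ u w, B u w = B w u := by
    intro u w
    rw [hBapp, hBapp, QuadraticMap.polar_comm]
  have hnd : ∀ x, (∀ y, B x y = 0) → x = 0 := by
    rw [hB]
    exact hQ.1
  have hQiso : ∀ u, Q (X u) = Q u := by
    intro u
    rw [hX, Matrix.toLin'_apply]
    exact g.2 u u
  have hiso : ∀ u w, B (X u) (X w) = B u w := by
    intro u w
    rw [hBapp, hBapp]
    unfold QuadraticMap.polar
    rw [← map_add, hQiso, hQiso, hQiso]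
  have h20 : ((2 : ℕ) : F) ≠ 0 := by exact_mod_cast h2
  have hMneg : ∀ u ∈ movS X, X u = -u := by
    intro u hu
    obtain ⟨w, rfl⟩ := mem_movS.mp hu
    have : X (X w) = w := by
      rw [← Module.End.mul_apply, ← pow_two, hX2, Module.End.one_apply]
    rw [map_sub, this]
    abel
  -- an orthogonal basis of the moved space
  have hSM : (LinearMap.BilinForm.restrict B (movS X)).IsSymm := ⟨fun x y => hsymm _ _⟩
  have hNM : (LinearMap.BilinForm.restrict B (movS X)).Nondegenerate := by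
    have hl : ∀ x : ↥(movS X),
        (∀ y : ↥(movS X), (LinearMap.BilinForm.restrict B (movS X)) x y = 0) → x = 0 := by
      intro x hx
      apply Subtype.ext
      exact nondeg_mov B X hiso 2 h20 hX2 hnd x x.2 (fun w' hw' => hx ⟨w', hw'⟩)
    refine ⟨hl, ?_⟩
    intro y hy
    apply hl
    intro x
    rw [hSM.eq]
    exact hy x
  haveI : Invertible (2 : F) := invertibleOfNonzero h2
  obtain ⟨v, hv⟩ := LinearMap.BilinForm.exists_orthogonal_basis
    (B := LinearMap.BilinForm.restrict B (movS X)) (LinearMap.BilinForm.isSymm_iff.1 hSM)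
  have hvo : ∀ i j, i ≠ j → B (v i : ι → F) (v j : ι → F) = 0 := fun i j hij => hv hij
  have hva : ∀ i, B (v i : ι → F) (v i : ι → F) ≠ 0 := fun i =>
    LinearMap.BilinForm.iIsOrtho.not_isOrtho_basis_self_of_nondegenerate hv hNM i
  have hvQ : ∀ i, Q (v i : ι → F) ≠ 0 := by
    intro i h0
    apply hva i
    rw [hBapp, QuadraticMap.polar_self, h0, smul_zero]
  refine ⟨v, fun i j hij => by rw [← hB]; exact hvo i j hij, hvQ, ?_⟩
  -- the list of reflections
  obtain ⟨vs, hvs⟩ : ∃ vs : List (ι → F), vs = List.ofFn (fun i => (v i : ι → F)) := ⟨_, rfl⟩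
  have hvsQ : ∀ w ∈ vs, Q w ≠ 0 := by
    intro w hw
    rw [hvs, List.mem_ofFn] at hw
    obtain ⟨i, rfl⟩ := hw
    exact hvQ i
  have hvsP : vs.Pairwise (fun a b => QuadraticMap.polar ⇑Q a b = 0) := by
    rw [hvs, List.pairwise_ofFn]
    intro i j hij
    rw [← hBapp]
    exact hvo i j hij.ne
  have hmat : ((g.1 : GL ι F) : Matrix ι ι F) =
      (vs.map (fun w => Cfsg.reflectionMatrix ⇑Q w)).prod := by
    apply Matrix.toLin'.injective
    rw [← hX]
    apply LinearMap.ext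
    intro u
    obtain ⟨c, hc, m, hm, rfl⟩ :=
      exists_decomp X 2 h20 hX2 ⊤ (fun _ _ => mem_top) (mem_top : u ∈ ⊤)
    rw [map_add, map_add]
    congr 1
    · rw [mem_fixS.mp hc.2, Matrix.toLin'_apply]
      symm
      apply prod_refl_fix
      intro w hw
      rw [hvs, List.mem_ofFn] at hw
      obtain ⟨i, rfl⟩ := hw
      rw [← hBapp]
      exact (orth_fix_mov B X hiso hc.2 (v i).2).2
    · have key : X ∘ₗ (movS X).subtype =
          (Matrix.toLin' (vs.map (fun w => Cfsg.reflectionMatrix ⇑Q w)).prod) ∘ₗ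
            (movS X).subtype := by
        apply v.ext
        intro i
        rw [LinearMap.comp_apply, LinearMap.comp_apply, Submodule.subtype_apply,
          hMneg _ (v i).2, Matrix.toLin'_apply]
        symm
        apply prod_refl_neg Q vs hvsQ hvsP
        rw [hvs, List.mem_ofFn]
        exact ⟨i, rfl⟩
      have := congrArg (fun f : ↥(movS X) →ₗ[F] (ι → F) => f ⟨m, hm.2⟩) key
      exact this
  rw [mem_Omega_iff_list' Q h2 hQ hcard g vs hvsQ hmat]
  have hlen : vs.length = finrank F ↥(movS X) := by rw [hvs, List.length_ofFn]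
  have hprod : (vs.map (fun w => Q w)).prod = ∏ i, Q (v i : ι → F) := by
    rw [hvs, List.map_ofFn, List.prod_ofFn]
    rfl
  rw [hlen, hprod]

end invol


section parts

variable {F V : Type*} [Field F] [AddCommGroup V] [Module F V] [FiniteDimensional F V]

/-- the orthogonal complement of an anisotropic vector inside a nondegenerate subspace -/
theorem nondeg_hyperplane (B : V →ₗ[F] V →ₗ[F] F) (hsymm : ∀ u v, B u v = B v u)
    (S : Submodule F V) (hSn : ∀ u ∈ S, (∀ v ∈ S, B u v = 0) → u = 0) (s : V) (hs : s ∈ S)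
    (hss : B s s ≠ 0) :
    (∀ u ∈ S ⊓ LinearMap.ker (B s), (∀ v ∈ S ⊓ LinearMap.ker (B s), B u v = 0) → u = 0) ∧
      finrank F ↥(S ⊓ LinearMap.ker (B s)) + 1 = finrank F S := by
  constructor
  · intro u hu h
    apply hSn u hu.1
    intro v hv
    have hv' : v - (B s v / B s s) • s ∈ S ⊓ LinearMap.ker (B s) := by
      refine ⟨S.sub_mem hv (S.smul_mem _ hs), LinearMap.mem_ker.mpr ?_⟩
      rw [map_sub, map_smul, smul_eq_mul, div_mul_cancel₀ _ hss, sub_self]
    have h1 := h _ hv'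
    have h3 : B u s = 0 := by
      rw [hsymm]
      exact LinearMap.mem_ker.mp hu.2
    rw [map_sub, map_smul, h3, smul_zero, sub_zero] at h1
    exact h1
  · -- the functional `B s` on `S`
    obtain ⟨f, hf⟩ : ∃ f : ↥S →ₗ[F] F, f = (B s) ∘ₗ S.subtype := ⟨_, rfl⟩
    have hrange : LinearMap.range f = ⊤ := by
      rw [eq_top_iff]
      intro c _
      refine ⟨(c / B s s) • ⟨s, hs⟩, ?_⟩
      rw [map_smul, hf, LinearMap.comp_apply, Submodule.subtype_apply, smul_eq_mul,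
        div_mul_cancel₀ _ hss]
    have h1 := LinearMap.finrank_range_add_finrank_ker f
    rw [hrange, finrank_top, Module.finrank_self] at h1
    have h3 : finrank F ↥(S ⊓ LinearMap.ker (B s)) = finrank F ↥(LinearMap.ker f) := by
      have : S ⊓ LinearMap.ker (B s) = (LinearMap.ker f).map S.subtype := by
        ext u
        constructor
        · rintro ⟨hu1, hu2⟩
          refine ⟨⟨u, hu1⟩, LinearMap.mem_ker.mpr ?_, rfl⟩
          rw [hf]
          exact LinearMap.mem_ker.mp hu2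
        · rintro ⟨a, ha, rfl⟩
          refine ⟨a.2, LinearMap.mem_ker.mpr ?_⟩
          have ha' := LinearMap.mem_ker.mp ha
          rw [hf] at ha'
          exact ha'
      rw [this]
      exact (Submodule.equivSubtypeMap S (LinearMap.ker f)).symm.finrank_eq
    rw [h3]
    omega

variable [Fintype F]

/-- a nondegenerate even-dimensional subspace with an anisotropic vector has Witt index at least
half its dimension minus one -/
theorem exists_ti_even_pred (h2 : (2 : F) ≠ 0) (B : V →ₗ[F] V →ₗ[F] F)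
    (hsymm : ∀ u v, B u v = B v u) (S : Submodule F V)
    (hSn : ∀ u ∈ S, (∀ v ∈ S, B u v = 0) → u = 0) (s : V) (hs : s ∈ S) (hss : B s s ≠ 0)
    (k : ℕ) (hk : 1 ≤ k) (hS : finrank F S = 2 * k) :
    ∃ Z : Submodule F V, Z ≤ S ∧ (∀ a ∈ Z, ∀ b ∈ Z, B a b = 0) ∧ finrank F Z = k - 1 := by
  obtain ⟨hNn, hNdim⟩ := nondeg_hyperplane B hsymm S hSn s hs hss
  obtain ⟨Z, hZN, hZti, hZdim⟩ := exists_ti_odd_sub h2 B hsymm _ hNn (k - 1) (by omega) (k - 1)
    le_rfl
  exact ⟨Z, hZN.trans inf_le_left, hZti, hZdim⟩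

/-- a nondegenerate even-dimensional subspace with an orthogonal basis of square discriminant
(up to the sign) has a Lagrangian -/
theorem exists_ti_even_of_disc (h2 : (2 : F) ≠ 0) (B : V →ₗ[F] V →ₗ[F] F)
    (hsymm : ∀ u v, B u v = B v u) (S : Submodule F V)
    (hSn : ∀ u ∈ S, (∀ v ∈ S, B u v = 0) → u = 0) (k : ℕ) (hS : finrank F S = 2 * k)
    {n : ℕ} (v : Basis (Fin n) F ↥S) (hvo : ∀ i j, i ≠ j → B (v i : V) (v j : V) = 0)
    (hsq : IsSquare ((-1 : F) ^ k * ∏ i, B (v i : V) (v i : V))) :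
    ∃ Z : Submodule F V, Z ≤ S ∧ (∀ a ∈ Z, ∀ b ∈ Z, B a b = 0) ∧ finrank F Z = k := by
  classical
  have hSy : (LinearMap.BilinForm.restrict B S).IsSymm := ⟨fun x y => hsymm _ _⟩
  have hN : (LinearMap.BilinForm.restrict B S).Nondegenerate := by
    have hl : ∀ x : ↥S, (∀ y : ↥S, (LinearMap.BilinForm.restrict B S) x y = 0) → x = 0 := by
      intro x hx
      apply Subtype.ext
      exact hSn x x.2 (fun w' hw' => hx ⟨w', hw'⟩)
    refine ⟨hl, ?_⟩
    intro y hy
    apply hl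
    intro x
    rw [hSy.eq]
    exact hy x
  have hdet : (LinearMap.BilinForm.toMatrix v (LinearMap.BilinForm.restrict B S)).det =
      ∏ i, B (v i : V) (v i : V) := by
    have h : LinearMap.BilinForm.toMatrix v (LinearMap.BilinForm.restrict B S) =
        Matrix.diagonal (fun i => B (v i : V) (v i : V)) := by
      ext i j
      rw [LinearMap.BilinForm.toMatrix_apply]
      by_cases hij : i = j
      · subst hij
        rw [Matrix.diagonal_apply_eq]
        rfl
      · rw [Matrix.diagonal_apply_ne _ hij]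
        exact hvo i j hij
    rw [h, Matrix.det_diagonal]
  obtain ⟨Z, hZdim, hZti⟩ := (hasTI_iff_isSquare h2 (LinearMap.BilinForm.restrict B S) hSy hN k hS
    v).mpr (by rw [hdet]; exact hsq)
  refine ⟨Z.map S.subtype, Submodule.map_subtype_le S Z, ?_, ?_⟩
  · rintro _ ⟨a, ha, rfl⟩ _ ⟨b, hb, rfl⟩
    exact hZti a ha b hb
  · rw [← hZdim]
    exact (Submodule.equivSubtypeMap S Z).symm.finrank_eq

omit [Fintype F] in
/-- assembling an invariant totally isotropic subspace for an involution -/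
theorem exists_invt_ti_of_parts (h2 : (2 : F) ≠ 0) (B : V →ₗ[F] V →ₗ[F] F) (X : V →ₗ[F] V)
    (hiso : ∀ u v, B (X u) (X v) = B u v) (hX2 : X ^ 2 = 1) (a b : ℕ)
    (hC : ∃ Z : Submodule F V, Z ≤ fixS X ∧ (∀ u ∈ Z, ∀ v ∈ Z, B u v = 0) ∧ finrank F Z = a)
    (hM : ∃ Z : Submodule F V, Z ≤ movS X ∧ (∀ u ∈ Z, ∀ v ∈ Z, B u v = 0) ∧ finrank F Z = b)
    (m : ℕ) (hm : m ≤ a + b) :
    ∃ W : Submodule F V, finrank F W = m ∧ (∀ u ∈ W, ∀ v ∈ W, B u v = 0) ∧ ∀ w ∈ W, X w ∈ W := by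
  have h20 : ((2 : ℕ) : F) ≠ 0 := by exact_mod_cast h2
  obtain ⟨ZC, hZC, hZCti, hZCdim⟩ := hC
  obtain ⟨ZM, hZM, hZMti, hZMdim⟩ := hM
  obtain ⟨ZC', hZC', hZC'dim⟩ := PSub.exists_le_finrank_eq ZC (min m a) (by rw [hZCdim]; omega)
  obtain ⟨ZM', hZM', hZM'dim⟩ := PSub.exists_le_finrank_eq ZM (m - min m a)
    (by rw [hZMdim]; omega)
  have hMneg : ∀ u ∈ movS X, X u = -u := by
    intro u hu
    obtain ⟨w, rfl⟩ := mem_movS.mp hu
    have : X (X w) = w := by
      rw [← Module.End.mul_apply, ← pow_two, hX2, Module.End.one_apply]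
    rw [map_sub, this]
    abel
  refine ⟨ZC' ⊔ ZM', ?_, ?_, ?_⟩
  · have hdis : ZC' ⊓ ZM' = ⊥ := by
      rw [eq_bot_iff, ← fixS_inf_movS X 2 h20 hX2]
      exact inf_le_inf (hZC'.trans hZC) (hZM'.trans hZM)
    have := Submodule.finrank_sup_add_finrank_inf_eq ZC' ZM'
    rw [hdis, finrank_bot, add_zero, hZC'dim, hZM'dim] at this
    omega
  · intro u hu w hw
    obtain ⟨c, hc, n, hn, rfl⟩ := Submodule.mem_sup.mp hu
    obtain ⟨c', hc', n', hn', rfl⟩ := Submodule.mem_sup.mp hw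
    simp only [map_add, LinearMap.add_apply, hZCti c (hZC' hc) c' (hZC' hc'),
      hZMti n (hZM' hn) n' (hZM' hn'),
      (orth_fix_mov B X hiso (hZC (hZC' hc)) (hZM (hZM' hn'))).1,
      (orth_fix_mov B X hiso (hZC (hZC' hc')) (hZM (hZM' hn))).2, add_zero]
  · intro w hw
    obtain ⟨c, hc, n, hn, rfl⟩ := Submodule.mem_sup.mp hw
    rw [map_add, mem_fixS.mp (hZC (hZC' hc)), hMneg n (hZM (hZM' hn))]
    exact Submodule.add_mem_sup hc (ZM'.neg_mem hn)

end parts


section two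

variable {F : Type*} [Field F] [Fintype F]

theorem QOdd_coe (d : ℕ) :
    (⇑(QOdd F d) : (Unit ⊕ (Fin d ⊕ Fin d) → F) → F) = Cfsg.quadFormOdd d F :=
  funext (QOdd_apply F d)

theorem card_idx (d : ℕ) : Fintype.card (Unit ⊕ (Fin d ⊕ Fin d)) = 2 * d + 1 := by
  rw [Fintype.card_sum, Fintype.card_sum, Fintype.card_fin, Fintype.card_unit]
  ring

/-- **Sufficiency for `r = 2`.** -/
theorem two_suff (h2 : (2 : F) ≠ 0) (d m : ℕ) (hd : 1 ≤ d) (hmd : m ≤ d)
    (hcrit : m < d ∨ Fintype.card F % 4 = 1)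
    (x : GL (Unit ⊕ (Fin d ⊕ Fin d)) F) (hx : x ∈ Cfsg.Geo.omegaGL (Cfsg.quadFormOdd d F))
    (hord : orderOf x = 2) :
    ∃ W : Submodule F (Unit ⊕ (Fin d ⊕ Fin d) → F), finrank F W = m ∧
      (∀ w ∈ W, Cfsg.quadFormOdd d F w = 0) ∧
      W.map (Matrix.toLin' (x : Matrix (Unit ⊕ (Fin d ⊕ Fin d)) (Unit ⊕ (Fin d ⊕ Fin d)) F)) ≤ W := by
  classical
  rw [← QOdd_coe] at hx
  unfold Cfsg.Geo.omegaGL at hx
  obtain ⟨g, hgΩ, hgx⟩ := Subgroup.mem_map.mp hx
  have hgx' : (g.1 : GL (Unit ⊕ (Fin d ⊕ Fin d)) F) = x := hgx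
  subst hgx'
  clear hgx
  obtain ⟨X, hX⟩ : ∃ X : (Unit ⊕ (Fin d ⊕ Fin d) → F) →ₗ[F] (Unit ⊕ (Fin d ⊕ Fin d) → F),
      X = Matrix.toLin' ((g.1 : GL (Unit ⊕ (Fin d ⊕ Fin d)) F) :
        Matrix (Unit ⊕ (Fin d ⊕ Fin d)) (Unit ⊕ (Fin d ⊕ Fin d)) F) := ⟨_, rfl⟩
  have hg2 : (g.1 : GL (Unit ⊕ (Fin d ⊕ Fin d)) F) ^ 2 = 1 := by
    have := pow_orderOf_eq_one (g.1 : GL (Unit ⊕ (Fin d ⊕ Fin d)) F)
    rw [show orderOf (g.1 : GL (Unit ⊕ (Fin d ⊕ Fin d)) F) = 2 from hord] at this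
    exact this
  have hX2 : X ^ 2 = 1 := by
    rw [hX, ← Matrix.toLin'_pow, ← Units.val_pow_eq_pow_val, hg2, Units.val_one, Matrix.toLin'_one]
    rfl
  have hcard : 2 ≤ Fintype.card (Unit ⊕ (Fin d ⊕ Fin d)) := by rw [card_idx]; omega
  obtain ⟨v, hvo, hvQ, hiff⟩ := involution_struct (QOdd F d) h2 (nondegenerate_QOdd F h2 d) hcard
    g X hX hX2
  obtain ⟨⟨k, hk⟩, hsq⟩ := hiff.mp hgΩ
  have h20 : ((2 : ℕ) : F) ≠ 0 := by exact_mod_cast h2
  have hsymm : ∀ u w, B0 F d u w = B0 F d w u := fun u w => (B0_symm F d).eq u w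
  have hnd : ∀ u, (∀ w, B0 F d u w = 0) → u = 0 := (B0_nondeg F h2 d).1
  have hQiso : ∀ u, Cfsg.quadFormOdd d F (X u) = Cfsg.quadFormOdd d F u := by
    intro u
    rw [hX, Matrix.toLin'_apply, ← QOdd_coe]
    exact g.2 u u
  have hiso : ∀ u w, B0 F d (X u) (X w) = B0 F d u w := by
    intro u w
    unfold B0
    rw [QuadraticMap.polarBilin_apply_apply, QuadraticMap.polarBilin_apply_apply]
    unfold QuadraticMap.polar
    rw [QOdd_coe, ← map_add, hQiso, hQiso, hQiso]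
  have hcompl := isCompl_fixS_movS X 2 h20 hX2
  have hdimsum : finrank F (fixS X) + finrank F (movS X) = 2 * d + 1 := by
    rw [Submodule.finrank_add_eq_of_isCompl hcompl, finrank_std]
  have hCn := nondeg_fix (B0 F d) X hiso 2 h20 hX2 hnd
  have hMn := nondeg_mov (B0 F d) X hiso 2 h20 hX2 hnd
  -- `x ≠ 1`, so the moved space is not zero
  have hk1 : 1 ≤ k := by
    by_contra hcon
    have hk0 : k = 0 := by omega
    rw [hk0] at hk
    have hM0 : movS X = ⊥ := Submodule.finrank_eq_zero.mp hk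
    have hX1 := eq_one_of_movS_eq_bot X hM0
    have hg1 : (g.1 : GL (Unit ⊕ (Fin d ⊕ Fin d)) F) = 1 := by
      apply Units.ext
      apply Matrix.toLin'.injective
      rw [← hX, hX1, Units.val_one, Matrix.toLin'_one]
      rfl
    rw [hg1, orderOf_one] at hord
    omega
  have hZC : ∃ Z : Submodule F (Unit ⊕ (Fin d ⊕ Fin d) → F), Z ≤ fixS X ∧
      (∀ u ∈ Z, ∀ w ∈ Z, B0 F d u w = 0) ∧ finrank F Z = d - k :=
    exists_ti_odd_sub h2 (B0 F d) hsymm (fixS X) hCn (d - k) (by omega) (d - k) le_rfl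
  have hself : ∀ u, B0 F d u u = 2 * QOdd F d u := by
    intro u
    rw [B0_self, QOdd_apply]
  have hWfin : ∀ W : Submodule F (Unit ⊕ (Fin d ⊕ Fin d) → F),
      (finrank F W = m ∧ (∀ u ∈ W, ∀ w ∈ W, B0 F d u w = 0) ∧ ∀ w ∈ W, X w ∈ W) →
      ∃ W : Submodule F (Unit ⊕ (Fin d ⊕ Fin d) → F), finrank F W = m ∧
        (∀ w ∈ W, Cfsg.quadFormOdd d F w = 0) ∧ W.map X ≤ W := by
    rintro W ⟨h1, h3, h4⟩
    refine ⟨W, h1, ?_, ?_⟩
    · intro w hw
      have := h3 w hw w hw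
      rw [B0_self] at this
      exact (mul_eq_zero.mp this).resolve_left h2
    · rintro _ ⟨w, hw, rfl⟩
      exact h4 w hw
  rw [← hX]
  rcases hcrit with hlt | hq1
  · -- `m < d`
    have hpos : 0 < finrank F ↥(movS X) := by omega
    have hZM : ∃ Z : Submodule F (Unit ⊕ (Fin d ⊕ Fin d) → F), Z ≤ movS X ∧
        (∀ u ∈ Z, ∀ w ∈ Z, B0 F d u w = 0) ∧ finrank F Z = k - 1 := by
      refine exists_ti_even_pred h2 (B0 F d) hsymm (movS X) hMn (v ⟨0, hpos⟩ : _) (v ⟨0, hpos⟩).2 ?_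
        k hk1 (by omega)
      rw [hself]
      exact mul_ne_zero h2 (hvQ _)
    obtain ⟨W, h1, h3, h4⟩ := exists_invt_ti_of_parts h2 (B0 F d) X hiso hX2 (d - k) (k - 1)
      hZC hZM m (by omega)
    exact hWfin W ⟨h1, h3, h4⟩
  · -- `q ≡ 1 mod 4`
    have hneg : IsSquare (-1 : F) := FiniteField.isSquare_neg_one_iff.mpr (by omega)
    have hprod : ∏ i, B0 F d (v i : Unit ⊕ (Fin d ⊕ Fin d) → F) (v i : Unit ⊕ (Fin d ⊕ Fin d) → F) =
        (2 : F) ^ (finrank F ↥(movS X)) * ∏ i, QOdd F d (v i : Unit ⊕ (Fin d ⊕ Fin d) → F) := by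
      rw [Finset.prod_congr rfl (fun i _ => hself _), Finset.prod_mul_distrib, Finset.prod_const,
        Finset.card_univ, Fintype.card_fin]
    have h2sq : IsSquare ((2 : F) ^ (finrank F ↥(movS X))) := by
      rw [hk]
      exact ⟨2 ^ k, pow_add 2 k k⟩
    have hZM : ∃ Z : Submodule F (Unit ⊕ (Fin d ⊕ Fin d) → F), Z ≤ movS X ∧
        (∀ u ∈ Z, ∀ w ∈ Z, B0 F d u w = 0) ∧ finrank F Z = k := by
      refine exists_ti_even_of_disc h2 (B0 F d) hsymm (movS X) hMn k (by omega) v hvo ?_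
      rw [hprod]
      exact (hneg.pow k).mul (h2sq.mul hsq)
    obtain ⟨W, h1, h3, h4⟩ := exists_invt_ti_of_parts h2 (B0 F d) X hiso hX2 (d - k) k
      hZC hZM m (by omega)
    exact hWfin W ⟨h1, h3, h4⟩


theorem B0_u1 (d : ℕ) (w : Unit ⊕ (Fin d ⊕ Fin d) → F) :
    B0 F d (Pi.single (Sum.inl ()) 1) w = 2 * w (Sum.inl ()) := by
  classical
  rw [B0_apply]
  simp [Pi.single_apply]

theorem B0_u2 (d : ℕ) (i₀ : Fin d) (w : Unit ⊕ (Fin d ⊕ Fin d) → F) :
    B0 F d (Pi.single (Sum.inr (Sum.inl i₀)) 1 + Pi.single (Sum.inr (Sum.inr i₀)) 1) w =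
      w (Sum.inr (Sum.inr i₀)) + w (Sum.inr (Sum.inl i₀)) := by
  classical
  rw [B0_apply]
  simp [Pi.single_apply, Finset.sum_add_distrib]

theorem Q_u1 (d : ℕ) :
    Cfsg.quadFormOdd d F (Pi.single (Sum.inl ()) 1 : Unit ⊕ (Fin d ⊕ Fin d) → F) = 1 := by
  classical
  unfold Cfsg.quadFormOdd
  simp [Pi.single_apply]

theorem Q_u2 (d : ℕ) (i₀ : Fin d) :
    Cfsg.quadFormOdd d F (Pi.single (Sum.inr (Sum.inl i₀)) 1 + Pi.single (Sum.inr (Sum.inr i₀)) 1 :
      Unit ⊕ (Fin d ⊕ Fin d) → F) = 1 := by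
  classical
  unfold Cfsg.quadFormOdd
  simp [Pi.single_apply]

/-- **Necessity for `r = 2`**: a product of two commuting reflections fixing no maximal totally
singular subspace when `q ≡ 3 mod 4`. -/
theorem two_nec (h2 : (2 : F) ≠ 0) (d : ℕ) (hd : 1 ≤ d) (hq3 : Fintype.card F % 4 = 3) :
    ∃ x : GL (Unit ⊕ (Fin d ⊕ Fin d)) F, x ∈ Cfsg.Geo.omegaGL (Cfsg.quadFormOdd d F) ∧
      orderOf x = 2 ∧
      ∀ W : Submodule F (Unit ⊕ (Fin d ⊕ Fin d) → F), finrank F W = d →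
        (∀ w ∈ W, Cfsg.quadFormOdd d F w = 0) →
        ¬ W.map (Matrix.toLin'
          (x : Matrix (Unit ⊕ (Fin d ⊕ Fin d)) (Unit ⊕ (Fin d ⊕ Fin d)) F)) ≤ W := by
  classical
  obtain ⟨u₁, hu₁⟩ : ∃ u₁ : Unit ⊕ (Fin d ⊕ Fin d) → F, u₁ = Pi.single (Sum.inl ()) 1 := ⟨_, rfl⟩
  obtain ⟨i₀, -⟩ : ∃ i₀ : Fin d, i₀ = ⟨0, hd⟩ := ⟨_, rfl⟩
  obtain ⟨u₂, hu₂⟩ : ∃ u₂ : Unit ⊕ (Fin d ⊕ Fin d) → F,
      u₂ = Pi.single (Sum.inr (Sum.inl i₀)) 1 + Pi.single (Sum.inr (Sum.inr i₀)) 1 :=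
    ⟨_, rfl⟩
  have hQ1 : QOdd F d u₁ = 1 := by rw [QOdd_apply, hu₁, Q_u1]
  have hQ2 : QOdd F d u₂ = 1 := by rw [QOdd_apply, hu₂, Q_u2]
  have hB1 : ∀ w, B0 F d u₁ w = 2 * w (Sum.inl ()) := by
    intro w; rw [hu₁, B0_u1]
  have hB2 : ∀ w, B0 F d u₂ w = w (Sum.inr (Sum.inr i₀)) + w (Sum.inr (Sum.inl i₀)) := by
    intro w; rw [hu₂, B0_u2]
  have hB11 : B0 F d u₁ u₁ = 2 := by rw [B0_self, ← QOdd_apply, hQ1, mul_one]
  have hB22 : B0 F d u₂ u₂ = 2 := by rw [B0_self, ← QOdd_apply, hQ2, mul_one]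
  have hB12 : B0 F d u₁ u₂ = 0 := by
    rw [hB1, hu₂]
    simp
  have hB21 : B0 F d u₂ u₁ = 0 := by rw [(B0_symm F d).eq, hB12]
  have hpolar : ∀ a b, QuadraticMap.polar ⇑(QOdd F d) a b = B0 F d a b := fun a b => rfl
  -- the action of the product of the two reflections
  obtain ⟨R, hR⟩ : ∃ R : Matrix (Unit ⊕ (Fin d ⊕ Fin d)) (Unit ⊕ (Fin d ⊕ Fin d)) F,
      R = ([u₁, u₂].map (fun v => Cfsg.reflectionMatrix ⇑(QOdd F d) v)).prod := ⟨_, rfl⟩
  have hRact : ∀ w, R *ᵥ w = w - (B0 F d u₁ w) • u₁ - (B0 F d u₂ w) • u₂ := by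
    intro w
    rw [hR]
    simp only [List.map_cons, List.map_nil, List.prod_cons, List.prod_nil, mul_one]
    rw [← mulVec_mulVec, reflectionMatrix_mulVec, reflectionMatrix_mulVec, hQ1, hQ2, hpolar,
      hpolar, map_sub, map_smul, hB12]
    simp only [inv_one, one_mul, smul_eq_mul, mul_zero, sub_zero]
    abel
  have hvs : ∀ v ∈ [u₁, u₂], QOdd F d v ≠ 0 := by
    intro v hv
    simp only [List.mem_cons, List.mem_nil_iff, or_false] at hv
    rcases hv with rfl | rfl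
    · rw [hQ1]; exact one_ne_zero
    · rw [hQ2]; exact one_ne_zero
  obtain ⟨g, hg⟩ := exists_of_list' (QOdd F d) [u₁, u₂] hvs
  rw [← hR] at hg
  have hcard : 2 ≤ Fintype.card (Unit ⊕ (Fin d ⊕ Fin d)) := by rw [card_idx]; omega
  have hgΩ : g ∈ Cfsg.Omega F ⇑(QOdd F d) := by
    rw [mem_Omega_iff_list' (QOdd F d) h2 (nondegenerate_QOdd F h2 d) hcard g [u₁, u₂] hvs
      (by rw [hg, hR])]
    refine ⟨⟨1, rfl⟩, ?_⟩
    simp only [List.map_cons, List.map_nil, List.prod_cons, List.prod_nil, hQ1, hQ2, mul_one]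
    exact IsSquare.one
  have hmul : ∀ w, ((g.1 : GL (Unit ⊕ (Fin d ⊕ Fin d)) F) :
      Matrix (Unit ⊕ (Fin d ⊕ Fin d)) (Unit ⊕ (Fin d ⊕ Fin d)) F) *ᵥ w =
        w - (B0 F d u₁ w) • u₁ - (B0 F d u₂ w) • u₂ := by
    intro w
    rw [hg, hRact]
  have hu₁0 : u₁ ≠ 0 := by
    intro h
    rw [h] at hQ1
    simp at hQ1
  refine ⟨g.1, ?_, ?_, ?_⟩
  · rw [← QOdd_coe]
    unfold Cfsg.Geo.omegaGL
    exact Subgroup.mem_map.mpr ⟨g, hgΩ, rfl⟩
  · apply orderOf_eq_prime
    · apply Units.ext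
      rw [Units.val_pow_eq_pow_val, Units.val_one]
      apply Matrix.toLin'.injective
      apply LinearMap.ext
      intro w
      rw [Matrix.toLin'_apply, pow_two, ← mulVec_mulVec, hmul, hmul]
      simp only [map_sub, map_smul, smul_eq_mul, hB11, hB22, hB12, hB21, mul_zero, sub_zero]
      rw [Matrix.toLin'_one, LinearMap.id_apply]
      module
    · intro h1
      have := hmul u₁
      rw [h1, Units.val_one, one_mulVec, hB11, hB21, zero_smul, sub_zero] at this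
      have h3 : (2 : F) • u₁ = 0 := by
        rw [two_smul]
        nth_rewrite 1 [this]
        rw [two_smul]
        abel
      exact hu₁0 ((smul_eq_zero.mp h3).resolve_left h2)
  · intro W hWdim hWts hWinv
    have hnsq : ¬ IsSquare (-1 : F) := by
      rw [FiniteField.isSquare_neg_one_iff]
      omega
    have hWti : ∀ u ∈ W, ∀ w ∈ W, B0 F d u w = 0 := by
      intro u hu w hw
      unfold B0
      rw [QuadraticMap.polarBilin_apply_apply]
      unfold QuadraticMap.polar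
      rw [QOdd_apply, QOdd_apply, QOdd_apply, hWts _ (W.add_mem hu hw), hWts u hu, hWts w hw]
      simp
    -- vectors of `W` are orthogonal to `u₁` and `u₂`
    have hkey : ∀ w ∈ W, B0 F d u₁ w = 0 ∧ B0 F d u₂ w = 0 := by
      intro w hw
      have h1 : ((g.1 : GL (Unit ⊕ (Fin d ⊕ Fin d)) F) :
          Matrix (Unit ⊕ (Fin d ⊕ Fin d)) (Unit ⊕ (Fin d ⊕ Fin d)) F) *ᵥ w ∈ W := by
        apply hWinv
        exact ⟨w, hw, Matrix.toLin'_apply _ _⟩
      rw [hmul] at h1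
      have h3 : (B0 F d u₁ w) • u₁ + (B0 F d u₂ w) • u₂ ∈ W := by
        have := W.sub_mem hw h1
        have e : w - (w - (B0 F d u₁ w) • u₁ - (B0 F d u₂ w) • u₂) =
            (B0 F d u₁ w) • u₁ + (B0 F d u₂ w) • u₂ := by abel
        rw [e] at this
        exact this
      obtain ⟨a, ha⟩ : ∃ a, a = B0 F d u₁ w := ⟨_, rfl⟩
      obtain ⟨b, hb⟩ : ∃ b, b = B0 F d u₂ w := ⟨_, rfl⟩
      rw [← ha, ← hb] at h3 ⊢
      have h4 := hWts _ h3
      rw [← QOdd_apply, Q_add, Q_smul, Q_smul,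
        QuadraticMap.polar_smul_left, QuadraticMap.polar_smul_right, hpolar, hB12, hQ1, hQ2] at h4
      simp only [smul_eq_mul, mul_one, mul_zero, add_zero] at h4
      by_cases hb0 : b = 0
      · rw [hb0, mul_zero, add_zero] at h4
        exact ⟨(mul_self_eq_zero.mp h4), hb0⟩
      · exfalso
        apply hnsq
        refine ⟨a / b, ?_⟩
        field_simp
        linear_combination -h4
    -- dimension count
    obtain ⟨P, hP⟩ : ∃ P : Submodule F (Unit ⊕ (Fin d ⊕ Fin d) → F),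
        P = span F (Set.range ![u₁, u₂]) := ⟨_, rfl⟩
    have hPmem : ∀ n ∈ P, ∃ s t : F, n = s • u₁ + t • u₂ := by
      intro n hn
      rw [hP] at hn
      obtain ⟨c, rfl⟩ := (mem_span_range_iff_exists_fun F).mp hn
      exact ⟨c 0, c 1, by rw [Fin.sum_univ_two]; rfl⟩
    have hli : LinearIndependent F ![u₁, u₂] := by
      rw [LinearIndependent.pair_iff]
      intro s t hst
      have e1 := congrArg (B0 F d u₁) hst
      have e2 := congrArg (B0 F d u₂) hst
      simp only [map_add, map_smul, smul_eq_mul, hB11, hB12, hB21, hB22, mul_zero, add_zero,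
        zero_add, map_zero] at e1 e2
      exact ⟨(mul_eq_zero.mp e1).resolve_right h2, (mul_eq_zero.mp e2).resolve_right h2⟩
    have hPdim : finrank F P = 2 := by
      rw [hP, finrank_span_eq_card hli, Fintype.card_fin]
    have hdis : W ⊓ P = ⊥ := by
      rw [eq_bot_iff]
      rintro n ⟨hnW, hnP⟩
      obtain ⟨s, t, rfl⟩ := hPmem n hnP
      obtain ⟨e1, e2⟩ := hkey _ hnW
      simp only [map_add, map_smul, smul_eq_mul, hB11, hB12, hB21, hB22, mul_zero, add_zero,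
        zero_add] at e1 e2
      rw [(mul_eq_zero.mp e1).resolve_right h2, (mul_eq_zero.mp e2).resolve_right h2]
      simp
    have hle : W ⊔ P ≤ LinearMap.BilinForm.orthogonal (B0 F d) W := by
      apply sup_le
      · intro u hu n hn
        exact hWti n hn u hu
      · intro n hn w hw
        obtain ⟨s, t, rfl⟩ := hPmem n hn
        obtain ⟨e1, e2⟩ := hkey w hw
        show B0 F d w (s • u₁ + t • u₂) = 0
        rw [map_add, map_smul, map_smul, (B0_symm F d).eq w u₁, (B0_symm F d).eq w u₂, e1, e2]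
        simp
    have h5 := Submodule.finrank_mono hle
    rw [LinearMap.BilinForm.finrank_orthogonal (B0_nondeg F h2 d), finrank_std, hWdim] at h5
    have h6 := Submodule.finrank_sup_add_finrank_inf_eq W P
    rw [hdis, finrank_bot, add_zero, hWdim, hPdim] at h6
    omega

end two

end Cfsg.Agent.Lib.Helper10.OrthTS
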