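import Mathlib
import Cfsg.Prelude.Def_Blocks

/-!
Leaves [B] and [C] of the S4640 farm (official names).
-/

set_option autoImplicit false
set_option linter.unusedSectionVars false

namespace Cfsg.Agent.Lib.Helper24.PIdx

open Cfsg

variable {G : Type*} [Group G] [Fintype G] {p : ℕ} [Fact p.Prime] {M : Ideal Cfsg.AlgInt}

/-- [B] `p`-regular elements lie in a normal subgroup of `p`-power index -/
theorem mem_of_isPRegular (N : Subgroup G) [N.Normal] (hNi : ∃ k : ℕ, N.index = p ^ k)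
    (g : G) (hg : Cfsg.IsPRegular p g) : g ∈ N := by
  obtain ⟨k, hk⟩ := hNi
  have hp : p.Prime := Fact.out
  rw [← QuotientGroup.eq_one_iff]
  -- order of the image divides both `orderOf g` and `p ^ k`
  have h1 : orderOf (g : G ⧸ N) ∣ orderOf g := by
    have := orderOf_map_dvd (QuotientGroup.mk' N) g
    simpa using this
  have h2 : orderOf (g : G ⧸ N) ∣ p ^ k := by
    have h3 : orderOf (g : G ⧸ N) ∣ Nat.card (G ⧸ N) := orderOf_dvd_natCard _
    rw [← Subgroup.index_eq_card, hk] at h3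
    exact h3
  have hcop : Nat.Coprime (orderOf g) (p ^ k) := by
    apply Nat.Coprime.pow_right
    exact (Nat.Coprime.symm ((Nat.Prime.coprime_iff_not_dvd hp).2 hg))
  have h4 : orderOf (g : G ⧸ N) ∣ 1 := by
    have := Nat.dvd_gcd h1 h2
    rwa [hcop.gcd_eq_one] at this
  exact orderOf_eq_one_iff.1 (Nat.dvd_one.1 h4)

/-- [C] `G = N P` with `P` abelian: `G / N` is abelian -/
theorem comm_mod (N : Subgroup G) [N.Normal] (P : Subgroup G) (hsup : N ⊔ P = ⊤)
    (hPab : ∀ x ∈ P, ∀ y ∈ P, x * y = y * x) (x y : G) : x * y * x⁻¹ * y⁻¹ ∈ N := by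
  -- every element is `n * q` with `n ∈ N`, `q ∈ P`
  have hdec : ∀ g : G, ∃ n ∈ N, ∃ q ∈ P, g = n * q := by
    intro g
    have hg : g ∈ N ⊔ P := by rw [hsup]; exact Subgroup.mem_top g
    have hg' : g ∈ ((N ⊔ P : Subgroup G) : Set G) := hg
    rw [Subgroup.normal_mul N P, Set.mem_mul] at hg'
    obtain ⟨n, hn, q, hq, rfl⟩ := hg'
    exact ⟨n, hn, q, hq, rfl⟩
  obtain ⟨n1, hn1, q1, hq1, rfl⟩ := hdec x
  obtain ⟨n2, hn2, q2, hq2, rfl⟩ := hdec y
  rw [← QuotientGroup.eq_one_iff]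
  have e1 : ((n1 : G) : G ⧸ N) = 1 := (QuotientGroup.eq_one_iff _).2 hn1
  have e2 : ((n2 : G) : G ⧸ N) = 1 := (QuotientGroup.eq_one_iff _).2 hn2
  have hc : q1 * q2 = q2 * q1 := hPab q1 hq1 q2 hq2
  simp only [QuotientGroup.mk_mul, QuotientGroup.mk_inv, e1, e2, one_mul]
  have : ((q1 : G) : G ⧸ N) * (q2 : G ⧸ N) = (q2 : G ⧸ N) * (q1 : G ⧸ N) := by
    rw [← QuotientGroup.mk_mul, hc, QuotientGroup.mk_mul]
  rw [this]
  group

end Cfsg.Agent.Lib.Helper24.PIdx
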