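import Mathlib
import Cfsg.Prelude.Def_OddOrderLocal
import Cfsg.Agent.S1448
import Cfsg.Agent.Lib.Helper10.MetaCrit
import Cfsg.Agent.Lib.Helper10.MetaAut
import Cfsg.Agent.Lib.Helper10.Rank2Omega
import Cfsg.Agent.Lib.Helper10.Rank2Extra

/-!
Nonabelian `p`-groups `R` of rank at most two with `[R, A] = R` for a `p'`-group `A` of odd order:
`R = S C_R(S)` with `S` the set of elements of order dividing `p`, nonabelian of order `p ^ 3`.
Automorphisms of prime order `q ∤ p (p - 1)` of cyclic `p`-groups are trivial.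
-/

set_option autoImplicit false

namespace Cfsg.Agent.Lib.Helper10

open scoped commutatorElement

universe u

/-- the structure of a nonabelian `p`-group `R` of rank at most two with `[R, A] = R`, in terms of
the subgroup of elements of order dividing `p`. -/
theorem exists_omegaCube_of_commutator_eq {G : Type u} [Group G] [Finite G] (p : ℕ)
    [Fact p.Prime] (hp : p ≠ 2) (R A : Subgroup G) (hR : IsPGroup p R) (hR1 : R ≠ ⊥)
    (hr : Cfsg.PRankLE p 2 R) (hA : A ≤ Subgroup.normalizer (R : Set G))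
    (hcop : (Nat.card A).Coprime p) (hAodd : Odd (Nat.card A)) (hRA : ⁅R, A⁆ = R)
    (hna : ¬ IsMulCommutative R) :
    3 < p ∧ ∃ S : Subgroup ↥R, OmegaCube p S ∧
      S ⊔ Subgroup.centralizer (S : Set ↥R) = ⊤ := by
  have hpp : p.Prime := Fact.out
  have h3 : 3 < p := (Cfsg.Agent.S1448.result p hp R A hR hR1 hr hA hcop hAodd hRA).1
  refine ⟨h3, ?_⟩
  obtain ⟨φ, hφ⟩ : ∃ φ : ↥A →* MulAut ↥R,
      φ = (R.normalizerMonoidHom).comp (Subgroup.inclusion hA) := ⟨_, rfl⟩
  have hφapp : ∀ (a : ↥A) (x : ↥R), ((φ a x : ↥R) : G) = (a : G) * x * (a : G)⁻¹ := by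
    intro a x
    rw [hφ]
    rfl
  have hoddφ : ∀ a : ↥A, Odd (orderOf (φ a)) := by
    intro a
    have h1 : orderOf (φ a) ∣ orderOf a := orderOf_map_dvd φ a
    have h2 : orderOf a ∣ Nat.card A := orderOf_dvd_natCard a
    exact Odd.of_dvd_nat hAodd (h1.trans h2)
  have hmul := mul_pow_eq_one_of_rank_two h3 hR hr
  by_cases hcard : Nat.card (omegaSet p hmul) ≤ p ^ 2
  · exfalso
    apply hna
    have hmeta : Cfsg.IsMetacyclic ↥R :=
      isMetacyclic_of_card_omegaOne_le h3 hR (by rw [← omegaSet_eq_omegaOne p hmul]; exact hcard)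
    have hcomm := commute_of_metacyclic_commutator_eq hp R A hR hmeta hA hcop hRA
    exact ⟨⟨fun a b => Subtype.ext (hcomm a a.2 b b.2)⟩⟩
  · push Not at hcard
    have hle3 := card_omegaSet_le hR hr hmul
    have hcard3 : Nat.card (omegaSet p hmul) = p ^ 3 := by
      obtain ⟨k, hk⟩ := (hR.to_subgroup (omegaSet p hmul)).exists_card_eq
      rw [hk] at hcard hle3 ⊢
      have h1 : 2 < k := (Nat.pow_lt_pow_iff_right hpp.one_lt).mp hcard
      have h2 : k ≤ 3 := (Nat.pow_le_pow_iff_right hpp.one_lt).mp hle3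
      have h4 : k = 3 := by omega
      rw [h4]
    have hna' : ∃ a ∈ omegaSet p hmul, ∃ b ∈ omegaSet p hmul, a * b ≠ b * a := by
      by_contra hall
      push Not at hall
      have h1 := hr (omegaSet p hmul) ⟨⟨fun a b => Subtype.ext (hall a a.2 b b.2)⟩⟩
        (fun a ha => (mem_omegaSet p hmul a).mp ha)
      omega
    have hcube : OmegaCube p (omegaSet p hmul) :=
      ⟨fun x => mem_omegaSet p hmul x, hcard3, hna'⟩
    refine ⟨omegaSet p hmul, hcube, ?_⟩
    by_cases hB : ∃ r : ↥R, ∃ s ∈ omegaSet p hmul, ⁅s, r⁆ ∉ zS (omegaSet p hmul)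
    · exfalso
      obtain ⟨T, hTc, hTne, hT⟩ := hcube.exists_char_of_noncentral hp hR hB
      have hle : ⁅R, A⁆ ≤ T.map R.subtype := by
        rw [Subgroup.commutator_le]
        intro x hx a ha
        refine ⟨(φ ⟨a, ha⟩ ⟨x, hx⟩ * (⟨x, hx⟩ : ↥R)⁻¹)⁻¹,
          inv_mem (hT (φ ⟨a, ha⟩) (hoddφ ⟨a, ha⟩) ⟨x, hx⟩), ?_⟩
        simp only [Subgroup.coe_subtype, Subgroup.coe_inv, Subgroup.coe_mul, hφapp]
        rw [commutatorElement_def]
        group
      apply hTne
      rw [eq_top_iff]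
      intro y _
      have h1 : (y : G) ∈ ⁅R, A⁆ := by rw [hRA]; exact y.2
      obtain ⟨t, ht, hty⟩ := hle h1
      have h2 : t = y := Subtype.ext hty
      rw [← h2]
      exact ht
    · push Not at hB
      rw [eq_top_iff]
      intro r _
      exact hcube.mem_sup_centralizer hR r (fun s hs => hB r s hs)

/-- an element normalizing a cyclic `p`-group whose `q`-th power centralizes it, for a prime
`q ∤ p (p - 1)`, centralizes it -/
theorem mem_centralizer_cyclic_of_prime {G : Type*} [Group G] [Finite G] {p : ℕ} [Fact p.Prime]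
    (C : Subgroup G) (hCc : IsCyclic ↥C) (hCp : IsPGroup p C) (a : G)
    (ha : a ∈ Subgroup.normalizer (C : Set G)) (q : ℕ) (hq : q.Prime) (hqp : q ≠ p)
    (hq1 : ¬ q ∣ p - 1) (haq : a ^ q ∈ Subgroup.centralizer (C : Set G)) :
    a ∈ Subgroup.centralizer (C : Set G) := by
  have hpp : p.Prime := Fact.out
  obtain ⟨α, hα⟩ : ∃ α : MulAut ↥C, α = C.normalizerMonoidHom ⟨a, ha⟩ := ⟨_, rfl⟩
  have hαapp : ∀ x : ↥C, ((α x : ↥C) : G) = a * x * a⁻¹ := by
    intro x
    rw [hα]
    rfl
  have hαq : α ^ q = 1 := by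
    ext x
    have h1 : ∀ k : ℕ, (((α ^ k) x : ↥C) : G) = a ^ k * x * (a ^ k)⁻¹ := by
      intro k
      induction k with
      | zero => simp
      | succ k ih =>
        rw [pow_succ', MulAut.mul_apply, hαapp, ih, pow_succ']
        group
    rw [h1 q, MulAut.one_apply]
    have h2 := (Subgroup.mem_centralizer_iff.mp haq) (x : G) x.2
    rw [← h2]
    group
  have hd1 : orderOf α ∣ q := orderOf_dvd_of_pow_eq_one hαq
  have hd2 : orderOf α ∣ Nat.card (MulAut ↥C) := orderOf_dvd_natCard α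
  rw [IsCyclic.card_mulAut] at hd2
  obtain ⟨m, hm⟩ := hCp.exists_card_eq
  have hcop : q.Coprime (Nat.totient (Nat.card C)) := by
    rw [hm]
    rcases Nat.eq_zero_or_pos m with h0 | hpos
    · rw [h0, pow_zero, Nat.totient_one]
      exact Nat.coprime_one_right q
    · rw [Nat.totient_prime_pow hpp hpos]
      apply Nat.Coprime.mul_right
      · apply Nat.Coprime.pow_right
        exact (Nat.coprime_primes hq hpp).mpr hqp
      · exact (Nat.Prime.coprime_iff_not_dvd hq).mpr hq1
  have h1 : orderOf α = 1 := Nat.eq_one_of_dvd_coprimes hcop hd1 hd2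
  rw [orderOf_eq_one_iff] at h1
  rw [Subgroup.mem_centralizer_iff]
  intro x hx
  have h2 := hαapp ⟨x, hx⟩
  rw [h1, MulAut.one_apply] at h2
  calc x * a = (a * x * a⁻¹) * a := by rw [← h2]
    _ = a * x := by group

end Cfsg.Agent.Lib.Helper10
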