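import Mathlib
import Cfsg.Agent.S0033
import Cfsg.Agent.Lib.Helper1.Frattini

/-!
# Helper10 library: regular action modulo a central subgroup

`isNilpotent_of_fpf_mod_central`: a subgroup `C` normalized by an element `y` of prime order `s`
which centralizes a central subgroup `Z ≤ C` of order prime to `s`, with `C_C(y) ≤ Z`, is
nilpotent (Thompson's theorem applied to `C / Z`).

`isNilpotent_of_regular_mod_central`: the same for a nontrivial group `Q` of operators of order
prime to `|C|`.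
-/

set_option autoImplicit false
set_option linter.style.haveILetI false

namespace Cfsg.Agent.Lib.Helper10.RegModCentral

variable {G : Type*} [Group G]

theorem isNilpotent_of_fpf_mod_central [Finite G] {s : ℕ} (hs : s.Prime) {C Z : Subgroup G}
    {y : G} (hZc : ∀ z ∈ Z, ∀ c ∈ C, z * c = c * z)
    (hyC : y ∈ Subgroup.normalizer (C : Set G)) (hyZ : ∀ z ∈ Z, y * z = z * y)
    (hys : y ^ s = 1) (hcop : s.Coprime (Nat.card Z))
    (hfix : C ⊓ Subgroup.centralizer ({y} : Set G) ≤ Z) : Group.IsNilpotent C := by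
  classical
  have hZcen : Z.subgroupOf C ≤ Subgroup.center ↥C := by
    intro z hz
    rw [Subgroup.mem_center_iff]
    intro c
    apply Subtype.ext
    show (c : G) * z = z * c
    exact (hZc z hz c c.2).symm
  haveI hZn : (Z.subgroupOf C).Normal := by
    constructor
    intro n hn g
    have h1 := Subgroup.mem_center_iff.mp (hZcen hn) g
    have h2 : g * n * g⁻¹ = n := by rw [h1]; group
    rw [h2]
    exact hn
  let φ : ↥C ≃* ↥C := Cfsg.Agent.Lib.Helper1.conjNormalizer C y hyC
  have hφ : ∀ c : ↥C, ((φ c : ↥C) : G) = y * c * y⁻¹ := fun c => rfl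
  have hφfix : ∀ z ∈ Z.subgroupOf C, φ z = z := by
    intro z hz
    apply Subtype.ext
    rw [hφ]
    have h1 : y * (z : G) = z * y := hyZ z hz
    rw [h1]
    group
  have hφZ : (Z.subgroupOf C).map (φ : ↥C →* ↥C) = Z.subgroupOf C := by
    ext z
    constructor
    · rintro ⟨w, hw, rfl⟩
      have : (φ : ↥C →* ↥C) w = w := hφfix w hw
      rw [this]
      exact hw
    · intro hz
      exact ⟨z, hz, hφfix z hz⟩
  let ψ : (↥C ⧸ Z.subgroupOf C) ≃* (↥C ⧸ Z.subgroupOf C) :=
    QuotientGroup.congr (Z.subgroupOf C) (Z.subgroupOf C) φ hφZ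
  have hψ : ∀ c : ↥C, ψ (QuotientGroup.mk c) = QuotientGroup.mk (φ c) := fun c => rfl
  -- conjugation by powers of `y`
  have hpowC : ∀ (n : ℕ) (c : ↥C), y ^ n * (c : G) * (y ^ n)⁻¹ ∈ C := by
    intro n c
    have : y ^ n ∈ Subgroup.normalizer (C : Set G) := Subgroup.pow_mem _ hyC n
    exact (Subgroup.mem_normalizer_iff.mp this c).mp c.2
  have hψpow : ∀ (n : ℕ) (c : ↥C),
      (ψ ^ n) (QuotientGroup.mk c) = QuotientGroup.mk ⟨y ^ n * (c : G) * (y ^ n)⁻¹, hpowC n c⟩ := by
    intro n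
    induction n with
    | zero =>
      intro c
      rw [pow_zero]
      show (QuotientGroup.mk c : ↥C ⧸ Z.subgroupOf C) = _
      congr 1
      apply Subtype.ext
      simp
    | succ n ih =>
      intro c
      rw [pow_succ', MulAut.mul_apply, ih, hψ]
      congr 1
      apply Subtype.ext
      rw [hφ]
      show y * (y ^ n * (c : G) * (y ^ n)⁻¹) * y⁻¹ = y ^ (n + 1) * (c : G) * (y ^ (n + 1))⁻¹
      rw [pow_succ']
      group
  have hψs : ψ ^ s = 1 := by
    ext g
    obtain ⟨c, rfl⟩ := QuotientGroup.mk_surjective g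
    rw [hψpow]
    show _ = QuotientGroup.mk c
    congr 1
    apply Subtype.ext
    show y ^ s * (c : G) * (y ^ s)⁻¹ = c
    rw [hys]
    group
  -- fixed-point-freeness on the quotient
  have hfpf : MonoidHom.FixedPointFree ((ψ : (↥C ⧸ Z.subgroupOf C) ≃* (↥C ⧸ Z.subgroupOf C)) :
      (↥C ⧸ Z.subgroupOf C) →* (↥C ⧸ Z.subgroupOf C)) := by
    intro g hg
    obtain ⟨c, rfl⟩ := QuotientGroup.mk_surjective g
    have h1 : (QuotientGroup.mk (φ c) : ↥C ⧸ Z.subgroupOf C) = QuotientGroup.mk c := hg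
    have h2 : (φ c)⁻¹ * c ∈ Z.subgroupOf C := QuotientGroup.eq.mp h1
    have h3 : (y * (c : G) * y⁻¹)⁻¹ * c ∈ Z := by
      have := Subgroup.mem_subgroupOf.mp h2
      simpa [hφ] using this
    -- `k := c⁻¹ * (y c y⁻¹) ∈ Z`
    obtain ⟨k, hk, hkdef⟩ : ∃ k ∈ Z, y * (c : G) * y⁻¹ = c * k := by
      refine ⟨(c : G)⁻¹ * (y * c * y⁻¹), ?_, by group⟩
      have := Z.inv_mem h3
      have e : ((y * (c : G) * y⁻¹)⁻¹ * c)⁻¹ = (c : G)⁻¹ * (y * c * y⁻¹) := by group
      rwa [e] at this
    have hyk : y * k * y⁻¹ = k := by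
      rw [hyZ k hk]; group
    have hpow : ∀ n : ℕ, y ^ n * (c : G) * (y ^ n)⁻¹ = c * k ^ n := by
      intro n
      induction n with
      | zero => simp
      | succ n ih =>
        have e : y ^ (n + 1) * (c : G) * (y ^ (n + 1))⁻¹ =
            y * (y ^ n * (c : G) * (y ^ n)⁻¹) * y⁻¹ := by
          rw [pow_succ']; group
        rw [e, ih]
        have e2 : y * ((c : G) * k ^ n) * y⁻¹ = (y * c * y⁻¹) * (y * k * y⁻¹) ^ n := by
          rw [conj_pow]; group
        rw [e2, hkdef, hyk, pow_succ, mul_assoc]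
        congr 1
        exact (pow_mul_comm' k n).symm
    have hks : k ^ s = 1 := by
      have := hpow s
      rw [hys] at this
      have e : (1 : G) * (c : G) * (1 : G)⁻¹ = c := by group
      rw [e] at this
      exact (mul_eq_left.mp this.symm)
    have hkZ : k ^ Nat.card Z = 1 := by
      have := pow_card_eq_one' (G := Z) (x := ⟨k, hk⟩)
      exact congrArg Subtype.val this
    have hk1 : k = 1 := by
      have d1 := orderOf_dvd_of_pow_eq_one hks
      have d2 := orderOf_dvd_of_pow_eq_one hkZ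
      have := Nat.eq_one_of_dvd_coprimes hcop d1 d2
      exact orderOf_eq_one_iff.mp this
    rw [hk1, mul_one] at hkdef
    have hcy : (c : G) ∈ C ⊓ Subgroup.centralizer ({y} : Set G) := by
      refine Subgroup.mem_inf.mpr ⟨c.2, Subgroup.mem_centralizer_singleton_iff.mpr ?_⟩
      calc (c : G) * y = (y * c * y⁻¹) * y := by rw [hkdef]
        _ = y * c := by group
    have hcZ : (c : G) ∈ Z := hfix hcy
    exact (QuotientGroup.eq_one_iff c).mpr (Subgroup.mem_subgroupOf.mpr hcZ)
  have hnilq : Group.IsNilpotent (↥C ⧸ Z.subgroupOf C) := by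
    rcases (Nat.dvd_prime hs).mp (orderOf_dvd_of_pow_eq_one hψs) with h | h
    · have hψ1 : ψ = 1 := orderOf_eq_one_iff.mp h
      haveI : Subsingleton (↥C ⧸ Z.subgroupOf C) := by
        constructor
        intro a b
        have ha : a = 1 := hfpf a (by rw [hψ1]; rfl)
        have hb : b = 1 := hfpf b (by rw [hψ1]; rfl)
        rw [ha, hb]
      infer_instance
    · exact Cfsg.Agent.S0033.result ψ hfpf s hs h
  haveI := hnilq
  apply Subgroup.isNilpotent_of_ker_le_center (QuotientGroup.mk' (Z.subgroupOf C))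
  rw [QuotientGroup.ker_mk']
  exact hZcen

/-- a group `Q ≠ 1` of operators on `C`, of order prime to `|C|`, centralizing the central
subgroup `Z` of `C` and such that `C_C(y) ≤ Z` for every `y ∈ Q^#`: then `C` is nilpotent.  (The
hypotheses `hZC`, `hsolv`, `hodd` are not used.) -/
theorem isNilpotent_of_regular_mod_central [Finite G] {C Z Q : Subgroup G} (hZC : Z ≤ C)
    (hZc : ∀ z ∈ Z, ∀ c ∈ C, z * c = c * z) (hQC : Q ≤ Subgroup.normalizer (C : Set G))
    (hQZ : ∀ y ∈ Q, ∀ z ∈ Z, y * z = z * y) (hcop : (Nat.card C).Coprime (Nat.card Q))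
    (hQ1 : Q ≠ ⊥)
    (hreg : ∀ y ∈ Q, y ≠ 1 → C ⊓ Subgroup.centralizer ({y} : Set G) ≤ Z)
    (hsolv : Group.IsSolvable ↥(C ⊔ Q)) (hodd : Odd (Nat.card ↥(C ⊔ Q))) :
    Group.IsNilpotent C := by
  have hcardQ : Nat.card Q ≠ 1 := fun h => hQ1 (Subgroup.card_eq_one.mp h)
  obtain ⟨s, hs, hsd⟩ := Nat.exists_prime_and_dvd hcardQ
  haveI : Fact s.Prime := ⟨hs⟩
  obtain ⟨y', hy'⟩ := exists_prime_orderOf_dvd_card' (G := Q) s hsd
  have hyo : orderOf (y' : G) = s := by rw [Subgroup.orderOf_coe]; exact hy'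
  have hy1 : (y' : G) ≠ 1 := by
    intro h
    rw [h, orderOf_one] at hyo
    exact hs.one_lt.ne hyo
  have hys : (y' : G) ^ s = 1 := by rw [← hyo]; exact pow_orderOf_eq_one _
  have hcopZ : s.Coprime (Nat.card Z) := by
    have h1 : (Nat.card Z).Coprime (Nat.card Q) :=
      Nat.Coprime.coprime_dvd_left (Subgroup.card_dvd_of_le hZC) hcop
    exact (Nat.Coprime.coprime_dvd_right hsd h1).symm
  exact isNilpotent_of_fpf_mod_central hs hZc (hQC y'.2) (hQZ y' y'.2) hys hcopZ
    (hreg y' y'.2 hy1)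

end Cfsg.Agent.Lib.Helper10.RegModCentral
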