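import Mathlib
import Cfsg.Prelude.Def_Spor_Ru

/-!
# The Conway-Wales lattice (S1628): basic vocabulary  (helper10)

`phi : ℤ[i] →+* ZMod 2` is reduction modulo `π = 1 + i`; `herm x y = ∑ x_p * star (y_p)` the Hermitian product;
`D4 z` says that both coordinates of `z` are divisible by `4`.
-/

set_option autoImplicit false

namespace Cfsg.Agent.Lib.Helper10.RuLat

open Cfsg.Spor GaussianInt

/-- the prime above `2` -/
def piG : GaussianInt := ⟨1, 1⟩

theorem two_zmod : (2 : ZMod 2) = 0 := by decide

/-- reduction modulo `1 + i` -/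
def phi : GaussianInt →+* ZMod 2 where
  toFun z := ((z.re + z.im : ℤ) : ZMod 2)
  map_one' := by simp
  map_zero' := by simp
  map_add' := by
    intro z w
    simp only [Zsqrtd.re_add, Zsqrtd.im_add]
    push_cast
    ring
  map_mul' := by
    intro z w
    have h : ((z * w).re + (z * w).im : ℤ) = (z.re + z.im) * (w.re + w.im) - 2 * (z.im * w.im) := by
      simp only [Zsqrtd.re_mul, Zsqrtd.im_mul]
      ring
    rw [h]
    push_cast
    rw [two_zmod]
    ring

theorem phi_apply (z : GaussianInt) : phi z = ((z.re + z.im : ℤ) : ZMod 2) := rfl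

theorem phi_piG : phi piG = 0 := by
  rw [phi_apply]
  decide

theorem phi_eq_zero_iff (z : GaussianInt) : phi z = 0 ↔ ∃ w, z = piG * w := by
  constructor
  · intro h
    rw [phi_apply, ZMod.intCast_zmod_eq_zero_iff_dvd] at h
    obtain ⟨k, hk⟩ := h
    refine ⟨⟨k, k - z.re⟩, ?_⟩
    apply Zsqrtd.ext
    · simp only [piG, Zsqrtd.re_mul]
      ring
    · simp only [piG, Zsqrtd.im_mul]
      push_cast at hk
      linarith
  · rintro ⟨w, rfl⟩
    rw [map_mul, phi_piG, zero_mul]

theorem zmod2_cases (a : ZMod 2) : a = 0 ∨ a = 1 := by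
  revert a
  decide

theorem norm_pos_of_phi {z : GaussianInt} (h : phi z = 1) : 1 ≤ z.norm := by
  have hz : z ≠ 0 := by
    rintro rfl
    rw [map_zero] at h
    exact zero_ne_one h
  have := (GaussianInt.norm_pos).mpr hz
  omega

theorem norm_piG_mul (z : GaussianInt) : (piG * z).norm = 2 * z.norm := by
  rw [Zsqrtd.norm_mul]
  rfl

/-- the Hermitian product -/
def herm (x y : RuVec) : GaussianInt := ∑ p, x p * star (y p)

theorem herm_add_left (x x' y : RuVec) : herm (x + x') y = herm x y + herm x' y := by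
  unfold herm
  rw [← Finset.sum_add_distrib]
  exact Finset.sum_congr rfl fun p _ => by rw [Pi.add_apply, add_mul]

theorem herm_add_right (x y y' : RuVec) : herm x (y + y') = herm x y + herm x y' := by
  unfold herm
  rw [← Finset.sum_add_distrib]
  exact Finset.sum_congr rfl fun p _ => by rw [Pi.add_apply, star_add, mul_add]

theorem herm_smul_left (c : GaussianInt) (x y : RuVec) : herm (c • x) y = c * herm x y := by
  unfold herm
  rw [Finset.mul_sum]
  exact Finset.sum_congr rfl fun p _ => by rw [Pi.smul_apply, smul_eq_mul, mul_assoc]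

theorem herm_smul_right (c : GaussianInt) (x y : RuVec) : herm x (c • y) = star c * herm x y := by
  unfold herm
  rw [Finset.mul_sum]
  exact Finset.sum_congr rfl fun p _ => by rw [Pi.smul_apply, smul_eq_mul, star_mul']; ring

theorem herm_zero_left (y : RuVec) : herm 0 y = 0 := by
  unfold herm
  simp

theorem herm_zero_right (x : RuVec) : herm x 0 = 0 := by
  unfold herm
  simp

theorem herm_comm (x y : RuVec) : herm y x = star (herm x y) := by
  unfold herm
  rw [star_sum]
  exact Finset.sum_congr rfl fun p _ => by rw [star_mul', star_star, mul_comm]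

theorem ruNorm_eq (x : RuVec) : ruNorm x = (herm x x).re := by
  unfold ruNorm herm
  have h : ∀ z : GaussianInt, z.norm = (z * star z).re := by
    intro z
    rw [Zsqrtd.norm_def, Zsqrtd.re_mul, Zsqrtd.re_star, Zsqrtd.im_star]
    ring
  have h2 : ∀ (s : Finset RuIdx) (f : RuIdx → GaussianInt), (∑ p ∈ s, f p).re = ∑ p ∈ s, (f p).re := by
    intro s f
    induction s using Finset.induction_on with
    | empty => simp
    | insert a s ha ih => rw [Finset.sum_insert ha, Finset.sum_insert ha, Zsqrtd.re_add, ih]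
  rw [h2]
  exact Finset.sum_congr rfl fun p _ => h _

theorem ruNorm_add (x y : RuVec) : ruNorm (x + y) = ruNorm x + ruNorm y + 2 * (herm x y).re := by
  rw [ruNorm_eq, ruNorm_eq, ruNorm_eq, herm_add_left, herm_add_right, herm_add_right, herm_comm x y]
  simp only [Zsqrtd.re_add, Zsqrtd.re_star]
  ring

theorem ruNorm_smul (c : GaussianInt) (x : RuVec) : ruNorm (c • x) = c.norm * ruNorm x := by
  unfold ruNorm
  rw [Finset.mul_sum]
  exact Finset.sum_congr rfl fun p _ => by rw [Pi.smul_apply, smul_eq_mul, Zsqrtd.norm_mul]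

theorem ruNorm_nonneg (x : RuVec) : 0 ≤ ruNorm x :=
  Finset.sum_nonneg fun p _ => GaussianInt.norm_nonneg _

theorem ruNorm_eq_zero {x : RuVec} (h : ruNorm x = 0) : x = 0 := by
  funext p
  have h1 := (Finset.sum_eq_zero_iff_of_nonneg (fun p _ => GaussianInt.norm_nonneg (x p))).mp h p
    (Finset.mem_univ p)
  exact (Zsqrtd.norm_eq_zero_iff (by norm_num) _).mp h1

/-- both coordinates divisible by four -/
def D4 (z : GaussianInt) : Prop := (4 : ℤ) ∣ z.re ∧ (4 : ℤ) ∣ z.im

instance (z : GaussianInt) : Decidable (D4 z) := by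
  unfold D4
  infer_instance

theorem D4_zero : D4 0 := ⟨dvd_zero _, dvd_zero _⟩

theorem D4_add {z w : GaussianInt} (hz : D4 z) (hw : D4 w) : D4 (z + w) :=
  ⟨by rw [Zsqrtd.re_add]; exact dvd_add hz.1 hw.1, by rw [Zsqrtd.im_add]; exact dvd_add hz.2 hw.2⟩

theorem D4_mul (c : GaussianInt) {z : GaussianInt} (hz : D4 z) : D4 (c * z) := by
  obtain ⟨⟨a, ha⟩, ⟨b, hb⟩⟩ := hz
  refine ⟨⟨c.re * a - c.im * b, ?_⟩, ⟨c.re * b + c.im * a, ?_⟩⟩
  · rw [Zsqrtd.re_mul, ha, hb]
    ring
  · rw [Zsqrtd.im_mul, ha, hb]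
    ring

theorem D4_sum {ι : Type*} (s : Finset ι) (f : ι → GaussianInt) (h : ∀ i ∈ s, D4 (f i)) : D4 (∑ i ∈ s, f i) := by
  classical
  induction s using Finset.induction_on with
  | empty => simpa using D4_zero
  | insert a s ha ih =>
    rw [Finset.sum_insert ha]
    exact D4_add (h a (Finset.mem_insert_self a s)) (ih fun i hi => h i (Finset.mem_insert_of_mem hi))

/-! ### the monomial maps are linear -/

theorem ruRj_add (x y : RuVec) : ruRj (x + y) = ruRj x + ruRj y := by
  funext p
  obtain ⟨n, t⟩ := p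
  fin_cases t <;> simp [ruRj] <;> ring

theorem ruRj_smul (c : GaussianInt) (x : RuVec) : ruRj (c • x) = c • ruRj x := by
  funext p
  obtain ⟨n, t⟩ := p
  fin_cases t <;> simp [ruRj] <;> ring

theorem ruRk_add (x y : RuVec) : ruRk (x + y) = ruRk x + ruRk y := by
  funext p
  obtain ⟨n, t⟩ := p
  fin_cases t <;> simp [ruRk] <;> ring

theorem ruRk_smul (c : GaussianInt) (x : RuVec) : ruRk (c • x) = c • ruRk x := by
  funext p
  obtain ⟨n, t⟩ := p
  fin_cases t <;> simp [ruRk] <;> ring

theorem ruSign_add (x y : RuVec) : ruSign (x + y) = ruSign x + ruSign y := by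
  funext p
  simp only [ruSign, Pi.add_apply]
  split_ifs <;> ring

theorem ruSign_smul (c : GaussianInt) (x : RuVec) : ruSign (c • x) = c • ruSign x := by
  funext p
  simp only [ruSign, Pi.smul_apply, smul_eq_mul]
  split_ifs <;> ring

theorem ruShift_add (x y : RuVec) : ruShift (x + y) = ruShift x + ruShift y := by
  funext p
  simp [ruShift]

theorem ruShift_smul (c : GaussianInt) (x : RuVec) : ruShift (c • x) = c • ruShift x := by
  funext p
  simp [ruShift]

end Cfsg.Agent.Lib.Helper10.RuLat
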