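import Mathlib
import Cfsg.Prelude.Def_Spor_Ru
import Cfsg.Agent.Lib.Helper10.RuLatDefs

/-!
# The Conway-Wales lattice (S1628): the adapted basis and its certificates  (helper10)

`fv l` (`l : Fin 28`) are vectors of `ℤ[i]²⁸` and `lev l ∈ {0,..,4}`; the vectors `bv l = π^(lev l) • fv l` form a
`ℤ[i]`-basis of the lattice.  All tables were computed outside; everything is re-checked here by evaluation.
-/

set_option autoImplicit false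

namespace Cfsg.Agent.Lib.Helper10.RuLat

open Cfsg.Spor GaussianInt

/-- a Gaussian integer from a pair -/
def gz (t : Int × Int) : GaussianInt := ⟨t.1, t.2⟩

/-- a vector from a list of 28 pairs -/
def vecOf (L : List (Int × Int)) : RuVec := fun p => gz (L.getD (4 * p.1.val + p.2.val) (0, 0))

/-- a coefficient from a table -/
def coefOf (T : List (List (Int × Int))) (i j : ℕ) : GaussianInt := gz ((T.getD i []).getD j (0, 0))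

/-- the levels -/
def levTab : List ℕ := [0, 0, 0, 0, 0, 0, 0, 0, 0, 1, 2, 2, 2, 2, 2, 2, 2, 2, 3, 4, 4, 4, 4, 4, 4, 4, 4, 4]

/-- the levels -/
def lev (l : Fin 28) : ℕ := levTab.getD l.val 0

def fTab : List (List (Int × Int)) := [
  [(1, 0), (1, 0), (1, 0), (0, -1), (-1, 0), (0, 1), (0, -1), (0, 1), (0, 0), (0, 0), (0, 0), (0, 0), (0, 0), (0, 0), (0, 0), (0, 0), (0, 1), (0, 1), (-1, 0), (0, -1), (0, 0), (0, 0), (0, 0), (0, 0), (-1, 0), (0, 1), (-1, 0), (-1, 0)],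
  [(0, 0), (1, 0), (1, 0), (1, -1), (-1, 0), (0, 1), (0, 0), (1, 1), (0, -1), (-1, 0), (0, 0), (0, 0), (0, 0), (0, 1), (0, 0), (-1, 0), (0, 0), (0, 1), (-1, 0), (1, -1), (0, 0), (0, -1), (0, 0), (0, -1), (0, 0), (1, 1), (-1, 1), (-1, -1)],
  [(0, 0), (0, 0), (1, 0), (0, -1), (0, 0), (-1, 1), (0, 1), (1, 2), (0, -1), (0, 0), (0, -1), (0, 0), (0, 0), (0, 1), (1, 0), (-1, -1), (0, 0), (0, 1), (-1, -1), (1, 0), (0, 0), (0, 2), (0, 0), (-1, -1), (0, 1), (1, 1), (-1, 1), (0, -1)],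
  [(0, 0), (0, 0), (0, 0), (0, 2), (0, 0), (-1, 1), (-1, 1), (2, 2), (0, 0), (0, 0), (0, 0), (0, 0), (0, 0), (0, 0), (1, -1), (-1, -1), (1, 0), (0, 1), (-1, 0), (1, 0), (0, -1), (0, -1), (0, 1), (-1, 2), (1, 1), (1, 1), (-1, 1), (-1, -1)],
  [(0, 0), (0, 0), (0, 0), (2, 0), (0, 0), (2, 0), (2, 0), (0, 2), (1, 0), (0, -1), (0, -1), (0, -1), (0, 0), (0, 0), (2, 0), (0, 2), (0, 0), (1, -1), (1, 1), (0, 0), (0, 1), (0, 1), (1, 0), (0, -1), (1, -1), (-1, -1), (2, 0), (0, 2)],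
  [(0, 0), (0, 0), (0, 0), (2, 0), (1, 1), (-1, 1), (0, 2), (0, 0), (0, 0), (1, -1), (2, 2), (1, -1), (1, 0), (1, 0), (1, 2), (2, -1), (0, 0), (-1, -1), (0, 2), (1, -1), (-1, 1), (2, 0), (2, 0), (1, 1), (-1, 2), (0, 1), (1, 2), (-1, 2)],
  [(0, 0), (0, 0), (0, 0), (-1, -1), (0, 0), (1, 0), (-1, 0), (-1, -1), (0, 0), (2, 0), (0, -1), (1, 2), (0, 0), (0, 2), (0, -1), (0, -1), (0, 0), (-1, 0), (-1, 1), (1, 0), (0, 0), (-1, 0), (-1, 0), (2, 2), (1, 1), (0, 1), (2, 2), (-1, 0)],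
  [(0, 0), (0, 0), (0, 0), (1, -1), (1, 0), (0, 0), (2, 2), (-1, 0), (0, 0), (-1, -1), (1, 0), (-1, 0), (0, 0), (1, -1), (2, -1), (1, 0), (0, 0), (2, 1), (-1, 1), (2, 1), (2, 0), (2, 1), (2, 1), (0, 0), (1, 2), (0, 2), (0, -1), (0, 2)],
  [(0, 0), (0, 0), (0, 0), (0, 0), (0, 0), (0, 0), (2, 0), (0, 0), (0, 0), (1, 1), (1, -1), (0, 2), (0, 0), (2, 2), (2, 0), (2, 0), (0, 0), (2, 2), (1, -1), (1, 1), (1, 0), (2, -1), (1, 0), (-1, 0), (1, 2), (1, 0), (1, 2), (2, 1)],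
  [(0, 0), (0, 0), (0, 0), (1, 1), (0, 0), (0, 0), (1, -1), (0, 0), (0, 0), (0, 0), (1, 1), (2, 0), (0, 0), (0, 0), (2, 0), (1, -1), (0, 0), (2, 0), (1, -1), (0, 0), (0, 0), (1, 1), (2, 0), (2, 0), (1, 0), (0, 1), (-1, 0), (0, 1)],
  [(0, 0), (0, 0), (0, 0), (0, 0), (0, 0), (0, 0), (1, 0), (1, 0), (0, 0), (0, -1), (0, -1), (0, 0), (0, 0), (0, 0), (1, -1), (1, -1), (0, 0), (0, 0), (1, -1), (0, 0), (0, 0), (0, -1), (0, -1), (0, 0), (0, 0), (1, 0), (0, 0), (1, 0)],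
  [(0, 0), (0, 0), (0, 0), (0, 0), (0, 0), (0, 0), (0, 0), (0, 0), (0, 0), (1, 0), (0, -1), (1, -1), (0, 0), (0, 0), (0, 0), (1, -1), (0, 0), (0, -1), (1, 0), (1, -1), (0, 0), (1, 0), (0, -1), (0, 0), (0, 0), (0, 0), (1, -1), (0, 0)],
  [(0, 0), (0, 0), (0, 0), (0, 0), (0, 0), (0, 0), (0, 0), (0, 0), (0, 0), (0, 0), (0, 0), (1, -1), (0, 0), (1, 0), (1, 0), (1, -1), (0, 0), (1, -1), (0, 0), (1, -1), (0, 0), (0, 0), (1, 0), (1, 0), (0, 0), (1, -1), (1, -1), (0, 0)],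
  [(0, 0), (0, 0), (0, 0), (0, 0), (0, 0), (0, 0), (0, 0), (0, 0), (0, 0), (0, 0), (1, 0), (0, -1), (0, 0), (0, 0), (0, 0), (1, -1), (0, 0), (1, -1), (0, -1), (1, 0), (0, 0), (0, -1), (0, -1), (0, 0), (0, 0), (0, -1), (1, 0), (1, -1)],
  [(0, 0), (0, 0), (0, 0), (1, -1), (0, 0), (0, 0), (0, 0), (1, -1), (0, 0), (0, 0), (0, 0), (1, -1), (0, 0), (0, 0), (1, 0), (1, 0), (0, 0), (0, 0), (0, -1), (1, 0), (0, 0), (0, 0), (1, -1), (0, 0), (0, 0), (1, 0), (0, -1), (0, 0)],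
  [(0, 0), (0, 0), (0, 0), (0, 0), (0, 0), (0, 0), (0, 0), (0, 0), (0, 0), (0, 0), (0, 0), (0, 0), (0, 0), (0, 0), (0, 0), (1, -1), (0, 0), (1, 0), (1, 0), (1, -1), (0, 0), (0, 0), (0, 0), (0, 0), (0, 0), (0, 0), (0, -1), (0, -1)],
  [(0, 0), (0, 0), (0, 0), (1, -1), (0, 0), (0, 0), (0, 0), (0, 0), (0, 0), (0, 0), (0, 0), (0, 0), (0, 0), (0, 0), (0, 0), (1, -1), (0, 0), (0, 0), (1, 0), (1, 0), (0, 0), (1, 0), (0, -1), (1, -1), (0, 0), (1, -1), (0, -1), (1, 0)],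
  [(0, 0), (0, 0), (0, 0), (0, 0), (0, 0), (0, 0), (0, 0), (1, -1), (0, 0), (0, 0), (0, 0), (0, 0), (0, 0), (0, 0), (0, 0), (0, 0), (0, 0), (0, 0), (0, 0), (0, 0), (0, 0), (1, 0), (1, -1), (1, 0), (0, 0), (1, 0), (1, 0), (0, 0)],
  [(0, 0), (0, 0), (0, 0), (0, -1), (0, 0), (0, 0), (0, 0), (0, -1), (0, 0), (0, 0), (0, 0), (0, -1), (0, 0), (0, 0), (0, 0), (0, -1), (0, 0), (0, 0), (0, 0), (0, -1), (0, 0), (0, 0), (0, 0), (0, -1), (0, 0), (0, 0), (0, 0), (0, -1)],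
  [(0, 0), (0, 0), (0, 0), (0, 0), (0, 0), (0, 0), (0, 0), (1, 0), (0, 0), (0, 0), (0, 0), (0, 0), (0, 0), (0, 0), (0, 0), (0, 0), (0, 0), (0, 0), (0, 0), (0, 0), (0, 0), (0, 0), (0, 0), (0, 0), (0, 0), (0, 0), (0, 0), (0, 0)],
  [(0, 0), (0, 0), (0, 0), (0, 0), (0, 0), (0, 0), (0, 0), (0, 0), (0, 0), (0, 0), (0, 0), (1, 0), (0, 0), (0, 0), (0, 0), (0, 0), (0, 0), (0, 0), (0, 0), (0, 0), (0, 0), (0, 0), (0, 0), (0, 0), (0, 0), (0, 0), (0, 0), (0, 0)],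
  [(0, 0), (0, 0), (0, 0), (0, 0), (0, 0), (0, 0), (0, 0), (0, 0), (0, 0), (0, 0), (0, 0), (0, 0), (0, 0), (0, 0), (0, 0), (1, 0), (0, 0), (0, 0), (0, 0), (0, 0), (0, 0), (0, 0), (0, 0), (0, 0), (0, 0), (0, 0), (0, 0), (0, 0)],
  [(0, 0), (0, 0), (0, 0), (0, 0), (0, 0), (0, 0), (0, 0), (0, 0), (0, 0), (0, 0), (0, 0), (0, 0), (0, 0), (0, 0), (0, 0), (0, 0), (0, 0), (0, 0), (0, 0), (1, 0), (0, 0), (0, 0), (0, 0), (0, 0), (0, 0), (0, 0), (0, 0), (0, 0)],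
  [(0, 0), (0, 0), (0, 0), (0, 0), (0, 0), (0, 0), (0, 0), (0, 0), (0, 0), (0, 0), (0, 0), (0, 0), (0, 0), (0, 0), (0, 0), (0, 0), (0, 0), (0, 0), (0, 0), (0, 0), (0, 0), (0, 0), (1, 0), (0, 0), (0, 0), (0, 0), (0, 0), (0, 0)],
  [(0, 0), (0, 0), (0, 0), (0, 0), (0, 0), (0, 0), (0, 0), (0, 0), (0, 0), (0, 0), (0, 0), (0, 0), (0, 0), (0, 0), (0, 0), (0, 0), (0, 0), (0, 0), (0, 0), (0, 0), (0, 0), (0, 0), (0, 0), (1, 0), (0, 0), (0, 0), (0, 0), (0, 0)],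
  [(0, 0), (0, 0), (0, 0), (0, 0), (0, 0), (0, 0), (0, 0), (0, 0), (0, 0), (0, 0), (0, 0), (0, 0), (0, 0), (0, 0), (0, 0), (0, 0), (0, 0), (0, 0), (0, 0), (0, 0), (0, 0), (0, 0), (0, 0), (0, 0), (0, 0), (1, 0), (0, 0), (0, 0)],
  [(0, 0), (0, 0), (0, 0), (0, 0), (0, 0), (0, 0), (0, 0), (0, 0), (0, 0), (0, 0), (0, 0), (0, 0), (0, 0), (0, 0), (0, 0), (0, 0), (0, 0), (0, 0), (0, 0), (0, 0), (0, 0), (0, 0), (0, 0), (0, 0), (0, 0), (0, 0), (1, 0), (0, 0)],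
  [(0, 0), (0, 0), (0, 0), (0, 0), (0, 0), (0, 0), (0, 0), (0, 0), (0, 0), (0, 0), (0, 0), (0, 0), (0, 0), (0, 0), (0, 0), (0, 0), (0, 0), (0, 0), (0, 0), (0, 0), (0, 0), (0, 0), (0, 0), (0, 0), (0, 0), (0, 0), (0, 0), (1, 0)]]

def bTab : List (List (Int × Int)) := [
  [(1, 0), (1, 0), (1, 0), (0, -1), (-1, 0), (0, 1), (0, -1), (0, 1), (0, 0), (0, 0), (0, 0), (0, 0), (0, 0), (0, 0), (0, 0), (0, 0), (0, 1), (0, 1), (-1, 0), (0, -1), (0, 0), (0, 0), (0, 0), (0, 0), (-1, 0), (0, 1), (-1, 0), (-1, 0)],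
  [(0, 0), (1, 0), (1, 0), (1, -1), (-1, 0), (0, 1), (0, 0), (1, 1), (0, -1), (-1, 0), (0, 0), (0, 0), (0, 0), (0, 1), (0, 0), (-1, 0), (0, 0), (0, 1), (-1, 0), (1, -1), (0, 0), (0, -1), (0, 0), (0, -1), (0, 0), (1, 1), (-1, 1), (-1, -1)],
  [(0, 0), (0, 0), (1, 0), (0, -1), (0, 0), (-1, 1), (0, 1), (1, 2), (0, -1), (0, 0), (0, -1), (0, 0), (0, 0), (0, 1), (1, 0), (-1, -1), (0, 0), (0, 1), (-1, -1), (1, 0), (0, 0), (0, 2), (0, 0), (-1, -1), (0, 1), (1, 1), (-1, 1), (0, -1)],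
  [(0, 0), (0, 0), (0, 0), (0, 2), (0, 0), (-1, 1), (-1, 1), (2, 2), (0, 0), (0, 0), (0, 0), (0, 0), (0, 0), (0, 0), (1, -1), (-1, -1), (1, 0), (0, 1), (-1, 0), (1, 0), (0, -1), (0, -1), (0, 1), (-1, 2), (1, 1), (1, 1), (-1, 1), (-1, -1)],
  [(0, 0), (0, 0), (0, 0), (2, 0), (0, 0), (2, 0), (2, 0), (0, 2), (1, 0), (0, -1), (0, -1), (0, -1), (0, 0), (0, 0), (2, 0), (0, 2), (0, 0), (1, -1), (1, 1), (0, 0), (0, 1), (0, 1), (1, 0), (0, -1), (1, -1), (-1, -1), (2, 0), (0, 2)],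
  [(0, 0), (0, 0), (0, 0), (2, 0), (1, 1), (-1, 1), (0, 2), (0, 0), (0, 0), (1, -1), (2, 2), (1, -1), (1, 0), (1, 0), (1, 2), (2, -1), (0, 0), (-1, -1), (0, 2), (1, -1), (-1, 1), (2, 0), (2, 0), (1, 1), (-1, 2), (0, 1), (1, 2), (-1, 2)],
  [(0, 0), (0, 0), (0, 0), (-1, -1), (0, 0), (1, 0), (-1, 0), (-1, -1), (0, 0), (2, 0), (0, -1), (1, 2), (0, 0), (0, 2), (0, -1), (0, -1), (0, 0), (-1, 0), (-1, 1), (1, 0), (0, 0), (-1, 0), (-1, 0), (2, 2), (1, 1), (0, 1), (2, 2), (-1, 0)],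
  [(0, 0), (0, 0), (0, 0), (1, -1), (1, 0), (0, 0), (2, 2), (-1, 0), (0, 0), (-1, -1), (1, 0), (-1, 0), (0, 0), (1, -1), (2, -1), (1, 0), (0, 0), (2, 1), (-1, 1), (2, 1), (2, 0), (2, 1), (2, 1), (0, 0), (1, 2), (0, 2), (0, -1), (0, 2)],
  [(0, 0), (0, 0), (0, 0), (0, 0), (0, 0), (0, 0), (2, 0), (0, 0), (0, 0), (1, 1), (1, -1), (0, 2), (0, 0), (2, 2), (2, 0), (2, 0), (0, 0), (2, 2), (1, -1), (1, 1), (1, 0), (2, -1), (1, 0), (-1, 0), (1, 2), (1, 0), (1, 2), (2, 1)],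
  [(0, 0), (0, 0), (0, 0), (0, 2), (0, 0), (0, 0), (2, 0), (0, 0), (0, 0), (0, 0), (0, 2), (2, 2), (0, 0), (0, 0), (2, 2), (2, 0), (0, 0), (2, 2), (2, 0), (0, 0), (0, 0), (0, 2), (2, 2), (2, 2), (1, 1), (-1, 1), (-1, -1), (-1, 1)],
  [(0, 0), (0, 0), (0, 0), (0, 0), (0, 0), (0, 0), (0, 2), (0, 2), (0, 0), (2, 0), (2, 0), (0, 0), (0, 0), (0, 0), (2, 2), (2, 2), (0, 0), (0, 0), (2, 2), (0, 0), (0, 0), (2, 0), (2, 0), (0, 0), (0, 0), (0, 2), (0, 0), (0, 2)],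
  [(0, 0), (0, 0), (0, 0), (0, 0), (0, 0), (0, 0), (0, 0), (0, 0), (0, 0), (0, 2), (2, 0), (2, 2), (0, 0), (0, 0), (0, 0), (2, 2), (0, 0), (2, 0), (0, 2), (2, 2), (0, 0), (0, 2), (2, 0), (0, 0), (0, 0), (0, 0), (2, 2), (0, 0)],
  [(0, 0), (0, 0), (0, 0), (0, 0), (0, 0), (0, 0), (0, 0), (0, 0), (0, 0), (0, 0), (0, 0), (2, 2), (0, 0), (0, 2), (0, 2), (2, 2), (0, 0), (2, 2), (0, 0), (2, 2), (0, 0), (0, 0), (0, 2), (0, 2), (0, 0), (2, 2), (2, 2), (0, 0)],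
  [(0, 0), (0, 0), (0, 0), (0, 0), (0, 0), (0, 0), (0, 0), (0, 0), (0, 0), (0, 0), (0, 2), (2, 0), (0, 0), (0, 0), (0, 0), (2, 2), (0, 0), (2, 2), (2, 0), (0, 2), (0, 0), (2, 0), (2, 0), (0, 0), (0, 0), (2, 0), (0, 2), (2, 2)],
  [(0, 0), (0, 0), (0, 0), (2, 2), (0, 0), (0, 0), (0, 0), (2, 2), (0, 0), (0, 0), (0, 0), (2, 2), (0, 0), (0, 0), (0, 2), (0, 2), (0, 0), (0, 0), (2, 0), (0, 2), (0, 0), (0, 0), (2, 2), (0, 0), (0, 0), (0, 2), (2, 0), (0, 0)],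
  [(0, 0), (0, 0), (0, 0), (0, 0), (0, 0), (0, 0), (0, 0), (0, 0), (0, 0), (0, 0), (0, 0), (0, 0), (0, 0), (0, 0), (0, 0), (2, 2), (0, 0), (0, 2), (0, 2), (2, 2), (0, 0), (0, 0), (0, 0), (0, 0), (0, 0), (0, 0), (2, 0), (2, 0)],
  [(0, 0), (0, 0), (0, 0), (2, 2), (0, 0), (0, 0), (0, 0), (0, 0), (0, 0), (0, 0), (0, 0), (0, 0), (0, 0), (0, 0), (0, 0), (2, 2), (0, 0), (0, 0), (0, 2), (0, 2), (0, 0), (0, 2), (2, 0), (2, 2), (0, 0), (2, 2), (2, 0), (0, 2)],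
  [(0, 0), (0, 0), (0, 0), (0, 0), (0, 0), (0, 0), (0, 0), (2, 2), (0, 0), (0, 0), (0, 0), (0, 0), (0, 0), (0, 0), (0, 0), (0, 0), (0, 0), (0, 0), (0, 0), (0, 0), (0, 0), (0, 2), (2, 2), (0, 2), (0, 0), (0, 2), (0, 2), (0, 0)],
  [(0, 0), (0, 0), (0, 0), (2, 2), (0, 0), (0, 0), (0, 0), (2, 2), (0, 0), (0, 0), (0, 0), (2, 2), (0, 0), (0, 0), (0, 0), (2, 2), (0, 0), (0, 0), (0, 0), (2, 2), (0, 0), (0, 0), (0, 0), (2, 2), (0, 0), (0, 0), (0, 0), (2, 2)],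
  [(0, 0), (0, 0), (0, 0), (0, 0), (0, 0), (0, 0), (0, 0), (-4, 0), (0, 0), (0, 0), (0, 0), (0, 0), (0, 0), (0, 0), (0, 0), (0, 0), (0, 0), (0, 0), (0, 0), (0, 0), (0, 0), (0, 0), (0, 0), (0, 0), (0, 0), (0, 0), (0, 0), (0, 0)],
  [(0, 0), (0, 0), (0, 0), (0, 0), (0, 0), (0, 0), (0, 0), (0, 0), (0, 0), (0, 0), (0, 0), (-4, 0), (0, 0), (0, 0), (0, 0), (0, 0), (0, 0), (0, 0), (0, 0), (0, 0), (0, 0), (0, 0), (0, 0), (0, 0), (0, 0), (0, 0), (0, 0), (0, 0)],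
  [(0, 0), (0, 0), (0, 0), (0, 0), (0, 0), (0, 0), (0, 0), (0, 0), (0, 0), (0, 0), (0, 0), (0, 0), (0, 0), (0, 0), (0, 0), (-4, 0), (0, 0), (0, 0), (0, 0), (0, 0), (0, 0), (0, 0), (0, 0), (0, 0), (0, 0), (0, 0), (0, 0), (0, 0)],
  [(0, 0), (0, 0), (0, 0), (0, 0), (0, 0), (0, 0), (0, 0), (0, 0), (0, 0), (0, 0), (0, 0), (0, 0), (0, 0), (0, 0), (0, 0), (0, 0), (0, 0), (0, 0), (0, 0), (-4, 0), (0, 0), (0, 0), (0, 0), (0, 0), (0, 0), (0, 0), (0, 0), (0, 0)],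
  [(0, 0), (0, 0), (0, 0), (0, 0), (0, 0), (0, 0), (0, 0), (0, 0), (0, 0), (0, 0), (0, 0), (0, 0), (0, 0), (0, 0), (0, 0), (0, 0), (0, 0), (0, 0), (0, 0), (0, 0), (0, 0), (0, 0), (-4, 0), (0, 0), (0, 0), (0, 0), (0, 0), (0, 0)],
  [(0, 0), (0, 0), (0, 0), (0, 0), (0, 0), (0, 0), (0, 0), (0, 0), (0, 0), (0, 0), (0, 0), (0, 0), (0, 0), (0, 0), (0, 0), (0, 0), (0, 0), (0, 0), (0, 0), (0, 0), (0, 0), (0, 0), (0, 0), (-4, 0), (0, 0), (0, 0), (0, 0), (0, 0)],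
  [(0, 0), (0, 0), (0, 0), (0, 0), (0, 0), (0, 0), (0, 0), (0, 0), (0, 0), (0, 0), (0, 0), (0, 0), (0, 0), (0, 0), (0, 0), (0, 0), (0, 0), (0, 0), (0, 0), (0, 0), (0, 0), (0, 0), (0, 0), (0, 0), (0, 0), (-4, 0), (0, 0), (0, 0)],
  [(0, 0), (0, 0), (0, 0), (0, 0), (0, 0), (0, 0), (0, 0), (0, 0), (0, 0), (0, 0), (0, 0), (0, 0), (0, 0), (0, 0), (0, 0), (0, 0), (0, 0), (0, 0), (0, 0), (0, 0), (0, 0), (0, 0), (0, 0), (0, 0), (0, 0), (0, 0), (-4, 0), (0, 0)],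
  [(0, 0), (0, 0), (0, 0), (0, 0), (0, 0), (0, 0), (0, 0), (0, 0), (0, 0), (0, 0), (0, 0), (0, 0), (0, 0), (0, 0), (0, 0), (0, 0), (0, 0), (0, 0), (0, 0), (0, 0), (0, 0), (0, 0), (0, 0), (0, 0), (0, 0), (0, 0), (0, 0), (-4, 0)]]

def fv (l : Fin 28) : RuVec := vecOf (fTab.getD l.val [])

def bv (l : Fin 28) : RuVec := vecOf (bTab.getD l.val [])

def tabCert : List (List (Int × Int)) := [
  [(4, 0), (-4, 0), (0, 0), (0, -4), (0, -4), (0, 0), (-4, 4), (0, 0), (0, 0), (10, -2), (8, 14), (-18, 4), (6, -4), (-30, -8), (-32, 10), (28, -16), (-28, -44), (30, 22), (53, 35), (-10, 61), (-31, 26), (22, -15), (44, -1), (-41, 3), (11, 32), (-29, -34), (-35, -35), (27, 11)],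
  [(0, -1), (1, 1), (0, 0), (-1, 0), (-1, 1), (1, 0), (2, -3), (0, -1), (3, 1), (-7, -2), (-1, -5), (6, 2), (-6, 4), (11, 9), (20, -5), (-16, -6), (11, 34), (-13, -20), (-27, -26), (16, -36), (14, -14), (-17, 3), (-26, -14), (26, 4), (-4, -19), (9, 29), (13, 18), (-19, -14)],
  [(0, -1), (1, 1), (-2, 0), (-1, 0), (-1, -1), (1, 0), (0, 3), (0, -1), (1, 1), (1, -6), (9, 2), (-6, 8), (-1, -3), (-13, 12), (-5, 17), (4, -23), (-32, 6), (27, -8), (34, -18), (32, 26), (4, 18), (0, -16), (16, -27), (-9, 25), (15, 7), (-29, 9), (-28, 9), (14, -13)],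
  [(0, -1), (-1, 1), (2, 0), (-1, 0), (-1, 1), (1, 0), (4, -3), (-2, -1), (7, 1), (-13, -4), (2, -10), (8, 11), (-13, 7), (17, 17), (36, -1), (-30, -19), (18, 64), (-20, -47), (-47, -57), (40, -67), (19, -23), (-33, -2), (-50, -34), (47, 10), (0, -36), (12, 54), (22, 37), (-30, -35)],
  [(0, -1), (-1, 1), (0, 0), (-1, 0), (-1, -1), (1, 0), (2, 3), (-2, -1), (5, 1), (-5, -8), (12, -3), (-4, 17), (-8, 0), (-7, 20), (11, 21), (-10, -36), (-25, 36), (22, -35), (15, -50), (58, -4), (10, 9), (-14, -21), (-7, -47), (13, 32), (20, -9), (-26, 35), (-20, 29), (4, -34)],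
  [(1, 0), (0, 0), (0, 0), (1, -1), (1, 0), (0, 0), (-2, -3), (2, 0), (-3, 0), (3, 5), (-9, 4), (2, -13), (6, 1), (4, -14), (-8, -17), (8, 24), (17, -25), (-16, 28), (-10, 38), (-43, 5), (-8, -7), (9, 16), (6, 33), (-11, -22), (-17, 7), (16, -24), (12, -23), (-4, 26)],
  [(1, 0), (0, 0), (0, 0), (0, -1), (0, 0), (-1, 0), (-3, -1), (2, 1), (-5, -1), (8, 5), (-6, 6), (-1, -12), (10, -2), (-5, -15), (-22, -11), (14, 24), (7, -46), (-9, 38), (12, 51), (-51, 27), (-15, 7), (19, 11), (22, 37), (-29, -23), (-9, 17), (9, -41), (-3, -35), (7, 34)],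
  [(1, 0), (0, 0), (0, 0), (0, -1), (0, 0), (0, 1), (0, 0), (2, -1), (-2, 4), (4, -4), (-1, 5), (-6, -5), (-1, -5), (-7, -2), (-5, 5), (18, -1), (-20, -9), (13, 12), (21, 5), (1, 25), (3, 3), (7, -6), (22, -3), (-14, 8), (4, 4), (-18, -11), (-12, -8), (14, 2)],
  [(1, 0), (0, 0), (-2, 0), (0, -2), (0, -2), (-1, 0), (-4, 4), (2, 1), (-5, -1), (12, 1), (3, 11), (-11, -5), (11, -7), (-22, -11), (-35, 7), (28, 7), (-27, -58), (26, 40), (54, 49), (-28, 70), (-22, 29), (27, -4), (48, 21), (-47, -1), (5, 35), (-22, -47), (-32, -34), (30, 28)],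
  [(1, 0), (0, 0), (-2, 0), (-1, -1), (0, -2), (0, 1), (-3, 5), (2, -1), (-4, 2), (12, -4), (7, 13), (-17, -1), (7, -11), (-30, -5), (-35, 18), (39, -10), (-52, -50), (48, 33), (78, 33), (-1, 89), (-15, 36), (30, -16), (65, 1), (-50, 17), (16, 37), (-44, -41), (-47, -27), (45, 15)],
  [(1, 0), (0, 0), (-2, 0), (0, -1), (0, -3), (0, 0), (-3, 6), (2, 0), (-6, 1), (14, -4), (8, 12), (-14, -1), (10, -12), (-31, -2), (-38, 23), (35, -7), (-58, -54), (48, 35), (86, 32), (0, 95), (-11, 44), (30, -17), (67, 1), (-56, 20), (20, 39), (-48, -44), (-53, -25), (47, 18)],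
  [(1, 0), (0, 0), (-2, 0), (0, -1), (1, -2), (0, 0), (-5, 4), (1, -1), (-2, 1), (10, -1), (5, 14), (-17, -4), (8, -7), (-24, -10), (-35, 9), (33, -4), (-32, -48), (37, 37), (59, 39), (-16, 75), (-22, 23), (28, -9), (52, 8), (-45, 7), (5, 36), (-31, -39), (-37, -30), (35, 20)],
  [(1, 0), (-2, 0), (2, 0), (0, -1), (0, 0), (0, 0), (1, -2), (-1, -1), (3, 1), (-5, 1), (-2, -2), (1, 1), (-5, 3), (9, -2), (13, -8), (-6, -1), (18, 20), (-12, -13), (-27, -11), (4, -29), (1, -18), (-8, 5), (-19, -3), (20, -6), (-6, -11), (14, 15), (19, 7), (-12, -8)],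
  [(1, 0), (-2, 0), (2, 0), (0, -1), (0, 0), (0, 0), (1, -2), (-2, 0), (4, 0), (-4, 1), (-1, -2), (1, 4), (-6, 5), (5, -1), (12, -8), (-9, -7), (21, 20), (-16, -20), (-30, -12), (4, -37), (-4, -17), (-10, 0), (-22, -8), (20, -10), (-3, -13), (15, 15), (19, 2), (-17, -13)],
  [(1, 0), (-2, 0), (2, 0), (0, -2), (1, 0), (0, 1), (-1, -1), (0, -1), (3, 2), (-2, -1), (-2, 4), (-6, -2), (-4, 2), (1, -6), (4, -7), (8, -2), (10, 4), (-5, 2), (-15, 5), (-9, -8), (-10, -15), (-3, 2), (-5, 1), (4, -6), (-10, -5), (3, 1), (8, -7), (-5, -2)],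
  [(1, 0), (-2, 0), (2, 0), (1, -1), (0, -1), (1, 0), (4, -2), (-2, -1), (5, 2), (-9, -3), (1, -7), (5, 8), (-12, 4), (12, 11), (31, 1), (-17, -17), (8, 54), (-9, -43), (-34, -50), (44, -51), (18, -20), (-23, -4), (-33, -31), (40, 11), (3, -26), (5, 44), (22, 31), (-19, -34)],
  [(1, 0), (-2, 0), (0, 0), (0, -1), (0, -3), (0, -1), (-2, 6), (-2, 1), (0, -3), (6, -1), (11, 5), (-10, 11), (5, -3), (-21, 2), (-22, 18), (9, -18), (-26, -24), (29, 2), (45, 7), (14, 43), (-17, 29), (13, -16), (26, -11), (-25, 12), (18, 24), (-24, -14), (-31, -8), (23, -1)],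
  [(1, 0), (-2, 0), (0, 0), (0, -1), (-1, -2), (-1, 0), (-1, 5), (0, 1), (-2, 1), (8, -6), (9, 5), (-10, 6), (2, -8), (-21, 5), (-17, 25), (17, -15), (-41, -19), (32, 5), (52, -5), (21, 48), (-3, 26), (12, -22), (34, -18), (-29, 22), (23, 14), (-37, -15), (-36, -5), (30, -6)],
  [(1, 0), (-2, 0), (0, 0), (1, -1), (0, -2), (0, 0), (0, 3), (-1, -1), (1, 3), (3, -5), (7, 4), (-10, 6), (-3, -6), (-13, 4), (-6, 18), (14, -19), (-31, 2), (30, -7), (34, -18), (33, 28), (2, 10), (7, -19), (23, -25), (-10, 22), (18, 8), (-29, 1), (-21, 5), (23, -15)],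
  [(1, 0), (-2, 0), (0, 0), (0, -2), (0, -2), (0, 0), (-2, 3), (0, 0), (0, 0), (5, -2), (5, 7), (-10, 3), (3, -3), (-16, -3), (-16, 8), (16, -9), (-18, -22), (20, 11), (30, 15), (-1, 35), (-15, 15), (11, -9), (24, -2), (-21, 6), (7, 17), (-18, -16), (-20, -14), (17, 4)]]

def certRj : List (List (Int × Int)) := [
  [(0, 1), (0, 0), (0, -2), (0, 0), (2, 0), (0, 0), (-5, -3), (-1, 1), (2, -4), (1, 11), (-8, 7), (-2, -9), (6, 10), (2, -25), (-16, -33), (5, 20), (48, -36), (-27, 31), (-31, 62), (-69, -9), (-38, -16), (12, 23), (-6, 46), (-9, -45), (-32, 14), (36, -30), (23, -41), (-17, 31)],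
  [(0, 1), (0, -1), (1, -1), (0, 0), (2, 0), (-1, 0), (-5, -2), (0, 1), (0, -3), (4, 10), (-8, 8), (-4, -12), (7, 6), (1, -26), (-20, -26), (11, 25), (38, -43), (-21, 38), (-18, 62), (-69, 6), (-34, -12), (17, 20), (4, 47), (-18, -40), (-27, 16), (28, -38), (16, -41), (-6, 35)],
  [(0, 0), (0, 0), (0, -1), (-1, 0), (1, 0), (-1, 0), (-5, 1), (0, 0), (-3, -1), (10, 6), (-2, 11), (-10, -9), (9, -3), (-14, -21), (-35, -8), (27, 15), (-1, -58), (10, 44), (32, 59), (-48, 51), (-28, 11), (31, 5), (39, 34), (-40, -21), (-6, 31), (-1, -52), (-14, -42), (23, 34)],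
  [(0, 0), (0, 0), (0, 2), (-1, 0), (-2, 0), (0, 0), (5, 3), (-1, -1), (3, 3), (-5, -9), (11, -8), (0, 16), (-11, -5), (-1, 25), (20, 29), (-13, -33), (-34, 50), (24, -48), (16, -71), (77, -12), (28, 8), (-17, -25), (-9, -56), (23, 40), (31, -17), (-28, 43), (-15, 44), (7, -42)],
  [(0, 0), (0, 0), (2, 0), (1, 1), (1, 2), (0, 0), (2, -6), (0, 2), (0, -4), (-7, 7), (-10, -10), (20, -4), (0, 11), (24, -1), (22, -24), (-33, 23), (50, 17), (-55, -10), (-66, 3), (-31, -67), (6, -21), (-21, 24), (-50, 24), (29, -30), (-22, -27), (46, 13), (41, 4), (-43, 7)],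
  [(0, 0), (0, 0), (2, 0), (1, -1), (1, 3), (0, 1), (0, -8), (0, -2), (5, 7), (-9, -1), (-13, -2), (3, -13), (-12, 5), (24, -7), (29, -24), (-3, 11), (39, 42), (-34, -9), (-66, -18), (-11, -63), (12, -55), (-17, 13), (-36, 0), (36, -16), (-24, -35), (28, 24), (43, 6), (-28, -10)],
  [(0, 0), (0, 0), (-1, -1), (0, -1), (1, 1), (-2, 0), (-7, -1), (2, 3), (-4, -6), (8, 13), (-12, 9), (-1, -18), (17, 5), (0, -33), (-33, -33), (13, 48), (48, -80), (-31, 68), (-18, 102), (-113, 22), (-47, -2), (24, 31), (8, 81), (-37, -56), (-37, 27), (41, -65), (13, -60), (-7, 64)],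
  [(0, 0), (0, 0), (1, -1), (-1, 2), (2, 0), (1, 1), (-1, 2), (0, -2), (-1, 3), (3, -4), (4, 6), (-9, 1), (-1, -6), (-12, 1), (-12, 12), (21, -12), (-33, -12), (29, 12), (42, 2), (14, 47), (1, 14), (13, -10), (33, -9), (-21, 17), (8, 12), (-29, -13), (-26, -4), (27, -1)],
  [(0, 0), (0, 0), (0, 0), (-2, 2), (-1, 1), (-2, 2), (2, 6), (4, 0), (-8, 5), (12, -12), (9, 4), (-9, 3), (2, -18), (-24, 12), (-19, 41), (29, -10), (-77, -29), (48, 19), (87, -10), (29, 85), (17, 44), (17, -28), (59, -20), (-47, 42), (35, 12), (-62, -27), (-60, 1), (52, -1)],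
  [(0, 0), (0, 0), (0, 2), (-2, 2), (-2, 0), (0, 0), (6, 6), (0, 0), (-4, 0), (2, -9), (14, -8), (3, 18), (-2, -11), (-11, 27), (3, 40), (-7, -25), (-59, 16), (36, -30), (56, -50), (69, 31), (30, 42), (-4, -25), (18, -41), (-5, 44), (43, 0), (-41, 17), (-38, 36), (26, -25)],
  [(0, 0), (0, 0), (0, 0), (0, 0), (0, 2), (0, 0), (0, -4), (0, 0), (2, 2), (-5, 1), (-6, -3), (5, -5), (-4, 4), (13, -1), (14, -14), (-10, 6), (25, 21), (-24, -8), (-37, -8), (-9, -40), (6, -25), (-10, 9), (-24, 2), (20, -12), (-11, -18), (20, 13), (23, 2), (-21, -3)],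
  [(0, 0), (0, 0), (0, 0), (0, 2), (-2, 0), (0, 0), (6, 2), (0, 0), (-4, 2), (1, -7), (7, -9), (7, 10), (-4, -8), (-2, 20), (13, 27), (-8, -14), (-39, 25), (18, -28), (27, -50), (57, 5), (35, 20), (-7, -18), (6, -33), (7, 33), (31, -11), (-26, 21), (-16, 33), (14, -25)],
  [(0, 0), (0, 0), (0, 0), (-2, 2), (0, 0), (-2, 0), (-2, 6), (2, 2), (-8, -4), (13, 3), (4, 6), (-5, -1), (14, -9), (-19, -9), (-37, 13), (20, 16), (-26, -70), (20, 44), (59, 52), (-37, 76), (-19, 43), (29, -1), (46, 33), (-53, -4), (10, 34), (-17, -55), (-36, -30), (35, 36)],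
  [(0, 0), (0, 0), (0, 0), (-2, 2), (0, 0), (0, 0), (0, 4), (0, 0), (-2, 0), (6, -4), (8, 4), (-7, 7), (2, -6), (-18, 5), (-17, 19), (13, -15), (-35, -19), (27, 5), (49, 1), (14, 45), (-3, 28), (12, -16), (32, -12), (-26, 16), (20, 14), (-30, -15), (-33, -6), (26, -1)],
  [(0, 0), (0, 0), (2, 2), (0, 0), (-2, 2), (0, 0), (8, -4), (0, 0), (2, 2), (-13, -3), (-3, -19), (20, 6), (-13, 3), (31, 21), (51, 2), (-41, -1), (20, 78), (-33, -57), (-62, -75), (48, -89), (44, -27), (-39, 4), (-62, -30), (62, 12), (6, -49), (22, 63), (38, 55), (-36, -36)],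
  [(0, 0), (0, 0), (0, 0), (-2, 0), (0, 0), (0, 0), (-2, 2), (0, 0), (0, -2), (3, 1), (3, 5), (-6, 2), (4, 0), (-10, -4), (-15, -1), (8, -3), (-2, -24), (6, 14), (16, 25), (-18, 23), (-18, 12), (9, 0), (13, 10), (-17, -6), (-1, 14), (-3, -17), (-13, -18), (7, 12)],
  [(0, 0), (0, 0), (2, 2), (0, 0), (-2, 2), (0, 0), (8, -4), (0, 0), (0, 2), (-9, -1), (-6, -16), (18, 2), (-11, 1), (26, 14), (43, -3), (-29, 3), (19, 62), (-31, -49), (-54, -57), (37, -79), (39, -25), (-28, 4), (-47, -19), (53, 2), (7, -40), (24, 47), (41, 39), (-30, -29)],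
  [(0, 0), (0, 0), (0, 0), (0, 0), (0, 0), (0, 0), (0, 0), (0, 0), (-2, 0), (2, 2), (-1, -1), (2, -2), (2, -2), (0, -2), (-4, 0), (2, 6), (-3, -7), (1, 4), (7, 5), (-2, 6), (3, 4), (6, 2), (7, 6), (-4, -3), (3, 5), (1, -8), (0, -2), (5, 6)],
  [(0, 0), (0, 0), (2, 2), (0, 0), (-2, 2), (0, 0), (8, -4), (0, 0), (2, 2), (-12, -4), (-2, -18), (19, 7), (-13, 3), (28, 22), (49, 3), (-40, -4), (17, 75), (-32, -56), (-58, -73), (47, -85), (42, -24), (-39, 1), (-60, -32), (58, 12), (7, -49), (19, 61), (33, 51), (-36, -36)],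
  [(0, 0), (0, 0), (0, 0), (0, 0), (0, 0), (0, 0), (0, 0), (0, 0), (0, 0), (0, 0), (0, 2), (-2, 0), (0, 0), (-2, -2), (-2, -2), (4, -2), (0, -4), (2, 2), (2, 6), (-3, 4), (-4, 0), (2, 0), (4, 2), (-2, -2), (-1, 3), (0, -3), (0, -5), (1, 1)],
  [(0, 0), (0, 0), (0, 0), (0, 0), (0, 0), (0, 0), (0, 0), (0, 0), (0, 0), (0, 0), (0, 0), (0, 0), (0, 0), (0, 2), (0, 0), (-2, -2), (0, 2), (-2, -2), (0, -2), (1, -3), (1, 0), (-1, -1), (-1, -3), (0, 0), (1, -1), (0, 1), (-1, -1), (-2, -1)],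
  [(0, 0), (0, 0), (0, 0), (0, 0), (0, 0), (0, 0), (0, 0), (0, 0), (0, 0), (0, 0), (0, 0), (0, 0), (0, 0), (0, 0), (0, 2), (0, 0), (-2, 0), (2, 0), (2, -2), (2, 2), (1, 1), (0, -1), (1, -1), (-1, 2), (1, 0), (-2, 0), (-1, 2), (2, -1)],
  [(0, 0), (0, 0), (0, 0), (0, 0), (0, 0), (0, 0), (0, 0), (0, 0), (0, 0), (0, 0), (0, 0), (0, 0), (0, 0), (0, 0), (0, 0), (0, 0), (0, 2), (0, -2), (0, -2), (2, -2), (1, -1), (0, 0), (0, -1), (1, 0), (1, 0), (0, 1), (1, 1), (0, -1)],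
  [(0, 0), (0, 0), (0, 0), (0, 0), (0, 0), (0, 0), (0, 0), (0, 0), (0, 0), (0, 0), (0, 0), (0, 0), (0, 0), (0, 0), (0, 0), (0, 0), (0, 0), (0, 0), (0, 0), (0, 0), (0, 0), (0, 0), (0, 0), (0, 0), (-1, 0), (0, 0), (0, 0), (0, 0)],
  [(0, 0), (0, 0), (0, 0), (0, 0), (0, 0), (0, 0), (0, 0), (0, 0), (0, 0), (0, 0), (0, 0), (0, 0), (0, 0), (0, 0), (0, 0), (0, 0), (0, 0), (0, 0), (0, 0), (0, 0), (0, 0), (0, 0), (0, 0), (1, 0), (0, 0), (0, 0), (0, 0), (0, 0)],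
  [(0, 0), (0, 0), (0, 0), (0, 0), (0, 0), (0, 0), (0, 0), (0, 0), (0, 0), (-2, -2), (2, -2), (2, 2), (0, 0), (2, 6), (4, 4), (-6, -2), (-4, 8), (0, -4), (0, -10), (8, -2), (6, 2), (-6, 0), (-6, -6), (3, 7), (1, -5), (-3, 8), (-4, 9), (-2, -3)],
  [(0, 0), (0, 0), (0, 0), (0, 0), (0, 0), (0, 0), (0, 0), (0, 0), (0, 0), (0, 0), (0, 0), (0, 0), (0, 0), (0, 0), (0, 0), (0, 0), (0, 0), (0, 0), (0, 0), (0, 0), (0, 0), (0, 0), (0, 0), (0, 0), (0, 0), (0, 0), (0, 0), (-1, 0)],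
  [(0, 0), (0, 0), (0, 0), (0, 0), (0, 0), (0, 0), (0, 0), (0, 0), (0, 0), (0, 0), (0, 0), (0, 0), (0, 0), (0, 0), (0, 0), (0, 0), (0, 0), (0, 0), (0, 0), (0, 0), (0, 0), (0, 0), (0, 0), (0, 0), (0, 0), (0, 0), (1, 0), (0, 0)]]

def certRk : List (List (Int × Int)) := [
  [(0, 1), (0, 0), (0, 0), (1, -1), (0, 0), (0, 0), (1, -3), (1, 1), (-1, -1), (-2, 4), (-8, -3), (8, -7), (1, 4), (12, -6), (10, -16), (-7, 17), (26, 4), (-25, 1), (-34, 10), (-21, -31), (2, -15), (-5, 15), (-18, 19), (14, -18), (-14, -8), (24, 2), (27, -3), (-19, 7)],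
  [(0, 1), (-1, 0), (1, -1), (1, -1), (1, 0), (0, 0), (-2, -4), (-1, 1), (3, -2), (-4, 7), (-9, 0), (4, -7), (0, 9), (13, -15), (7, -27), (-6, 18), (48, -1), (-33, 7), (-52, 24), (-40, -40), (-16, -28), (-4, 20), (-27, 28), (16, -32), (-27, -7), (37, -2), (36, -14), (-26, 11)],
  [(0, 1), (0, 0), (0, -1), (2, -1), (2, 0), (0, 1), (-3, -5), (0, 0), (2, 1), (-1, 6), (-11, 4), (0, -13), (0, 6), (9, -20), (1, -27), (8, 21), (38, -10), (-24, 19), (-40, 32), (-44, -22), (-16, -30), (4, 18), (-10, 30), (6, -30), (-28, -3), (28, -13), (31, -22), (-16, 15)],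
  [(0, 0), (0, -2), (0, 2), (0, -1), (0, 0), (1, 1), (-1, -1), (-1, -5), (4, 10), (0, -10), (4, 7), (-17, -1), (-11, -8), (-9, 4), (2, 14), (27, -26), (-35, 28), (36, -14), (29, -37), (49, 18), (14, -15), (6, -22), (26, -43), (2, 28), (17, -3), (-35, 14), (-15, 10), (26, -26)],
  [(0, 0), (-2, 0), (2, 0), (-1, 1), (1, 0), (0, 2), (2, 2), (0, 0), (1, 1), (1, -5), (5, 0), (-3, 9), (-6, -2), (-9, 7), (3, 15), (6, -17), (-24, 6), (14, -13), (19, -19), (25, 12), (3, 12), (-3, -14), (9, -19), (-4, 16), (13, -6), (-23, 4), (-15, 7), (12, -17)],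
  [(0, 0), (-2, 0), (2, 0), (-2, 0), (-2, 2), (-2, 1), (3, 1), (-1, 1), (3, 3), (-3, -7), (5, -5), (-1, 11), (-10, -1), (-1, 12), (16, 14), (-8, -20), (-7, 30), (-2, -31), (-8, -42), (33, -27), (8, -5), (-16, -17), (-16, -32), (14, 14), (16, -24), (-10, 23), (-2, 17), (-4, -30)],
  [(0, 0), (1, 1), (-1, -1), (-1, -1), (1, 0), (1, 0), (-3, -1), (0, -1), (2, -2), (-1, 8), (-6, 6), (-5, -7), (4, 5), (2, -19), (-10, -25), (10, 13), (31, -24), (-9, 25), (-19, 47), (-45, 2), (-28, -12), (11, 18), (1, 34), (-3, -27), (-25, 17), (24, -18), (17, -26), (-8, 23)],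
  [(0, 0), (-1, 1), (1, -1), (-1, -1), (0, 1), (1, 2), (3, -2), (-2, 0), (8, 2), (-9, -6), (3, -5), (1, 12), (-15, 8), (4, 12), (28, 0), (-15, -28), (10, 50), (-11, -42), (-37, -45), (35, -53), (4, -20), (-28, -10), (-36, -37), (34, 8), (0, -31), (0, 42), (14, 21), (-25, -39)],
  [(0, 0), (0, 0), (0, 0), (1, 1), (1, 1), (0, 2), (2, 0), (2, 0), (-2, 3), (0, -4), (-2, -3), (2, -2), (-3, -3), (2, 4), (9, 8), (4, 2), (-14, 8), (4, -2), (2, -15), (12, 3), (13, -1), (-5, -5), (2, -7), (1, 12), (2, -10), (-11, 5), (-2, 11), (4, -8)],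
  [(0, 0), (0, -2), (0, 2), (0, 2), (-2, 0), (-2, 2), (6, 8), (4, 0), (-12, 8), (15, -20), (15, -2), (-7, 10), (-1, -26), (-31, 29), (-11, 70), (29, -26), (-121, -7), (72, -9), (120, -58), (88, 96), (47, 61), (12, -51), (72, -58), (-46, 75), (67, 4), (-94, -10), (-77, 29), (70, -29)],
  [(0, 0), (0, 0), (0, 0), (-2, 2), (0, 2), (-2, 2), (0, 2), (2, 0), (-4, 4), (9, -7), (4, 5), (-8, 0), (-1, -9), (-18, 2), (-16, 20), (24, -8), (-42, -22), (25, 13), (51, 0), (8, 48), (3, 20), (14, -19), (40, -11), (-33, 16), (20, 5), (-37, -24), (-34, -12), (32, -2)],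
  [(0, 0), (0, 0), (0, 0), (-2, 0), (0, 2), (0, 0), (-2, -2), (0, 0), (2, 0), (-1, 3), (-5, 3), (-3, -4), (-1, 5), (2, -10), (-3, -17), (2, 4), (27, -7), (-17, 7), (-23, 22), (-31, -18), (-18, -17), (1, 7), (-10, 14), (2, -23), (-13, -2), (19, -8), (14, -20), (-13, 9)],
  [(0, 0), (0, 0), (0, 0), (0, 0), (0, 0), (-2, 0), (-2, 2), (2, 2), (-8, -2), (12, 6), (-5, 5), (-2, -10), (11, -6), (-10, -18), (-27, -3), (21, 27), (-3, -59), (1, 39), (26, 54), (-47, 42), (-17, 17), (26, 5), (33, 40), (-37, -21), (0, 24), (3, -52), (-7, -36), (19, 33)],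
  [(0, 0), (0, 0), (0, 0), (0, 2), (-2, 0), (0, 0), (6, 2), (0, 0), (-2, 4), (-2, -10), (8, -10), (6, 12), (-9, -7), (-1, 26), (21, 31), (-12, -26), (-42, 46), (19, -43), (22, -72), (76, -9), (40, 12), (-15, -25), (-2, -53), (16, 41), (33, -21), (-32, 37), (-16, 42), (9, -41)],
  [(0, 0), (-2, -2), (2, 2), (0, 2), (0, 0), (-2, 0), (0, 4), (0, 0), (-6, 4), (13, -7), (7, 5), (-11, 3), (1, -15), (-23, 3), (-23, 34), (27, -11), (-57, -25), (39, 5), (73, -12), (28, 62), (9, 28), (22, -31), (53, -22), (-39, 24), (39, 12), (-46, -29), (-41, -7), (49, -7)],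
  [(0, 0), (0, 0), (0, 0), (-2, 0), (0, 0), (0, 0), (-2, 2), (0, 0), (0, -2), (4, 2), (2, 6), (-7, 1), (3, 1), (-11, -7), (-17, -3), (10, -3), (0, -26), (6, 14), (16, 28), (-20, 22), (-21, 10), (11, -1), (15, 10), (-18, -10), (-1, 16), (-2, -20), (-11, -22), (7, 12)],
  [(0, 0), (-2, -2), (2, 2), (-2, 0), (0, 0), (0, 0), (0, 4), (-2, -2), (4, 4), (1, -9), (11, 5), (-16, 12), (-9, -5), (-16, 10), (-4, 24), (13, -37), (-35, 18), (33, -23), (37, -36), (48, 20), (0, 6), (1, -29), (18, -46), (-6, 27), (26, -1), (-37, 12), (-28, 9), (23, -29)],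
  [(0, 0), (0, 0), (0, 0), (0, 0), (0, 0), (0, 0), (-2, -2), (0, 0), (-2, 2), (5, 1), (-4, 4), (-2, -8), (2, -2), (-4, -8), (-11, -5), (13, 7), (-1, -15), (-3, 14), (9, 16), (-17, 9), (-2, -4), (13, 0), (17, 9), (-14, -11), (0, 4), (-1, -20), (0, -19), (8, 9)],
  [(0, 0), (-2, -2), (2, 2), (0, 0), (0, 0), (0, 0), (0, 0), (-2, -2), (4, 4), (-2, -6), (5, 1), (-9, 7), (-9, -1), (-4, 6), (7, 11), (3, -23), (-10, 28), (11, -25), (3, -36), (35, -11), (4, -12), (-6, -18), (-3, -35), (10, 14), (14, -12), (-14, 20), (-5, 11), (6, -26)],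
  [(0, 0), (0, 0), (0, 0), (0, 0), (0, 0), (0, 0), (4, 0), (0, 0), (0, 0), (-4, 0), (0, -6), (6, 4), (-4, 0), (8, 6), (16, 2), (-10, -2), (0, 22), (-2, -20), (-12, -22), (23, -20), (14, -2), (-10, 2), (-14, -8), (20, 7), (4, -9), (4, 19), (12, 20), (-7, -12)],
  [(0, 0), (0, 0), (0, 0), (0, 0), (0, 0), (0, 0), (0, 0), (0, 0), (0, 0), (0, 0), (0, 0), (0, -2), (0, 0), (2, 0), (0, 0), (0, 2), (0, 2), (0, 2), (0, -2), (0, 0), (3, -2), (1, 1), (0, 0), (0, 1), (-1, 0), (-1, 1), (0, 2), (1, 1)],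
  [(0, 0), (0, 0), (0, 0), (0, 0), (0, 0), (0, 0), (0, 0), (0, 0), (0, 0), (0, 0), (0, 0), (0, 0), (0, -2), (0, 0), (0, 2), (2, 2), (-4, -2), (4, 2), (4, 0), (2, 6), (2, 2), (1, 0), (3, 1), (-1, 3), (1, 1), (-2, -2), (-1, 2), (4, 1)],
  [(0, 0), (0, 0), (0, 0), (0, 0), (0, 0), (0, 0), (0, 0), (0, 0), (0, 0), (0, 0), (0, 0), (0, 0), (0, 0), (0, 0), (0, 0), (0, -2), (0, 2), (0, -2), (0, -2), (2, -2), (1, -1), (1, -1), (1, -2), (1, 0), (1, 0), (0, 1), (1, 0), (0, -2)],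
  [(0, 0), (0, 0), (0, 0), (0, 0), (0, 0), (0, 0), (0, 0), (0, 0), (0, -4), (-2, 6), (-2, -2), (4, 0), (4, 4), (6, -6), (0, -12), (-8, 12), (22, -10), (-12, 6), (-18, 20), (-21, -9), (-10, 0), (0, 14), (-12, 22), (6, -15), (-12, 6), (22, -3), (13, -4), (-11, 13)],
  [(0, 0), (0, 0), (0, 0), (0, 0), (0, 0), (0, 0), (0, 0), (0, 0), (0, 0), (0, 0), (0, 0), (0, 0), (0, 0), (0, 0), (0, 0), (0, 0), (0, 0), (0, -2), (0, 0), (1, -1), (0, 0), (0, 0), (0, 0), (1, -1), (1, 0), (1, 0), (1, 0), (0, 0)],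
  [(0, 0), (0, 0), (0, 0), (0, 0), (0, 0), (0, 0), (0, 0), (0, 0), (0, 0), (0, 0), (0, 0), (0, 0), (0, 0), (0, 0), (0, 0), (0, 0), (0, 0), (0, 0), (0, 0), (0, 0), (0, 0), (0, 0), (0, 0), (0, 0), (0, 0), (0, 0), (0, 0), (1, 0)],
  [(0, 0), (0, 0), (0, 0), (0, 0), (0, 0), (0, 0), (0, 0), (0, 0), (0, 0), (-2, -2), (2, -2), (2, 2), (0, 0), (2, 6), (4, 4), (-6, -2), (-4, 8), (0, -4), (0, -10), (8, -2), (6, 2), (-6, 0), (-6, -6), (3, 7), (1, -5), (-3, 8), (-4, 9), (-2, -3)],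
  [(0, 0), (0, 0), (0, 0), (0, 0), (0, 0), (0, 0), (0, 0), (0, 0), (0, 0), (0, 0), (0, 0), (0, 0), (0, 0), (0, 0), (0, 0), (0, 0), (0, 0), (0, 0), (0, 0), (0, 0), (0, 0), (0, 0), (0, 0), (0, 0), (0, 0), (-1, 0), (0, 0), (0, 0)]]

def certSign : List (List (Int × Int)) := [
  [(-1, 0), (0, 0), (0, 0), (0, 2), (0, 0), (0, 0), (2, 4), (-2, 0), (2, 0), (-2, -6), (10, -4), (-2, 14), (-5, -3), (-6, 16), (6, 24), (-6, -24), (-28, 22), (24, -26), (22, -42), (50, 8), (12, 14), (-8, -19), (1, -35), (5, 30), (21, -5), (-25, 22), (-20, 28), (12, -27)],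
  [(0, 0), (-1, 0), (0, 0), (0, 0), (0, -2), (0, 0), (0, 6), (-2, 0), (2, 0), (2, -6), (13, 2), (-10, 15), (-3, -5), (-18, 11), (-7, 27), (8, -30), (-39, 4), (39, -17), (43, -26), (47, 34), (-2, 23), (2, -24), (20, -34), (-10, 31), (24, 10), (-36, 8), (-32, 14), (24, -23)],
  [(0, 0), (0, 0), (-1, 0), (0, 0), (0, -2), (0, 0), (-2, 6), (0, 0), (-2, 0), (7, -5), (11, 6), (-11, 7), (4, -8), (-23, 6), (-22, 26), (19, -18), (-49, -23), (43, 9), (65, 0), (25, 64), (-4, 34), (15, -20), (42, -17), (-33, 27), (21, 23), (-42, -16), (-44, -2), (36, -3)],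
  [(0, 0), (0, 0), (0, 0), (1, 0), (0, 0), (0, 0), (0, 0), (0, 0), (0, 2), (-1, -3), (1, -1), (0, 0), (-2, -2), (1, 5), (5, 7), (0, -4), (-10, 12), (6, -6), (3, -18), (16, -1), (10, -3), (-4, -6), (0, -13), (3, 12), (4, -6), (-9, 9), (-4, 11), (3, -10)],
  [(0, 0), (0, 0), (0, 0), (0, 0), (1, 0), (0, 0), (0, 0), (0, 0), (0, -2), (-1, 5), (-3, -1), (2, -2), (2, 2), (5, -7), (0, -8), (-2, 10), (15, -7), (-7, 5), (-13, 14), (-15, -6), (-7, -3), (2, 10), (-6, 16), (4, -11), (-9, 4), (14, -5), (13, -3), (-5, 9)],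
  [(0, 0), (0, 0), (0, 0), (0, 0), (0, 0), (-1, 0), (-2, 2), (2, 2), (-4, -4), (4, 2), (1, 1), (2, -2), (10, 0), (-3, -3), (-16, 2), (-3, 17), (2, -36), (-6, 30), (11, 33), (-38, 27), (-14, 19), (5, 7), (4, 26), (-25, -7), (-7, 11), (2, -24), (-16, -13), (2, 27)],
  [(0, 0), (0, 0), (0, 0), (0, 0), (0, 0), (0, 0), (1, 0), (0, 0), (0, 0), (-2, 0), (0, -2), (2, 0), (-2, 0), (4, 2), (7, 0), (-2, 0), (0, 11), (0, -8), (-5, -10), (11, -8), (7, -4), (-3, 2), (-5, -3), (9, 3), (1, -3), (1, 9), (7, 9), (-2, -5)],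
  [(0, 0), (0, 0), (0, 0), (0, 0), (0, 0), (0, 0), (0, 0), (1, 0), (-4, 0), (3, 1), (-1, -1), (3, -3), (5, -3), (-1, -1), (-6, 3), (3, 9), (-9, -12), (2, 10), (14, 8), (-5, 15), (6, 10), (7, 3), (11, 9), (-10, 1), (3, 6), (-3, -11), (-5, -2), (8, 10)],
  [(0, 0), (0, 0), (0, 0), (0, 0), (0, 0), (0, 0), (0, 0), (0, 0), (-1, 0), (0, 0), (0, -2), (3, -1), (0, 0), (2, 2), (2, 2), (-1, 1), (-5, 5), (2, -2), (3, -7), (8, 0), (8, 1), (1, 1), (1, -2), (2, 4), (1, -1), (-3, 3), (0, 7), (3, -2)],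
  [(0, 0), (0, 0), (0, 0), (0, 0), (0, 0), (0, 0), (0, 0), (0, 0), (0, 0), (-1, 0), (0, -2), (2, 0), (0, 0), (4, 2), (2, 2), (-4, 2), (0, 4), (-2, 0), (-2, -6), (2, -3), (4, -1), (-1, 1), (-4, -1), (2, 3), (0, -3), (0, 3), (-1, 6), (0, 0)],
  [(0, 0), (0, 0), (0, 0), (0, 0), (0, 0), (0, 0), (0, 0), (0, 0), (0, 0), (0, 0), (1, 0), (0, 0), (0, 0), (0, 0), (-2, 2), (0, 0), (-2, -2), (2, 4), (4, 0), (-1, 5), (0, 2), (2, 0), (2, 0), (-3, 2), (0, 1), (-3, -1), (-4, 1), (3, 2)],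
  [(0, 0), (0, 0), (0, 0), (0, 0), (0, 0), (0, 0), (0, 0), (0, 0), (0, 0), (0, 0), (0, 0), (1, 0), (0, 0), (0, 0), (0, 0), (0, 0), (0, 0), (-2, 0), (0, 0), (-1, -1), (0, 0), (1, 1), (0, 0), (0, -1), (0, -1), (0, -1), (1, 0), (0, 0)],
  [(0, 0), (0, 0), (0, 0), (0, 0), (0, 0), (0, 0), (0, 0), (0, 0), (0, 0), (0, 0), (0, 0), (0, 0), (-1, 0), (0, 0), (0, 0), (2, -2), (-2, 2), (2, -2), (2, -2), (4, 0), (1, -1), (2, 0), (2, -2), (1, 1), (1, 1), (-1, 1), (1, 1), (2, -2)],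
  [(0, 0), (0, 0), (0, 0), (0, 0), (0, 0), (0, 0), (0, 0), (0, 0), (0, 0), (0, 0), (0, 0), (0, 0), (0, 0), (1, 0), (0, 0), (0, 0), (0, 0), (0, 2), (0, 0), (-1, 1), (0, 0), (1, 1), (0, 0), (0, 1), (-1, 0), (0, 0), (-1, 1), (1, 1)],
  [(0, 0), (0, 0), (0, 0), (0, 0), (0, 0), (0, 0), (0, 0), (0, 0), (0, 0), (0, 0), (0, 0), (0, 0), (0, 0), (0, 0), (-1, 0), (0, 0), (0, -2), (0, 2), (0, 2), (-3, 1), (-2, 0), (0, 0), (0, 0), (-1, 0), (-1, 0), (0, -1), (-1, -1), (0, 1)],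
  [(0, 0), (0, 0), (0, 0), (0, 0), (0, 0), (0, 0), (0, 0), (0, 0), (0, 0), (0, 0), (0, 0), (0, 0), (0, 0), (0, 0), (0, 0), (1, 0), (0, 0), (0, 0), (0, 0), (0, 0), (0, 0), (1, 1), (0, 0), (0, 0), (0, 0), (0, 0), (1, 0), (1, 0)],
  [(0, 0), (0, 0), (0, 0), (0, 0), (0, 0), (0, 0), (0, 0), (0, 0), (0, 0), (0, 0), (0, 0), (0, 0), (0, 0), (0, 0), (0, 0), (0, 0), (1, 0), (-2, 0), (-2, 0), (-2, -2), (-1, -1), (0, 0), (-1, -1), (0, -1), (0, -1), (1, 0), (1, -1), (-1, 0)],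
  [(0, 0), (0, 0), (0, 0), (0, 0), (0, 0), (0, 0), (0, 0), (0, 0), (0, 0), (0, 0), (0, 0), (0, 0), (0, 0), (0, 0), (0, 0), (0, 0), (0, 0), (-1, 0), (0, 0), (-1, -1), (0, 0), (0, 0), (0, 0), (0, 0), (0, 0), (0, 0), (0, 0), (0, 0)],
  [(0, 0), (0, 0), (0, 0), (0, 0), (0, 0), (0, 0), (0, 0), (0, 0), (0, 0), (0, 0), (0, 0), (0, 0), (0, 0), (0, 0), (0, 0), (0, 0), (0, 0), (0, 0), (-1, 0), (-1, -1), (-1, -1), (0, 0), (-1, -1), (0, 0), (0, 0), (0, 0), (0, 0), (0, 0)],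
  [(0, 0), (0, 0), (0, 0), (0, 0), (0, 0), (0, 0), (0, 0), (0, 0), (0, 0), (0, 0), (0, 0), (0, 0), (0, 0), (0, 0), (0, 0), (0, 0), (0, 0), (0, 0), (0, 0), (1, 0), (0, 0), (0, 0), (0, 0), (0, 0), (0, 0), (0, 0), (0, 0), (0, 0)],
  [(0, 0), (0, 0), (0, 0), (0, 0), (0, 0), (0, 0), (0, 0), (0, 0), (0, 0), (0, 0), (0, 0), (0, 0), (0, 0), (0, 0), (0, 0), (0, 0), (0, 0), (0, 0), (0, 0), (0, 0), (1, 0), (0, 0), (0, 0), (0, 0), (0, 0), (0, 0), (0, 0), (0, 0)],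
  [(0, 0), (0, 0), (0, 0), (0, 0), (0, 0), (0, 0), (0, 0), (0, 0), (0, 0), (0, 0), (0, 0), (0, 0), (0, 0), (0, 0), (0, 0), (0, 0), (0, 0), (0, 0), (0, 0), (0, 0), (0, 0), (-1, 0), (0, 0), (0, 0), (0, 0), (0, 0), (0, 0), (0, 0)],
  [(0, 0), (0, 0), (0, 0), (0, 0), (0, 0), (0, 0), (0, 0), (0, 0), (0, 0), (0, 0), (0, 0), (0, 0), (0, 0), (0, 0), (0, 0), (0, 0), (0, 0), (0, 0), (0, 0), (0, 0), (0, 0), (0, 0), (1, 0), (0, 0), (0, 0), (0, 0), (0, 0), (0, 0)],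
  [(0, 0), (0, 0), (0, 0), (0, 0), (0, 0), (0, 0), (0, 0), (0, 0), (0, 0), (0, 0), (0, 0), (0, 0), (0, 0), (0, 0), (0, 0), (0, 0), (0, 0), (0, 0), (0, 0), (0, 0), (0, 0), (0, 0), (0, 0), (-1, 0), (0, 0), (0, 0), (0, 0), (0, 0)],
  [(0, 0), (0, 0), (0, 0), (0, 0), (0, 0), (0, 0), (0, 0), (0, 0), (0, 0), (0, 0), (0, 0), (0, 0), (0, 0), (0, 0), (0, 0), (0, 0), (0, 0), (0, 0), (0, 0), (0, 0), (0, 0), (0, 0), (0, 0), (0, 0), (-1, 0), (0, 0), (0, 0), (0, 0)],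
  [(0, 0), (0, 0), (0, 0), (0, 0), (0, 0), (0, 0), (0, 0), (0, 0), (0, 0), (0, 0), (0, 0), (0, 0), (0, 0), (0, 0), (0, 0), (0, 0), (0, 0), (0, 0), (0, 0), (0, 0), (0, 0), (0, 0), (0, 0), (0, 0), (0, 0), (-1, 0), (0, 0), (0, 0)],
  [(0, 0), (0, 0), (0, 0), (0, 0), (0, 0), (0, 0), (0, 0), (0, 0), (0, 0), (0, 0), (0, 0), (0, 0), (0, 0), (0, 0), (0, 0), (0, 0), (0, 0), (0, 0), (0, 0), (0, 0), (0, 0), (0, 0), (0, 0), (0, 0), (0, 0), (0, 0), (-1, 0), (0, 0)],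
  [(0, 0), (0, 0), (0, 0), (0, 0), (0, 0), (0, 0), (0, 0), (0, 0), (0, 0), (0, 0), (0, 0), (0, 0), (0, 0), (0, 0), (0, 0), (0, 0), (0, 0), (0, 0), (0, 0), (0, 0), (0, 0), (0, 0), (0, 0), (0, 0), (0, 0), (0, 0), (0, 0), (-1, 0)]]

def certShift : List (List (Int × Int)) := [
  [(-1, 0), (1, 1), (0, -2), (0, 1), (1, 1), (0, 1), (-1, -2), (1, 0), (-2, 0), (2, 3), (-6, 2), (2, -8), (3, 1), (2, -10), (-5, -11), (8, 16), (9, -19), (-8, 22), (-5, 26), (-29, 8), (-5, -3), (7, 11), (7, 24), (-9, -13), (-13, 4), (8, -18), (6, -14), (0, 16)],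
  [(-1, 0), (1, 1), (0, -1), (0, 1), (0, 1), (0, 0), (0, -2), (0, 0), (0, 0), (-2, 2), (-4, -2), (5, -4), (0, 2), (8, -2), (5, -8), (-6, 9), (14, 4), (-13, 3), (-17, 2), (-11, -15), (4, -9), (-3, 8), (-10, 9), (7, -8), (-8, -6), (12, 2), (11, 1), (-9, 4)],
  [(0, 0), (-1, 1), (1, 0), (0, 0), (-1, 0), (0, 0), (4, 0), (-1, 0), (2, 2), (-5, -5), (3, -7), (5, 8), (-8, -1), (6, 14), (21, 12), (-12, -14), (-10, 38), (2, -32), (-8, -46), (43, -25), (22, -3), (-16, -9), (-16, -28), (23, 19), (13, -19), (-8, 31), (4, 30), (-4, -27)],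
  [(0, 0), (-1, 1), (0, 0), (0, -1), (-1, -1), (1, 0), (3, 1), (-2, 0), (6, 1), (-8, -6), (7, -6), (1, 14), (-10, 3), (2, 17), (23, 12), (-17, -29), (-5, 48), (5, -43), (-15, -53), (52, -34), (12, -6), (-22, -14), (-25, -42), (30, 22), (12, -19), (-9, 44), (3, 32), (-12, -38)],
  [(0, 0), (2, 0), (0, 0), (0, 1), (0, 2), (0, 0), (1, -6), (3, 0), (-4, -1), (-2, 7), (-14, -4), (14, -16), (4, 4), (21, -11), (10, -27), (-8, 37), (36, -6), (-38, 20), (-41, 29), (-47, -28), (8, -18), (-2, 30), (-19, 43), (11, -29), (-26, -9), (37, -8), (34, -9), (-23, 27)],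
  [(1, 1), (-2, 0), (1, 1), (0, 0), (0, -1), (0, 0), (4, 2), (-1, 1), (0, 0), (0, -4), (7, -5), (3, 12), (-5, -2), (-4, 14), (9, 19), (-10, -20), (-22, 22), (9, -31), (13, -38), (42, -7), (14, 13), (-9, -16), (-3, -31), (8, 19), (23, -10), (-18, 18), (-9, 20), (3, -25)],
  [(0, 0), (1, 0), (-2, 0), (0, 0), (0, -1), (0, 0), (0, 3), (1, 0), (-2, 1), (4, -3), (4, 3), (-4, 1), (2, -5), (-11, 4), (-9, 13), (11, -7), (-29, -10), (24, 5), (34, -1), (15, 33), (3, 18), (7, -9), (23, -9), (-16, 16), (11, 12), (-24, -7), (-21, 1), (18, -1)],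
  [(1, 0), (-1, 0), (2, 2), (2, -1), (-2, 1), (0, 0), (8, -6), (0, 0), (3, 6), (-12, -8), (-4, -17), (17, 3), (-17, 1), (28, 23), (56, 8), (-33, -9), (8, 91), (-26, -63), (-59, -93), (65, -90), (53, -36), (-41, -8), (-56, -48), (63, 23), (11, -58), (8, 70), (37, 58), (-32, -50)],
  [(0, 0), (0, 0), (2, 0), (1, 0), (0, 2), (0, 0), (4, -6), (0, 0), (3, 3), (-11, -1), (-9, -11), (15, -5), (-10, 5), (30, 7), (39, -12), (-27, 11), (33, 55), (-39, -27), (-66, -41), (10, -76), (28, -38), (-29, 12), (-52, -8), (46, -5), (-14, -42), (28, 40), (41, 31), (-35, -17)],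
  [(0, 0), (0, 0), (2, 0), (0, 0), (0, 2), (0, 0), (2, -6), (0, 0), (3, 1), (-9, 2), (-8, -7), (11, -4), (-6, 7), (24, 0), (26, -19), (-22, 13), (41, 32), (-40, -12), (-61, -13), (-15, -62), (9, -32), (-21, 17), (-46, 7), (34, -16), (-19, -30), (34, 24), (36, 12), (-34, -3)],
  [(0, 0), (0, 0), (0, 2), (0, 0), (-2, 0), (0, 0), (8, 2), (0, 0), (0, 2), (-6, -8), (7, -14), (10, 14), (-10, -5), (9, 27), (33, 26), (-23, -20), (-27, 58), (11, -53), (-2, -76), (77, -30), (41, 6), (-25, -16), (-23, -47), (36, 39), (28, -26), (-17, 51), (0, 55), (-4, -41)],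
  [(0, 0), (0, 0), (0, 0), (0, 0), (0, 0), (0, 0), (0, 2), (0, 0), (0, 0), (0, -2), (3, -1), (-1, 3), (0, -3), (-2, 5), (1, 10), (1, -3), (-14, 1), (12, -1), (12, -9), (13, 13), (4, 8), (-2, -5), (4, -7), (-3, 13), (5, 1), (-11, 3), (-10, 10), (8, -4)],
  [(0, 0), (0, 0), (0, 0), (0, 0), (0, 0), (0, 0), (0, 0), (0, 0), (0, 0), (0, 0), (0, 0), (1, 0), (1, -1), (1, 1), (-1, 1), (-2, 3), (0, -3), (-1, 3), (1, 2), (-4, 2), (0, 2), (-1, 1), (-1, 2), (-2, 0), (0, 0), (1, -2), (-2, 1), (0, 4)],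
  [(0, 0), (0, 0), (0, 0), (0, 0), (0, 0), (0, 0), (0, 0), (0, 0), (0, 0), (0, 0), (1, 0), (0, 1), (1, -1), (-1, 1), (-2, 1), (-1, -1), (-2, -3), (1, 1), (4, 2), (-1, 4), (-1, 3), (1, -1), (2, 0), (-2, 0), (1, 1), (0, -2), (-3, -1), (1, 2)],
  [(0, 0), (0, 0), (0, 0), (0, 0), (0, 0), (0, 0), (0, 0), (0, 0), (0, 0), (0, 0), (0, 0), (0, 0), (0, 0), (1, 0), (0, -1), (-1, 1), (3, -1), (-2, 2), (-2, 2), (-4, -1), (-1, -1), (0, 1), (-2, 2), (0, -1), (-1, 0), (2, 0), (0, -1), (-2, 2)],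
  [(0, 0), (0, 0), (0, 0), (0, 0), (0, 0), (0, 0), (0, 0), (0, 0), (0, 0), (0, 0), (0, 0), (0, 0), (1, 0), (0, 0), (0, 0), (-1, 1), (1, -1), (-1, 1), (-1, 1), (-2, 0), (-1, 0), (-1, 0), (-1, 1), (-1, 0), (-1, 0), (1, 0), (0, 0), (-1, 1)],
  [(0, 0), (0, 0), (0, 0), (0, 0), (0, 0), (0, 0), (0, 0), (0, 0), (0, 0), (0, 0), (0, 0), (0, 0), (0, 0), (0, 0), (1, 0), (1, 0), (-1, 0), (2, -1), (0, 0), (2, 1), (0, 0), (0, 0), (0, 0), (1, 1), (0, 0), (0, 1), (1, 1), (0, -1)],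
  [(0, 0), (0, 0), (0, 0), (0, 0), (0, 0), (0, 0), (0, 0), (0, 0), (0, 0), (0, 0), (0, 0), (0, 0), (0, 0), (0, 0), (0, 0), (1, 0), (0, -1), (1, 1), (1, 1), (0, 2), (0, 1), (1, 1), (1, 1), (0, 0), (0, 1), (0, 0), (0, 0), (1, 1)],
  [(0, 0), (0, 0), (0, 0), (0, 0), (0, 0), (0, 0), (0, 0), (0, 0), (0, 0), (0, 0), (0, 0), (0, 0), (0, 0), (0, 0), (0, 0), (0, 0), (0, 0), (0, 0), (1, 0), (0, 0), (0, 0), (0, 0), (0, 0), (0, 0), (0, 0), (0, 0), (0, 0), (0, 0)],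
  [(0, 0), (0, 0), (0, 0), (0, 0), (0, 0), (0, 0), (0, 0), (0, 0), (0, 0), (0, 0), (0, 0), (0, 0), (0, 0), (0, 0), (0, 0), (0, 0), (0, 0), (0, 0), (-1, 1), (-1, 0), (-1, 0), (-1, 0), (-1, 0), (0, 0), (-1, 0), (0, 0), (0, 0), (-1, 0)],
  [(0, 0), (0, 0), (0, 0), (0, 0), (0, 0), (0, 0), (0, 0), (0, 0), (0, 0), (0, 0), (0, 0), (0, 0), (0, 0), (0, 0), (0, 0), (0, 0), (0, 0), (0, 0), (0, 0), (1, 0), (0, 0), (0, 0), (0, 0), (0, 0), (0, 0), (0, 0), (0, 0), (0, 0)],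
  [(0, 0), (0, 0), (0, 0), (0, 0), (0, 0), (0, 0), (0, 0), (0, 0), (0, 0), (0, 0), (0, 0), (0, 0), (0, 0), (0, 0), (0, 0), (0, 0), (0, 0), (0, 0), (0, 0), (0, 0), (1, 0), (0, 0), (0, 0), (0, 0), (0, 0), (0, 0), (0, 0), (0, 0)],
  [(0, 0), (0, 0), (0, 0), (0, 0), (0, 0), (0, 0), (0, 0), (0, 0), (0, 0), (0, 0), (0, 0), (0, 0), (0, 0), (0, 0), (0, 0), (0, 0), (0, 0), (0, 0), (0, 0), (0, 0), (0, 0), (1, 0), (0, 0), (0, 0), (0, 0), (0, 0), (0, 0), (0, 0)],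
  [(0, 0), (0, 0), (0, 0), (0, 0), (0, 0), (0, 0), (0, 0), (0, 0), (0, 0), (0, 0), (0, 0), (0, 0), (0, 0), (0, 0), (0, 0), (0, 0), (0, 2), (0, -2), (0, -2), (2, -2), (1, -1), (0, 0), (0, -1), (1, 0), (1, 0), (0, 1), (1, 1), (0, -1)],
  [(0, 0), (0, 0), (0, 0), (0, 0), (0, 0), (0, 0), (0, 0), (0, 0), (0, 0), (0, 0), (0, 0), (0, 0), (0, 0), (0, 0), (0, 0), (0, 0), (0, 0), (0, 0), (0, 0), (0, 0), (0, 0), (0, 0), (1, 0), (0, 0), (0, 0), (0, 0), (0, 0), (0, 0)],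
  [(0, 0), (0, 0), (0, 0), (0, 0), (0, 0), (0, 0), (0, 0), (0, 0), (0, 0), (0, 0), (0, 0), (0, 0), (0, 0), (0, 0), (0, 0), (0, 0), (0, 0), (0, 2), (0, 0), (-1, 1), (0, 0), (0, 0), (0, 0), (-1, 1), (-1, 0), (-1, 0), (-1, 0), (0, 0)],
  [(0, 0), (0, 0), (0, 0), (0, 0), (0, 0), (0, 0), (0, 0), (0, 0), (0, 0), (0, 0), (0, 0), (0, 0), (0, 0), (0, 0), (0, 0), (0, 0), (0, 0), (0, 0), (0, 0), (0, 0), (0, 0), (0, 0), (0, 0), (1, 0), (0, 0), (0, 0), (0, 0), (0, 0)],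
  [(0, 0), (0, 0), (0, 0), (0, 0), (0, 0), (0, 0), (0, 0), (0, 0), (0, 0), (0, 0), (0, 0), (0, 0), (0, 0), (0, 0), (0, 0), (0, 0), (0, 0), (0, 0), (0, 0), (0, 0), (0, 0), (0, 0), (0, 0), (0, 0), (1, 0), (0, 0), (0, 0), (0, 0)]]

def testTab : List (List (Int × Int)) := [
  [(0, 0), (0, 0), (0, 0), (0, 0), (0, -1), (0, -1), (1, 0), (0, 1), (0, 0), (0, 0), (0, 0), (0, 0), (0, -1), (1, 0), (0, 1), (0, -1), (0, -1), (0, 1), (0, -1), (1, 0), (-1, 0), (0, -1), (0, -1), (0, -1), (0, 0), (0, 0), (0, 0), (0, 0)],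
  [(0, 1), (-1, 0), (-1, 0), (-1, 0), (0, 0), (0, 0), (0, 0), (0, 0), (0, 0), (0, 0), (0, 0), (0, 0), (-1, 0), (-1, 0), (0, -1), (1, 0), (0, 0), (0, 0), (0, 0), (0, 0), (1, 0), (0, 1), (-1, 0), (1, 0), (1, 0), (-1, 0), (1, 0), (0, 1)],
  [(0, 0), (0, 0), (0, 0), (0, 0), (1, 0), (0, 1), (1, 0), (-1, 0), (0, -1), (0, 1), (0, -1), (1, 0), (0, 1), (1, 0), (-1, 0), (1, 0), (0, 0), (0, 0), (0, 0), (0, 0), (0, 0), (0, 0), (0, 0), (0, 0), (0, -1), (0, 1), (1, 0), (0, -1)],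
  [(-1, 0), (-1, 0), (0, -1), (1, 0), (0, 0), (0, 0), (0, 0), (0, 0), (0, -1), (-1, 0), (0, 1), (0, 1), (-1, 0), (1, 0), (1, 0), (0, 1), (1, 0), (0, -1), (0, -1), (0, 1), (0, 0), (0, 0), (0, 0), (0, 0), (0, 0), (0, 0), (0, 0), (0, 0)],
  [(1, 0), (-1, 0), (-1, 0), (0, -1), (1, 0), (0, 1), (0, 1), (0, 1), (0, 0), (0, 0), (0, 0), (0, 0), (0, 0), (0, 0), (0, 0), (0, 0), (0, -1), (0, -1), (-1, 0), (0, -1), (0, 0), (0, 0), (0, 0), (0, 0), (-1, 0), (0, -1), (-1, 0), (1, 0)],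
  [(1, 0), (0, -1), (1, 0), (1, 0), (0, -1), (0, 1), (0, -1), (1, 0), (1, 0), (0, -1), (0, -1), (0, 1), (0, 0), (0, 0), (0, 0), (0, 0), (0, 0), (0, 0), (0, 0), (0, 0), (-1, 0), (-1, 0), (0, 1), (-1, 0), (0, 0), (0, 0), (0, 0), (0, 0)],
  [(0, 0), (0, 0), (0, 0), (0, 0), (0, 0), (0, 0), (0, 0), (0, 0), (0, 1), (0, 1), (-1, 0), (0, -1), (0, 0), (0, 0), (0, 0), (0, 0), (0, -1), (1, 0), (0, 1), (0, -1), (0, -1), (0, 1), (0, -1), (1, 0), (1, 0), (0, 1), (0, 1), (0, 1)],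
  [(1, 0), (1, 0), (-1, 0), (0, 1), (1, 0), (0, -1), (0, -1), (0, 1), (0, 0), (0, 0), (0, 0), (0, 0), (0, 0), (0, 0), (0, 0), (0, 0), (0, -1), (0, 1), (1, 0), (0, -1), (0, 0), (0, 0), (0, 0), (0, 0), (1, 0), (0, 1), (-1, 0), (1, 0)],
  [(0, 0), (0, 0), (0, 0), (0, 0), (0, 1), (1, 0), (0, -1), (0, -1), (-1, 0), (1, 0), (1, 0), (0, 1), (-1, 0), (0, 1), (0, 1), (0, -1), (0, 0), (0, 0), (0, 0), (0, 0), (0, 0), (0, 0), (0, 0), (0, 0), (-1, 0), (-1, 0), (0, -1), (1, 0)],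
  [(0, 1), (1, 0), (-1, 0), (1, 0), (0, 0), (0, 0), (0, 0), (0, 0), (0, 0), (0, 0), (0, 0), (0, 0), (-1, 0), (-1, 0), (0, 1), (-1, 0), (0, 0), (0, 0), (0, 0), (0, 0), (-1, 0), (0, 1), (1, 0), (1, 0), (-1, 0), (-1, 0), (1, 0), (0, -1)],
  [(0, 0), (0, 0), (0, 0), (0, 0), (-1, 0), (-1, 0), (0, 1), (-1, 0), (0, 0), (0, 0), (0, 0), (0, 0), (-1, 0), (0, 1), (1, 0), (1, 0), (-1, 0), (-1, 0), (1, 0), (0, -1), (0, 1), (1, 0), (-1, 0), (1, 0), (0, 0), (0, 0), (0, 0), (0, 0)],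
  [(0, 1), (-1, 0), (0, 1), (0, -1), (-1, 0), (1, 0), (-1, 0), (0, -1), (-1, 0), (0, 1), (0, -1), (0, 1), (0, 0), (0, 0), (0, 0), (0, 0), (0, 0), (0, 0), (0, 0), (0, 0), (-1, 0), (1, 0), (0, -1), (-1, 0), (0, 0), (0, 0), (0, 0), (0, 0)],
  [(0, 1), (0, -1), (-1, 0), (0, 1), (0, 0), (0, 0), (0, 0), (0, 0), (1, 0), (0, 1), (1, 0), (-1, 0), (0, -1), (0, 1), (0, -1), (1, 0), (0, -1), (-1, 0), (1, 0), (-1, 0), (0, 0), (0, 0), (0, 0), (0, 0), (0, 0), (0, 0), (0, 0), (0, 0)],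
  [(0, 1), (0, 1), (0, 1), (1, 0), (0, -1), (-1, 0), (1, 0), (-1, 0), (0, 0), (0, 0), (0, 0), (0, 0), (0, 0), (0, 0), (0, 0), (0, 0), (1, 0), (1, 0), (0, 1), (-1, 0), (0, 0), (0, 0), (0, 0), (0, 0), (0, 1), (1, 0), (0, 1), (0, 1)],
  [(0, 0), (0, 0), (0, 0), (0, 0), (0, 0), (0, 0), (0, 0), (0, 0), (0, 1), (0, 1), (1, 0), (0, 1), (0, 0), (0, 0), (0, 0), (0, 0), (0, -1), (-1, 0), (0, 1), (0, 1), (0, 1), (0, 1), (0, -1), (-1, 0), (-1, 0), (0, 1), (0, -1), (0, 1)],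
  [(0, 0), (0, 0), (0, 0), (0, 0), (0, -1), (1, 0), (0, 1), (0, -1), (1, 0), (1, 0), (1, 0), (0, -1), (-1, 0), (0, -1), (0, 1), (0, 1), (0, 0), (0, 0), (0, 0), (0, 0), (0, 0), (0, 0), (0, 0), (0, 0), (1, 0), (1, 0), (0, -1), (1, 0)],
  [(-1, 0), (0, 1), (0, -1), (0, 1), (0, 0), (0, 0), (0, 0), (0, 0), (0, 0), (0, 0), (0, 0), (0, 0), (1, 0), (-1, 0), (0, 1), (1, 0), (0, 0), (0, 0), (0, 0), (0, 0), (0, 1), (-1, 0), (0, 1), (0, -1), (1, 0), (-1, 0), (1, 0), (0, 1)]]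

def tv (j : Fin 17) : RuVec := vecOf (testTab.getD j.val [])

def invTab : List (List ℕ) := [
  [1, 1, 0, 1, 1, 0, 0, 0, 0, 1, 1, 1, 1, 1, 1, 0, 0, 0, 1, 1, 1, 1, 1, 0, 1, 1, 0, 0],
  [0, 1, 1, 0, 0, 0, 1, 1, 0, 0, 0, 1, 0, 0, 1, 1, 0, 0, 1, 1, 1, 1, 1, 1, 0, 0, 1, 0],
  [0, 0, 1, 0, 1, 0, 0, 0, 1, 0, 1, 0, 1, 1, 0, 1, 0, 0, 1, 1, 1, 1, 1, 1, 0, 1, 1, 1],
  [0, 0, 0, 0, 0, 0, 0, 0, 0, 0, 0, 0, 0, 0, 0, 0, 0, 0, 1, 1, 1, 1, 1, 0, 1, 0, 0, 1],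
  [0, 0, 0, 0, 0, 0, 0, 1, 0, 1, 0, 0, 0, 1, 1, 1, 1, 1, 0, 1, 0, 0, 0, 1, 1, 0, 1, 1],
  [0, 0, 0, 0, 0, 0, 1, 0, 0, 0, 1, 1, 0, 1, 1, 0, 1, 1, 0, 1, 0, 0, 0, 1, 1, 1, 0, 1],
  [0, 0, 0, 0, 0, 0, 0, 0, 0, 0, 1, 1, 0, 0, 0, 1, 0, 0, 0, 1, 0, 0, 0, 0, 0, 1, 1, 0],
  [0, 0, 0, 0, 0, 0, 0, 0, 0, 0, 0, 0, 0, 0, 0, 0, 0, 0, 0, 1, 0, 0, 0, 0, 0, 0, 0, 0],
  [0, 0, 0, 0, 1, 0, 0, 0, 1, 1, 0, 1, 0, 0, 0, 1, 0, 1, 0, 0, 1, 0, 0, 1, 1, 1, 0, 1],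
  [0, 0, 0, 0, 0, 0, 0, 0, 0, 0, 0, 1, 0, 1, 0, 1, 1, 1, 0, 0, 1, 0, 0, 1, 1, 0, 0, 0],
  [0, 0, 0, 0, 0, 0, 0, 0, 0, 0, 0, 0, 0, 1, 0, 0, 1, 0, 0, 0, 1, 0, 0, 0, 0, 1, 0, 1],
  [0, 0, 0, 0, 0, 0, 0, 0, 0, 0, 0, 0, 0, 0, 0, 0, 0, 0, 0, 0, 1, 0, 0, 0, 0, 0, 0, 0],
  [0, 0, 0, 0, 0, 1, 0, 0, 0, 1, 0, 0, 1, 0, 0, 0, 0, 0, 0, 0, 0, 1, 0, 1, 1, 0, 0, 0],
  [0, 0, 0, 0, 0, 0, 0, 0, 0, 0, 0, 0, 1, 0, 1, 0, 1, 1, 0, 0, 0, 1, 0, 0, 0, 0, 1, 1],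
  [0, 0, 0, 0, 0, 0, 0, 0, 0, 0, 0, 0, 0, 0, 1, 0, 1, 1, 0, 0, 0, 1, 0, 1, 1, 0, 1, 1],
  [0, 0, 0, 0, 0, 0, 0, 0, 0, 0, 0, 0, 0, 0, 0, 0, 0, 0, 0, 0, 0, 1, 0, 0, 0, 0, 0, 0],
  [0, 0, 0, 1, 0, 0, 0, 0, 1, 1, 0, 0, 0, 0, 0, 1, 0, 0, 0, 0, 0, 0, 1, 0, 0, 0, 1, 1],
  [0, 0, 0, 0, 0, 0, 0, 0, 0, 0, 0, 0, 0, 0, 0, 1, 1, 1, 0, 0, 0, 0, 1, 1, 1, 1, 1, 0],
  [0, 0, 0, 0, 0, 0, 0, 0, 0, 0, 0, 0, 0, 0, 0, 0, 1, 1, 0, 0, 0, 0, 1, 1, 1, 1, 0, 1],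
  [0, 0, 0, 0, 0, 0, 0, 0, 0, 0, 0, 0, 0, 0, 0, 0, 0, 0, 0, 0, 0, 0, 1, 0, 0, 0, 0, 0],
  [0, 0, 0, 0, 0, 0, 0, 0, 1, 1, 0, 0, 0, 0, 0, 0, 0, 1, 0, 0, 0, 0, 0, 1, 0, 1, 1, 0],
  [0, 0, 0, 0, 0, 0, 0, 0, 0, 0, 0, 0, 0, 0, 0, 0, 0, 1, 0, 0, 0, 0, 0, 0, 1, 1, 1, 0],
  [0, 0, 0, 0, 0, 0, 0, 0, 0, 0, 0, 0, 0, 0, 0, 0, 0, 0, 0, 0, 0, 0, 0, 1, 0, 0, 0, 0],
  [0, 0, 0, 0, 0, 0, 0, 0, 0, 0, 0, 0, 0, 0, 0, 0, 0, 0, 0, 0, 0, 0, 0, 0, 1, 0, 0, 0],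
  [0, 0, 0, 0, 0, 0, 0, 0, 0, 1, 0, 0, 0, 0, 0, 0, 0, 0, 0, 0, 0, 0, 0, 0, 0, 1, 1, 1],
  [0, 0, 0, 0, 0, 0, 0, 0, 0, 0, 0, 0, 0, 0, 0, 0, 0, 0, 0, 0, 0, 0, 0, 0, 0, 1, 0, 0],
  [0, 0, 0, 0, 0, 0, 0, 0, 0, 0, 0, 0, 0, 0, 0, 0, 0, 0, 0, 0, 0, 0, 0, 0, 0, 0, 1, 0],
  [0, 0, 0, 0, 0, 0, 0, 0, 0, 0, 0, 0, 0, 0, 0, 0, 0, 0, 0, 0, 0, 0, 0, 0, 0, 0, 0, 1]]

def ginv (p : RuIdx) (l : Fin 28) : ZMod 2 := (((invTab.getD (4 * p.1.val + p.2.val) []).getD l.val 0 : ℕ) : ZMod 2)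

end Cfsg.Agent.Lib.Helper10.RuLat
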