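import Mathlib
import Cfsg.Prelude.Def_Spor_Ru
import Cfsg.Agent.Lib.Helper10.RuLatDefs
import Cfsg.Agent.Lib.Helper10.RuLatData

/-!
# The Conway-Wales lattice (S1628): the finite checks  (helper10)

All statements here are closed, decidable facts about the tables of `RuLatData`, established by kernel evaluation.
-/

set_option autoImplicit false
set_option maxRecDepth 100000

namespace Cfsg.Agent.Lib.Helper10.RuLat

open Cfsg.Spor GaussianInt

theorem chk_b : ∀ (l : Fin 28) (p : RuIdx), bv l p = (piG ^ lev l • fv l) p := by decide +kernel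

theorem chk_table : ∀ (i : Fin 20) (p : RuIdx),
    (ruTable.getD i.val 0) p = (∑ l : Fin 28, coefOf tabCert i.val l.val • bv l) p := by decide +kernel

theorem chk_Rj : ∀ (l : Fin 28) (p : RuIdx),
    ruRj (bv l) p = (∑ j : Fin 28, coefOf certRj l.val j.val • bv j) p := by decide +kernel

theorem chk_Rk : ∀ (l : Fin 28) (p : RuIdx),
    ruRk (bv l) p = (∑ j : Fin 28, coefOf certRk l.val j.val • bv j) p := by decide +kernel

theorem chk_Sign : ∀ (l : Fin 28) (p : RuIdx),
    ruSign (bv l) p = (∑ j : Fin 28, coefOf certSign l.val j.val • bv j) p := by decide +kernel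

theorem chk_Shift : ∀ (l : Fin 28) (p : RuIdx),
    ruShift (bv l) p = (∑ j : Fin 28, coefOf certShift l.val j.val • bv j) p := by decide +kernel

theorem chk_gram4 : ∀ l j : Fin 28, D4 (herm (bv l) (bv j)) := by decide +kernel

theorem chk_gram8 : ∀ l : Fin 28, (8 : ℤ) ∣ ruNorm (bv l) := by decide +kernel

theorem chk_test : ∀ (l : Fin 28) (j : Fin 17), D4 (herm (bv l) (tv j)) := by decide +kernel

theorem chk_inv : ∀ l l' : Fin 28, ∑ p : RuIdx, phi (fv l p) * ginv p l' = if l = l' then 1 else 0 := by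
  decide +kernel

theorem chk_orth : ∀ l j : Fin 28, lev l + lev j ≤ 3 → ∑ p : RuIdx, phi (fv l p) * phi (fv j p) = 0 := by
  decide +kernel

theorem chk_cover1 : ∀ p : RuIdx, ∃ j : Fin 28, lev j = 0 ∧ phi (fv j p) = 1 := by decide +kernel

theorem chk_cover2 : ∀ p q : RuIdx, p ≠ q → ∃ j : Fin 28, lev j ≤ 1 ∧ phi (fv j p) ≠ phi (fv j q) := by
  decide +kernel

end Cfsg.Agent.Lib.Helper10.RuLat
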