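import Mathlib
import Cfsg.Prelude.Def_Spor_Ru
import Cfsg.Agent.Lib.Helper10.RuLatDefs
import Cfsg.Agent.Lib.Helper10.RuLatData

/-!
# The Conway-Wales lattice (S1628): the code checks  (helper10)

The binary codes spanned by the reductions of the vectors of level `0` (nine vectors) and of level `≤ 1` (ten vectors),
and the test vectors excluding the vectors of shape `1⁸` and `π · 1⁴`.
-/

set_option autoImplicit false
set_option maxRecDepth 100000

namespace Cfsg.Agent.Lib.Helper10.RuLat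

open Cfsg.Spor GaussianInt

/-- the word of the first `k` vectors with coefficients `δ` -/
def wordK (k : ℕ) (hk : k ≤ 28) (δ : Fin k → ZMod 2) (p : RuIdx) : ZMod 2 :=
  ∑ l : Fin k, δ l * phi (fv (Fin.castLE hk l) p)

/-- the number of ones -/
def wt (w : RuIdx → ZMod 2) : ℕ := (Finset.univ.filter (fun p => w p = 1)).card

theorem chk_C1 : ∀ d0 d1 d2 d3 d4 d5 d6 d7 d8 : ZMod 2,
    (∀ p, wordK 9 (by norm_num) ![d0, d1, d2, d3, d4, d5, d6, d7, d8] p = 0) ∨
    9 ≤ wt (wordK 9 (by norm_num) ![d0, d1, d2, d3, d4, d5, d6, d7, d8]) ∨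
    ∃ n m : Fin 7, n ≠ m ∧ ∀ p : RuIdx, wordK 9 (by norm_num) ![d0, d1, d2, d3, d4, d5, d6, d7, d8] p =
      if p.1 = n ∨ p.1 = m then 1 else 0 := by
  decide +kernel

theorem chk_C2 : ∀ d0 d1 d2 d3 d4 d5 d6 d7 d8 d9 : ZMod 2,
    (∀ p, wordK 10 (by norm_num) ![d0, d1, d2, d3, d4, d5, d6, d7, d8, d9] p = 0) ∨
    5 ≤ wt (wordK 10 (by norm_num) ![d0, d1, d2, d3, d4, d5, d6, d7, d8, d9]) ∨
    ∃ n : Fin 7, ∀ p : RuIdx, wordK 10 (by norm_num) ![d0, d1, d2, d3, d4, d5, d6, d7, d8, d9] p =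
      if p.1 = n then 1 else 0 := by
  decide +kernel

/-- the four units -/
def unitG (k : Fin 4) : GaussianInt := gz ([(1, 0), (0, 1), (-1, 0), (0, -1)].getD k.val (0, 0))

theorem chk_A : ∀ n m : Fin 7, n ≠ m → ∀ u0 u1 u2 u3 : Fin 4, ∃ j : Fin 17,
    (∀ t : Fin 4, tv j (m, t) = 0) ∧
    ¬ D4 (unitG u0 * star (tv j (n, 0)) + unitG u1 * star (tv j (n, 1)) + unitG u2 * star (tv j (n, 2)) +
      unitG u3 * star (tv j (n, 3))) := by
  decide +kernel

theorem chk_B : ∀ n : Fin 7, ∀ u0 u1 u2 u3 : Fin 4, ∃ j : Fin 17,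
    ¬ D4 (piG * (unitG u0 * star (tv j (n, 0)) + unitG u1 * star (tv j (n, 1)) + unitG u2 * star (tv j (n, 2)) +
      unitG u3 * star (tv j (n, 3)))) := by
  decide +kernel

end Cfsg.Agent.Lib.Helper10.RuLat
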