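import Mathlib
import Cfsg.Prelude.Def_Spor_Ru
import Cfsg.Agent.Lib.Helper10.RuLatDefs
import Cfsg.Agent.Lib.Helper10.RuLatData
import Cfsg.Agent.Lib.Helper10.RuLatChk
import Cfsg.Agent.Lib.Helper10.RuLatChk2

/-!
# The Conway-Wales lattice is even without roots (S1628)  (helper10)

`ruLattice ≤ SL := span_{ℤ[i]} (bv l)`; the Gram matrix of the `bv l` has entries in `4 ℤ[i]` and diagonal in `8 ℤ`, so all
norms are divisible by `8`.  A vector of norm `8` is excluded by the `π`-adic filtration `Sk k = span (π^(lev l - k) fv l)`: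
modulo `π` the vectors of `Sk k` lie in the binary code spanned by the reductions of the `fv l` with `lev l ≤ k`.
-/

set_option autoImplicit false

namespace Cfsg.Agent.Lib.Helper10.RuLat

open Cfsg.Spor GaussianInt

/-- the span of the basis -/
def SL : Submodule GaussianInt RuVec := Submodule.span GaussianInt (Set.range bv)

theorem bv_mem (l : Fin 28) : bv l ∈ SL := Submodule.subset_span ⟨l, rfl⟩

theorem sum_mem_SL (c : Fin 28 → GaussianInt) : ∑ l, c l • bv l ∈ SL :=
  Submodule.sum_mem _ fun l _ => Submodule.smul_mem _ _ (bv_mem l)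

theorem map_mem (ρ : RuVec → RuVec) (hadd : ∀ x y, ρ (x + y) = ρ x + ρ y)
    (hsmul : ∀ (c : GaussianInt) x, ρ (c • x) = c • ρ x) (hb : ∀ l, ρ (bv l) ∈ SL) :
    ∀ x ∈ SL, ρ x ∈ SL := by
  intro x hx
  induction hx using Submodule.span_induction with
  | mem x hx =>
    obtain ⟨l, rfl⟩ := hx
    exact hb l
  | zero =>
    have h := hsmul 0 0
    rw [zero_smul, zero_smul] at h
    rw [h]
    exact SL.zero_mem
  | add x y _ _ hx hy =>
    rw [hadd]
    exact SL.add_mem hx hy
  | smul c x _ hx =>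
    rw [hsmul]
    exact SL.smul_mem c hx

theorem ruLattice_le : ∀ x ∈ ruLattice, x ∈ SL := by
  have hcl : SL.toAddSubgroup ∈ ruClosed := by
    refine ⟨?_, ?_⟩
    · intro v hv
      obtain ⟨n, hn, rfl⟩ := List.mem_iff_getElem.mp hv
      have hlen : ruTable.length = 20 := rfl
      have h1 : ruTable[n] = ruTable.getD (⟨n, hlen ▸ hn⟩ : Fin 20).val 0 := by
        rw [List.getD_eq_getElem _ _ hn]
      have h2 : ruTable[n] = ∑ l : Fin 28, coefOf tabCert n l.val • bv l := by
        funext p
        rw [h1]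
        exact chk_table ⟨n, hlen ▸ hn⟩ p
      show ruTable[n] ∈ SL
      rw [h2]
      exact sum_mem_SL _
    · intro v hv
      have hv' : v ∈ SL := hv
      refine ⟨?_, ?_, ?_, ?_, ?_⟩
      · exact SL.smul_mem gI hv'
      · refine map_mem ruRj ruRj_add ruRj_smul (fun l => ?_) v hv'
        have : ruRj (bv l) = ∑ j : Fin 28, coefOf certRj l.val j.val • bv j := funext fun p => chk_Rj l p
        rw [this]
        exact sum_mem_SL _
      · refine map_mem ruRk ruRk_add ruRk_smul (fun l => ?_) v hv'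
        have : ruRk (bv l) = ∑ j : Fin 28, coefOf certRk l.val j.val • bv j := funext fun p => chk_Rk l p
        rw [this]
        exact sum_mem_SL _
      · refine map_mem ruSign ruSign_add ruSign_smul (fun l => ?_) v hv'
        have : ruSign (bv l) = ∑ j : Fin 28, coefOf certSign l.val j.val • bv j := funext fun p => chk_Sign l p
        rw [this]
        exact sum_mem_SL _
      · refine map_mem ruShift ruShift_add ruShift_smul (fun l => ?_) v hv'
        have : ruShift (bv l) = ∑ j : Fin 28, coefOf certShift l.val j.val • bv j :=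
          funext fun p => chk_Shift l p
        rw [this]
        exact sum_mem_SL _
  intro x hx
  have h : ruLattice ≤ SL.toAddSubgroup := sInf_le hcl
  exact h hx

/-! ### evenness -/

theorem D4_herm_bv {x : RuVec} (hx : x ∈ SL) (l : Fin 28) : D4 (herm x (bv l)) := by
  induction hx using Submodule.span_induction with
  | mem x hx =>
    obtain ⟨j, rfl⟩ := hx
    exact chk_gram4 j l
  | zero =>
    rw [herm_zero_left]
    exact D4_zero
  | add x y _ _ hx hy =>
    rw [herm_add_left]
    exact D4_add hx hy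
  | smul c x _ hx =>
    rw [herm_smul_left]
    exact D4_mul c hx

theorem D4_herm {x y : RuVec} (hx : x ∈ SL) (hy : y ∈ SL) : D4 (herm x y) := by
  induction hy using Submodule.span_induction with
  | mem y hy =>
    obtain ⟨j, rfl⟩ := hy
    exact D4_herm_bv hx j
  | zero =>
    rw [herm_zero_right]
    exact D4_zero
  | add y y' _ _ hy hy' =>
    rw [herm_add_right]
    exact D4_add hy hy'
  | smul c y _ hy =>
    rw [herm_smul_right]
    exact D4_mul _ hy

theorem even_SL {x : RuVec} (hx : x ∈ SL) : (8 : ℤ) ∣ ruNorm x := by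
  induction hx using Submodule.span_induction with
  | mem x hx =>
    obtain ⟨j, rfl⟩ := hx
    exact chk_gram8 j
  | zero =>
    have : ruNorm (0 : RuVec) = 0 := by
      unfold ruNorm
      simp
    rw [this]
    exact dvd_zero _
  | add x y hx hy hx' hy' =>
    rw [ruNorm_add]
    obtain ⟨a, ha⟩ := (D4_herm hx hy).1
    rw [ha]
    exact dvd_add (dvd_add hx' hy') ⟨a, by ring⟩
  | smul c x _ hx =>
    rw [ruNorm_smul]
    exact Dvd.dvd.mul_left hx _

theorem D4_herm_tv {x : RuVec} (hx : x ∈ SL) (j : Fin 17) : D4 (herm x (tv j)) := by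
  induction hx using Submodule.span_induction with
  | mem x hx =>
    obtain ⟨l, rfl⟩ := hx
    exact chk_test l j
  | zero =>
    rw [herm_zero_left]
    exact D4_zero
  | add x y _ _ hx hy =>
    rw [herm_add_left]
    exact D4_add hx hy
  | smul c x _ hx =>
    rw [herm_smul_left]
    exact D4_mul c hx

/-! ### the filtration -/

/-- the generators of the `k`-th term of the filtration -/
def gen (k : ℕ) (l : Fin 28) : RuVec := piG ^ (lev l - k) • fv l

/-- `π^(-k) (S ∩ π^k ℤ[i]²⁸)` -/
def Sk (k : ℕ) : Submodule GaussianInt RuVec := Submodule.span GaussianInt (Set.range (gen k))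

theorem SL_eq : SL = Sk 0 := by
  unfold SL Sk
  congr 2
  funext l
  funext p
  exact chk_b l p

theorem mem_Sk_iff (k : ℕ) (x : RuVec) : x ∈ Sk k ↔ ∃ c : Fin 28 → GaussianInt, ∑ l, c l • gen k l = x :=
  Submodule.mem_span_range_iff_exists_fun GaussianInt

theorem phi_gen (k : ℕ) (l : Fin 28) (p : RuIdx) :
    phi (gen k l p) = if lev l ≤ k then phi (fv l p) else 0 := by
  unfold gen
  rw [Pi.smul_apply, smul_eq_mul, map_mul, map_pow, phi_piG]
  split_ifs with h
  · rw [Nat.sub_eq_zero_of_le h, pow_zero, one_mul]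
  · rw [zero_pow (by omega), zero_mul]

theorem sum_apply' (c : Fin 28 → GaussianInt) (g : Fin 28 → RuVec) (p : RuIdx) :
    (∑ l, c l • g l) p = ∑ l, c l * g l p := by
  rw [Finset.sum_apply]
  exact Finset.sum_congr rfl fun l _ => by rw [Pi.smul_apply, smul_eq_mul]

/-- modulo `π` the vectors of `Sk k` lie in the code of the levels `≤ k` -/
theorem code {k : ℕ} {x : RuVec} (hx : x ∈ Sk k) : ∃ ε : Fin 28 → ZMod 2, (∀ l, k < lev l → ε l = 0) ∧
    ∀ p, phi (x p) = ∑ l, ε l * phi (fv l p) := by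
  obtain ⟨c, rfl⟩ := (mem_Sk_iff k x).mp hx
  refine ⟨fun l => if lev l ≤ k then phi (c l) else 0, fun l hl => ?_, fun p => ?_⟩
  · show (if lev l ≤ k then phi (c l) else 0) = 0
    rw [if_neg (by omega)]
  rw [sum_apply', map_sum]
  refine Finset.sum_congr rfl fun l _ => ?_
  show phi (c l * gen k l p) = (if lev l ≤ k then phi (c l) else 0) * phi (fv l p)
  rw [map_mul, phi_gen]
  by_cases hl : lev l ≤ k
  · rw [if_pos hl, if_pos hl]
  · rw [if_neg hl, if_neg hl, mul_zero, zero_mul]

theorem indep (ε : Fin 28 → ZMod 2) (h : ∀ p, ∑ l, ε l * phi (fv l p) = 0) : ∀ l, ε l = 0 := by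
  intro l'
  have h1 : ∑ p : RuIdx, (∑ l, ε l * phi (fv l p)) * ginv p l' = 0 :=
    Finset.sum_eq_zero fun p _ => by rw [h p, zero_mul]
  have h2 : ∑ p : RuIdx, (∑ l, ε l * phi (fv l p)) * ginv p l' =
      ∑ l, ε l * ∑ p : RuIdx, phi (fv l p) * ginv p l' := by
    simp only [Finset.sum_mul, Finset.mul_sum]
    rw [Finset.sum_comm]
    exact Finset.sum_congr rfl fun l _ => Finset.sum_congr rfl fun p _ => by ring
  rw [h2] at h1
  simp only [chk_inv] at h1
  rw [Finset.sum_eq_single l'] at h1
  · simpa using h1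
  · intro l _ hl
    rw [if_neg hl, mul_zero]
  · intro hl
    exact absurd (Finset.mem_univ l') hl

/-- an element of `Sk k` all of whose coordinates are even is `π` times an element of `Sk (k+1)` -/
theorem step {k : ℕ} {x : RuVec} (hx : x ∈ Sk k) (hev : ∀ p, phi (x p) = 0) :
    ∃ x' ∈ Sk (k + 1), x = piG • x' := by
  obtain ⟨c, rfl⟩ := (mem_Sk_iff k x).mp hx
  have h0 : ∀ l, (if lev l ≤ k then phi (c l) else 0) = 0 := by
    apply indep
    intro p
    have := hev p
    rw [sum_apply', map_sum] at this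
    refine Eq.trans ?_ this
    refine Finset.sum_congr rfl fun l _ => ?_
    show (if lev l ≤ k then phi (c l) else 0) * phi (fv l p) = phi (c l * gen k l p)
    rw [map_mul, phi_gen]
    by_cases hl : lev l ≤ k
    · rw [if_pos hl, if_pos hl]
    · rw [if_neg hl, if_neg hl, mul_zero, zero_mul]
  have h1 : ∀ l, ∃ w, lev l ≤ k → c l = piG * w := by
    intro l
    by_cases hl : lev l ≤ k
    · have := h0 l
      rw [if_pos hl] at this
      obtain ⟨w, hw⟩ := (phi_eq_zero_iff _).mp this
      exact ⟨w, fun _ => hw⟩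
    · exact ⟨0, fun h => absurd h hl⟩
  choose c' hc' using h1
  refine ⟨∑ l, (if lev l ≤ k then c' l else c l) • gen (k + 1) l, ?_, ?_⟩
  · rw [mem_Sk_iff]
    exact ⟨_, rfl⟩
  · rw [Finset.smul_sum]
    refine Finset.sum_congr rfl fun l _ => ?_
    by_cases hl : lev l ≤ k
    · rw [if_pos hl, smul_smul, ← hc' l hl]
      congr 1
      unfold gen
      rw [Nat.sub_eq_zero_of_le hl, Nat.sub_eq_zero_of_le (by omega)]
    · rw [if_neg hl, smul_comm]
      congr 1
      unfold gen
      have : lev l - k = (lev l - (k + 1)) + 1 := by omega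
      rw [this, pow_succ, smul_smul, mul_comm]

theorem ruNorm_piG (x : RuVec) : ruNorm (piG • x) = 2 * ruNorm x := by
  rw [ruNorm_smul]
  rfl

/-- the odd coordinates -/
def oddSet (x : RuVec) : Finset RuIdx := Finset.univ.filter (fun p => phi (x p) = 1)

theorem card_oddSet_le (x : RuVec) : ((oddSet x).card : ℤ) ≤ ruNorm x := by
  unfold oddSet ruNorm
  rw [Finset.card_filter]
  push_cast
  refine Finset.sum_le_sum fun p _ => ?_
  split_ifs with h
  · exact norm_pos_of_phi h
  · exact GaussianInt.norm_nonneg _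

theorem sum_oddSet (x : RuVec) (h : RuIdx → ZMod 2) : ∑ p, phi (x p) * h p = ∑ p ∈ oddSet x, h p := by
  unfold oddSet
  rw [Finset.sum_filter]
  refine Finset.sum_congr rfl fun p _ => ?_
  rcases zmod2_cases (phi (x p)) with h0 | h1
  · rw [h0, zero_mul, if_neg zero_ne_one]
  · rw [h1, one_mul, if_pos rfl]

theorem orth_of {k : ℕ} {x : RuVec} (hx : x ∈ Sk k) (j : Fin 28) (hj : lev j + k ≤ 3) :
    ∑ p, phi (x p) * phi (fv j p) = 0 := by
  obtain ⟨ε, hε, hx'⟩ := code hx
  have h1 : ∑ p, phi (x p) * phi (fv j p) = ∑ l, ε l * ∑ p, phi (fv l p) * phi (fv j p) := by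
    simp only [hx', Finset.sum_mul, Finset.mul_sum]
    rw [Finset.sum_comm]
    exact Finset.sum_congr rfl fun l _ => Finset.sum_congr rfl fun p _ => by ring
  rw [h1]
  refine Finset.sum_eq_zero fun l _ => ?_
  by_cases hl : k < lev l
  · rw [hε l hl, zero_mul]
  · rw [chk_orth l j (by omega), mul_zero]

theorem even_of_oddSet_empty {x : RuVec} (h : oddSet x = ∅) : ∀ p, phi (x p) = 0 := by
  intro p
  rcases zmod2_cases (phi (x p)) with h0 | h1
  · exact h0
  · have : p ∈ oddSet x := by
      unfold oddSet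
      rw [Finset.mem_filter]
      exact ⟨Finset.mem_univ p, h1⟩
    rw [h] at this
    exact absurd this (Finset.notMem_empty p)

theorem sum_castLE (k : ℕ) (hk : k ≤ 28) (h : Fin 28 → ZMod 2) (h0 : ∀ l : Fin 28, k ≤ l.val → h l = 0) :
    ∑ l : Fin 28, h l = ∑ l : Fin k, h (Fin.castLE hk l) := by
  let F : ℕ → ZMod 2 := fun i => if hi : i < 28 then h ⟨i, hi⟩ else 0
  have e1 : ∑ l : Fin 28, h l = ∑ i ∈ Finset.range 28, F i := by
    rw [← Fin.sum_univ_eq_sum_range]
    refine Finset.sum_congr rfl fun l _ => ?_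
    show h l = if hi : l.val < 28 then h ⟨l.val, hi⟩ else 0
    rw [dif_pos l.isLt]
  have e2 : ∑ l : Fin k, h (Fin.castLE hk l) = ∑ i ∈ Finset.range k, F i := by
    rw [← Fin.sum_univ_eq_sum_range]
    refine Finset.sum_congr rfl fun l _ => ?_
    show h (Fin.castLE hk l) = if hi : l.val < 28 then h ⟨l.val, hi⟩ else 0
    rw [dif_pos (by omega)]
    rfl
  rw [e1, e2]
  symm
  apply Finset.sum_subset (Finset.range_subset_range.mpr hk)
  intro i hi hi'
  rw [Finset.mem_range] at hi hi'
  show (if hi : i < 28 then h ⟨i, hi⟩ else 0) = 0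
  rw [dif_pos hi]
  exact h0 _ (by simpa using hi')

theorem lev_le_zero_iff : ∀ l : Fin 28, lev l ≤ 0 ↔ l.val < 9 := by decide

theorem lev_le_one_iff : ∀ l : Fin 28, lev l ≤ 1 ↔ l.val < 10 := by decide

theorem unit_of_norm_one {z : GaussianInt} (h : z.norm = 1) : ∃ u : Fin 4, z = unitG u := by
  rw [Zsqrtd.norm_def] at h
  have h1 : z.re * z.re + z.im * z.im = 1 := by linarith
  have hr : -1 ≤ z.re ∧ z.re ≤ 1 := by constructor <;> nlinarith
  have hi : -1 ≤ z.im ∧ z.im ≤ 1 := by constructor <;> nlinarith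
  obtain ⟨hr1, hr2⟩ := hr
  obtain ⟨hi1, hi2⟩ := hi
  obtain ⟨a, b⟩ := z
  simp only at h1 hr1 hr2 hi1 hi2
  interval_cases a <;> interval_cases b <;> simp at h1
  · exact ⟨2, by decide⟩
  · exact ⟨3, by decide⟩
  · exact ⟨1, by decide⟩
  · exact ⟨0, by decide⟩

theorem herm_single_comp (x y : RuVec) (n : Fin 7) (h : ∀ a : Fin 7, a ≠ n → ∀ t : Fin 4, x (a, t) = 0 ∨ y (a, t) = 0) :
    herm x y = x (n, 0) * star (y (n, 0)) + x (n, 1) * star (y (n, 1)) + x (n, 2) * star (y (n, 2)) +
      x (n, 3) * star (y (n, 3)) := by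
  unfold herm
  rw [Fintype.sum_prod_type, Finset.sum_eq_single n]
  · rw [Fin.sum_univ_four]
  · intro a _ ha
    refine Finset.sum_eq_zero fun t _ => ?_
    rcases h a ha t with h0 | h0
    · rw [h0, zero_mul]
    · rw [h0, star_zero, mul_zero]
  · intro hn
    exact absurd (Finset.mem_univ n) hn

theorem card_pair : ∀ n m : Fin 7, n ≠ m →
    (Finset.univ.filter (fun p : RuIdx => p.1 = n ∨ p.1 = m)).card = 8 := by decide

theorem card_single : ∀ n : Fin 7, (Finset.univ.filter (fun p : RuIdx => p.1 = n)).card = 4 := by decide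

/-- if the odd coordinates of `x` are exactly the `c` coordinates described by `P` and `ruNorm x = c`, then `x` has unit
  entries there and vanishes elsewhere -/
theorem shape_of_norm (x : RuVec) (P : RuIdx → Prop) [DecidablePred P] (c : ℕ)
    (hP : ∀ p, phi (x p) = if P p then 1 else 0) (hc : (Finset.univ.filter P).card = c)
    (hn : ruNorm x = c) : (∀ p, P p → (x p).norm = 1) ∧ ∀ p, ¬ P p → x p = 0 := by
  have h1 : ∀ p, P p → 1 ≤ (x p).norm := by
    intro p hp
    apply norm_pos_of_phi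
    rw [hP p, if_pos hp]
  have hsplit : ruNorm x = ∑ p ∈ Finset.univ.filter P, (x p).norm +
      ∑ p ∈ Finset.univ.filter (fun p => ¬ P p), (x p).norm := by
    unfold ruNorm
    rw [Finset.sum_filter_add_sum_filter_not]
  have hA : ∑ p ∈ Finset.univ.filter P, ((x p).norm - 1) =
      ∑ p ∈ Finset.univ.filter P, (x p).norm - c := by
    rw [Finset.sum_sub_distrib, Finset.sum_const, hc]
    simp
  have hA0 : 0 ≤ ∑ p ∈ Finset.univ.filter P, ((x p).norm - 1) :=
    Finset.sum_nonneg fun p hp => by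
      have := h1 p (Finset.mem_filter.mp hp).2
      linarith
  have hB0 : 0 ≤ ∑ p ∈ Finset.univ.filter (fun p => ¬ P p), (x p).norm :=
    Finset.sum_nonneg fun p _ => GaussianInt.norm_nonneg _
  have hAz : ∑ p ∈ Finset.univ.filter P, ((x p).norm - 1) = 0 := by linarith
  have hBz : ∑ p ∈ Finset.univ.filter (fun p => ¬ P p), (x p).norm = 0 := by linarith
  constructor
  · intro p hp
    have := (Finset.sum_eq_zero_iff_of_nonneg (fun p hp => by
      have := h1 p (Finset.mem_filter.mp hp).2
      linarith)).mp hAz p (Finset.mem_filter.mpr ⟨Finset.mem_univ p, hp⟩)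
    linarith
  · intro p hp
    have := (Finset.sum_eq_zero_iff_of_nonneg (fun p _ => GaussianInt.norm_nonneg (x p))).mp hBz p
      (Finset.mem_filter.mpr ⟨Finset.mem_univ p, hp⟩)
    exact (Zsqrtd.norm_eq_zero_iff (by norm_num) _).mp this

theorem wt_eq (x : RuVec) (w : RuIdx → ZMod 2) (h : ∀ p, phi (x p) = w p) : wt w = (oddSet x).card := by
  unfold wt oddSet
  congr 1
  ext p
  simp only [Finset.mem_filter, Finset.mem_univ, true_and, h p]

/-- **no vector of norm eight** -/
theorem no_eight {x : RuVec} (hx : x ∈ SL) : ruNorm x ≠ 8 := by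
  intro h8
  have hx0 : x ∈ Sk 0 := SL_eq ▸ hx
  -- level 0
  obtain ⟨ε, hε, hεx⟩ := code hx0
  have hw : ∀ p, phi (x p) = wordK 9 (by norm_num) (fun l => ε (Fin.castLE (by norm_num) l)) p := by
    intro p
    rw [hεx p]
    unfold wordK
    rw [sum_castLE 9 (by norm_num) (fun l => ε l * phi (fv l p))]
    intro l hl
    rw [hε l, zero_mul]
    have := (lev_le_zero_iff l).not.mpr (by omega)
    omega
  have hδ : (fun l : Fin 9 => ε (Fin.castLE (by norm_num : 9 ≤ 28) l)) =
      ![ε (Fin.castLE (by norm_num : 9 ≤ 28) 0), ε (Fin.castLE (by norm_num : 9 ≤ 28) 1),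
        ε (Fin.castLE (by norm_num : 9 ≤ 28) 2), ε (Fin.castLE (by norm_num : 9 ≤ 28) 3),
        ε (Fin.castLE (by norm_num : 9 ≤ 28) 4), ε (Fin.castLE (by norm_num : 9 ≤ 28) 5),
        ε (Fin.castLE (by norm_num : 9 ≤ 28) 6), ε (Fin.castLE (by norm_num : 9 ≤ 28) 7),
        ε (Fin.castLE (by norm_num : 9 ≤ 28) 8)] := by
    funext l
    fin_cases l <;> rfl
  rw [hδ] at hw
  rcases chk_C1 _ _ _ _ _ _ _ _ _ with hz | hbig | ⟨n, m, hnm, hpair⟩
  · -- all coordinates even
    obtain ⟨x1, hx1, rfl⟩ := step hx0 (fun p => by rw [hw p, hz p])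
    rw [ruNorm_piG] at h8
    have h4 : ruNorm x1 = 4 := by omega
    -- level 1
    obtain ⟨ε1, hε1, hεx1⟩ := code hx1
    have hw1 : ∀ p, phi (x1 p) = wordK 10 (by norm_num) (fun l => ε1 (Fin.castLE (by norm_num) l)) p := by
      intro p
      rw [hεx1 p]
      unfold wordK
      rw [sum_castLE 10 (by norm_num) (fun l => ε1 l * phi (fv l p))]
      intro l hl
      rw [hε1 l, zero_mul]
      have := (lev_le_one_iff l).not.mpr (by omega)
      omega
    have hδ1 : (fun l : Fin 10 => ε1 (Fin.castLE (by norm_num : 10 ≤ 28) l)) =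
        ![ε1 (Fin.castLE (by norm_num : 10 ≤ 28) 0), ε1 (Fin.castLE (by norm_num : 10 ≤ 28) 1),
          ε1 (Fin.castLE (by norm_num : 10 ≤ 28) 2), ε1 (Fin.castLE (by norm_num : 10 ≤ 28) 3),
          ε1 (Fin.castLE (by norm_num : 10 ≤ 28) 4), ε1 (Fin.castLE (by norm_num : 10 ≤ 28) 5),
          ε1 (Fin.castLE (by norm_num : 10 ≤ 28) 6), ε1 (Fin.castLE (by norm_num : 10 ≤ 28) 7),
          ε1 (Fin.castLE (by norm_num : 10 ≤ 28) 8), ε1 (Fin.castLE (by norm_num : 10 ≤ 28) 9)] := by
      funext l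
      fin_cases l <;> rfl
    rw [hδ1] at hw1
    rcases chk_C2 _ _ _ _ _ _ _ _ _ _ with hz1 | hbig1 | ⟨n, hsing⟩
    · obtain ⟨x2, hx2, rfl⟩ := step hx1 (fun p => by rw [hw1 p, hz1 p])
      rw [ruNorm_piG] at h4
      have h2 : ruNorm x2 = 2 := by omega
      -- level 2
      have hcard := card_oddSet_le x2
      rw [h2] at hcard
      have hcard' : (oddSet x2).card ≤ 2 := by exact_mod_cast hcard
      have horth : ∀ j : Fin 28, lev j ≤ 1 → ∑ p ∈ oddSet x2, phi (fv j p) = 0 := by
        intro j hj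
        rw [← sum_oddSet]
        exact orth_of hx2 j (by omega)
      have hc2 : (oddSet x2).card = 0 ∨ (oddSet x2).card = 1 ∨ (oddSet x2).card = 2 := by omega
      rcases hc2 with hc | hc | hc
      · rw [Finset.card_eq_zero] at hc
        obtain ⟨x3, hx3, rfl⟩ := step hx2 (even_of_oddSet_empty hc)
        rw [ruNorm_piG] at h2
        have h1 : ruNorm x3 = 1 := by omega
        -- level 3
        have hcard3 := card_oddSet_le x3
        rw [h1] at hcard3
        have hcard3' : (oddSet x3).card ≤ 1 := by exact_mod_cast hcard3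
        have hc3 : (oddSet x3).card = 0 ∨ (oddSet x3).card = 1 := by omega
        rcases hc3 with hc | hc
        · rw [Finset.card_eq_zero] at hc
          obtain ⟨x4, hx4, rfl⟩ := step hx3 (even_of_oddSet_empty hc)
          rw [ruNorm_piG] at h1
          omega
        · obtain ⟨p0, hp0⟩ := Finset.card_eq_one.mp hc
          obtain ⟨j, hj0, hj1⟩ := chk_cover1 p0
          have := orth_of hx3 j (by omega)
          rw [sum_oddSet, hp0, Finset.sum_singleton, hj1] at this
          exact one_ne_zero this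
      · obtain ⟨p0, hp0⟩ := Finset.card_eq_one.mp hc
        obtain ⟨j, hj0, hj1⟩ := chk_cover1 p0
        have := horth j (by omega)
        rw [hp0, Finset.sum_singleton, hj1] at this
        exact one_ne_zero this
      · obtain ⟨p0, q0, hpq, hp0⟩ := Finset.card_eq_two.mp hc
        obtain ⟨j, hj0, hj1⟩ := chk_cover2 p0 q0 hpq
        have := horth j hj0
        rw [hp0, Finset.sum_pair hpq] at this
        apply hj1
        rcases zmod2_cases (phi (fv j p0)) with h0 | h0 <;> rcases zmod2_cases (phi (fv j q0)) with h0' | h0' <;>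
          rw [h0, h0'] at this ⊢ <;> revert this <;> decide
    · -- too many odd coordinates
      rw [wt_eq x1 _ hw1] at hbig1
      have := card_oddSet_le x1
      rw [h4] at this
      have : (oddSet x1).card ≤ 4 := by exact_mod_cast this
      omega
    · -- `x1` is a unit vector pattern on the component `n`
      have hP : ∀ p, phi (x1 p) = if p.1 = n then 1 else 0 := fun p => by rw [hw1 p, hsing p]
      obtain ⟨hu, hzero⟩ := shape_of_norm x1 (fun p => p.1 = n) 4 hP (card_single n) (by rw [h4]; rfl)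
      obtain ⟨u0, hu0⟩ := unit_of_norm_one (hu (n, 0) rfl)
      obtain ⟨u1, hu1⟩ := unit_of_norm_one (hu (n, 1) rfl)
      obtain ⟨u2, hu2⟩ := unit_of_norm_one (hu (n, 2) rfl)
      obtain ⟨u3, hu3⟩ := unit_of_norm_one (hu (n, 3) rfl)
      obtain ⟨j, hj⟩ := chk_B n u0 u1 u2 u3
      apply hj
      have h1 := D4_herm_tv hx j
      rw [herm_smul_left, herm_single_comp x1 (tv j) n (fun a ha t => Or.inl (hzero (a, t) ha)),
        hu0, hu1, hu2, hu3] at h1
      exact h1
  · -- too many odd coordinates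
    rw [wt_eq x _ hw] at hbig
    have := card_oddSet_le x
    rw [h8] at this
    have : (oddSet x).card ≤ 8 := by exact_mod_cast this
    omega
  · -- `x` is a unit vector pattern on the components `n, m`
    have hP : ∀ p, phi (x p) = if p.1 = n ∨ p.1 = m then 1 else 0 := fun p => by rw [hw p, hpair p]
    obtain ⟨hu, hzero⟩ := shape_of_norm x (fun p => p.1 = n ∨ p.1 = m) 8 hP (card_pair n m hnm)
      (by rw [h8]; rfl)
    obtain ⟨u0, hu0⟩ := unit_of_norm_one (hu (n, 0) (Or.inl rfl))
    obtain ⟨u1, hu1⟩ := unit_of_norm_one (hu (n, 1) (Or.inl rfl))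
    obtain ⟨u2, hu2⟩ := unit_of_norm_one (hu (n, 2) (Or.inl rfl))
    obtain ⟨u3, hu3⟩ := unit_of_norm_one (hu (n, 3) (Or.inl rfl))
    obtain ⟨j, hj0, hj⟩ := chk_A n m hnm u0 u1 u2 u3
    apply hj
    have h1 := D4_herm_tv hx j
    rw [herm_single_comp x (tv j) n (fun a ha t => by
      by_cases ham : a = m
      · right
        rw [ham]
        exact hj0 t
      · left
        exact hzero (a, t) (by
          rintro (h | h)
          · exact ha h
          · exact ham h)), hu0, hu1, hu2, hu3] at h1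
    exact h1

/-- the statement of S1628 -/
theorem main : (∀ x ∈ ruLattice, (8 : ℤ) ∣ ruNorm x) ∧ (∀ x ∈ ruLattice, ruNorm x ≠ 8) ∧
    (∀ x ∈ ruLattice, x ≠ 0 → 16 ≤ ruNorm x) ∧ ∃ x ∈ ruLattice, ruNorm x = 16 := by
  refine ⟨fun x hx => even_SL (ruLattice_le x hx), fun x hx => no_eight (ruLattice_le x hx), ?_, ?_⟩
  · intro x hx hx0
    have h1 := even_SL (ruLattice_le x hx)
    have h2 := no_eight (ruLattice_le x hx)
    have h3 : ruNorm x ≠ 0 := fun h => hx0 (ruNorm_eq_zero h)
    have h4 := ruNorm_nonneg x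
    obtain ⟨k, hk⟩ := h1
    omega
  · refine ⟨ruTable.getD 0 0, ?_, by decide +kernel⟩
    rw [ruLattice, AddSubgroup.mem_sInf]
    intro L hL
    exact hL.1 _ (by decide)

end Cfsg.Agent.Lib.Helper10.RuLat
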