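import Mathlib

/-!
# Quadratic action lemmas for S1774 (helper10)

`P` is a subgroup of `G` which is elementary abelian modulo a central involution `a`;
`σ` is an involutory automorphism preserving `P` whose fixed points modulo `a` are genuine
fixed points (`hstar`), and `ρ` is an automorphism commuting with `σ` which moves every
fixed point of `σ` by at most `a`.  Then `ρ` acts quadratically and `σ` cannot be a square
or a commutator of such maps unless it is trivial on `P`.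
-/

set_option autoImplicit false

namespace Cfsg.Agent.Lib.Helper10.S1774

variable {G : Type*} [Group G]

/-- the hypotheses on `(P, a, σ)` -/
structure QHyp (P : Subgroup G) (a : G) (σ : MulAut G) : Prop where
  a_sq : a * a = 1
  a_cent : ∀ p ∈ P, p * a = a * p
  comm : ∀ p ∈ P, ∀ q ∈ P, p * q = q * p ∨ p * q = a * (q * p)
  sq : ∀ p ∈ P, p * p = 1 ∨ p * p = a
  σP : ∀ p ∈ P, σ p ∈ P
  σa : σ a = a
  σ2 : ∀ p ∈ P, σ (σ p) = p
  star : ∀ p ∈ P, (σ p = p ∨ σ p = a * p) → σ p = p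

/-- the hypotheses on `ρ` relative to `(P, a, σ)` -/
structure RHyp (P : Subgroup G) (a : G) (σ ρ : MulAut G) : Prop where
  ρP : ∀ p ∈ P, ρ p ∈ P
  ρa : ρ a = a
  σρ : ∀ p ∈ P, σ (ρ p) = ρ (σ p)
  fix : ∀ s ∈ P, σ s = s → (ρ s = s ∨ ρ s = a * s)

variable {P : Subgroup G} {a : G} {σ ρ : MulAut G}

theorem QHyp.a_inv (h : QHyp P a σ) : a⁻¹ = a := inv_eq_of_mul_eq_one_left h.a_sq

theorem QHyp.inv_cases (h : QHyp P a σ) {p : G} (hp : p ∈ P) : p⁻¹ = p ∨ p⁻¹ = a * p := by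
  rcases h.sq p hp with h1 | h1
  · left; exact inv_eq_of_mul_eq_one_left h1
  · right
    have h2 : p⁻¹ = a⁻¹ * p := by
      rw [← h1]; group
    rw [h2, h.a_inv]

/-- `ρ y * y⁻¹` is fixed by `σ` -/
theorem RHyp.fixed (hr : RHyp P a σ ρ) (h : QHyp P a σ) {y : G} (hy : y ∈ P) :
    σ (ρ y * y⁻¹) = ρ y * y⁻¹ := by
  have hσy : σ y ∈ P := h.σP y hy
  have hρy : ρ y ∈ P := hr.ρP y hy
  set s₁ := σ y * y⁻¹ with hs₁
  have hs₁P : s₁ ∈ P := P.mul_mem hσy (P.inv_mem hy)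
  have hσs₁ : σ s₁ = s₁ := by
    apply h.star s₁ hs₁P
    have h1 : σ s₁ = s₁⁻¹ := by
      rw [hs₁, map_mul, map_inv, h.σ2 y hy]; group
    rw [h1]
    exact h.inv_cases hs₁P
  have hσy' : σ y = s₁ * y := by rw [hs₁]; group
  set t := ρ y * y⁻¹ with ht
  have htP : t ∈ P := P.mul_mem hρy (P.inv_mem hy)
  have hρy' : ρ y = t * y := by rw [ht]; group
  have h1 : σ t = ρ s₁ * t * s₁⁻¹ := by
    rw [ht, map_mul, map_inv, hr.σρ y hy, hσy', map_mul]; group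
  apply h.star t htP
  have hat : t * a = a * t := h.a_cent t htP
  rcases hr.fix s₁ hs₁P hσs₁ with h2 | h2 <;> rcases h.comm s₁ hs₁P t htP with h3 | h3
  · left
    rw [h1, h2, h3]; group
  · right
    rw [h1, h2, h3]; group
  · right
    rw [h1, h2, mul_assoc a, h3]; group
  · left
    rw [h1, h2, mul_assoc a, h3]
    calc a * (a * (t * s₁)) * s₁⁻¹ = (a * a) * t := by group
      _ = t := by rw [h.a_sq, one_mul]

/-- if `σ = ρ²` on `P` then `σ` is trivial on `P` -/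
theorem RHyp.trivial_of_sq (hr : RHyp P a σ ρ) (h : QHyp P a σ)
    (hsq : ∀ p ∈ P, σ p = ρ (ρ p)) {y : G} (hy : y ∈ P) : σ y = y := by
  have hρy : ρ y ∈ P := hr.ρP y hy
  set t := ρ y * y⁻¹ with ht
  have htP : t ∈ P := P.mul_mem hρy (P.inv_mem hy)
  have hσt : σ t = t := hr.fixed h hy
  have hρy' : ρ y = t * y := by rw [ht]; group
  have h1 : σ y = ρ t * t * y := by
    rw [hsq y hy, hρy', map_mul, hρy']; group
  apply h.star y hy
  rcases hr.fix t htP hσt with h2 | h2 <;> rcases h.sq t htP with h3 | h3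
  · left
    rw [h1, h2, h3, one_mul]
  · right
    rw [h1, h2, h3]
  · right
    rw [h1, h2, mul_assoc a, h3, mul_one]
  · left
    rw [h1, h2, mul_assoc a, h3, h.a_sq, one_mul]

/-- if `σ ρ₂ ρ₁ = ρ₁ ρ₂` on `P` then `σ` is trivial on `P` -/
theorem RHyp.trivial_of_comm {ρ₁ ρ₂ : MulAut G} (hr₁ : RHyp P a σ ρ₁) (hr₂ : RHyp P a σ ρ₂)
    (h : QHyp P a σ)
    (hc : ∀ p ∈ P, σ (ρ₂ (ρ₁ p)) = ρ₁ (ρ₂ p))
    (hsurj₁ : ∀ p ∈ P, ρ₁.symm p ∈ P) (hsurj₂ : ∀ p ∈ P, ρ₂.symm p ∈ P)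
    {y : G} (hy : y ∈ P) : σ y = y := by
  -- first: σ fixes every ρ₂ (ρ₁ p)
  have key : ∀ p ∈ P, σ (ρ₂ (ρ₁ p)) = ρ₂ (ρ₁ p) := by
    intro p hp
    have hρ₁p : ρ₁ p ∈ P := hr₁.ρP p hp
    have hρ₂p : ρ₂ p ∈ P := hr₂.ρP p hp
    set t₁ := ρ₁ p * p⁻¹ with ht₁
    set t₂ := ρ₂ p * p⁻¹ with ht₂
    have ht₁P : t₁ ∈ P := P.mul_mem hρ₁p (P.inv_mem hp)
    have ht₂P : t₂ ∈ P := P.mul_mem hρ₂p (P.inv_mem hp)
    have hσt₁ : σ t₁ = t₁ := hr₁.fixed h hp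
    have hσt₂ : σ t₂ = t₂ := hr₂.fixed h hp
    have e₁ : ρ₁ p = t₁ * p := by rw [ht₁]; group
    have e₂ : ρ₂ p = t₂ * p := by rw [ht₂]; group
    have h12 : ρ₁ (ρ₂ p) = ρ₁ t₂ * t₁ * p := by
      rw [e₂, map_mul, e₁]; group
    have h21 : ρ₂ (ρ₁ p) = ρ₂ t₁ * t₂ * p := by
      rw [e₁, map_mul, e₂]; group
    have hw : ρ₂ (ρ₁ p) ∈ P := hr₂.ρP _ hρ₁p
    apply h.star _ hw
    rw [hc p hp, h12, h21]
    have hat₁ : t₁ * a = a * t₁ := h.a_cent t₁ ht₁P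
    have hat₂ : t₂ * a = a * t₂ := h.a_cent t₂ ht₂P
    have haa : ∀ X : G, a * (a * X) = X := by
      intro X; rw [← mul_assoc, h.a_sq, one_mul]
    obtain ⟨e₁, he₁, h2⟩ : ∃ e, (e = 1 ∨ e = a) ∧ ρ₁ t₂ = e * t₂ := by
      rcases hr₁.fix t₂ ht₂P hσt₂ with h2 | h2
      · exact ⟨1, Or.inl rfl, by rw [h2, one_mul]⟩
      · exact ⟨a, Or.inr rfl, h2⟩
    obtain ⟨e₂, he₂, h3⟩ : ∃ e, (e = 1 ∨ e = a) ∧ ρ₂ t₁ = e * t₁ := by
      rcases hr₂.fix t₁ ht₁P hσt₁ with h2 | h2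
      · exact ⟨1, Or.inl rfl, by rw [h2, one_mul]⟩
      · exact ⟨a, Or.inr rfl, h2⟩
    obtain ⟨e₃, he₃, h4⟩ : ∃ e, (e = 1 ∨ e = a) ∧ t₁ * t₂ = e * (t₂ * t₁) := by
      rcases h.comm t₁ ht₁P t₂ ht₂P with h2 | h2
      · exact ⟨1, Or.inl rfl, by rw [h2, one_mul]⟩
      · exact ⟨a, Or.inr rfl, h2⟩
    have hL : ρ₁ t₂ * t₁ * p = e₁ * (t₂ * t₁ * p) := by rw [h2]; group
    have hR : ρ₂ t₁ * t₂ * p = e₂ * (e₃ * (t₂ * t₁ * p)) := by
      rw [h3, mul_assoc e₂, h4]; group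
    rw [hL, hR]
    generalize t₂ * t₁ * p = X
    rcases he₁ with he₁ | he₁ <;> rcases he₂ with he₂ | he₂ <;> rcases he₃ with he₃ | he₃ <;>
      first
      | (left; simp only [he₁, he₂, he₃, one_mul, haa]; done)
      | (right; simp only [he₁, he₂, he₃, one_mul, haa]; done)
  have hp : ρ₁.symm (ρ₂.symm y) ∈ P := hsurj₁ _ (hsurj₂ y hy)
  have := key _ hp
  simpa using this

end Cfsg.Agent.Lib.Helper10.S1774
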