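import Mathlib
import Cfsg.Agent.Lib.Helper10.S1774A

/-!
# S1774 (helper10): the abstract configuration

`SQ Q z`: `z` is an involution, `Q ≤ C(z)` is normalised by `C(z)`, self-centralising in `C(z)`,
all squares of `Q` lie in `{1, z}` and `z` is the only central involution of `Q`.
-/

set_option autoImplicit false

namespace Cfsg.Agent.Lib.Helper10.S1774

variable {G : Type*} [Group G]

structure SQ (Q : Subgroup G) (z : G) : Prop where
  z_mem : z ∈ Q
  z_ne : z ≠ 1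
  z_sq : z * z = 1
  cent : ∀ q ∈ Q, q * z = z * q
  norm : ∀ c : G, c * z = z * c → ∀ q ∈ Q, c * q * c⁻¹ ∈ Q
  selfc : ∀ c : G, c * z = z * c → (∀ q ∈ Q, c * q = q * c) → c ∈ Q
  sq : ∀ q ∈ Q, q * q = 1 ∨ q * q = z
  zinv : ∀ q ∈ Q, (∀ p ∈ Q, p * q = q * p) → q * q = 1 → q = 1 ∨ q = z

variable {Q P : Subgroup G} {z a : G}

theorem SQ.z_inv (h : SQ Q z) : z⁻¹ = z := inv_eq_of_mul_eq_one_left h.z_sq

theorem SQ.zz (h : SQ Q z) (X : G) : z * (z * X) = X := by
  rw [← mul_assoc, h.z_sq, one_mul]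

/-- an element of `{1, z}` commutes with `Q` -/
theorem SQ.pair_comm (h : SQ Q z) {e : G} (he : e = 1 ∨ e = z) {q : G} (hq : q ∈ Q) :
    e * q = q * e := by
  rcases he with rfl | rfl
  · rw [one_mul, mul_one]
  · exact (h.cent q hq).symm

/-- commutators of `Q` lie in `{1, z}` -/
theorem SQ.comm (h : SQ Q z) {p q : G} (hp : p ∈ Q) (hq : q ∈ Q) :
    p * q = q * p ∨ p * q = z * (q * p) := by
  have hpp : (p * p) * q = q * (p * p) := h.pair_comm (h.sq p hp) hq
  have hpp' : (p * p)⁻¹ * q⁻¹ = q⁻¹ * (p * p)⁻¹ := by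
    have : Commute (p * p) q := hpp
    exact (this.inv_inv).eq
  have key : p * q = ((p * q) * (p * q)) * ((p * p)⁻¹ * ((q * q)⁻¹ * (q * p))) := by
    have h1 : (p * q) * (p * q) * ((p * p)⁻¹ * ((q * q)⁻¹ * (q * p)))
        = p * q * p * q * ((p * p)⁻¹ * q⁻¹) * p := by group
    rw [h1, hpp']; group
  rcases h.sq _ (Q.mul_mem hp hq) with h1 | h1 <;> rcases h.sq p hp with h2 | h2 <;>
    rcases h.sq q hq with h3 | h3 <;> rw [h1, h2, h3] at key
  · left; simpa using key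
  · right; simpa [h.z_inv] using key
  · right; simpa [h.z_inv] using key
  · left; simpa [h.z_inv, h.zz] using key
  · right; simpa using key
  · left; simpa [h.z_inv, h.zz] using key
  · left; simpa [h.z_inv, h.zz] using key
  · right; simpa [h.z_inv, h.zz] using key

theorem SQ.inv_cases (h : SQ Q z) {p : G} (hp : p ∈ Q) : p⁻¹ = p ∨ p⁻¹ = z * p := by
  rcases h.sq p hp with h1 | h1
  · left; exact inv_eq_of_mul_eq_one_left h1
  · right
    have h2 : p⁻¹ = z⁻¹ * p := by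
      rw [← h1]; group
    rw [h2, h.z_inv]

theorem mem_conj_iff {g x : G} :
    x ∈ Q.map (MulAut.conj g).toMonoidHom ↔ ∃ q ∈ Q, g * q * g⁻¹ = x := by
  rw [Subgroup.mem_map]
  simp only [MulEquiv.coe_toMonoidHom, MulAut.conj_apply]

/-- transport of the configuration by conjugation -/
theorem SQ.conj (h : SQ Q z) (g : G) :
    SQ (Q.map (MulAut.conj g).toMonoidHom) (g * z * g⁻¹) where
  z_mem := mem_conj_iff.mpr ⟨z, h.z_mem, rfl⟩
  z_ne := by
    intro h1
    apply h.z_ne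
    have : z = g⁻¹ * (g * z * g⁻¹) * g := by group
    rw [this, h1]; group
  z_sq := by
    have : g * z * g⁻¹ * (g * z * g⁻¹) = g * (z * z) * g⁻¹ := by group
    rw [this, h.z_sq]; group
  cent := by
    intro p hp
    obtain ⟨q, hq, rfl⟩ := mem_conj_iff.mp hp
    have h1 : g * q * g⁻¹ * (g * z * g⁻¹) = g * (q * z) * g⁻¹ := by group
    have h2 : g * z * g⁻¹ * (g * q * g⁻¹) = g * (z * q) * g⁻¹ := by group
    rw [h1, h2, h.cent q hq]
  norm := by
    intro c hc p hp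
    obtain ⟨q, hq, rfl⟩ := mem_conj_iff.mp hp
    have hc' : (g⁻¹ * c * g) * z = z * (g⁻¹ * c * g) := by
      have h1 : (g⁻¹ * c * g) * z = g⁻¹ * (c * (g * z * g⁻¹)) * g := by group
      have h2 : z * (g⁻¹ * c * g) = g⁻¹ * ((g * z * g⁻¹) * c) * g := by group
      rw [h1, h2, hc]
    refine mem_conj_iff.mpr ⟨(g⁻¹ * c * g) * q * (g⁻¹ * c * g)⁻¹, h.norm _ hc' q hq, ?_⟩
    group
  selfc := by
    intro c hc hcq
    have hc' : (g⁻¹ * c * g) * z = z * (g⁻¹ * c * g) := by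
      have h1 : (g⁻¹ * c * g) * z = g⁻¹ * (c * (g * z * g⁻¹)) * g := by group
      have h2 : z * (g⁻¹ * c * g) = g⁻¹ * ((g * z * g⁻¹) * c) * g := by group
      rw [h1, h2, hc]
    have h3 : ∀ q ∈ Q, (g⁻¹ * c * g) * q = q * (g⁻¹ * c * g) := by
      intro q hq
      have h4 := hcq (g * q * g⁻¹) (mem_conj_iff.mpr ⟨q, hq, rfl⟩)
      have h1 : (g⁻¹ * c * g) * q = g⁻¹ * (c * (g * q * g⁻¹)) * g := by group
      have h2 : q * (g⁻¹ * c * g) = g⁻¹ * ((g * q * g⁻¹) * c) * g := by group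
      rw [h1, h2, h4]
    refine mem_conj_iff.mpr ⟨g⁻¹ * c * g, h.selfc _ hc' h3, ?_⟩
    group
  sq := by
    intro p hp
    obtain ⟨q, hq, rfl⟩ := mem_conj_iff.mp hp
    have h1 : g * q * g⁻¹ * (g * q * g⁻¹) = g * (q * q) * g⁻¹ := by group
    rw [h1]
    rcases h.sq q hq with h2 | h2
    · left; rw [h2]; group
    · right; rw [h2]
  zinv := by
    intro p hp hpc hpp
    obtain ⟨q, hq, rfl⟩ := mem_conj_iff.mp hp
    have h1 : ∀ r ∈ Q, r * q = q * r := by
      intro r hr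
      have h4 := hpc (g * r * g⁻¹) (mem_conj_iff.mpr ⟨r, hr, rfl⟩)
      have e1 : r * q = g⁻¹ * ((g * r * g⁻¹) * (g * q * g⁻¹)) * g := by group
      have e2 : q * r = g⁻¹ * ((g * q * g⁻¹) * (g * r * g⁻¹)) * g := by group
      rw [e1, e2, h4]
    have h2 : q * q = 1 := by
      have e1 : q * q = g⁻¹ * ((g * q * g⁻¹) * (g * q * g⁻¹)) * g := by group
      rw [e1, hpp]; group
    rcases h.zinv q hq h1 h2 with rfl | rfl
    · left; group
    · right; rfl

/-- a non-central involution of `Q` is moved to its product with `z` -/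
theorem SQ.exists_swap (h : SQ Q z) (haQ : a ∈ Q) (ha2 : a * a = 1) (ha1 : a ≠ 1)
    (haz : a ≠ z) : ∃ x ∈ Q, x * a * x⁻¹ = a * z := by
  by_contra hcon
  push Not at hcon
  have hc : ∀ p ∈ Q, p * a = a * p := by
    intro p hp
    rcases h.comm hp haQ with h1 | h1
    · exact h1
    · exfalso
      apply hcon p hp
      rw [h1, h.cent a haQ]; group
  rcases h.zinv a haQ hc ha2 with h1 | h1
  · exact ha1 h1
  · exact haz h1

end Cfsg.Agent.Lib.Helper10.S1774
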