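import Mathlib
import Cfsg.Agent.Lib.Helper10.S1774B

/-!
# S1774 (helper10): the key lemma

If `a ∈ Q` is a conjugate-like involution (`SQ P a` holds for a second subgroup `P`), `a ≠ z`,
then some element of `P` moves `z` to `z * a`.
-/

set_option autoImplicit false

namespace Cfsg.Agent.Lib.Helper10.S1774

variable {G : Type*} [Group G] {Q P : Subgroup G} {z a x : G}

/-- consequences of `x * a * x⁻¹ = a * z` -/
theorem swap_one (hx : x * a * x⁻¹ = a * z) : x * a = a * z * x := by
  rw [← hx]; group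

theorem swap_two (hQ : SQ Q z) (haQ : a ∈ Q) (ha2 : a * a = 1) (hx : x * a * x⁻¹ = a * z) :
    a * x = z * x * a := by
  have h1 := swap_one hx
  have h2 : a * x = a * (x * a) * a⁻¹ := by group
  rw [h2, h1, inv_eq_of_mul_eq_one_left ha2]
  have h3 : a * (a * z * x) * a = (a * a) * z * x * a := by group
  rw [h3, ha2, one_mul]

theorem swap_three (hQ : SQ Q z) (hxQ : x ∈ Q) (hx : x * a * x⁻¹ = a * z) :
    x⁻¹ * a = a * z * x⁻¹ := by
  have hxz : x * z = z * x := hQ.cent x hxQ
  have h1 : a = x⁻¹ * (x * a * x⁻¹) * x := by group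
  have h2 : x⁻¹ * z = z * x⁻¹ := by
    have : Commute x z := hxz
    exact (this.inv_left).eq
  have h3 : x⁻¹ * a * x = a * z := by
    have e1 : x⁻¹ * (a * z) * x = (x⁻¹ * a * x) * (x⁻¹ * z * x) := by group
    have e2 : x⁻¹ * z * x = z := by rw [h2]; group
    rw [hx, e1, e2] at h1
    have : x⁻¹ * a * x = a * z⁻¹ := by
      conv_rhs => rw [h1]
      group
    rw [this, hQ.z_inv]
  have h4 : x⁻¹ * a = (x⁻¹ * a * x) * x⁻¹ := by group
  rw [h4, h3]

/-- `Q` is the union of two cosets of `C_Q(a)` -/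
theorem coset_cases (hQ : SQ Q z) (haQ : a ∈ Q) (hxQ : x ∈ Q) (hx : x * a * x⁻¹ = a * z)
    {q : G} (hq : q ∈ Q) : q * a = a * q ∨ (x⁻¹ * q) * a = a * (x⁻¹ * q) := by
  rcases hQ.comm hq haQ with h1 | h1
  · left; exact h1
  · right
    have h3 := swap_three hQ hxQ hx
    have haz : a * z = z * a := hQ.cent a haQ
    calc x⁻¹ * q * a = x⁻¹ * (q * a) := by group
      _ = x⁻¹ * (z * (a * q)) := by rw [h1]
      _ = (x⁻¹ * z) * a * q := by group
      _ = (z * x⁻¹) * a * q := by
          have : Commute x z := hQ.cent x hxQ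
          rw [(this.inv_left).eq]
      _ = z * (x⁻¹ * a) * q := by group
      _ = z * (a * z * x⁻¹) * q := by rw [h3]
      _ = (z * a) * z * x⁻¹ * q := by group
      _ = (a * z) * z * x⁻¹ * q := by rw [haz]
      _ = a * (z * z) * x⁻¹ * q := by group
      _ = a * (x⁻¹ * q) := by rw [hQ.z_sq]; group

/-- an involution of `Q` centralising `C_Q(a)` lies in `{1, z, a, z a}` -/
theorem central_or (hQ : SQ Q z) (haQ : a ∈ Q) (ha2 : a * a = 1) (hxQ : x ∈ Q)
    (hx : x * a * x⁻¹ = a * z) {d : G} (hd : d ∈ Q) (hda : d * a = a * d)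
    (hdR : ∀ r ∈ Q, r * a = a * r → d * r = r * d) (hdd : d * d = 1) :
    d = 1 ∨ d = z ∨ d = a ∨ d = z * a := by
  -- a criterion for centrality
  have crit : ∀ e ∈ Q, (∀ r ∈ Q, r * a = a * r → e * r = r * e) → e * x = x * e →
      ∀ q ∈ Q, q * e = e * q := by
    intro e _ heR hex q hq
    rcases coset_cases hQ haQ hxQ hx hq with h1 | h1
    · exact (heR q hq h1).symm
    · have hr : x⁻¹ * q ∈ Q := Q.mul_mem (Q.inv_mem hxQ) hq
      have h2 := heR _ hr h1
      have e1 : q = x * (x⁻¹ * q) := by group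
      rw [e1]
      calc x * (x⁻¹ * q) * e = x * ((x⁻¹ * q) * e) := by group
        _ = x * (e * (x⁻¹ * q)) := by rw [h2]
        _ = (x * e) * (x⁻¹ * q) := by group
        _ = (e * x) * (x⁻¹ * q) := by rw [hex]
        _ = e * (x * (x⁻¹ * q)) := by group
  rcases hQ.comm hd hxQ with h1 | h1
  · have hc := crit d hd hdR h1
    rcases hQ.zinv d hd hc hdd with h2 | h2
    · exact Or.inl h2
    · exact Or.inr (Or.inl h2)
  · have hd'Q : d * a ∈ Q := Q.mul_mem hd haQ
    have hd'R : ∀ r ∈ Q, r * a = a * r → (d * a) * r = r * (d * a) := by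
      intro r hr hra
      calc d * a * r = d * (a * r) := by group
        _ = d * (r * a) := by rw [hra]
        _ = (d * r) * a := by group
        _ = (r * d) * a := by rw [hdR r hr hra]
        _ = r * (d * a) := by group
    have hd'x : (d * a) * x = x * (d * a) := by
      have h2 := swap_two hQ haQ ha2 hx
      have hzd : z * d = d * z := (hQ.cent d hd).symm
      calc d * a * x = d * (a * x) := by group
        _ = d * (z * x * a) := by rw [h2]
        _ = (d * z) * x * a := by group
        _ = (z * d) * x * a := by rw [hzd]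
        _ = z * (d * x) * a := by group
        _ = z * (z * (x * d)) * a := by rw [h1]
        _ = (z * z) * x * d * a := by group
        _ = x * (d * a) := by rw [hQ.z_sq]; group
    have hc := crit (d * a) hd'Q hd'R hd'x
    have hd'2 : (d * a) * (d * a) = 1 := by
      calc d * a * (d * a) = d * (a * d) * a := by group
        _ = d * (d * a) * a := by rw [hda]
        _ = (d * d) * (a * a) := by group
        _ = 1 := by rw [hdd, ha2, one_mul]
    have ha_inv : a⁻¹ = a := inv_eq_of_mul_eq_one_left ha2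
    rcases hQ.zinv _ hd'Q hc hd'2 with h2 | h2
    · right; right; left
      have : d = (d * a) * a⁻¹ := by group
      rw [this, h2, one_mul, ha_inv]
    · right; right; right
      have : d = (d * a) * a⁻¹ := by group
      rw [this, h2, ha_inv]

/-- `Q ∩ P ⊆ {1, a}` when `z ∉ P` -/
theorem inter_cases (hQ : SQ Q z) (hP : SQ P a) (haQ : a ∈ Q) (haz : a ≠ z) (hzP : z ∉ P)
    (hxQ : x ∈ Q) (hx : x * a * x⁻¹ = a * z) {d : G} (hdQ : d ∈ Q) (hdP : d ∈ P) :
    d = 1 ∨ d = a := by
  have hda : d * a = a * d := hP.cent d hdP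
  have hdR : ∀ r ∈ Q, r * a = a * r → d * r = r * d := by
    intro r hr hra
    rcases hQ.comm hdQ hr with h1 | h1
    · exact h1
    · exfalso
      apply hzP
      have h2 : r * d⁻¹ * r⁻¹ ∈ P := hP.norm r hra _ (P.inv_mem hdP)
      have h3 : z = d * (r * d⁻¹ * r⁻¹) := by
        have : z = (d * r) * (r * d)⁻¹ := by rw [h1]; group
        rw [this]; group
      rw [h3]; exact P.mul_mem hdP h2
  have hdd : d * d = 1 := by
    rcases hQ.sq d hdQ with h1 | h1
    · exact h1
    · rcases hP.sq d hdP with h2 | h2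
      · exact h2
      · exfalso; apply haz; rw [← h2, h1]
  rcases central_or hQ haQ hP.z_sq hxQ hx hdQ hda hdR hdd with h1 | h1 | h1 | h1
  · exact Or.inl h1
  · exfalso; apply hzP; rw [← h1]; exact hdP
  · exact Or.inr h1
  · exfalso; apply hzP
    have : z = d * a⁻¹ := by rw [h1]; group
    rw [this]; exact P.mul_mem hdP (P.inv_mem hP.z_mem)

end Cfsg.Agent.Lib.Helper10.S1774
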