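import Mathlib
import Cfsg.Agent.Lib.Helper10.S1774C

/-!
# S1774 (helper10): the key lemma, assembly
-/

set_option autoImplicit false

namespace Cfsg.Agent.Lib.Helper10.S1774

variable {G : Type*} [Group G] {Q P : Subgroup G} {z a x : G}

theorem conj_fix_iff {c p : G} : MulAut.conj c p = p ↔ c * p = p * c := by
  rw [MulAut.conj_apply]
  constructor
  · intro h
    calc c * p = (c * p * c⁻¹) * c := by group
      _ = p * c := by rw [h]
  · intro h
    rw [h]; group

/-- the `QHyp` structure attached to the configuration -/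
theorem qhyp_of (hQ : SQ Q z) (hP : SQ P a) (haQ : a ∈ Q)
    (hcon : ∀ y ∈ P, y * z * y⁻¹ ≠ z * a) : QHyp P a (MulAut.conj z) := by
  have hza : z * a = a * z := (hQ.cent a haQ).symm
  refine ⟨hP.z_sq, hP.cent, fun p hp q hq => hP.comm hp hq, hP.sq, ?_, ?_, ?_, ?_⟩
  · intro p hp
    rw [MulAut.conj_apply]; exact hP.norm z hza p hp
  · rw [MulAut.conj_apply, hza]; group
  · intro p hp
    simp only [MulAut.conj_apply]
    have h1 : z * (z * p * z⁻¹) * z⁻¹ = (z * z) * p * (z * z)⁻¹ := by group
    rw [h1, hQ.z_sq]; group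
  · intro p hp h
    rcases h with h | h
    · exact h
    · exfalso
      apply hcon p⁻¹ (P.inv_mem hp)
      rw [MulAut.conj_apply] at h
      have hpa : p * a = a * p := hP.cent p hp
      have h1 : z * p = a * p * z := by rw [← h]; group
      have h2 : p⁻¹ * a * p = a := by
        have : p⁻¹ * a * p = p⁻¹ * (a * p) := by group
        rw [this, ← hpa]; group
      calc p⁻¹ * z * p⁻¹⁻¹ = p⁻¹ * (z * p) := by group
        _ = p⁻¹ * (a * p * z) := by rw [h1]
        _ = (p⁻¹ * a * p) * z := by group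
        _ = a * z := by rw [h2]
        _ = z * a := hza.symm

theorem rhyp_of (hQ : SQ Q z) (hP : SQ P a) (haQ : a ∈ Q) (haz : a ≠ z) (hzP : z ∉ P)
    (hxQ : x ∈ Q) (hx : x * a * x⁻¹ = a * z) {r : G} (hr : r ∈ Q) (hra : r * a = a * r) :
    RHyp P a (MulAut.conj z) (MulAut.conj r) := by
  refine ⟨?_, ?_, ?_, ?_⟩
  · intro p hp
    rw [MulAut.conj_apply]; exact hP.norm r hra p hp
  · rw [MulAut.conj_apply, hra]; group
  · intro p _
    simp only [MulAut.conj_apply]
    have hzr : z * r = r * z := (hQ.cent r hr).symm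
    calc z * (r * p * r⁻¹) * z⁻¹ = (z * r) * p * (z * r)⁻¹ := by group
      _ = (r * z) * p * (r * z)⁻¹ := by rw [hzr]
      _ = r * (z * p * z⁻¹) * r⁻¹ := by group
  · intro s hs hσs
    have hsz : s * z = z * s := (conj_fix_iff.mp hσs).symm
    rw [MulAut.conj_apply]
    have hdQ : r * s * r⁻¹ * s⁻¹ ∈ Q := by
      have h1 : s * r⁻¹ * s⁻¹ ∈ Q := hQ.norm s hsz _ (Q.inv_mem hr)
      have h2 : r * s * r⁻¹ * s⁻¹ = r * (s * r⁻¹ * s⁻¹) := by group
      rw [h2]; exact Q.mul_mem hr h1
    have hdP : r * s * r⁻¹ * s⁻¹ ∈ P :=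
      P.mul_mem (hP.norm r hra s hs) (P.inv_mem hs)
    rcases inter_cases hQ hP haQ haz hzP hxQ hx hdQ hdP with h1 | h1
    · left
      calc r * s * r⁻¹ = (r * s * r⁻¹ * s⁻¹) * s := by group
        _ = s := by rw [h1, one_mul]
    · right
      calc r * s * r⁻¹ = (r * s * r⁻¹ * s⁻¹) * s := by group
        _ = a * s := by rw [h1]

/-- the key lemma -/
theorem key (hQ : SQ Q z) (hP : SQ P a) (haQ : a ∈ Q) (haz : a ≠ z)
    (hna : ∃ y ∈ P, ∃ y' ∈ P, y * y' ≠ y' * y) : ∃ y ∈ P, y * z * y⁻¹ = z * a := by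
  by_contra hcon
  push Not at hcon
  have hza : z * a = a * z := (hQ.cent a haQ).symm
  have hq : QHyp P a (MulAut.conj z) := qhyp_of hQ hP haQ hcon
  by_cases hzP : z ∈ P
  · obtain ⟨y, hy, hyz⟩ := hP.exists_swap hzP hQ.z_sq hQ.z_ne (Ne.symm haz)
    exact hcon y hy hyz
  obtain ⟨x, hxQ, hx⟩ := hQ.exists_swap haQ hP.z_sq hP.z_ne haz
  have hR : ∀ r ∈ Q, r * a = a * r → RHyp P a (MulAut.conj z) (MulAut.conj r) :=
    fun r hr hra => rhyp_of hQ hP haQ haz hzP hxQ hx hr hra
  have hcentP : (∀ y ∈ P, MulAut.conj z y = y) → False := by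
    intro h
    apply hzP
    apply hP.selfc z hza
    intro q hq
    exact conj_fix_iff.mp (h q hq)
  by_cases hA : ∃ r ∈ Q, r * a = a * r ∧ r * r = z
  · obtain ⟨r, hr, hra, hrr⟩ := hA
    apply hcentP
    intro y hy
    refine (hR r hr hra).trivial_of_sq hq ?_ hy
    intro p _
    simp only [MulAut.conj_apply]
    rw [← hrr]; group
  by_cases hB : ∃ r₁ ∈ Q, r₁ * a = a * r₁ ∧ ∃ r₂ ∈ Q, r₂ * a = a * r₂ ∧ r₁ * r₂ = z * (r₂ * r₁)
  · obtain ⟨r₁, hr₁, hra₁, r₂, hr₂, hra₂, h12⟩ := hB
    apply hcentP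
    intro y hy
    have hsurj : ∀ r ∈ Q, r * a = a * r → ∀ p ∈ P, (MulAut.conj r).symm p ∈ P := by
      intro r hr hra p hp
      rw [MulAut.conj_symm_apply]
      have h1 : r⁻¹ * a = a * r⁻¹ := by
        have : Commute r a := hra
        exact (this.inv_left).eq
      have := hP.norm r⁻¹ h1 p hp
      rwa [inv_inv] at this
    refine (hR r₁ hr₁ hra₁).trivial_of_comm (hR r₂ hr₂ hra₂) hq ?_ (hsurj r₁ hr₁ hra₁)
      (hsurj r₂ hr₂ hra₂) hy
    intro p _
    simp only [MulAut.conj_apply]
    calc z * (r₂ * (r₁ * p * r₁⁻¹) * r₂⁻¹) * z⁻¹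
        = (z * (r₂ * r₁)) * p * (z * (r₂ * r₁))⁻¹ := by group
      _ = (r₁ * r₂) * p * (r₁ * r₂)⁻¹ := by rw [h12]
      _ = r₁ * (r₂ * p * r₂⁻¹) * r₁⁻¹ := by group
  push Not at hA hB
  -- now `C_Q(a)` is elementary abelian
  have hR2 : ∀ r ∈ Q, r * a = a * r → r * r = 1 := by
    intro r hr hra
    rcases hQ.sq r hr with h1 | h1
    · exact h1
    · exact absurd h1 (hA r hr hra)
  have hRc : ∀ r₁ ∈ Q, r₁ * a = a * r₁ → ∀ r₂ ∈ Q, r₂ * a = a * r₂ → r₁ * r₂ = r₂ * r₁ := by
    intro r₁ hr₁ hra₁ r₂ hr₂ hra₂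
    rcases hQ.comm hr₁ hr₂ with h1 | h1
    · exact h1
    · exact absurd h1 (hB r₁ hr₁ hra₁ r₂ hr₂ hra₂)
  have hRV : ∀ r ∈ Q, r * a = a * r → r = 1 ∨ r = z ∨ r = a ∨ r = z * a := by
    intro r hr hra
    exact central_or hQ haQ hP.z_sq hxQ hx hr hra
      (fun r' hr' hra' => hRc r hr hra r' hr' hra') (hR2 r hr hra)
  -- elements commuting with z, a, x centralise Q
  have hall : ∀ t : G, t * z = z * t → t * a = a * t → t * x = x * t → t ∈ Q := by
    intro t htz hta htx
    apply hQ.selfc t htz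
    have hRt : ∀ r ∈ Q, r * a = a * r → t * r = r * t := by
      intro r hr hra
      rcases hRV r hr hra with rfl | rfl | rfl | rfl
      · rw [mul_one, one_mul]
      · exact htz
      · exact hta
      · calc t * (z * a) = (t * z) * a := by group
          _ = (z * t) * a := by rw [htz]
          _ = z * (t * a) := by group
          _ = z * (a * t) := by rw [hta]
          _ = z * a * t := by group
    intro q hq
    rcases coset_cases hQ haQ hxQ hx hq with h1 | h1
    · exact hRt q hq h1
    · have hr : x⁻¹ * q ∈ Q := Q.mul_mem (Q.inv_mem hxQ) hq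
      have h2 := hRt _ hr h1
      have e1 : q = x * (x⁻¹ * q) := by group
      rw [e1]
      calc t * (x * (x⁻¹ * q)) = (t * x) * (x⁻¹ * q) := by group
        _ = (x * t) * (x⁻¹ * q) := by rw [htx]
        _ = x * (t * (x⁻¹ * q)) := by group
        _ = x * ((x⁻¹ * q) * t) := by rw [h2]
        _ = x * (x⁻¹ * q) * t := by group
  -- `C_P(z) ⊆ {1, a}`
  have hRa : ∀ s ∈ P, s * z = z * s → s = 1 ∨ s = a := by
    intro s hs hsz
    have hsa : s * a = a * s := hP.cent s hs
    have hsa' : s⁻¹ * a * s = a := by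
      have : s⁻¹ * a * s = s⁻¹ * (a * s) := by group
      rw [this, ← hsa]; group
    have huQ : s * x * s⁻¹ ∈ Q := hQ.norm s hsz x hxQ
    have hcQ : x⁻¹ * (s * x * s⁻¹) ∈ Q := Q.mul_mem (Q.inv_mem hxQ) huQ
    -- u = s x s⁻¹ satisfies the swap relation
    have hu : (s * x * s⁻¹) * a * (s * x * s⁻¹)⁻¹ = a * z := by
      calc (s * x * s⁻¹) * a * (s * x * s⁻¹)⁻¹ = s * x * (s⁻¹ * a * s) * x⁻¹ * s⁻¹ := by group
        _ = s * (x * a * x⁻¹) * s⁻¹ := by rw [hsa']; group
        _ = s * (a * z) * s⁻¹ := by rw [hx]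
        _ = (s * a) * z * s⁻¹ := by group
        _ = (a * s) * z * s⁻¹ := by rw [hsa]
        _ = a * (s * z) * s⁻¹ := by group
        _ = a * (z * s) * s⁻¹ := by rw [hsz]
        _ = a * z := by group
    have h3 := swap_three hQ hxQ hx
    have hca : (x⁻¹ * (s * x * s⁻¹)) * a = a * (x⁻¹ * (s * x * s⁻¹)) := by
      have h1 := swap_one hu
      have hzx : z * x⁻¹ = x⁻¹ * z := by
        have : Commute x z := hQ.cent x hxQ
        exact (this.inv_left).eq.symm
      calc x⁻¹ * (s * x * s⁻¹) * a = x⁻¹ * ((s * x * s⁻¹) * a) := by group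
        _ = x⁻¹ * (a * z * (s * x * s⁻¹)) := by rw [h1]
        _ = (x⁻¹ * a) * z * (s * x * s⁻¹) := by group
        _ = (a * z * x⁻¹) * z * (s * x * s⁻¹) := by rw [h3]
        _ = a * z * (x⁻¹ * z) * (s * x * s⁻¹) := by group
        _ = a * z * (z * x⁻¹) * (s * x * s⁻¹) := by rw [hzx]
        _ = a * (z * z) * x⁻¹ * (s * x * s⁻¹) := by group
        _ = a * (x⁻¹ * (s * x * s⁻¹)) := by rw [hQ.z_sq]; group
    -- squares
    have hxx : (s * x * s⁻¹) * (s * x * s⁻¹) = x * x := by
      have h1 : (x * x) * s = s * (x * x) := by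
        rcases hQ.sq x hxQ with h | h
        · rw [h, one_mul, mul_one]
        · rw [h]; exact hsz.symm
      calc (s * x * s⁻¹) * (s * x * s⁻¹) = s * (x * x) * s⁻¹ := by group
        _ = (x * x) * s * s⁻¹ := by rw [h1]
        _ = x * x := by group
    have hxa2 : (x * a) * (x * a) = z * (x * x) := by
      have h1 := swap_one hx
      have h4 : (x * x) * a = a * (x * x) := hQ.pair_comm (hQ.sq x hxQ) haQ
      calc (x * a) * (x * a) = (a * z * x) * (x * a) := by rw [h1]
        _ = a * z * ((x * x) * a) := by group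
        _ = a * z * (a * (x * x)) := by rw [h4]
        _ = (a * z) * a * (x * x) := by group
        _ = (z * a) * a * (x * x) := by rw [hza]
        _ = z * (a * a) * (x * x) := by group
        _ = z * (x * x) := by rw [hP.z_sq, mul_one]
    have hne : x * x ≠ z * (x * x) := by
      intro h
      apply hQ.z_ne
      calc z = z * (x * x) * (x * x)⁻¹ := by group
        _ = (x * x) * (x * x)⁻¹ := by rw [← h]
        _ = 1 := by group
    have hsxc : s * x * s⁻¹ = x * (x⁻¹ * (s * x * s⁻¹)) := by group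
    rcases hRV _ hcQ hca with h1 | h1 | h1 | h1
    · -- c = 1
      rw [h1, mul_one] at hsxc
      have hsx : s * x = x * s := by
        calc s * x = (s * x * s⁻¹) * s := by group
          _ = x * s := by rw [hsxc]
      exact inter_cases hQ hP haQ haz hzP hxQ hx (hall s hsz hsa hsx) hs
    · -- c = z
      rw [h1] at hsxc
      have h2 := swap_two hQ haQ hP.z_sq hx
      have ha_inv : a⁻¹ = a := inv_eq_of_mul_eq_one_left hP.z_sq
      have htz : (a * s) * z = z * (a * s) := by
        calc a * s * z = a * (s * z) := by group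
          _ = a * (z * s) := by rw [hsz]
          _ = (a * z) * s := by group
          _ = (z * a) * s := by rw [hza]
          _ = z * (a * s) := by group
      have hta : (a * s) * a = a * (a * s) := by
        calc a * s * a = a * (s * a) := by group
          _ = a * (a * s) := by rw [hsa]
      have htx : (a * s) * x = x * (a * s) := by
        have hzx : z * x = x * z := (hQ.cent x hxQ).symm
        calc a * s * x = a * (s * x * s⁻¹) * s := by group
          _ = a * (x * z) * s := by rw [hsxc]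
          _ = (a * x) * z * s := by group
          _ = (z * x * a) * z * s := by rw [h2]
          _ = z * x * (a * z) * s := by group
          _ = z * x * (z * a) * s := by rw [hza]
          _ = (z * x) * z * a * s := by group
          _ = (x * z) * z * a * s := by rw [hzx]
          _ = x * (z * z) * a * s := by group
          _ = x * (a * s) := by rw [hQ.z_sq]; group
      have h4 : a * s ∈ Q := hall _ htz hta htx
      have h5 : s ∈ Q := by
        have : s = a⁻¹ * (a * s) := by group
        rw [this]; exact Q.mul_mem (Q.inv_mem haQ) h4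
      exact inter_cases hQ hP haQ haz hzP hxQ hx h5 hs
    · -- c = a
      exfalso
      rw [h1] at hsxc
      apply hne
      calc x * x = (s * x * s⁻¹) * (s * x * s⁻¹) := hxx.symm
        _ = (x * a) * (x * a) := by rw [hsxc]
        _ = z * (x * x) := hxa2
    · -- c = z a
      exfalso
      rw [h1] at hsxc
      apply hne
      have hzx : z * x = x * z := (hQ.cent x hxQ).symm
      have hzxa : z * (x * a) = (x * a) * z := (hQ.cent _ (Q.mul_mem hxQ haQ)).symm
      have : (x * (z * a)) * (x * (z * a)) = z * (x * x) := by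
        calc (x * (z * a)) * (x * (z * a)) = (x * z) * a * ((x * z) * a) := by group
          _ = (z * x) * a * ((z * x) * a) := by rw [hzx]
          _ = z * ((x * a) * z) * (x * a) := by group
          _ = z * (z * (x * a)) * (x * a) := by rw [hzxa]
          _ = (z * z) * ((x * a) * (x * a)) := by group
          _ = z * (x * x) := by rw [hQ.z_sq, one_mul, hxa2]
      calc x * x = (s * x * s⁻¹) * (s * x * s⁻¹) := hxx.symm
        _ = (x * (z * a)) * (x * (z * a)) := by rw [hsxc]
        _ = z * (x * x) := this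
  -- final contradiction
  obtain ⟨y, hy, y', hy', hyy'⟩ := hna
  have hy1a : ¬ (y = 1 ∨ y = a) := by
    rintro (rfl | rfl)
    · apply hyy'; rw [one_mul, mul_one]
    · apply hyy'; exact (hP.cent y' hy').symm
  have hσy : MulAut.conj z y ∈ P := hq.σP y hy
  have hσfix : MulAut.conj z y = y := by
    set y₁ := MulAut.conj z y with hy₁
    have hwP : y * y₁ ∈ P := P.mul_mem hy hσy
    have hσw : MulAut.conj z (y * y₁) = y₁ * y := by
      rw [map_mul, ← hy₁, hy₁, hq.σ2 y hy]
    have hwfix : MulAut.conj z (y * y₁) = y * y₁ := by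
      apply hq.star _ hwP
      rw [hσw]
      rcases hP.comm hσy hy with h1 | h1
      · left; exact h1
      · right; exact h1
    have hwz : (y * y₁) * z = z * (y * y₁) := (conj_fix_iff.mp hwfix).symm
    apply hq.star y hy
    rw [← hy₁]
    have hay : a * y = y * a := (hP.cent y hy).symm
    rcases hRa _ hwP hwz with h1 | h1
    · have h2 : y₁ = y⁻¹ := by
        calc y₁ = y⁻¹ * (y * y₁) := by group
          _ = y⁻¹ := by rw [h1, mul_one]
      rw [h2]
      exact hP.inv_cases hy
    · have h2 : y₁ = y⁻¹ * a := by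
        calc y₁ = y⁻¹ * (y * y₁) := by group
          _ = y⁻¹ * a := by rw [h1]
      rw [h2]
      rcases hP.inv_cases hy with h3 | h3
      · right; rw [h3, hay]
      · left; rw [h3]
        calc a * y * a = a * (y * a) := by group
          _ = a * (a * y) := by rw [hay]
          _ = (a * a) * y := by group
          _ = y := by rw [hP.z_sq, one_mul]
  have hyz : y * z = z * y := (conj_fix_iff.mp hσfix).symm
  exact hy1a (hRa y hy hyz)

end Cfsg.Agent.Lib.Helper10.S1774
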