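import Mathlib
import Cfsg.Agent.Lib.Helper10.S1774D

/-!
# S1774 (helper10): the abstract main theorem
-/

set_option autoImplicit false

namespace Cfsg.Agent.Lib.Helper10.S1774

variable {G : Type*} [Group G] {Q : Subgroup G} {z a : G}

/-- the four-group generated by two commuting involutions -/
theorem closure_pair_cases (hz2 : z * z = 1) (ha2 : a * a = 1) (hza : z * a = a * z)
    {u : G} (hu : u ∈ Subgroup.closure ({z, a} : Set G)) :
    u = 1 ∨ u = z ∨ u = a ∨ u = z * a := by
  have hz_inv : z⁻¹ = z := inv_eq_of_mul_eq_one_left hz2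
  have ha_inv : a⁻¹ = a := inv_eq_of_mul_eq_one_left ha2
  have hef : ∀ e f : G, (e = 1 ∨ e = z) → (f = 1 ∨ f = a) → f * e = e * f := by
    intro e f he hf
    rcases he with rfl | rfl <;> rcases hf with rfl | rfl
    · rfl
    · rw [mul_one, one_mul]
    · rw [mul_one, one_mul]
    · exact hza.symm
  let S : Subgroup G :=
    { carrier := {u | ∃ e f : G, (e = 1 ∨ e = z) ∧ (f = 1 ∨ f = a) ∧ u = e * f}
      one_mem' := ⟨1, 1, Or.inl rfl, Or.inl rfl, (one_mul 1).symm⟩
      mul_mem' := by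
        rintro _ _ ⟨e, f, he, hf, rfl⟩ ⟨e', f', he', hf', rfl⟩
        refine ⟨e * e', f * f', ?_, ?_, ?_⟩
        · rcases he with rfl | rfl <;> rcases he' with rfl | rfl
          · left; rw [one_mul]
          · right; rw [one_mul]
          · right; rw [mul_one]
          · left; exact hz2
        · rcases hf with rfl | rfl <;> rcases hf' with rfl | rfl
          · left; rw [one_mul]
          · right; rw [one_mul]
          · right; rw [mul_one]
          · left; exact ha2
        · calc e * f * (e' * f') = e * (f * e') * f' := by group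
            _ = e * (e' * f) * f' := by rw [hef e' f he' hf]
            _ = e * e' * (f * f') := by group
      inv_mem' := by
        rintro _ ⟨e, f, he, hf, rfl⟩
        refine ⟨e, f, he, hf, ?_⟩
        have h1 : e⁻¹ = e := by
          rcases he with rfl | rfl
          · exact inv_one
          · exact hz_inv
        have h2 : f⁻¹ = f := by
          rcases hf with rfl | rfl
          · exact inv_one
          · exact ha_inv
        rw [mul_inv_rev, h1, h2, hef e f he hf] }
  have hle : Subgroup.closure ({z, a} : Set G) ≤ S := by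
    rw [Subgroup.closure_le]
    intro w hw
    rcases hw with rfl | hw
    · exact ⟨w, 1, Or.inr rfl, Or.inl rfl, (mul_one w).symm⟩
    · rw [Set.mem_singleton_iff] at hw
      subst hw
      exact ⟨1, w, Or.inl rfl, Or.inr rfl, (one_mul w).symm⟩
  obtain ⟨e, f, he, hf, rfl⟩ := hle hu
  rcases he with rfl | rfl <;> rcases hf with rfl | rfl
  · left; rw [one_mul]
  · right; right; left; rw [one_mul]
  · right; left; rw [mul_one]
  · right; right; right; rfl

theorem conj_mul' (w p q : G) : w * (p * q) * w⁻¹ = (w * p * w⁻¹) * (w * q * w⁻¹) := by group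

theorem conj_conj (w w' p : G) : (w * w') * p * (w * w')⁻¹ = w * (w' * p * w'⁻¹) * w⁻¹ := by
  group

/-- the abstract main theorem -/
theorem main (hQ : SQ Q z) (g : G) (hne : g * z * g⁻¹ ≠ z) (hin : g * z * g⁻¹ ∈ Q) :
    z ∈ Q.map (MulAut.conj g).toMonoidHom ∧
    ∀ u ∈ Subgroup.closure ({z, g * z * g⁻¹} : Set G),
      ∀ v ∈ Subgroup.closure ({z, g * z * g⁻¹} : Set G),
      u ≠ 1 → v ≠ 1 → u ≠ v →
      ∃ w ∈ Q ⊔ Q.map (MulAut.conj g).toMonoidHom,
        w * z * w⁻¹ = u ∧ w * (g * z * g⁻¹) * w⁻¹ = v := by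
  set a := g * z * g⁻¹ with ha
  set P := Q.map (MulAut.conj g).toMonoidHom with hPdef
  have hP : SQ P a := hQ.conj g
  have ha2 : a * a = 1 := hP.z_sq
  have hz2 : z * z = 1 := hQ.z_sq
  have hza : z * a = a * z := (hQ.cent a hin).symm
  obtain ⟨x, hxQ, hx⟩ := hQ.exists_swap hin ha2 hP.z_ne hne
  have hxz : x * z * x⁻¹ = z := by rw [hQ.cent x hxQ]; group
  -- P is not abelian
  have hna : ∃ y ∈ P, ∃ y' ∈ P, y * y' ≠ y' * y := by
    refine ⟨g * x * g⁻¹, mem_conj_iff.mpr ⟨x, hxQ, rfl⟩, g * a * g⁻¹,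
      mem_conj_iff.mpr ⟨a, hin, rfl⟩, ?_⟩
    intro h
    have h1 : x * a = a * x := by
      have e1 : x * a = g⁻¹ * ((g * x * g⁻¹) * (g * a * g⁻¹)) * g := by group
      have e2 : a * x = g⁻¹ * ((g * a * g⁻¹) * (g * x * g⁻¹)) * g := by group
      rw [e1, e2, h]
    apply hQ.z_ne
    have h2 : x * a * x⁻¹ = a := by rw [h1]; group
    rw [h2] at hx
    calc z = a⁻¹ * (a * z) := by group
      _ = a⁻¹ * a := by rw [← hx]
      _ = 1 := by group
  obtain ⟨y, hyP, hy⟩ := key hQ hP hin hne hna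
  have hya : y * a * y⁻¹ = a := by rw [hP.cent y hyP]; group
  have hxP : x ∈ Q ⊔ P := Subgroup.mem_sup_left hxQ
  have hyP' : y ∈ Q ⊔ P := Subgroup.mem_sup_right hyP
  have hzaz : z * (a * z) = a := by
    rw [← hza, ← mul_assoc, hz2, one_mul]
  have haza : a * (z * a) = z := by
    rw [hza, ← mul_assoc, ha2, one_mul]
  -- the element of order three
  have hxy_z : (x * y) * z * (x * y)⁻¹ = a := by
    rw [conj_conj, hy, conj_mul', hxz, hx, hzaz]
  have hxy_a : (x * y) * a * (x * y)⁻¹ = z * a := by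
    rw [conj_conj, hya, hx, hza]
  have hzP : z ∈ P := by
    have hc : (g⁻¹ * (x * y)) * z = z * (g⁻¹ * (x * y)) := by
      have h1 : (g⁻¹ * (x * y)) * z * (g⁻¹ * (x * y))⁻¹ = z := by
        rw [conj_conj, hxy_z, ha]; group
      calc (g⁻¹ * (x * y)) * z = ((g⁻¹ * (x * y)) * z * (g⁻¹ * (x * y))⁻¹) * (g⁻¹ * (x * y)) := by
            group
        _ = z * (g⁻¹ * (x * y)) := by rw [h1]
    have h2 : (g⁻¹ * (x * y)) * a * (g⁻¹ * (x * y))⁻¹ ∈ Q := hQ.norm _ hc a hin
    have h3 : z * a ∈ P := by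
      refine mem_conj_iff.mpr ⟨_, h2, ?_⟩
      rw [← hxy_a]; group
    have h4 : z = (z * a) * a⁻¹ := by group
    rw [h4]; exact P.mul_mem h3 (P.inv_mem hP.z_mem)
  refine ⟨hzP, ?_⟩
  intro u hu v hv hu1 hv1 huv
  have hyx_z : (y * x) * z * (y * x)⁻¹ = z * a := by
    rw [conj_conj, hxz, hy]
  have hyx_a : (y * x) * a * (y * x)⁻¹ = z := by
    rw [conj_conj, hx, conj_mul', hya, hy, haza]
  have hxyx_z : (x * (y * x)) * z * (x * (y * x))⁻¹ = a := by
    rw [conj_conj, hyx_z, conj_mul', hxz, hx, hzaz]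
  have hxyx_a : (x * (y * x)) * a * (x * (y * x))⁻¹ = z := by
    rw [conj_conj, hyx_a, hxz]
  rcases closure_pair_cases hz2 ha2 hza hu with rfl | rfl | rfl | rfl
  · exact absurd rfl hu1
  · rcases closure_pair_cases hz2 ha2 hza hv with rfl | rfl | rfl | rfl
    · exact absurd rfl hv1
    · exact absurd rfl huv
    · exact ⟨1, Subgroup.one_mem _, by group, by group⟩
    · exact ⟨x, hxP, hxz, by rw [hx, hza]⟩
  · rcases closure_pair_cases hz2 ha2 hza hv with rfl | rfl | rfl | rfl
    · exact absurd rfl hv1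
    · exact ⟨x * (y * x), Subgroup.mul_mem _ hxP (Subgroup.mul_mem _ hyP' hxP), hxyx_z, hxyx_a⟩
    · exact absurd rfl huv
    · exact ⟨x * y, Subgroup.mul_mem _ hxP hyP', hxy_z, hxy_a⟩
  · rcases closure_pair_cases hz2 ha2 hza hv with rfl | rfl | rfl | rfl
    · exact absurd rfl hv1
    · exact ⟨y * x, Subgroup.mul_mem _ hyP' hxP, hyx_z, hyx_a⟩
    · exact ⟨y, hyP', hy, hya⟩
    · exact absurd rfl huv

end Cfsg.Agent.Lib.Helper10.S1774
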