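import Mathlib
import Cfsg.Agent.Lib.Helper16.SympType
import Cfsg.Agent.Lib.Helper1.Frattini

/-!
# S1774 (helper10): 2-groups of symplectic type and exponent 4

Squares lie in `{1, z}` where `z` is the central involution (via P. Hall's theorem,
`Cfsg.Agent.Lib.Helper16.SympType.main`).
-/

set_option autoImplicit false

namespace Cfsg.Agent.Lib.Helper10.S1774

open Subgroup

variable {T : Type*} [Group T] [Finite T]

/-- in a cyclic group there is at most one element of order 2 -/
theorem unique_involution_of_cyclic' {A : Type*} [Group A] [Finite A] [IsCyclic A] (a b : A)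
    (ha : orderOf a = 2) (hb : orderOf b = 2) : a = b := by
  classical
  by_contra hab
  haveI : Fintype A := Fintype.ofFinite A
  have hcard := IsCyclic.card_pow_eq_one_le (α := A) (n := 2) (by norm_num)
  have ha2 : a ^ 2 = 1 := by rw [← ha]; exact pow_orderOf_eq_one a
  have hb2 : b ^ 2 = 1 := by rw [← hb]; exact pow_orderOf_eq_one b
  have ha1 : a ≠ 1 := by
    intro h; rw [h, orderOf_one] at ha; omega
  have hb1 : b ≠ 1 := by
    intro h; rw [h, orderOf_one] at hb; omega
  have hsub : ({1, a, b} : Finset A) ⊆ Finset.univ.filter (fun x : A => x ^ 2 = 1) := by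
    intro x hx
    simp only [Finset.mem_insert, Finset.mem_singleton] at hx
    simp only [Finset.mem_filter, Finset.mem_univ, true_and]
    rcases hx with rfl | rfl | rfl
    · simp
    · exact ha2
    · exact hb2
  have h3 : ({1, a, b} : Finset A).card = 3 := by
    rw [Finset.card_insert_of_notMem, Finset.card_insert_of_notMem, Finset.card_singleton]
    · simpa using hab
    · simp only [Finset.mem_insert, Finset.mem_singleton, not_or]
      exact ⟨fun h => ha1 h.symm, fun h => hb1 h.symm⟩
  have := Finset.card_le_card hsub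
  omega

/-- the central involution is unique -/
theorem central_inv_cases
    (hsymp : ∀ A : Subgroup T, A.Characteristic → IsMulCommutative A → IsCyclic A)
    {zT : T} (hzc : zT ∈ center T) (hz1 : zT ≠ 1) (hz2 : zT * zT = 1)
    {c : T} (hc : c ∈ center T) (hcc : c * c = 1) : c = 1 ∨ c = zT := by
  by_cases hc1 : c = 1
  · exact Or.inl hc1
  right
  haveI : IsCyclic ↥(center T) := hsymp _ inferInstance inferInstance
  have h1 : orderOf (⟨c, hc⟩ : ↥(center T)) = 2 := by
    rw [Subgroup.orderOf_mk]
    exact orderOf_eq_prime (by rw [pow_two]; exact hcc) hc1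
  have h2 : orderOf (⟨zT, hzc⟩ : ↥(center T)) = 2 := by
    rw [Subgroup.orderOf_mk]
    exact orderOf_eq_prime (by rw [pow_two]; exact hz2) hz1
  have := unique_involution_of_cyclic' _ _ h1 h2
  exact congrArg Subtype.val this

/-- squares in a 2-group of symplectic type and exponent dividing 4 -/
theorem sq_cases (hT : IsPGroup 2 T)
    (hsymp : ∀ A : Subgroup T, A.Characteristic → IsMulCommutative A → IsCyclic A)
    (h4 : ∀ t : T, t ^ 4 = 1)
    {zT : T} (hzc : zT ∈ center T) (hz1 : zT ≠ 1) (hz2 : zT * zT = 1) (t : T) :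
    t * t = 1 ∨ t * t = zT := by
  haveI : Fact (Nat.Prime 2) := ⟨Nat.prime_two⟩
  obtain ⟨E, R, hcomm, hsup, hE, hR⟩ :=
    Cfsg.Agent.Lib.Helper16.SympType.main (p := 2) hT hsymp
  have h4R : ∀ u : ↥R, u ^ 4 = 1 := by
    intro u
    apply Subtype.ext
    rw [Subgroup.coe_pow]
    exact h4 u
  -- R is cyclic
  have hRc : IsCyclic ↥R := by
    rcases hR with h | ⟨-, h16, h | h | h⟩
    · exact h
    · exfalso
      obtain ⟨m, ⟨e⟩⟩ := h
      have hcard : Nat.card ↥R = 2 * m := by
        rw [Nat.card_congr e.toEquiv, DihedralGroup.nat_card]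
      have ho : orderOf (e.symm (DihedralGroup.r 1)) = m := by
        rw [MulEquiv.orderOf_eq, DihedralGroup.orderOf_r_one]
      have hdvd : m ∣ 4 := by
        rw [← ho]; exact orderOf_dvd_of_pow_eq_one (h4R _)
      have := Nat.le_of_dvd (by norm_num) hdvd
      omega
    · exfalso
      obtain ⟨m, ⟨e⟩⟩ := h
      have ho : orderOf (e.symm (QuaternionGroup.a 1)) = 2 * m := by
        rw [MulEquiv.orderOf_eq, QuaternionGroup.orderOf_a_one]
      have hdvd : 2 * m ∣ 4 := by
        rw [← ho]; exact orderOf_dvd_of_pow_eq_one (h4R _)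
      have hle := Nat.le_of_dvd (by norm_num) hdvd
      have hpos : 0 < 2 * m := by rw [← ho]; exact orderOf_pos _
      haveI : NeZero m := ⟨by omega⟩
      have hcard : Nat.card ↥R = 4 * m := by
        rw [Nat.card_congr e.toEquiv, Nat.card_eq_fintype_card, QuaternionGroup.card]
      omega
    · exfalso
      obtain ⟨n, hn3, -, x, y, hx, -, -⟩ := h
      have hdvd : 2 ^ n ∣ 4 := by
        rw [← hx]; exact orderOf_dvd_of_pow_eq_one (h4R _)
      have hle := Nat.le_of_dvd (by norm_num) hdvd
      have : 2 ^ 3 ≤ 2 ^ n := Nat.pow_le_pow_right (by norm_num) hn3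
      omega
  -- R is commutative
  have hRcomm : ∀ r ∈ R, ∀ r' ∈ R, r * r' = r' * r := by
    intro r hr r' hr'
    obtain ⟨g, hg⟩ := hRc.exists_generator
    obtain ⟨i, hi⟩ := Subgroup.mem_zpowers_iff.mp (hg ⟨r, hr⟩)
    obtain ⟨j, hj⟩ := Subgroup.mem_zpowers_iff.mp (hg ⟨r', hr'⟩)
    have h1 : (⟨r, hr⟩ : ↥R) * ⟨r', hr'⟩ = ⟨r', hr'⟩ * ⟨r, hr⟩ := by
      rw [← hi, ← hj]
      exact (Commute.zpow_zpow_self g i j).eq
    exact congrArg Subtype.val h1
  -- decomposition of an arbitrary element
  have hdec : ∀ g : T, ∃ e ∈ E, ∃ r ∈ R, g = e * r := by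
    intro g
    have hg : g ∈ E ⊔ R := by rw [hsup]; exact Subgroup.mem_top g
    exact Cfsg.Agent.Lib.Helper16.SympType.exists_mul_of_mem_sup' hcomm hg
  -- centrality criterion
  have hcrit : ∀ c : T, (∀ e ∈ E, c * e = e * c) → (∀ r ∈ R, c * r = r * c) → c ∈ center T := by
    intro c hcE hcR
    rw [Subgroup.mem_center_iff]
    intro g
    obtain ⟨e, he, r, hr, rfl⟩ := hdec g
    calc e * r * c = e * (r * c) := by group
      _ = e * (c * r) := by rw [hcR r hr]
      _ = (e * c) * r := by group
      _ = (c * e) * r := by rw [hcE e he]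
      _ = c * (e * r) := by group
  have hcent2 : ∀ c ∈ center T, c * c = 1 → c = 1 ∨ c = zT :=
    fun c hc hcc => central_inv_cases hsymp hzc hz1 hz2 hc hcc
  obtain ⟨e, he, r, hr, rfl⟩ := hdec t
  have her : e * r = r * e := hcomm e he r hr
  have h1 : (e * r) * (e * r) = (e * e) * (r * r) := by
    calc (e * r) * (e * r) = e * (r * e) * r := by group
      _ = e * (e * r) * r := by rw [her]
      _ = (e * e) * (r * r) := by group
  -- r * r
  have hrr : r * r = 1 ∨ r * r = zT := by
    apply hcent2
    · apply hcrit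
      · intro e' he'
        exact (hcomm e' he' (r * r) (R.mul_mem hr hr)).symm
      · intro r' hr'
        exact hRcomm _ (R.mul_mem hr hr) r' hr'
    · have h5 : r ^ 4 = r * r * (r * r) := by
        rw [show (4 : ℕ) = 2 + 2 by norm_num, pow_add, pow_two]
      rw [← h5]; exact h4 r
  -- e * e
  have hee : e * e = 1 ∨ e * e = zT := by
    rcases hE with rfl | hEx
    · have : e = 1 := Subgroup.mem_bot.mp he
      left; rw [this, one_mul]
    · have hPE : IsPGroup 2 ↥E := hT.to_subgroup E
      have hfr : (⟨e, he⟩ : ↥E) ^ 2 ∈ frattini ↥E :=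
        Cfsg.Agent.Lib.Helper1.IsPGroup.pow_mem_frattini hPE _
      rw [hEx.1.2.1] at hfr
      have hcE : ∀ e' ∈ E, (e * e) * e' = e' * (e * e) := by
        intro e' he'
        have h2 := Subgroup.mem_center_iff.mp hfr ⟨e', he'⟩
        have h3 := congrArg Subtype.val h2
        simp only [Subgroup.coe_mul, Subgroup.coe_pow, pow_two] at h3
        exact h3.symm
      apply hcent2
      · apply hcrit _ hcE
        intro r' hr'
        exact hcomm _ (E.mul_mem he he) r' hr'
      · have hcard : Nat.card ↥(center ↥E) = 2 := hEx.2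
        have h5 : (⟨(⟨e, he⟩ : ↥E) ^ 2, hfr⟩ : ↥(center ↥E)) ^ (Nat.card ↥(center ↥E)) = 1 :=
          pow_card_eq_one'
        rw [hcard] at h5
        have h6 := congrArg Subtype.val (congrArg Subtype.val h5)
        simp only [Subgroup.coe_pow, Subgroup.coe_one, pow_two] at h6
        exact h6
  rw [h1]
  rcases hee with h2 | h2 <;> rcases hrr with h3 | h3 <;> rw [h2, h3]
  · left; rw [one_mul]
  · right; rw [one_mul]
  · right; rw [mul_one]
  · left; exact hz2

end Cfsg.Agent.Lib.Helper10.S1774
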