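import Mathlib
import Cfsg.Agent.Lib.Helper14.StGLDefs

/-!
# S2425 Q8 (for helper14): KSPLIT (Bezout splitting of invariant subspaces) and KPROD
(multiplicativity of the Moebius numbers over pairwise coprime polynomials).

`muBot_kerInvt_prod_of` takes the abstract splitting lemma G6 (`muBot_sup_of_split`, for the
lattice `A.invtSubmodule`) as a hypothesis.
-/

set_option autoImplicit false

namespace Cfsg.Agent.Lib.Helper10.S2425Q8

open Cfsg Polynomial Cfsg.Agent.Lib.Helper14.StGL

variable {F : Type*} [Field F] {V : Type*} [AddCommGroup V] [Module F V] (A : Module.End F V)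

/-- an invariant subspace is invariant under polynomials in `A` -/
theorem aeval_mem_of_mem (W : Submodule F V) (hW : W ∈ A.invtSubmodule) (p : F[X]) {v : V}
    (hv : v ∈ W) : Polynomial.aeval A p v ∈ W := by
  have hA : ∀ w ∈ W, A w ∈ W := fun w hw => hW hw
  induction p using Polynomial.induction_on generalizing v with
  | C a =>
    rw [Polynomial.aeval_C]
    exact W.smul_mem a hv
  | add p q hp hq =>
    rw [map_add, LinearMap.add_apply]
    exact W.add_mem (hp hv) (hq hv)
  | monomial n a h =>
    rw [pow_succ, ← mul_assoc, map_mul, Polynomial.aeval_X, Module.End.mul_apply]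
    exact h (hA v hv)

/-- KSPLIT (Bezout): an invariant subspace killed by `p₁ p₂` splits. -/
theorem eq_sup_inf_ker_of_isCoprime (p₁ p₂ : F[X]) (h : IsCoprime p₁ p₂) (W : Submodule F V)
    (hW : W ∈ A.invtSubmodule) (hle : W ≤ LinearMap.ker (Polynomial.aeval A (p₁ * p₂))) :
    W = (W ⊓ LinearMap.ker (Polynomial.aeval A p₁)) ⊔
      (W ⊓ LinearMap.ker (Polynomial.aeval A p₂)) := by
  apply le_antisymm
  · intro v hv
    obtain ⟨a, b, hab⟩ := h
    have h0 : Polynomial.aeval A (p₁ * p₂) v = 0 := LinearMap.mem_ker.mp (hle hv)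
    have hsum : v = Polynomial.aeval A (b * p₂) v + Polynomial.aeval A (a * p₁) v := by
      rw [← LinearMap.add_apply, ← map_add, add_comm, hab, map_one, Module.End.one_apply]
    rw [hsum]
    refine Submodule.add_mem_sup (Submodule.mem_inf.mpr ⟨aeval_mem_of_mem A W hW _ hv, ?_⟩)
      (Submodule.mem_inf.mpr ⟨aeval_mem_of_mem A W hW _ hv, ?_⟩)
    · rw [LinearMap.mem_ker, ← Module.End.mul_apply, ← map_mul,
        show p₁ * (b * p₂) = b * (p₁ * p₂) by ring, map_mul, Module.End.mul_apply, h0, map_zero]
    · rw [LinearMap.mem_ker, ← Module.End.mul_apply, ← map_mul,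
        show p₂ * (a * p₁) = a * (p₁ * p₂) by ring, map_mul, Module.End.mul_apply, h0, map_zero]
  · exact sup_le inf_le_left inf_le_left

theorem kerInvt_one : kerInvt A (1 : F[X]) = ⊥ := by
  apply Subtype.ext
  rw [kerInvt_coe, map_one]
  rfl

theorem muBot_bot (L : Type*) [PartialOrder L] [OrderBot L] [Fintype L] : muBot L (⊥ : L) = 1 := by
  classical
  unfold muBot
  letI : LocallyFiniteOrder L := Fintype.toLocallyFiniteOrder
  exact IncidenceAlgebra.mu_self (⊥ : L)

/-- coprimality with a product -/
theorem isCoprime_prod_of (S : Finset F[X]) (f : F[X]) (h : ∀ g ∈ S, IsCoprime f g) :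
    IsCoprime f (∏ g ∈ S, g) :=
  IsCoprime.prod_right h

/-- KPROD, with the abstract splitting lemma G6 as a hypothesis -/
theorem muBot_kerInvt_prod_of [Fintype A.invtSubmodule]
    (hG6 : ∀ a b : A.invtSubmodule,
      (∀ x y : A.invtSubmodule, x ≤ a → y ≤ b → (x ⊔ y) ⊓ a = x ∧ (x ⊔ y) ⊓ b = y) →
      (∀ w : A.invtSubmodule, w ≤ a ⊔ b → w = (w ⊓ a) ⊔ (w ⊓ b)) →
      muBot A.invtSubmodule (a ⊔ b) = muBot A.invtSubmodule a * muBot A.invtSubmodule b)
    (S : Finset F[X]) (hS : (S : Set F[X]).Pairwise IsCoprime) :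
    muBot A.invtSubmodule (kerInvt A (∏ f ∈ S, f)) =
      ∏ f ∈ S, muBot A.invtSubmodule (kerInvt A f) := by
  classical
  induction S using Finset.induction_on with
  | empty =>
    rw [Finset.prod_empty, Finset.prod_empty, kerInvt_one]
    exact muBot_bot _
  | insert f S hf ih =>
    rw [Finset.prod_insert hf, Finset.prod_insert hf]
    have hS' : (S : Set F[X]).Pairwise IsCoprime :=
      hS.mono (by intro x hx; exact Finset.mem_insert_of_mem hx)
    have hcop : IsCoprime f (∏ g ∈ S, g) := by
      apply isCoprime_prod_of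
      intro g hg
      exact hS (Finset.mem_insert_self f S) (Finset.mem_insert_of_mem hg)
        (fun h => hf (h ▸ hg))
    obtain ⟨P, hP⟩ : ∃ P : F[X], P = ∏ g ∈ S, g := ⟨_, rfl⟩
    rw [← hP] at hcop ih ⊢
    have hsup : kerInvt A (f * P) = kerInvt A f ⊔ kerInvt A P := by
      apply Subtype.ext
      rw [Sublattice.coe_sup, kerInvt_coe, kerInvt_coe, kerInvt_coe,
        Polynomial.sup_ker_aeval_eq_ker_aeval_mul_of_coprime A hcop]
    have hdisj : LinearMap.ker (Polynomial.aeval A f) ⊓ LinearMap.ker (Polynomial.aeval A P) = ⊥ :=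
      (Polynomial.disjoint_ker_aeval_of_isCoprime A hcop).eq_bot
    rw [hsup, hG6 (kerInvt A f) (kerInvt A P) ?_ ?_, ih hS']
    · -- h1: modular law
      intro x y hx hy
      have hx' : (x : Submodule F V) ≤ LinearMap.ker (Polynomial.aeval A f) := hx
      have hy' : (y : Submodule F V) ≤ LinearMap.ker (Polynomial.aeval A P) := hy
      constructor
      · apply Subtype.ext
        rw [Sublattice.coe_inf, Sublattice.coe_sup, kerInvt_coe]
        apply le_antisymm
        · intro v hv
          obtain ⟨hv1, hv2⟩ := Submodule.mem_inf.mp hv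
          obtain ⟨a, ha, b, hb, rfl⟩ := Submodule.mem_sup.mp hv1
          have hb0 : b ∈ LinearMap.ker (Polynomial.aeval A f) ⊓
              LinearMap.ker (Polynomial.aeval A P) := by
            refine Submodule.mem_inf.mpr ⟨?_, hy' hb⟩
            have : b = (a + b) - a := by abel
            rw [this]
            exact Submodule.sub_mem _ hv2 (hx' ha)
          rw [hdisj, Submodule.mem_bot] at hb0
          rw [hb0, add_zero]
          exact ha
        · exact le_inf le_sup_left hx'
      · apply Subtype.ext
        rw [Sublattice.coe_inf, Sublattice.coe_sup, kerInvt_coe]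
        apply le_antisymm
        · intro v hv
          obtain ⟨hv1, hv2⟩ := Submodule.mem_inf.mp hv
          obtain ⟨a, ha, b, hb, rfl⟩ := Submodule.mem_sup.mp hv1
          have ha0 : a ∈ LinearMap.ker (Polynomial.aeval A f) ⊓
              LinearMap.ker (Polynomial.aeval A P) := by
            refine Submodule.mem_inf.mpr ⟨hx' ha, ?_⟩
            have : a = (a + b) - b := by abel
            rw [this]
            exact Submodule.sub_mem _ hv2 (hy' hb)
          rw [hdisj, Submodule.mem_bot] at ha0
          rw [ha0, zero_add]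
          exact hb
        · exact le_inf le_sup_right hy'
    · -- h2: Bezout splitting
      intro w hw
      apply Subtype.ext
      rw [Sublattice.coe_sup, Sublattice.coe_inf, Sublattice.coe_inf, kerInvt_coe, kerInvt_coe]
      apply eq_sup_inf_ker_of_isCoprime A f P hcop (w : Submodule F V) w.2
      have hw' : (w : Submodule F V) ≤ ((kerInvt A f ⊔ kerInvt A P : A.invtSubmodule) :
          Submodule F V) := hw
      rw [← hsup, kerInvt_coe] at hw'
      exact hw'

end Cfsg.Agent.Lib.Helper10.S2425Q8
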