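import Mathlib
import Cfsg.Agent.Lib.Helper14.StGLDefs
import Cfsg.Agent.Lib.Helper2.S2425Q1
import Cfsg.Agent.Lib.Helper10.S2425Q8

/-!
# S2425 Q2 (for helper14): G6, the abstract splitting lemma for Moebius numbers
-/

set_option autoImplicit false

namespace Cfsg.Agent.Lib.Helper10.S2425Q2

open Cfsg Cfsg.Agent.Lib.Helper14.StGL Cfsg.Agent.Lib.Helper2.S2425Q1

/-- G6 (abstract splitting): if the lower interval of `a ⊔ b` is the product of those of `a`
and `b`. -/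
theorem muBot_sup_of_split {L : Type*} [Lattice L] [OrderBot L] [Fintype L] (a b : L)
    (h1 : ∀ x y : L, x ≤ a → y ≤ b → (x ⊔ y) ⊓ a = x ∧ (x ⊔ y) ⊓ b = y)
    (h2 : ∀ w : L, w ≤ a ⊔ b → w = (w ⊓ a) ⊔ (w ⊓ b)) :
    muBot L (a ⊔ b) = muBot L a * muBot L b := by
  classical
  haveI : Fintype (Set.Iic (a ⊔ b)) := Fintype.ofFinite _
  haveI : Fintype (Set.Iic a) := Fintype.ofFinite _
  haveI : Fintype (Set.Iic b) := Fintype.ofFinite _
  let e : Set.Iic (a ⊔ b) ≃o Set.Iic a × Set.Iic b :=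
    { toFun := fun w => (⟨(w : L) ⊓ a, inf_le_right⟩, ⟨(w : L) ⊓ b, inf_le_right⟩)
      invFun := fun p => ⟨(p.1 : L) ⊔ (p.2 : L), sup_le_sup p.1.2 p.2.2⟩
      left_inv := by
        intro w
        apply Subtype.ext
        exact (h2 (w : L) w.2).symm
      right_inv := by
        intro p
        obtain ⟨h3, h4⟩ := h1 (p.1 : L) (p.2 : L) p.1.2 p.2.2
        exact Prod.ext (Subtype.ext h3) (Subtype.ext h4)
      map_rel_iff' := by
        intro w w'
        constructor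
        · intro hle
          have h3 : (w : L) ⊓ a ≤ (w' : L) ⊓ a := hle.1
          have h4 : (w : L) ⊓ b ≤ (w' : L) ⊓ b := hle.2
          have h5 : (w : L) ≤ (w' : L) := by
            rw [h2 (w : L) w.2, h2 (w' : L) w'.2]
            exact sup_le_sup h3 h4
          exact h5
        · intro hle
          have h5 : (w : L) ≤ (w' : L) := hle
          exact ⟨inf_le_inf_right a h5, inf_le_inf_right b h5⟩ }
  have hc : e ⟨a ⊔ b, le_rfl⟩ = (⟨a, le_rfl⟩, ⟨b, le_rfl⟩) := by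
    apply Prod.ext
    · apply Subtype.ext
      show (a ⊔ b) ⊓ a = a
      exact inf_eq_right.mpr le_sup_left
    · apply Subtype.ext
      show (a ⊔ b) ⊓ b = b
      exact inf_eq_right.mpr le_sup_right
  have s1 : muBot L (a ⊔ b) = muBot (Set.Iic (a ⊔ b)) ⟨a ⊔ b, le_rfl⟩ :=
    (muBot_Iic (a ⊔ b) ⟨a ⊔ b, le_rfl⟩).symm
  have s2 : muBot (Set.Iic (a ⊔ b)) ⟨a ⊔ b, le_rfl⟩ =
      muBot (Set.Iic a × Set.Iic b) (e ⟨a ⊔ b, le_rfl⟩) :=
    (muBot_orderIso e ⟨a ⊔ b, le_rfl⟩).symm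
  rw [s1, s2, hc, muBot_prod, muBot_Iic a ⟨a, le_rfl⟩, muBot_Iic b ⟨b, le_rfl⟩]

/-- KPROD (closed form): multiplicativity over pairwise coprime polynomials. -/
theorem muBot_kerInvt_prod {F : Type*} [Field F] {V : Type*} [AddCommGroup V] [Module F V]
    (A : Module.End F V) [Fintype A.invtSubmodule] (S : Finset (Polynomial F))
    (hS : (S : Set (Polynomial F)).Pairwise IsCoprime) :
    muBot A.invtSubmodule (kerInvt A (∏ f ∈ S, f)) =
      ∏ f ∈ S, muBot A.invtSubmodule (kerInvt A f) :=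
  Cfsg.Agent.Lib.Helper10.S2425Q8.muBot_kerInvt_prod_of A
    (fun a b h1 h2 => muBot_sup_of_split a b h1 h2) S hS

end Cfsg.Agent.Lib.Helper10.S2425Q2
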