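import Mathlib

/-!
S2924, piece FO-3 (helper17 architect): an abelian group `B` of odd order normalized by a
four-group `⟨s, t⟩` is the product `C_B(s) C_B(t) C_B(st)`, elementwise.
-/

set_option autoImplicit false

namespace Cfsg.Agent.Lib.Helper10.S2924FO3

theorem exists_decomp_four {G : Type*} [Group G] [Finite G] (B : Subgroup G)
    (hBc : ∀ a ∈ B, ∀ b ∈ B, a * b = b * a) (hBodd : Odd (Nat.card ↥B))
    (s t : G) (hs : s * s = 1) (ht : t * t = 1) (hst : s * t = t * s)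
    (hsB : ∀ b ∈ B, s * b * s⁻¹ ∈ B) (htB : ∀ b ∈ B, t * b * t⁻¹ ∈ B) (b : G) (hb : b ∈ B) :
    ∃ b₁ ∈ B, ∃ b₂ ∈ B, ∃ b₃ ∈ B, s * b₁ = b₁ * s ∧ t * b₂ = b₂ * t ∧
      (s * t) * b₃ = b₃ * (s * t) ∧ b = b₁ * b₂ * b₃ := by
  obtain ⟨m, hm⟩ := hBodd
  have hsi : s⁻¹ = s := inv_eq_of_mul_eq_one_left hs
  have hti : t⁻¹ = t := inv_eq_of_mul_eq_one_left ht
  have hb'B : t * b * t⁻¹ ∈ B := htB b hb
  have hb''B : s * (t * b * t⁻¹) * s⁻¹ ∈ B := hsB _ hb'B
  obtain ⟨b', hb'⟩ : ∃ b', b' = t * b * t⁻¹ := ⟨_, rfl⟩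
  obtain ⟨b'', hb''⟩ : ∃ b'', b'' = s * b' * s⁻¹ := ⟨_, rfl⟩
  rw [← hb'] at hb'B hb''B
  rw [← hb''] at hb''B
  have h1 : b * b' = b' * b := hBc b hb b' hb'B
  have h2 : b * b'' = b'' * b := hBc b hb b'' hb''B
  have h3 : b' * b'' = b'' * b' := hBc _ hb'B _ hb''B
  have hpow : ∀ x ∈ B, x ^ (2 * (m + 1)) = x := by
    intro x hx
    have h : (⟨x, hx⟩ : ↥B) ^ Nat.card ↥B = 1 := pow_card_eq_one'
    have hx1 : x ^ (2 * m + 1) = 1 := by
      rw [← hm]
      have h' : ((⟨x, hx⟩ : ↥B) ^ Nat.card ↥B : ↥B).1 = x ^ Nat.card ↥B := by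
        rw [Subgroup.coe_pow]
      rw [← h', h]; rfl
    calc x ^ (2 * (m + 1)) = x ^ (2 * m + 1) * x := by
          rw [← pow_succ]; rfl
    _ = x := by rw [hx1, one_mul]
  -- the three pieces
  have hc1B : (b' * b'')⁻¹ ∈ B := inv_mem (mul_mem hb'B hb''B)
  have hc2B : b * b' ∈ B := mul_mem hb hb'B
  have hc3B : b * b'' ∈ B := mul_mem hb hb''B
  have hsb'' : s * b'' * s⁻¹ = b' := by
    rw [hb'', hsi]
    have : s * (s * b' * s) * s = (s * s) * b' * (s * s) := by group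
    rw [this, hs, one_mul, mul_one]
  have htb' : t * b' * t⁻¹ = b := by
    rw [hb', hti]
    have : t * (t * b * t) * t = (t * t) * b * (t * t) := by group
    rw [this, ht, one_mul, mul_one]
  have hstb : (s * t) * b * (s * t)⁻¹ = b'' := by
    rw [hb'', hb']; group
  have hstst : (s * t) * (s * t) = 1 := by
    have : s * t * (s * t) = s * (t * s) * t := by group
    rw [this, ← hst]
    have : s * (s * t) * t = (s * s) * (t * t) := by group
    rw [this, hs, ht, one_mul]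
  have hsti : (s * t)⁻¹ = s * t := inv_eq_of_mul_eq_one_left hstst
  have hstb'' : (s * t) * b'' * (s * t)⁻¹ = b := by
    rw [← hstb, hsti]
    have : s * t * (s * t * b * (s * t)) * (s * t) =
        ((s * t) * (s * t)) * b * ((s * t) * (s * t)) := by group
    rw [this, hstst, one_mul, mul_one]
  have hk1 : s * (b' * b'')⁻¹ = (b' * b'')⁻¹ * s := by
    have e : s * (b' * b'')⁻¹ * s⁻¹ = ((s * b' * s⁻¹) * (s * b'' * s⁻¹))⁻¹ := by group
    have : s * (b' * b'')⁻¹ * s⁻¹ = (b' * b'')⁻¹ := by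
      rw [e, hsb'', ← hb'', h3]
    calc s * (b' * b'')⁻¹ = (s * (b' * b'')⁻¹ * s⁻¹) * s := by group
    _ = (b' * b'')⁻¹ * s := by rw [this]
  have hk2 : t * (b * b') = (b * b') * t := by
    have e : t * (b * b') * t⁻¹ = (t * b * t⁻¹) * (t * b' * t⁻¹) := by group
    have : t * (b * b') * t⁻¹ = b * b' := by
      rw [e, htb', ← hb', h1]
    calc t * (b * b') = (t * (b * b') * t⁻¹) * t := by group
    _ = (b * b') * t := by rw [this]
  have hk3 : (s * t) * (b * b'') = (b * b'') * (s * t) := by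
    have e : (s * t) * (b * b'') * (s * t)⁻¹ =
        ((s * t) * b * (s * t)⁻¹) * ((s * t) * b'' * (s * t)⁻¹) := by group
    have : (s * t) * (b * b'') * (s * t)⁻¹ = b * b'' := by
      rw [e, hstb, hstb'', h2]
    calc (s * t) * (b * b'') = ((s * t) * (b * b'') * (s * t)⁻¹) * (s * t) := by group
    _ = (b * b'') * (s * t) := by rw [this]
  have hkey : b * b = (b' * b'')⁻¹ * (b * b') * (b * b'') := by
    have e1 : (b' * b'')⁻¹ * (b' * b) * (b'' * b) = b''⁻¹ * (b * b'') * b := by group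
    have e2 : b''⁻¹ * (b'' * b) * b = b * b := by group
    rw [h1, h2, e1, h2, e2]
  refine ⟨((b' * b'')⁻¹) ^ (m + 1), pow_mem hc1B _, (b * b') ^ (m + 1), pow_mem hc2B _,
    (b * b'') ^ (m + 1), pow_mem hc3B _, ?_, ?_, ?_, ?_⟩
  · exact (Commute.pow_right (show Commute s (b' * b'')⁻¹ from hk1) _).eq
  · exact (Commute.pow_right (show Commute t (b * b') from hk2) _).eq
  · exact (Commute.pow_right (show Commute (s * t) (b * b'') from hk3) _).eq
  · have c12 : Commute ((b' * b'')⁻¹) (b * b') := hBc _ hc1B _ hc2B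
    have c123 : Commute ((b' * b'')⁻¹ * (b * b')) (b * b'') :=
      hBc _ (mul_mem hc1B hc2B) _ hc3B
    rw [← c12.mul_pow, ← c123.mul_pow, ← hkey, ← pow_two, ← pow_mul]
    exact (hpow b hb).symm

end Cfsg.Agent.Lib.Helper10.S2924FO3
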