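import Mathlib
import Cfsg.Agent.Lib.Helper17.S2924Defs
import Cfsg.Agent.Lib.Helper10.Transport

/-!
S2924, piece FO-7 (helper17 architect): conjugation transports `th y = O(C_X(y))` to
`th (g y g⁻¹)`, and hence `N_X(Y)` normalizes the join of the `th y`, `y ∈ Y#`.
-/

set_option autoImplicit false

namespace Cfsg.Agent.Lib.Helper10.S2924FO7

open Cfsg Cfsg.Agent.Lib.Helper17.S2924

theorem map_centralizer_singleton {X : Type*} [Group X] (g y : X) :
    (Subgroup.centralizer ({y} : Set X)).map (MulAut.conj g).toMonoidHom =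
      Subgroup.centralizer ({g * y * g⁻¹} : Set X) := by
  ext a
  simp only [Subgroup.mem_map, MulEquiv.coe_toMonoidHom, MulAut.conj_apply,
    Subgroup.mem_centralizer_iff, Set.mem_singleton_iff, forall_eq]
  constructor
  · rintro ⟨b, hb, rfl⟩
    have h1 : g * y * g⁻¹ * (g * b * g⁻¹) = g * (y * b) * g⁻¹ := by group
    have h2 : g * b * g⁻¹ * (g * y * g⁻¹) = g * (b * y) * g⁻¹ := by group
    rw [h1, h2, hb]
  · intro ha
    refine ⟨g⁻¹ * a * g, ?_, by group⟩
    have h1 : y * (g⁻¹ * a * g) = g⁻¹ * ((g * y * g⁻¹) * a) * g := by group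
    have h2 : g⁻¹ * a * g * y = g⁻¹ * (a * (g * y * g⁻¹)) * g := by group
    rw [h1, h2, ha]

theorem th_conj {X : Type*} [Group X] (g y : X) :
    (th y).map (MulAut.conj g).toMonoidHom = th (g * y * g⁻¹) := by
  unfold th
  show ((pPrimeCore 2 ↥(Subgroup.centralizer ({y} : Set X))).map
      (Subgroup.centralizer ({y} : Set X)).subtype).map (MulAut.conj g).toMonoidHom = _
  rw [Cfsg.Agent.Lib.Helper10.map_pPrimeCore_subgroup]
  exact congrArg (fun K : Subgroup X => (pPrimeCore 2 ↥K).map K.subtype)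
    (map_centralizer_singleton g y)

theorem conj_mem_iSup_th {X : Type*} [Group X] (Y : Subgroup X) (g : X)
    (hg : g ∈ Subgroup.normalizer (Y : Set X)) (h : X)
    (hh : h ∈ (⨆ y : {y : X // y ∈ Y ∧ y ≠ 1}, th (y : X) : Subgroup X)) :
    g * h * g⁻¹ ∈ (⨆ y : {y : X // y ∈ Y ∧ y ≠ 1}, th (y : X) : Subgroup X) := by
  have hle : (⨆ y : {y : X // y ∈ Y ∧ y ≠ 1}, th (y : X) : Subgroup X).map
      (MulAut.conj g).toMonoidHom ≤ ⨆ y : {y : X // y ∈ Y ∧ y ≠ 1}, th (y : X) := by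
    rw [Subgroup.map_iSup]
    apply iSup_le
    intro y
    rw [th_conj]
    have hy : g * (y : X) * g⁻¹ ∈ Y ∧ g * (y : X) * g⁻¹ ≠ 1 := by
      refine ⟨(Subgroup.mem_normalizer_iff.mp hg (y : X)).mp y.2.1, ?_⟩
      intro h1
      apply y.2.2
      have : (y : X) = g⁻¹ * (g * (y : X) * g⁻¹) * g := by group
      rw [this, h1]; group
    exact le_iSup (fun y : {y : X // y ∈ Y ∧ y ≠ 1} => th (y : X)) ⟨_, hy⟩
  exact hle ⟨h, hh, rfl⟩

theorem normalizer_le_normalizer_iSup_th {X : Type*} [Group X] [Finite X] (Y : Subgroup X) :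
    Subgroup.normalizer (Y : Set X) ≤ Subgroup.normalizer
      ((⨆ y : {y : X // y ∈ Y ∧ y ≠ 1}, th (y : X) : Subgroup X) : Set X) := by
  intro g hg
  rw [Subgroup.mem_normalizer_iff]
  intro h
  constructor
  · exact conj_mem_iSup_th Y g hg h
  · intro hh
    have := conj_mem_iSup_th Y g⁻¹ (inv_mem hg) _ hh
    have e : g⁻¹ * (g * h * g⁻¹) * g⁻¹⁻¹ = h := by group
    rwa [e] at this

end Cfsg.Agent.Lib.Helper10.S2924FO7
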