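import Mathlib
import Cfsg.Agent.Lib.Helper12.S2933Defs

/-!
# S2933 FO-E3 (for helper12): `T ⧸ V` non-abelian of order 64 is impossible

`false_of_quot_aux` is the argument of FO-E3 with the other pieces (FO-A1 `fpf3` for `T` and for
`T ⧸ V`, `D_sq`, `card_D` for the quotient, FO-E1b `D3_comm`, FO-E2 `pairing`, FO-C1 `card_of_inv`)
taken as explicit hypotheses, so that this file only needs the shared definitions.
-/

set_option autoImplicit false

namespace Cfsg.Agent.Lib.Helper10.S2933FOE3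

open Subgroup Cfsg.Agent.Lib.Helper12.S2933 Cfsg.Agent.Lib.Helper20.Ord64

variable {T : Type*} [Group T] {V : Subgroup T} {τ σ : MulAut T}

theorem V_le_D' (H : Hyp V τ σ) : V ≤ H.D := by
  intro v hv
  rw [H.mem_D, H.τV v hv, inv_mul_cancel]
  exact V.one_mem

theorem D_σ' (H : Hyp V τ σ) : ∀ x ∈ H.D, σ x ∈ H.D := by
  intro x hx
  rw [H.mem_D] at hx ⊢
  have : (σ x)⁻¹ * τ (σ x) = σ (x⁻¹ * τ x) := by
    rw [H.comm, map_mul, map_inv]
  rw [this]
  exact H.σV _ hx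

theorem D_τ' (H : Hyp V τ σ) : ∀ x ∈ H.D, τ x ∈ H.D := by
  intro x hx
  rw [H.mem_D] at hx ⊢
  have : (τ x)⁻¹ * τ (τ x) = τ (x⁻¹ * τ x) := by
    rw [map_mul, map_inv]
  rw [this, H.τV _ hx]
  exact hx

/-- the preimage of `π D` is `D` -/
theorem mem_D_of_mk_mem (H : Hyp V τ σ) [V.Normal] (a : T)
    (ha : (QuotientGroup.mk' V) a ∈ H.D.map (QuotientGroup.mk' V)) : a ∈ H.D := by
  obtain ⟨d, hd, hda⟩ := ha
  have h1 : d⁻¹ * a ∈ V := by
    have : (d : T ⧸ V) = (a : T ⧸ V) := hda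
    exact QuotientGroup.eq.mp this
  have h2 : a = d * (d⁻¹ * a) := by group
  rw [h2]
  exact H.D.mul_mem hd (V_le_D' H h1)

theorem false_of_quot_aux (H : Hyp V τ σ) [V.Normal]
    (hQ : Hyp (H.D.map (QuotientGroup.mk' V)) H.τq H.σq) (hcard : Nat.card (T ⧸ V) = 64)
    (hnc : ¬ ∀ a b : T ⧸ V, a * b = b * a)
    (hfT : Fpf3 σ) (hfQ : Fpf3 H.σq)
    (hDsq : ∀ x ∈ H.D, x * x ∈ V)
    (hcardDQ : Nat.card hQ.D = 16)
    (hD3c : ∀ a ∈ hQ.D.comap (QuotientGroup.mk' V), ∀ b ∈ hQ.D.comap (QuotientGroup.mk' V),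
      a * b = b * a)
    (hpair : ∀ y₀ d₀ : T, d₀ ∈ H.D → d₀ ∉ V → d₀ * y₀ = y₀ * d₀ → ∀ d ∈ H.D, d * y₀ = y₀ * d)
    (hcinv : ∀ S : Subgroup T, V ≤ S → (∀ x ∈ S, τ x ∈ S) → (∀ x ∈ S, σ x ∈ S) →
      (∀ a ∈ S, ∀ b ∈ S, a * b = b * a) → ∀ e : T, e ∈ S → e * e = 1 → e ∉ V →
      Nat.card S = 16 ∧ ∀ x ∈ S, x * x = 1) : False := by
  haveI := H.fin
  set π : T →* T ⧸ V := QuotientGroup.mk' V with hπ
  have hπsurj : Function.Surjective π := QuotientGroup.mk'_surjective V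
  have hπσ : ∀ x : T, π (σ x) = H.σq (π x) := fun x => rfl
  have hπτ : ∀ x : T, π (τ x) = H.τq (π x) := fun x => rfl
  have S : Setup H.σq := ⟨hfQ, hcard, fun h => hnc (fun a b => h.is_comm.comm a b)⟩
  -- the centre of the quotient is `π D`
  have hZ : center (T ⧸ V) = H.D.map π := by
    symm
    apply Subgroup.eq_of_le_of_card_ge
    · intro q hq
      rw [Subgroup.mem_center_iff]
      intro g
      exact (hQ.Vcen q hq g).symm
    · rw [S.card_center, hQ.Vcard]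
  set DQ : Subgroup (T ⧸ V) := hQ.D with hDQ
  set D3 : Subgroup T := DQ.comap π with hD3
  have hmemD3 : ∀ x : T, x ∈ D3 ↔ π x ∈ DQ := fun x => Iff.rfl
  -- `π D ≤ D_Q`
  have hπD_le : H.D.map π ≤ DQ := V_le_D' hQ
  have hD_le : H.D ≤ D3 := by
    intro x hx
    rw [hmemD3]
    exact hπD_le ⟨x, hx, rfl⟩
  have hV_le : V ≤ D3 := le_trans (V_le_D' H) hD_le
  have hD3σ : ∀ x ∈ D3, σ x ∈ D3 := by
    intro x hx
    rw [hmemD3] at hx ⊢
    rw [hπσ]
    exact D_σ' hQ _ hx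
  have hD3τ : ∀ x ∈ D3, τ x ∈ D3 := by
    intro x hx
    rw [hmemD3] at hx ⊢
    rw [hπτ]
    exact D_τ' hQ _ hx
  -- cardinalities
  have hcardT : Nat.card T = 256 := by
    rw [Subgroup.card_eq_card_quotient_mul_card_subgroup V, hcard, H.Vcard]
  have hidx : DQ.index = 4 := by
    have := DQ.card_mul_index
    rw [hcardDQ, hcard] at this
    omega
  have hcardD3 : Nat.card D3 = 64 := by
    have h1 : D3.index = 4 := by
      rw [hD3, Subgroup.index_comap_of_surjective DQ hπsurj, hidx]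
    have := D3.card_mul_index
    rw [h1, hcardT] at this
    omega
  -- squares and commutators lie in `D`
  have hsqD : ∀ a : T, a * a ∈ H.D := by
    intro a
    apply mem_D_of_mk_mem H
    rw [← hπ, ← hZ, map_mul]
    exact S.sq_mem_center (π a)
  have hcmD : ∀ a b : T, a * b * a⁻¹ * b⁻¹ ∈ H.D := by
    intro a b
    apply mem_D_of_mk_mem H
    rw [← hπ, ← hZ, map_mul, map_mul, map_mul, map_inv, map_inv]
    exact S.comm_mem_center (π a) (π b)
  -- (c): commuting with `π x`, `x ∈ D₃ \ D`, forces membership in `D₃`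
  have hc : ∀ x ∈ D3, x ∉ H.D → ∀ q : T ⧸ V, π x * q = q * π x → q ∈ DQ := by
    intro x hx hxD q hq
    have hxc : π x ∉ center (T ⧸ V) := by
      rw [hZ]
      intro h
      exact hxD (mem_D_of_mk_mem H x h)
    have h1 := S.mem_line_of_commute (π x) q hxc hq
    have h2 : Fpf3.lineOf H.σq (π x) ≤ DQ := by
      unfold Fpf3.lineOf
      rw [Subgroup.closure_le]
      intro z hz
      rcases hz with hz | hz
      · have : z ∈ center (T ⧸ V) := hz
        rw [hZ] at this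
        exact hπD_le this
      · have hx' : π x ∈ DQ := hx
        rcases hz with rfl | rfl | rfl
        · exact hx'
        · exact D_σ' hQ _ hx'
        · exact D_σ' hQ _ (D_σ' hQ _ hx')
    exact h2 h1
  -- (d): involutions of `D₃` lie in `V`
  have hd : ∀ e ∈ D3, e * e = 1 → e ∈ V := by
    intro e he he2
    by_contra heV
    have := (hcinv D3 hV_le hD3τ hD3σ hD3c e he he2 heV).1
    rw [hcardD3] at this
    omega
  -- (c'): for `x ∈ D₃ \ D` and `y ∉ D₃` the commutator is in `D \ V`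
  have hcV : ∀ x ∈ D3, x ∉ H.D → ∀ y : T, y ∉ D3 → x * y * x⁻¹ * y⁻¹ ∉ V := by
    intro x hx hxD y hy hV
    apply hy
    rw [hmemD3]
    apply hc x hx hxD
    have h1 : π (x * y * x⁻¹ * y⁻¹) = 1 := (QuotientGroup.eq_one_iff _).mpr hV
    rw [map_mul, map_mul, map_mul, map_inv, map_inv] at h1
    exact (cm_eq_one_iff (π x) (π y)).mp h1
  -- existence of `x ∈ D₃ \ D` and `y ∉ D₃`
  obtain ⟨x, hx, hxD⟩ : ∃ x ∈ D3, x ∉ H.D := by
    by_contra hcon
    push Not at hcon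
    have hle : D3 ≤ H.D := hcon
    -- then `D_Q ≤ π D`, of order 4
    have h1 : DQ ≤ H.D.map π := by
      intro q hq
      obtain ⟨a, rfl⟩ := hπsurj q
      exact ⟨a, hle hq, rfl⟩
    have h2 := Subgroup.card_le_of_le h1
    rw [hcardDQ, hQ.Vcard] at h2
    omega
  -- (e): `y * y ∈ V` for every `y ∉ D₃`
  have he : ∀ y : T, y ∉ D3 → y * y ∈ V := by
    intro y hy
    set c := x * y * x⁻¹ * y⁻¹ with hcdef
    have hcD : c ∈ H.D := hcmD x y
    have hcV' : c ∉ V := hcV x hx hxD y hy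
    have hcc : c * c ≠ 1 := by
      intro h
      exact hcV' (hd c (hD_le hcD) h)
    have hxc : x * c = c * x := hD3c x hx c (hD_le hcD)
    have hx2y : (x * x) * y ≠ y * (x * x) := by
      intro h
      apply hcc
      have e1 : (x * x) * y * (x * x)⁻¹ * y⁻¹ = x * c * x⁻¹ * c := by
        rw [hcdef]; group
      have e2 : (x * x) * y * (x * x)⁻¹ * y⁻¹ = 1 := by
        rw [h]; group
      calc c * c = c * x * x⁻¹ * c := by group
        _ = x * c * x⁻¹ * c := by rw [hxc]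
        _ = 1 := by rw [← e1, e2]
    by_contra hyV
    exact hx2y (hpair y (y * y) (hsqD y) hyV (by group) (x * x) (hsqD x))
  -- (f)
  obtain ⟨y, hy⟩ : ∃ y : T, y ∉ D3 := by
    by_contra hcon
    push Not at hcon
    have : D3 = ⊤ := by
      rw [eq_top_iff]
      intro z _
      exact hcon z
    rw [this, Subgroup.card_top, hcardT] at hcardD3
    omega
  have hkey : ∀ z : T, z ∉ D3 → (x * x) * (z * x * z⁻¹ * x⁻¹) ∈ V := by
    intro z hz
    set c' := z * x * z⁻¹ * x⁻¹ with hc'def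
    have hc'D : c' ∈ H.D := hcmD z x
    have hxc' : x * c' = c' * x := hD3c x hx c' (hD_le hc'D)
    have hxz : x * z ∉ D3 := by
      intro h
      apply hz
      have : z = x⁻¹ * (x * z) := by group
      rw [this]
      exact D3.mul_mem (D3.inv_mem hx) h
    have h1 : (x * z) * (x * z) ∈ V := he _ hxz
    have h2 : z * z ∈ V := he _ hz
    have e1 : (x * z) * (x * z) = x * c' * x * (z * z) := by
      rw [hc'def]; group
    have e2 : (x * x) * c' = ((x * z) * (x * z)) * (z * z)⁻¹ := by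
      rw [e1]
      calc (x * x) * c' = x * (x * c') := by group
        _ = x * (c' * x) := by rw [hxc']
        _ = x * c' * x * (z * z) * (z * z)⁻¹ := by group
    rw [e2]
    exact V.mul_mem h1 (V.inv_mem h2)
  have hσy : σ y ∉ D3 := by
    intro h
    apply hy
    have := hD3σ _ (hD3σ _ h)
    rw [hfT.cube] at this
    exact this
  have h1 := hkey y hy
  have h2 := hkey (σ y) hσy
  have h3 : (y * x * y⁻¹ * x⁻¹)⁻¹ * (σ y * x * (σ y)⁻¹ * x⁻¹) ∈ V := by
    have : (y * x * y⁻¹ * x⁻¹)⁻¹ * (σ y * x * (σ y)⁻¹ * x⁻¹)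
        = ((x * x) * (y * x * y⁻¹ * x⁻¹))⁻¹ * ((x * x) * (σ y * x * (σ y)⁻¹ * x⁻¹)) := by group
    rw [this]
    exact V.mul_mem (V.inv_mem h1) h2
  -- pass to the quotient
  have h4 : cm (π y) (π x) = cm (H.σq (π y)) (π x) := by
    have h5 : π ((y * x * y⁻¹ * x⁻¹)⁻¹ * (σ y * x * (σ y)⁻¹ * x⁻¹)) = 1 :=
      (QuotientGroup.eq_one_iff _).mpr h3
    rw [map_mul, map_inv] at h5
    have h6 : π (y * x * y⁻¹ * x⁻¹) = π (σ y * x * (σ y)⁻¹ * x⁻¹) :=
      inv_mul_eq_one.mp h5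
    simp only [map_mul, map_inv] at h6
    rw [hπσ] at h6
    exact h6
  have h7 : cm (H.σq (π y) * (π y)⁻¹) (π x) = 1 := by
    rw [S.cm_mul_left, ← h4, ← S.cm_mul_left, mul_inv_cancel, cm_one_left]
  have h8 : π x * (H.σq (π y) * (π y)⁻¹) = (H.σq (π y) * (π y)⁻¹) * π x :=
    ((cm_eq_one_iff _ _).mp h7).symm
  have h9 : H.σq (π y) * (π y)⁻¹ ∈ DQ := hc x hx hxD _ h8
  have h10 : σ y * y⁻¹ ∈ D3 := by
    rw [hmemD3, map_mul, map_inv, hπσ]
    exact h9
  exact hy (hfT.mem_of_twist_mem D3 hD3σ y h10)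

end Cfsg.Agent.Lib.Helper10.S2933FOE3
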