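import Mathlib
import Cfsg.Agent.Lib.Helper10.S2933FOE3
import Cfsg.Agent.Lib.Helper24.S2933FOA
import Cfsg.Agent.Lib.Helper24.S2933FOA4
import Cfsg.Agent.Lib.Helper25.S2933FOB
import Cfsg.Agent.Lib.Helper6.S2933FOE2
import Cfsg.Agent.Lib.Helper6.S2933FOC1

/-!
# S2933 FO-E3 (for helper12): exact-signature wrapper

`false_of_quot`: `T ⧸ V` non-abelian of order 64 is impossible, with the landed pieces FO-A
(helper24), FO-A4 (helper24), FO-E1b (helper25), FO-E2 and FO-C1 (helper6) plugged into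
`false_of_quot_aux`.
-/

set_option autoImplicit false

namespace Cfsg.Agent.Lib.Helper10.S2933FOE3

open Subgroup Cfsg.Agent.Lib.Helper12.S2933 Cfsg.Agent.Lib.Helper20.Ord64

variable {T : Type*} [Group T] {V : Subgroup T} {τ σ : MulAut T}

theorem false_of_quot (H : Hyp V τ σ) [V.Normal]
    (hQ : Hyp (H.D.map (QuotientGroup.mk' V)) H.τq H.σq) (hcard : Nat.card (T ⧸ V) = 64)
    (hnc : ¬ ∀ a b : T ⧸ V, a * b = b * a) : False := by
  haveI := H.fin
  have hne : ∃ q : T ⧸ V, q ∉ H.D.map (QuotientGroup.mk' V) := by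
    by_contra hcon
    push Not at hcon
    have htop : H.D.map (QuotientGroup.mk' V) = ⊤ := by
      rw [eq_top_iff]
      intro z _
      exact hcon z
    have h1 := hQ.Vcard
    rw [htop, Subgroup.card_top, hcard] at h1
    omega
  exact false_of_quot_aux H hQ hcard hnc
    (Cfsg.Agent.Lib.Helper24.S2933FOA.fpf3 H)
    (Cfsg.Agent.Lib.Helper24.S2933FOA.fpf3 hQ)
    (Cfsg.Agent.Lib.Helper24.S2933FOA4.D_sq H)
    (Cfsg.Agent.Lib.Helper24.S2933FOA4.card_D hQ hne)
    (Cfsg.Agent.Lib.Helper25.S2933.D3_comm H hQ hcard hnc)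
    (fun y₀ d₀ hd hdV h => Cfsg.Agent.Lib.Helper6.S2933FOE2.pairing H y₀ d₀ hd hdV h)
    (fun S hVS hτ hσ hc e heS he2 heV =>
      Cfsg.Agent.Lib.Helper6.S2933FOC1.card_of_inv H S hVS hτ hσ hc e heS he2 heV)

end Cfsg.Agent.Lib.Helper10.S2933FOE3
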