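import Mathlib
import Cfsg.Agent.Lib.Helper12.S2933Defs

/-!
# S2933 FO-J (for helper12): the hypotheses of S2933 in automorphism form

`exists_hyp`: from the literal hypotheses of S2933 (a `2`-subgroup `T`, a central four-group `V`,
commuting `t` of order two and `ρ` of order three normalizing both, `t` trivial on `V`,
`[V, ρ] = V`, `C_T(t) = V`) build `Hyp (V.subgroupOf T) τ σ` with `τ, σ` the conjugation maps.
-/

set_option autoImplicit false

namespace Cfsg.Agent.Lib.Helper10.S2933FOJ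

open Subgroup Cfsg.Agent.Lib.Helper12.S2933

/-- an endomorphism of order dividing three of a set with four elements which fixes two points
fixes every point -/
theorem fix_all_of_card_four {α : Type*} [Finite α] (hα : Nat.card α = 4) (f : α → α)
    (hf : ∀ x, f (f (f x)) = x) (a b : α) (hab : a ≠ b) (ha : f a = a) (hb : f b = b) :
    ∀ x, f x = x := by
  classical
  haveI : Fintype α := Fintype.ofFinite α
  haveI : Fact (Nat.Prime 3) := ⟨by norm_num⟩
  let F : Function.End α := f
  have hpow : F ^ 3 ^ 1 = 1 := by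
    funext x
    show (F ^ 3 ^ 1) x = x
    rw [pow_one, pow_succ, pow_succ, pow_one]
    exact hf x
  have h1 := Equiv.Perm.card_fixedPoints_modEq (f := F) (p := 3) (n := 1) hpow
  rw [← Nat.card_eq_fintype_card, hα] at h1
  have h2 : 2 ≤ Fintype.card (Function.fixedPoints f) := by
    have : (⟨a, ha⟩ : Function.fixedPoints f) ≠ ⟨b, hb⟩ := by
      intro h
      exact hab (congrArg Subtype.val h)
    exact Fintype.one_lt_card_iff.mpr ⟨_, _, this⟩
  have h3 : Fintype.card (Function.fixedPoints f) ≤ 4 := by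
    have := Fintype.card_subtype_le (fun x => x ∈ Function.fixedPoints f)
    rw [← Nat.card_eq_fintype_card (α := α), hα] at this
    exact this
  have h4 : Fintype.card (Function.fixedPoints f) = 4 := by
    have h5 : (4 : ℕ) % 3 = Fintype.card (Function.fixedPoints f) % 3 := h1
    omega
  intro x
  by_contra hx
  have h6 : Fintype.card (Function.fixedPoints f) < Fintype.card α := by
    apply Fintype.card_subtype_lt (x := x)
    exact hx
  rw [← Nat.card_eq_fintype_card (α := α), hα, h4] at h6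
  exact lt_irrefl _ h6

theorem exists_hyp {G : Type*} [Group G] [Finite G] (T V : Subgroup G) (hT : IsPGroup 2 ↥T)
    (hVT : V ≤ T ⊓ Subgroup.centralizer (T : Set G)) (hV : Nat.card ↥V = 4 ∧ ∀ v ∈ V, v ^ 2 = 1)
    (t ρ : G) (ht : orderOf t = 2) (hρ : orderOf ρ = 3)
    (htn : t ∈ Subgroup.normalizer (V : Set G) ⊓ Subgroup.normalizer (T : Set G))
    (hρn : ρ ∈ Subgroup.normalizer (V : Set G) ⊓ Subgroup.normalizer (T : Set G))
    (htρ : t * ρ = ρ * t) (htV : t ∈ Subgroup.centralizer (V : Set G))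
    (hVρ : ⁅V, Subgroup.zpowers ρ⁆ = V) (hCt : T ⊓ Subgroup.centralizer ({t} : Set G) = V) :
    ∃ τ σ : MulAut ↥T, Hyp (V.subgroupOf T) τ σ := by
  have hVleT : V ≤ T := fun v hv => (hVT hv).1
  have ht2 : t * t = 1 := by rw [← pow_two, ← ht]; exact pow_orderOf_eq_one t
  have hρ3 : ρ * ρ * ρ = 1 := by
    have := pow_orderOf_eq_one ρ
    rw [hρ, pow_succ, pow_two] at this
    exact this
  have htinv : t⁻¹ = t := inv_eq_of_mul_eq_one_left ht2
  have hρinv : ρ⁻¹ = ρ * ρ := inv_eq_of_mul_eq_one_left hρ3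
  let τ : MulAut ↥T := T.normalizerMonoidHom ⟨t, htn.2⟩
  let σ : MulAut ↥T := T.normalizerMonoidHom ⟨ρ, hρn.2⟩
  have hτ : ∀ x : ↥T, ((τ x : ↥T) : G) = t * x * t⁻¹ := fun x => rfl
  have hσ : ∀ x : ↥T, ((σ x : ↥T) : G) = ρ * x * ρ⁻¹ := fun x => rfl
  -- `ρ` maps `V` to `V`
  have hρV : ∀ v ∈ V, ρ * v * ρ⁻¹ ∈ V := fun v hv => (mem_normalizer_iff.mp hρn.1 v).mp hv
  -- the fixed point argument
  have hfpf : ∀ v ∈ V, ρ * v * ρ⁻¹ = v → v = 1 := by
    intro v hv hfix
    by_contra hv1
    let f : ↥V → ↥V := fun w => ⟨ρ * w * ρ⁻¹, hρV w w.2⟩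
    have hf3 : ∀ x, f (f (f x)) = x := by
      intro x
      apply Subtype.ext
      show ρ * (ρ * (ρ * x * ρ⁻¹) * ρ⁻¹) * ρ⁻¹ = x
      have e : ρ * (ρ * (ρ * (x : G) * ρ⁻¹) * ρ⁻¹) * ρ⁻¹
          = (ρ * ρ * ρ) * x * (ρ * ρ * ρ)⁻¹ := by group
      rw [e, hρ3, one_mul, inv_one, mul_one]
    haveI : Finite ↥V := inferInstance
    have hall := fix_all_of_card_four hV.1 f hf3 (1 : ↥V) ⟨v, hv⟩
      (by intro h; exact hv1 (congrArg Subtype.val h).symm)
      (by apply Subtype.ext; show ρ * ((1 : ↥V) : G) * ρ⁻¹ = ((1 : ↥V) : G); simp)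
      (by apply Subtype.ext; exact hfix)
    -- so `ρ` centralizes `V`, and the commutator is trivial
    have hcomm : ⁅V, Subgroup.zpowers ρ⁆ = ⊥ := by
      rw [Subgroup.commutator_eq_bot_iff_le_centralizer]
      intro w hw
      rw [Subgroup.mem_centralizer_iff]
      intro z hz
      have hz' : z ∈ Subgroup.zpowers ρ := hz
      -- `w` commutes with `ρ`, hence with its powers
      have hwρ : Commute ρ w := by
        have := congrArg Subtype.val (hall ⟨w, hw⟩)
        have h' : ρ * w * ρ⁻¹ = w := this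
        show ρ * w = w * ρ
        calc ρ * w = (ρ * w * ρ⁻¹) * ρ := by group
          _ = w * ρ := by rw [h']
      obtain ⟨k, rfl⟩ := Subgroup.mem_zpowers_iff.mp hz'
      exact (hwρ.zpow_left k).eq
    rw [hcomm] at hVρ
    have : Nat.card ↥V = 1 := by rw [← hVρ]; exact Subgroup.card_bot
    rw [hV.1] at this
    omega
  refine ⟨τ, σ, ?_⟩
  refine
    { fin := inferInstance
      pg := hT
      Vcen := ?_
      Vcard := ?_
      Vsq := ?_
      τ2 := ?_
      σ3 := ?_
      comm := ?_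
      τV := ?_
      σV := ?_
      σVfpf := ?_
      fix := ?_ }
  · intro v hv x
    apply Subtype.ext
    have hv' : (v : G) ∈ V := hv
    have := (Subgroup.mem_centralizer_iff.mp (hVT hv').2) x x.2
    show (v : G) * x = x * v
    exact this.symm
  · rw [← hV.1]
    exact Nat.card_congr (Subgroup.subgroupOfEquivOfLe hVleT).toEquiv
  · intro v hv
    apply Subtype.ext
    have hv' : (v : G) ∈ V := hv
    have := hV.2 _ hv'
    show (v : G) * v = 1
    rw [← pow_two]; exact this
  · intro x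
    apply Subtype.ext
    rw [hτ, hτ]
    have e : t * (t * (x : G) * t⁻¹) * t⁻¹ = (t * t) * x * (t * t)⁻¹ := by group
    rw [e, ht2, one_mul, inv_one, mul_one]
  · intro x
    apply Subtype.ext
    rw [hσ, hσ, hσ]
    have e : ρ * (ρ * (ρ * (x : G) * ρ⁻¹) * ρ⁻¹) * ρ⁻¹
        = (ρ * ρ * ρ) * x * (ρ * ρ * ρ)⁻¹ := by group
    rw [e, hρ3, one_mul, inv_one, mul_one]
  · intro x
    apply Subtype.ext
    rw [hτ, hσ, hσ, hτ]
    have e1 : t * (ρ * (x : G) * ρ⁻¹) * t⁻¹ = (t * ρ) * x * (t * ρ)⁻¹ := by group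
    have e2 : ρ * (t * (x : G) * t⁻¹) * ρ⁻¹ = (ρ * t) * x * (ρ * t)⁻¹ := by group
    rw [e1, e2, htρ]
  · intro v hv
    apply Subtype.ext
    rw [hτ]
    have hv' : (v : G) ∈ V := hv
    have := (Subgroup.mem_centralizer_iff.mp htV) v hv'
    -- this : v * t = t * v
    calc t * (v : G) * t⁻¹ = ((v : G) * t) * t⁻¹ := by rw [this]
      _ = v := by group
  · intro v hv
    have hv' : (v : G) ∈ V := hv
    show ((σ v : ↥T) : G) ∈ V
    rw [hσ]
    exact hρV _ hv'
  · intro v hv hfix
    have hv' : (v : G) ∈ V := hv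
    have h1 : ρ * (v : G) * ρ⁻¹ = v := by
      rw [← hσ]; exact congrArg Subtype.val hfix
    apply Subtype.ext
    exact hfpf _ hv' h1
  · intro x hx
    have h1 : t * (x : G) * t⁻¹ = x := by
      rw [← hτ]; exact congrArg Subtype.val hx
    show (x : G) ∈ V
    rw [← hCt]
    refine ⟨x.2, ?_⟩
    show (x : G) ∈ Subgroup.centralizer ({t} : Set G)
    rw [Subgroup.mem_centralizer_iff]
    intro z hz
    rw [Set.mem_singleton_iff] at hz
    subst hz
    -- goal: z * x = x * z
    calc z * (x : G) = (z * x * z⁻¹) * z := by group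
      _ = x * z := by rw [h1]

end Cfsg.Agent.Lib.Helper10.S2933FOJ
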