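import Mathlib
import Cfsg.Prelude.Def_Characters
import Cfsg.Agent.Lib.Helper11.S3282Defs

/-!
# S3282 piece K2d (helper10): assembly of the case `k = 2`

`K2_final_aux` takes the other pieces (`K2_split`, `K2_twelve`, `K2_sixty`, `G1_conj`) as explicit hypotheses.
-/

set_option autoImplicit false

namespace Cfsg.Agent.Lib.Helper10.S3282K2d

open Cfsg Cfsg.Agent.Lib.Helper11 Cfsg.Agent.Lib.Helper11.S3282

universe u

variable {G : Type u} [Group G] {t s : G} {K : Subgroup G}

/-- elements of the group generated by an involution -/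
theorem mem_zpowers_invol {z x : G} (hz : orderOf z = 2) (hx : x ∈ Subgroup.zpowers z) :
    x = 1 ∨ x = z := by
  obtain ⟨k, rfl⟩ := Subgroup.mem_zpowers_iff.mp hx
  have h2 : z ^ (2 : ℕ) = 1 := by rw [← hz]; exact pow_orderOf_eq_one z
  rw [← zpow_mod_orderOf, hz]
  have h0 : 0 ≤ k % 2 := Int.emod_nonneg _ (by norm_num)
  have h1 : k % 2 < 2 := Int.emod_lt_of_pos _ (by norm_num)
  have : k % 2 = 0 ∨ k % 2 = 1 := by omega
  rcases this with h | h
  · left; rw [show k % ((2 : ℕ) : ℤ) = 0 from h, zpow_zero]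
  · right; rw [show k % ((2 : ℕ) : ℤ) = 1 from h, zpow_one]

/-- the normaliser of the group generated by an involution is its centraliser -/
theorem normalizer_zpowers_invol {z : G} (hz : orderOf z = 2) :
    Subgroup.normalizer ((Subgroup.zpowers z : Subgroup G) : Set G) =
      Subgroup.centralizer ({z} : Set G) := by
  have hz1 : z ≠ 1 := by
    rintro rfl
    rw [orderOf_one] at hz
    omega
  ext n
  rw [Subgroup.mem_normalizer_iff, Subgroup.mem_centralizer_iff]
  constructor
  · intro h x hx
    rw [Set.mem_singleton_iff] at hx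
    subst hx
    have h1 := (h x).1 (Subgroup.mem_zpowers x)
    rcases mem_zpowers_invol hz h1 with h2 | h2
    · exfalso
      apply hz1
      have : x = n⁻¹ * (n * x * n⁻¹) * n := by group
      rw [this, h2]; group
    · calc x * n = (n * x * n⁻¹) * n := by rw [h2]
        _ = n * x := by group
  · intro h x
    have hc : z * n = n * z := h z rfl
    have hcz : ∀ y ∈ Subgroup.zpowers z, n * y * n⁻¹ = y := by
      intro y hy
      rcases mem_zpowers_invol hz hy with rfl | rfl
      · group
      · rw [← hc]; group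
    have hcz' : ∀ y ∈ Subgroup.zpowers z, n⁻¹ * y * n = y := by
      intro y hy
      have := hcz y hy
      calc n⁻¹ * y * n = n⁻¹ * (n * y * n⁻¹) * n := by rw [this]
        _ = y := by group
    constructor
    · intro hx
      rw [hcz x hx]; exact hx
    · intro hx
      have h3 := hcz' _ hx
      have h4 : n⁻¹ * (n * x * n⁻¹) * n = x := by group
      rw [h4] at h3
      rw [h3]; exact hx

variable [Finite G]

/-- **K2d, aux form**: the other pieces are explicit hypotheses. -/
theorem K2_final_aux (h : Hyp t s K) (hk : Nat.card K = 2)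
    (hsplit : Nat.card G = 12 ∨ Nonempty (G ≃* ↥(alternatingGroup (Fin 5))))
    (h12 : Nat.card G = 12 → ∃ Q : Subgroup G, Nat.card Q = 3 ∧
      (∀ x ∈ Q, x ≠ 1 → Subgroup.centralizer ({x} : Set G) = Q) ∧
      Subgroup.normalizer (Q : Set G) = Q)
    (h60 : Nonempty (G ≃* ↥(alternatingGroup (Fin 5))) →
      ∃ (Q : Subgroup G) (z : G), Nat.card G = 60 ∧ Nat.card Q = 5 ∧ orderOf z = 2 ∧
        (∀ x ∈ Q, x ≠ 1 → Subgroup.centralizer ({x} : Set G) = Q) ∧
        Subgroup.normalizer (Q : Set G) = Q ⊔ Subgroup.zpowers z)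
    (hcj : ∀ g : G, Hyp (g * t * g⁻¹) (g * s * g⁻¹) (K.map (MulAut.conj g).toMonoidHom)) :
    Concl G := by
  rcases hsplit with hG | hG
  · obtain ⟨Q, hQ, hcent, hnorm⟩ := h12 hG
    refine ⟨Q, ⊥, ?_, hcent, ?_, ?_, ?_, ?_, ?_⟩
    · rw [hG, hQ]
    · exact ⟨⟨fun a b => Subtype.ext (by
        have ha := (Subgroup.mem_bot.mp a.2)
        have hb := (Subgroup.mem_bot.mp b.2)
        simp [ha, hb])⟩⟩
    · rw [Subgroup.card_bot, hQ]
    · exact inf_bot_eq _
    · rw [sup_bot_eq]; exact hnorm
    · intro X hX hX1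
      exact absurd (le_bot_iff.mp hX) hX1
  · obtain ⟨Q, z, hG60, hQ, hz, hcent, hnorm⟩ := h60 hG
    have hD : Nat.card (Subgroup.zpowers z) = 2 := by rw [Nat.card_zpowers, hz]
    refine ⟨Q, Subgroup.zpowers z, ?_, hcent, inferInstance, ?_, ?_, hnorm, ?_⟩
    · rw [hG60, hQ]
    · rw [hD, hQ]
    · apply Disjoint.eq_bot
      apply Subgroup.disjoint_of_coprime_natCard
      rw [hQ, hD]; norm_num
    · intro X hX hX1
      have hXD : X = Subgroup.zpowers z := by
        apply Subgroup.eq_of_le_of_card_ge hX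
        rw [hD]
        have h1 : Nat.card X ≠ 1 := fun h1 => hX1 (Subgroup.eq_bot_of_card_eq X h1)
        have h2 : 0 < Nat.card X := Nat.card_pos
        omega
      subst hXD
      refine ⟨rfl, ?_⟩
      obtain ⟨g, hg⟩ := isConj_iff.mp (h.hconj t z h.ht hz)
      have h' := hcj g
      rw [hg] at h'
      have hK' : Nat.card (K.map (MulAut.conj g).toMonoidHom) = 2 := by
        rw [← hk]
        exact Nat.card_congr (K.equivMapOfInjective _ (MulAut.conj g).injective).symm.toEquiv
      have hDK : Subgroup.zpowers z = K.map (MulAut.conj g).toMonoidHom := by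
        apply Subgroup.eq_of_le_of_card_ge
        · rw [Subgroup.zpowers_le]; exact h'.htK
        · rw [hK', hD]
      refine ⟨g * s * g⁻¹, h'.hs, ?_, ?_, ?_⟩
      · rw [hDK]; exact h'.hsK
      · intro d hd
        rw [hDK] at hd
        exact h'.hinv d hd
      · rw [normalizer_zpowers_invol hz, ← h'.hH, ← hDK]

end Cfsg.Agent.Lib.Helper10.S3282K2d
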