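import Mathlib
import Cfsg.Prelude.Def_Characters
import Cfsg.Agent.Lib.Helper11.S3282Defs
import Cfsg.Agent.Lib.Helper10.S3282K2d
import Cfsg.Agent.Lib.Helper22.S3282K2a
import Cfsg.Agent.Lib.Helper23.S3282K2bc
import Cfsg.Agent.Lib.Helper8.S3282G1b

/-!
# S3282 piece K2d (helper10): `K2_final` with the exact skeleton signature

Wires `K2_final_aux` with the landed pieces `K2_split` (helper22), `K2_twelve`, `K2_sixty`
(helper23) and `G1_conj` (helper8).
-/

set_option autoImplicit false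

namespace Cfsg.Agent.Lib.Helper10.S3282K2dFinal

open Cfsg Cfsg.Agent.Lib.Helper11 Cfsg.Agent.Lib.Helper11.S3282

universe u

variable {G : Type u} [Group G] {t s : G} {K : Subgroup G}

section K2
variable [Finite G]

theorem K2_final (h : Hyp t s K) (hk : Nat.card K = 2) : Concl G :=
  Cfsg.Agent.Lib.Helper10.S3282K2d.K2_final_aux h hk
    (Cfsg.Agent.Lib.Helper22.S3282K2a.K2_split h hk)
    (Cfsg.Agent.Lib.Helper23.S3282K2bc.K2_twelve h hk)
    (Cfsg.Agent.Lib.Helper23.S3282K2bc.K2_sixty h hk)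
    (fun g => Cfsg.Agent.Lib.Helper8.S3282G1b.G1_conj h g)

end K2

end Cfsg.Agent.Lib.Helper10.S3282K2dFinal
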