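import Mathlib
import Cfsg.Prelude.Def_Classical
import Cfsg.Agent.Lib.Helper15.QuadCount7
import Cfsg.Agent.Lib.Helper15.BC3

/-!
# S3589, piece FO-5: isometries of the minus type form in dimension 8 embed in `PSp_8` (char 2)
-/

set_option autoImplicit false

open Module QuadraticMap

namespace Cfsg.Agent.Lib.Helper10.S3589

open Matrix Cfsg.Agent.Lib.Helper15 Cfsg.Agent.Lib.Helper15.BC Cfsg.Agent.Lib.Helper15.Sps

variable {F : Type*} [Field F] [Fintype F]

/-- in characteristic 2 a scalar with square one is one -/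
theorem eq_one_of_mul_self_eq_one [CharP F 2] (ν : F) (h : ν * ν = 1) : ν = 1 := by
  have h2 : (2 : F) = 0 := CharTwo.two_eq_zero
  have : (ν - 1) * (ν - 1) = 0 := by linear_combination h + (1 - ν) * h2
  have h0 := mul_self_eq_zero.mp this
  linear_combination h0

theorem sp_of_isometry [CharP F 2] (a b : F)
    (hab : ∀ z₁ z₂ : F, z₁ ^ 2 + a * z₁ * z₂ + b * z₂ ^ 2 = 0 → z₁ = 0 ∧ z₂ = 0)
    (h : ↥(Cfsg.isometryGroup F (Cfsg.quadFormMinus 3 F a b))) :
    ∃ x : Cfsg.PSp 4 F, orderOf x = orderOf h := by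
  classical
  have hfun : Cfsg.quadFormMinus 3 F a b = ⇑(Qgen 3 (binForm a b)) := by
    funext v
    rw [Qgen_apply, binForm_apply]
    rfl
  have h2 : (2 : F) = 0 := CharTwo.two_eq_zero
  have halt : ∀ x, (polarBilin (Qgen 3 (binForm a b))) x x = 0 := by
    intro x
    show polar (Qgen 3 (binForm a b)) x x = 0
    rw [QuadraticMap.polar_self, two_smul]
    linear_combination (Qgen 3 (binForm a b) x) * h2
  have hnd : Nondeg (polarBilin (Qgen 3 (binForm a b))) :=
    (nondegenerate_Qgen 3 (binForm a b) (nondegenerate_binForm a b hab)).1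
  have hV : finrank F ((Fin 3 ⊕ Fin 3) ⊕ Fin 2 → F) = 2 * 4 := by simp
  obtain ⟨φ, hφ⟩ := exists_algEquiv_symp (polarBilin (Qgen 3 (binForm a b))) halt hnd 4
    (by norm_num) hV
  -- the matrix of `h`
  set M : Matrix ((Fin 3 ⊕ Fin 3) ⊕ Fin 2) ((Fin 3 ⊕ Fin 3) ⊕ Fin 2) F :=
    Units.val (h : GL ((Fin 3 ⊕ Fin 3) ⊕ Fin 2) F) with hM
  have hMQ : ∀ v, Qgen 3 (binForm a b) (M *ᵥ v) = Qgen 3 (binForm a b) v := by
    intro v
    have := (mem_isometryGroup_iff _ _).1 h.2 v
    rw [← congrFun hfun, ← congrFun hfun]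
    exact this
  have hiso : IsIso (polarBilin (Qgen 3 (binForm a b))) (Matrix.toLinAlgEquiv' M) := by
    intro x y
    show polar (Qgen 3 (binForm a b)) (Matrix.toLinAlgEquiv' M x) (Matrix.toLinAlgEquiv' M y) = _
    rw [Matrix.toLinAlgEquiv'_apply, Matrix.toLinAlgEquiv'_apply]
    exact isometry_polar _ M hMQ x y
  -- powers
  have hpow : ∀ j : ℕ, IsIso (polarBilin (Qgen 3 (binForm a b))) (Matrix.toLinAlgEquiv' (M ^ j)) := by
    intro j
    rw [map_pow]
    exact hiso.pow j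
  set s : Matrix.symplecticGroup (Fin 4) F := ⟨φ (Matrix.toLinAlgEquiv' M), hφ _ hiso⟩ with hs
  have hsM : matS s = φ (Matrix.toLinAlgEquiv' M) := rfl
  refine ⟨QuotientGroup.mk s, ?_⟩
  rw [orderOf_eq_orderOf_iff]
  intro j
  have e1 : h ^ j = 1 ↔ M ^ j = 1 := by
    rw [hM]
    constructor
    · intro hj
      have := congrArg (fun z : ↥(Cfsg.isometryGroup F (Cfsg.quadFormMinus 3 F a b)) =>
        Units.val (z : GL ((Fin 3 ⊕ Fin 3) ⊕ Fin 2) F)) hj
      simpa using this
    · intro hj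
      apply Subtype.ext
      apply Units.ext
      simpa using hj
  have e2 : M ^ j = 1 ↔ matS s ^ j = 1 := by
    rw [hsM, ← map_pow, ← map_pow]
    constructor
    · intro hj; rw [hj, map_one, map_one]
    · intro hj
      have : φ (Matrix.toLinAlgEquiv' (M ^ j)) = φ (Matrix.toLinAlgEquiv' 1) := by
        rw [hj, map_one, map_one]
      exact (Matrix.toLinAlgEquiv' (R := F)).injective (φ.injective this)
  rw [e1, e2, ← orderOf_dvd_iff_pow_eq_one, orderOf_mk_dvd_iff_sp (by norm_num)]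
  constructor
  · rintro ⟨ν, hν⟩
    have hsym := matS_symp (s ^ j)
    rw [matS_pow, hν] at hsym
    have hν1 := eq_one_of_mul_self_eq_one ν (scalar_symp (by norm_num) ν hsym)
    rw [hν, hν1, map_one]
  · intro hj
    exact ⟨1, by rw [hj, map_one]⟩

end Cfsg.Agent.Lib.Helper10.S3589
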