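import Mathlib

/-!
# S5630 I7, tensor coordinates (helper10)

`k` pairwise commuting algebra homomorphisms `φ i : M_m(F) → R` combine to one algebra homomorphism
`M_{Fin k → Fin m}(F) → R` sending the position-`i` tensor `pos i X` to `φ i X`.  If `R = M_n(F)` and the images generate,
it is an isomorphism, hence of the form `X ↦ P * reindex X * P⁻¹`.
-/

set_option autoImplicit false

namespace Cfsg.Agent.Lib.Helper10.S5630Tens

open Matrix
open scoped Kronecker

variable {F : Type*} [Field F]

section bin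

variable {α β : Type*} [Fintype α] [DecidableEq α] [Fintype β] [DecidableEq β]
variable {R : Type*} [Ring R] [Algebra F R]

/-- the `(b, b')` block of a matrix indexed by `α × β` -/
def blk (Z : Matrix (α × β) (α × β) F) (b b' : β) : Matrix α α F := fun a a' => Z (a, b) (a', b')

theorem blk_apply (Z : Matrix (α × β) (α × β) F) (b b' : β) (a a' : α) : blk Z b b' a a' = Z (a, b) (a', b') := rfl

theorem blk_add (Z Z' : Matrix (α × β) (α × β) F) (b b' : β) : blk (Z + Z') b b' = blk Z b b' + blk Z' b b' := rfl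

theorem blk_smul (c : F) (Z : Matrix (α × β) (α × β) F) (b b' : β) : blk (c • Z) b b' = c • blk Z b b' := rfl

theorem blk_mul (Z Z' : Matrix (α × β) (α × β) F) (b b'' : β) :
    blk (Z * Z') b b'' = ∑ b', blk Z b b' * blk Z' b' b'' := by
  ext a a''
  rw [blk_apply, Matrix.mul_apply, Matrix.sum_apply, Fintype.sum_prod_type, Finset.sum_comm]
  refine Finset.sum_congr rfl fun b' _ => ?_
  rw [Matrix.mul_apply]
  rfl

theorem blk_one (b b' : β) : blk (1 : Matrix (α × β) (α × β) F) b b' = if b = b' then 1 else 0 := by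
  ext a a'
  rw [blk_apply]
  by_cases hb : b = b'
  · subst hb
    rw [if_pos rfl]
    by_cases ha : a = a'
    · subst ha
      simp
    · rw [Matrix.one_apply_ne ha, Matrix.one_apply_ne]
      intro h
      exact ha (congrArg Prod.fst h)
  · rw [if_neg hb, Matrix.one_apply_ne, Matrix.zero_apply]
    intro h
    exact hb (congrArg Prod.snd h)

theorem blk_kron (X : Matrix α α F) (Y : Matrix β β F) (b b' : β) : blk (X ⊗ₖ Y) b b' = Y b b' • X := by
  ext a a'
  rw [blk_apply, Matrix.kroneckerMap_apply, Matrix.smul_apply, smul_eq_mul, mul_comm]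

theorem single_mul_single' (b b' c c' : β) :
    (single b b' (1 : F) : Matrix β β F) * single c c' 1 = if b' = c then single b c' 1 else 0 := by
  by_cases h : b' = c
  · subst h
    rw [if_pos rfl, Matrix.single_mul_single_same, mul_one]
  · rw [if_neg h]
    exact Matrix.single_mul_single_of_ne (h := h) ..

theorem sum_single_diag : ∑ b : β, (single b b (1 : F) : Matrix β β F) = 1 := by
  ext i j
  rw [Matrix.sum_apply]
  by_cases h : i = j
  · subst h
    rw [Matrix.one_apply_eq, Finset.sum_eq_single i]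
    · exact Matrix.single_apply_same _ _ _
    · intro b _ hb
      exact Matrix.single_apply_of_ne _ _ _ _ _ (fun h => hb h.1)
    · intro h
      exact absurd (Finset.mem_univ i) h
  · rw [Matrix.one_apply_ne h]
    apply Finset.sum_eq_zero
    intro b _
    apply Matrix.single_apply_of_ne
    rintro ⟨h1, h2⟩
    exact h (h1.symm.trans h2)

variable (f : Matrix α α F →ₐ[F] R) (g : Matrix β β F →ₐ[F] R)

/-- the combined map as a linear map -/
def binLin : Matrix (α × β) (α × β) F →ₗ[F] R where
  toFun Z := ∑ b, ∑ b', f (blk Z b b') * g (single b b' 1)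
  map_add' Z Z' := by
    simp only [blk_add, map_add, add_mul, Finset.sum_add_distrib]
  map_smul' c Z := by
    simp only [blk_smul, map_smul, smul_mul_assoc, Finset.smul_sum, RingHom.id_apply]

theorem binLin_apply (Z : Matrix (α × β) (α × β) F) :
    binLin f g Z = ∑ b, ∑ b', f (blk Z b b') * g (single b b' 1) := rfl

theorem binLin_one : binLin f g 1 = 1 := by
  rw [binLin_apply]
  have : ∀ b : β, ∑ b', f (blk (1 : Matrix (α × β) (α × β) F) b b') * g (single b b' 1) = g (single b b 1) := by
    intro b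
    rw [Finset.sum_eq_single b]
    · rw [blk_one, if_pos rfl, map_one, one_mul]
    · intro b' _ hb'
      rw [blk_one, if_neg (Ne.symm hb'), map_zero, zero_mul]
    · intro h
      exact absurd (Finset.mem_univ b) h
  simp only [this]
  rw [← map_sum, sum_single_diag, map_one]

theorem binLin_mul (hfg : ∀ X Y, f X * g Y = g Y * f X) (Z Z' : Matrix (α × β) (α × β) F) :
    binLin f g (Z * Z') = binLin f g Z * binLin f g Z' := by
  have hterm : ∀ (x x' : Matrix α α F) (y y' : Matrix β β F),
      f x * g y * (f x' * g y') = f (x * x') * g (y * y') := by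
    intro x x' y y'
    rw [map_mul, map_mul, mul_assoc, ← mul_assoc (g y), ← hfg x' y, mul_assoc, ← mul_assoc]
  have hL : binLin f g (Z * Z') =
      ∑ b, ∑ c', ∑ b', f (blk Z b b' * blk Z' b' c') * g (single b c' 1) := by
    rw [binLin_apply]
    simp only [blk_mul, map_sum, Finset.sum_mul]
  have hR : binLin f g Z * binLin f g Z' =
      ∑ b, ∑ b', ∑ c, ∑ c', f (blk Z b b' * blk Z' c c') * g (if b' = c then single b c' 1 else 0) := by
    rw [binLin_apply, binLin_apply, Finset.sum_mul]
    refine Finset.sum_congr rfl fun b _ => ?_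
    rw [Finset.sum_mul]
    refine Finset.sum_congr rfl fun b' _ => ?_
    rw [Finset.mul_sum]
    refine Finset.sum_congr rfl fun c _ => ?_
    rw [Finset.mul_sum]
    refine Finset.sum_congr rfl fun c' _ => ?_
    rw [hterm, single_mul_single']
  rw [hL, hR]
  refine Finset.sum_congr rfl fun b _ => ?_
  conv_lhs => rw [Finset.sum_comm]
  refine Finset.sum_congr rfl fun b' _ => ?_
  symm
  rw [Finset.sum_eq_single b']
  · refine Finset.sum_congr rfl fun c' _ => ?_
    rw [if_pos rfl]
  · intro c _ hc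
    apply Finset.sum_eq_zero
    intro c' _
    rw [if_neg (Ne.symm hc), map_zero, mul_zero]
  · intro h
    exact absurd (Finset.mem_univ b') h

/-- two commuting algebra homomorphisms from matrix algebras combine to one from the Kronecker product algebra -/
def bin (hfg : ∀ X Y, f X * g Y = g Y * f X) : Matrix (α × β) (α × β) F →ₐ[F] R :=
  AlgHom.ofLinearMap (binLin f g) (binLin_one f g) (binLin_mul f g hfg)

theorem bin_apply (hfg : ∀ X Y, f X * g Y = g Y * f X) (Z : Matrix (α × β) (α × β) F) :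
    bin f g hfg Z = ∑ b, ∑ b', f (blk Z b b') * g (single b b' 1) := rfl

theorem bin_kron (hfg : ∀ X Y, f X * g Y = g Y * f X) (X : Matrix α α F) (Y : Matrix β β F) :
    bin f g hfg (X ⊗ₖ Y) = f X * g Y := by
  rw [bin_apply]
  simp only [blk_kron, map_smul, smul_mul_assoc]
  simp only [← mul_smul_comm, ← Finset.mul_sum, ← map_smul, ← map_sum]
  congr 2
  have : ∀ b b', Y b b' • (single b b' (1 : F) : Matrix β β F) = single b b' (Y b b') := by
    intro b b'
    rw [Matrix.smul_single, smul_eq_mul, mul_one]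
  simp only [this]
  exact (Matrix.matrix_eq_sum_single Y).symm

theorem bin_commute (hfg : ∀ X Y, f X * g Y = g Y * f X) (z : R) (hzf : ∀ X, z * f X = f X * z)
    (hzg : ∀ Y, z * g Y = g Y * z) (Z : Matrix (α × β) (α × β) F) : z * bin f g hfg Z = bin f g hfg Z * z := by
  rw [bin_apply, Finset.mul_sum, Finset.sum_mul]
  refine Finset.sum_congr rfl fun b _ => ?_
  rw [Finset.mul_sum, Finset.sum_mul]
  refine Finset.sum_congr rfl fun b' _ => ?_
  rw [← mul_assoc, hzf, mul_assoc, hzg, mul_assoc]

end bin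

/-! ### position tensors and the combined homomorphism -/

/-- the position-`i` tensor of `X`: `X` in the `i`-th tensor factor, the identity elsewhere -/
def pos {k m : ℕ} (i : Fin k) (X : Matrix (Fin m) (Fin m) F) : Matrix (Fin k → Fin m) (Fin k → Fin m) F :=
  fun x y => if (∀ j, j ≠ i → x j = y j) then X (x i) (y i) else 0

theorem pos_apply {k m : ℕ} (i : Fin k) (X : Matrix (Fin m) (Fin m) F) (x y : Fin k → Fin m) :
    pos i X x y = if (∀ j, j ≠ i → x j = y j) then X (x i) (y i) else 0 := rfl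

/-- splitting off the first tensor factor -/
def cEquiv (k m : ℕ) : (Fin (k + 1) → Fin m) ≃ Fin m × (Fin k → Fin m) :=
  (Fin.consEquiv (fun _ => Fin m)).symm

theorem cEquiv_symm_apply (k m : ℕ) (a : Fin m) (u : Fin k → Fin m) :
    (cEquiv k m).symm (a, u) = Fin.cons a u := rfl

theorem pos_zero_reindex {k m : ℕ} (X : Matrix (Fin m) (Fin m) F) :
    reindex (cEquiv k m) (cEquiv k m) (pos (0 : Fin (k + 1)) X) =
      X ⊗ₖ (1 : Matrix (Fin k → Fin m) (Fin k → Fin m) F) := by
  ext ⟨a, u⟩ ⟨a', u'⟩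
  rw [Matrix.reindex_apply, Matrix.submatrix_apply, cEquiv_symm_apply, cEquiv_symm_apply, pos_apply,
    Matrix.kroneckerMap_apply, Matrix.one_apply]
  have hiff : (∀ j : Fin (k + 1), j ≠ 0 → (Fin.cons a u : Fin (k + 1) → Fin m) j = (Fin.cons a' u' : Fin (k + 1) → Fin m) j)
      ↔ u = u' := by
    constructor
    · intro h
      funext j
      have := h j.succ (Fin.succ_ne_zero j)
      simpa using this
    · rintro rfl j hj
      obtain ⟨j', rfl⟩ := Fin.exists_succ_eq.mpr hj
      simp
  by_cases h : u = u'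
  · rw [if_pos (hiff.mpr h), if_pos h, mul_one]
    simp
  · rw [if_neg (fun h' => h (hiff.mp h')), if_neg h, mul_zero]

theorem pos_succ_reindex {k m : ℕ} (i : Fin k) (X : Matrix (Fin m) (Fin m) F) :
    reindex (cEquiv k m) (cEquiv k m) (pos i.succ X) = (1 : Matrix (Fin m) (Fin m) F) ⊗ₖ pos i X := by
  ext ⟨a, u⟩ ⟨a', u'⟩
  rw [Matrix.reindex_apply, Matrix.submatrix_apply, cEquiv_symm_apply, cEquiv_symm_apply, pos_apply,
    Matrix.kroneckerMap_apply, Matrix.one_apply, pos_apply]
  have hiff : (∀ j : Fin (k + 1), j ≠ i.succ →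
      (Fin.cons a u : Fin (k + 1) → Fin m) j = (Fin.cons a' u' : Fin (k + 1) → Fin m) j)
      ↔ (a = a' ∧ ∀ j, j ≠ i → u j = u' j) := by
    constructor
    · intro h
      refine ⟨?_, fun j hj => ?_⟩
      · have := h 0 (Fin.succ_ne_zero i).symm
        simpa using this
      · have := h j.succ (fun h' => hj (Fin.succ_injective _ h'))
        simpa using this
    · rintro ⟨rfl, h⟩ j hj
      refine Fin.cases ?_ (fun j' hj' => ?_) j hj
      · intro _
        simp
      · have := h j' (fun h' => hj' (congrArg Fin.succ h'))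
        simpa using this
  simp only [Fin.cons_succ]
  by_cases h1 : a = a'
  · by_cases h2 : ∀ j, j ≠ i → u j = u' j
    · rw [if_pos (hiff.mpr ⟨h1, h2⟩), if_pos h1, if_pos h2, one_mul]
    · rw [if_neg (fun h' => h2 (hiff.mp h').2), if_neg h2, mul_zero]
  · rw [if_neg (fun h' => h1 (hiff.mp h').1), if_neg h1, zero_mul]

section combine

variable {R : Type*} [Ring R] [Algebra F R]

/-- the case of no tensor factor: a `1 × 1` matrix algebra -/
def zeroHom (m : ℕ) : Matrix (Fin 0 → Fin m) (Fin 0 → Fin m) F →ₐ[F] R where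
  toFun X := algebraMap F R (X default default)
  map_one' := by simp
  map_mul' X Y := by
    rw [Matrix.mul_apply, Fintype.sum_unique, map_mul]
  map_zero' := by simp
  map_add' X Y := by simp
  commutes' c := by
    simp [Matrix.algebraMap_matrix_apply]

/-- `k` pairwise commuting algebra homomorphisms `M_m(F) → R` combine to one `M_{Fin k → Fin m}(F) → R` -/
theorem exists_algHom (m : ℕ) : ∀ (k : ℕ) (φ : Fin k → (Matrix (Fin m) (Fin m) F →ₐ[F] R))
    (_ : ∀ i j, i ≠ j → ∀ X Y, φ i X * φ j Y = φ j Y * φ i X),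
    ∃ Ψ : Matrix (Fin k → Fin m) (Fin k → Fin m) F →ₐ[F] R, (∀ i X, Ψ (pos i X) = φ i X) ∧
      (∀ z : R, (∀ i X, z * φ i X = φ i X * z) → ∀ Y, z * Ψ Y = Ψ Y * z) := by
  intro k
  induction k with
  | zero =>
    intro φ _
    refine ⟨zeroHom m, ?_, ?_⟩
    · intro i
      exact i.elim0
    · intro z _ Y
      exact (Algebra.commutes (Y default default) z).symm
  | succ k ih =>
    intro φ hcomm
    obtain ⟨Ψ', h1, h2⟩ := ih (fun i => φ i.succ)
      (fun i j hij X Y => hcomm i.succ j.succ (fun h => hij (Fin.succ_injective _ h)) X Y)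
    have hfg : ∀ X Y, φ 0 X * Ψ' Y = Ψ' Y * φ 0 X := by
      intro X Y
      exact h2 (φ 0 X) (fun i X' => hcomm 0 i.succ (Fin.succ_ne_zero i).symm X X') Y
    refine ⟨(bin (φ 0) Ψ' hfg).comp
      ((Matrix.reindexAlgEquiv F F (cEquiv k m) : _ ≃ₐ[F] _) : _ →ₐ[F] _), ?_, ?_⟩
    · intro i X
      have hre : ∀ Y : Matrix (Fin (k + 1) → Fin m) (Fin (k + 1) → Fin m) F,
          ((Matrix.reindexAlgEquiv F F (cEquiv k m) :
            Matrix (Fin (k + 1) → Fin m) (Fin (k + 1) → Fin m) F ≃ₐ[F] _) :
            Matrix (Fin (k + 1) → Fin m) (Fin (k + 1) → Fin m) F →ₐ[F] _) Y =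
          reindex (cEquiv k m) (cEquiv k m) Y := fun Y => rfl
      rw [AlgHom.comp_apply, hre]
      refine Fin.cases ?_ (fun j => ?_) i
      · rw [pos_zero_reindex, bin_kron, map_one, mul_one]
      · rw [pos_succ_reindex, bin_kron, map_one, one_mul, h1]
    · intro z hz Y
      simp only [AlgHom.comp_apply]
      exact bin_commute (φ 0) Ψ' hfg z (fun X => hz 0 X) (fun Y' => h2 z (fun i X => hz i.succ X) Y') _

end combine

/-! ### algebra isomorphisms of matrix algebras are conjugations -/

section sn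

variable {ι κ : Type} [Fintype ι] [DecidableEq ι] [Fintype κ] [DecidableEq κ]

/-- Skolem-Noether between matrix algebras with different index types -/
theorem algEquiv_eq_conj (Ψ : Matrix ι ι F ≃ₐ[F] Matrix κ κ F) :
    ∃ (Q : Matrix κ ι F) (Q' : Matrix ι κ F), Q * Q' = 1 ∧ Q' * Q = 1 ∧ Fintype.card ι = Fintype.card κ ∧
      ∀ X, Ψ X = Q * X * Q' := by
  let τι : Matrix ι ι F ≃ₐ[F] Module.End F (ι → F) := Matrix.toLinAlgEquiv'
  let τκ : Matrix κ κ F ≃ₐ[F] Module.End F (κ → F) := Matrix.toLinAlgEquiv'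
  let f : Module.End F (ι → F) ≃ₐ[F] Module.End F (κ → F) := (τι.symm.trans Ψ).trans τκ
  obtain ⟨T, hT⟩ := f.eq_linearEquivConjAlgEquiv
  have h1 : LinearMap.toMatrix' (T : (ι → F) →ₗ[F] (κ → F)) *
      LinearMap.toMatrix' (T.symm : (κ → F) →ₗ[F] (ι → F)) = 1 := by
    rw [← LinearMap.toMatrix'_comp]
    simp
  have h2 : LinearMap.toMatrix' (T.symm : (κ → F) →ₗ[F] (ι → F)) *
      LinearMap.toMatrix' (T : (ι → F) →ₗ[F] (κ → F)) = 1 := by
    rw [← LinearMap.toMatrix'_comp]
    simp
  have hcard : Fintype.card ι = Fintype.card κ := by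
    have := T.finrank_eq
    rwa [Module.finrank_fintype_fun_eq_card, Module.finrank_fintype_fun_eq_card] at this
  refine ⟨_, _, h1, h2, hcard, fun X => ?_⟩
  have hfX : f (τι X) = τκ (Ψ X) := by
    simp [f]
  have hc : f (τι X) = (T : (ι → F) →ₗ[F] (κ → F)) ∘ₗ (τι X) ∘ₗ (T.symm : (κ → F) →ₗ[F] (ι → F)) := by
    rw [hT]
    rfl
  apply τκ.injective
  rw [← hfX, hc]
  apply LinearMap.ext
  intro v
  simp only [τκ, τι, Matrix.toLinAlgEquiv'_apply, LinearMap.comp_apply, LinearEquiv.coe_coe]
  rw [← Matrix.mulVec_mulVec, ← Matrix.mulVec_mulVec, LinearMap.toMatrix'_mulVec, LinearMap.toMatrix'_mulVec]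
  rfl

end sn

/-! ### the main statement -/

/-- **TENS** `k` pairwise commuting copies of `M_m(F)` generating `M_n(F)` are, after one reindexing and one change of
basis, the `k` position algebras -/
theorem exists_tens' {n : ℕ} (hn : 0 < n) (m k : ℕ) (φ : Fin k → (Matrix (Fin m) (Fin m) F →ₐ[F] Matrix (Fin n) (Fin n) F))
    (hc : ∀ i j, i ≠ j → ∀ a b, φ i a * φ j b = φ j b * φ i a)
    (hgen : Algebra.adjoin F (⋃ i, Set.range (φ i)) = ⊤) :
    ∃ (e : Fin n ≃ (Fin k → Fin m)) (P : GL (Fin n) F), ∀ i a, φ i a =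
      (P : Matrix (Fin n) (Fin n) F) * Matrix.reindex e.symm e.symm (pos i a) *
        ((P⁻¹ : GL (Fin n) F) : Matrix (Fin n) (Fin n) F) := by
  haveI : Nonempty (Fin n) := ⟨⟨0, hn⟩⟩
  obtain ⟨Ψ, hΨ, -⟩ := exists_algHom m k φ hc
  have hsurj : Function.Surjective Ψ := by
    have : Ψ.range = ⊤ := by
      rw [eq_top_iff, ← hgen]
      apply Algebra.adjoin_le
      intro x hx
      obtain ⟨i, a, rfl⟩ := Set.mem_iUnion.mp hx
      exact ⟨pos i a, hΨ i a⟩
    intro y
    have hy : y ∈ Ψ.range := by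
      rw [this]
      trivial
    exact hy
  have hinj : Function.Injective Ψ := by
    rcases isEmpty_or_nonempty (Fin k → Fin m) with hI | hI
    · intro a b _
      exact Subsingleton.elim a b
    · exact (Ψ : Matrix (Fin k → Fin m) (Fin k → Fin m) F →+* Matrix (Fin n) (Fin n) F).injective
  obtain ⟨Q, Q', hQQ', hQ'Q, hcard, hconj⟩ := algEquiv_eq_conj (AlgEquiv.ofBijective Ψ ⟨hinj, hsurj⟩)
  let e : Fin n ≃ (Fin k → Fin m) := (Fintype.equivOfCardEq hcard).symm
  have hPP' : Q.submatrix id e * Q'.submatrix e id = 1 := by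
    rw [Matrix.submatrix_mul_equiv, hQQ']
    rfl
  have hP'P : Q'.submatrix e id * Q.submatrix id e = 1 := by
    have := Matrix.submatrix_mul_equiv Q' Q e (Equiv.refl (Fin n)) e
    rw [hQ'Q, Matrix.submatrix_one_equiv] at this
    exact this
  refine ⟨e, ⟨Q.submatrix id e, Q'.submatrix e id, hPP', hP'P⟩, fun i a => ?_⟩
  have h1 : φ i a = Q * pos i a * Q' := by
    rw [← hΨ i a]
    exact hconj (pos i a)
  have h2 : Matrix.reindex e.symm e.symm (pos i a) = (pos i a).submatrix e e := by
    rw [Matrix.reindex_apply, Equiv.symm_symm]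
  show φ i a = Q.submatrix id e * Matrix.reindex e.symm e.symm (pos i a) * Q'.submatrix e id
  rw [h2, Matrix.submatrix_mul_equiv, Matrix.submatrix_mul_equiv, h1]
  rfl

end Cfsg.Agent.Lib.Helper10.S5630Tens
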