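import Mathlib
import Cfsg.Agent.Lib.Helper22.AschC7Defs
import Cfsg.Agent.Lib.Helper22.S5630I7A
import Cfsg.Agent.Lib.Helper10.S5630Tens

/-!
# S5630 I7 TENS (helper10): exact signature of `Cfsg.Agent.Lib.Helper22.AschC7.exists_tens`
-/

set_option autoImplicit false

namespace Cfsg.Agent.Lib.Helper10.S5630I7Tens

open Matrix Cfsg.Geo Cfsg.Agent.Lib.Helper7.Asch Cfsg.Agent.Lib.Helper22.AschC7

variable {F : Type*} [Field F] {n : ℕ}

theorem pos_eq {m t : ℕ} (i : Fin t) (a : Matrix (Fin m) (Fin m) F) :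
    Cfsg.Agent.Lib.Helper10.S5630Tens.pos i a = Cfsg.Agent.Lib.Helper22.AschC7.pos i a := by
  ext x y
  rw [Cfsg.Agent.Lib.Helper10.S5630Tens.pos_apply, Cfsg.Agent.Lib.Helper22.S5630I7A.pos_apply]

/-- **TENS** `t` pairwise commuting copies of `M_m(F)` generating `M_n(F)` are, after one reindexing and one change of
basis, the `t` position algebras -/
theorem exists_tens (hn : 0 < n) (m t : ℕ)
    (φ : Fin t → (Matrix (Fin m) (Fin m) F →ₐ[F] Matrix (Fin n) (Fin n) F))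
    (hc : ∀ i j, i ≠ j → ∀ a b, φ i a * φ j b = φ j b * φ i a)
    (hgen : Algebra.adjoin F (⋃ i, Set.range (φ i)) = ⊤) :
    ∃ (e : Fin n ≃ (Fin t → Fin m)) (P : GL (Fin n) F), ∀ i a, φ i a =
      (P : Matrix (Fin n) (Fin n) F) * Matrix.reindex e.symm e.symm (pos i a) *
        ((P⁻¹ : GL (Fin n) F) : Matrix (Fin n) (Fin n) F) := by
  obtain ⟨e, P, h⟩ := Cfsg.Agent.Lib.Helper10.S5630Tens.exists_tens' hn m t φ hc hgen
  refine ⟨e, P, fun i a => ?_⟩
  rw [h i a, pos_eq]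

end Cfsg.Agent.Lib.Helper10.S5630I7Tens
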