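import Mathlib

/-!
# S5630 I7, algebraic core (helper10): a subalgebra `A` of `M_κ(F)` (`F` finite) which together with a commuting
subalgebra `B` generates `M_κ(F)` is the isomorphic image of a full matrix algebra `M_m(F)`.
-/

set_option autoImplicit false

namespace Cfsg.Agent.Lib.Helper10.S5630Struct

open Matrix

variable {F : Type*} [Field F] {κ : Type} [Fintype κ] [DecidableEq κ]

/-- the subalgebra of matrices mapping the subspace `U` into itself -/
def stab (U : Submodule F (κ → F)) : Subalgebra F (Matrix κ κ F) where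
  carrier := {x | ∀ u ∈ U, x *ᵥ u ∈ U}
  mul_mem' := fun {x y} hx hy u hu => by
    rw [← Matrix.mulVec_mulVec]
    exact hx _ (hy u hu)
  one_mem' := fun u hu => by rwa [Matrix.one_mulVec]
  add_mem' := fun {x y} hx hy u hu => by
    rw [Matrix.add_mulVec]
    exact U.add_mem (hx u hu) (hy u hu)
  zero_mem' := fun u _ => by
    rw [Matrix.zero_mulVec]
    exact U.zero_mem
  algebraMap_mem' := fun c u hu => by
    rw [Algebra.algebraMap_eq_smul_one, Matrix.smul_mulVec, Matrix.one_mulVec]
    exact U.smul_mem c hu

theorem mem_stab (U : Submodule F (κ → F)) (x : Matrix κ κ F) : x ∈ stab U ↔ ∀ u ∈ U, x *ᵥ u ∈ U := Iff.rfl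

/-- for `u ≠ 0` every vector is `x *ᵥ u` for some matrix `x` -/
theorem exists_mulVec_eq (u v : κ → F) (hu : u ≠ 0) : ∃ x : Matrix κ κ F, x *ᵥ u = v := by
  obtain ⟨i, hi⟩ : ∃ i, u i ≠ 0 := by
    by_contra h
    push Not at h
    exact hu (funext h)
  refine ⟨Matrix.of fun r c => if c = i then v r * (u i)⁻¹ else 0, ?_⟩
  funext r
  simp only [Matrix.mulVec, dotProduct, Matrix.of_apply]
  rw [Finset.sum_eq_single i]
  · rw [if_pos rfl, mul_assoc, inv_mul_cancel₀ hi, mul_one]
  · intro c _ hc
    rw [if_neg hc, zero_mul]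
  · intro h
    exact absurd (Finset.mem_univ i) h

/-- a non-zero subspace invariant under two subalgebras generating everything is everything -/
theorem eq_top_of_invariant (A B : Subalgebra F (Matrix κ κ F)) (hgen : A ⊔ B = ⊤) (U : Submodule F (κ → F))
    (hA : ∀ a ∈ A, ∀ u ∈ U, a *ᵥ u ∈ U) (hB : ∀ b ∈ B, ∀ u ∈ U, b *ᵥ u ∈ U) (hU : U ≠ ⊥) : U = ⊤ := by
  have hS : stab U = ⊤ := by
    apply top_le_iff.mp
    rw [← hgen]
    exact sup_le hA hB
  obtain ⟨u, hu, hu0⟩ := Submodule.exists_mem_ne_zero_of_ne_bot hU
  rw [Submodule.eq_top_iff']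
  intro v
  obtain ⟨x, hx⟩ := exists_mulVec_eq u v hu0
  have : x ∈ stab U := by
    rw [hS]
    trivial
  rw [← hx]
  exact this u hu

/-- a matrix commuting with two subalgebras generating everything is scalar -/
theorem scalar_of_commute (A B : Subalgebra F (Matrix κ κ F)) (hgen : A ⊔ B = ⊤) (z : Matrix κ κ F)
    (hA : ∀ a ∈ A, z * a = a * z) (hB : ∀ b ∈ B, z * b = b * z) : ∃ c : F, z = c • (1 : Matrix κ κ F) := by
  have hS : Subalgebra.centralizer F {z} = ⊤ := by
    apply top_le_iff.mp
    rw [← hgen]
    refine sup_le ?_ ?_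
    · intro a ha
      rw [Subalgebra.mem_centralizer_iff]
      intro y hy
      rw [Set.mem_singleton_iff] at hy
      rw [hy]
      exact hA a ha
    · intro b hb
      rw [Subalgebra.mem_centralizer_iff]
      intro y hy
      rw [Set.mem_singleton_iff] at hy
      rw [hy]
      exact hB b hb
  have hall : ∀ x : Matrix κ κ F, z * x = x * z := by
    intro x
    have : x ∈ Subalgebra.centralizer F {z} := by
      rw [hS]
      trivial
    rw [Subalgebra.mem_centralizer_iff] at this
    exact this z rfl
  have := Matrix.mem_range_scalar_of_commute_single (M := z) (fun i j _ => (hall _).symm)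
  obtain ⟨c, hc⟩ := this
  refine ⟨c, ?_⟩
  rw [← hc]
  ext i j
  simp [Matrix.scalar_apply, Matrix.diagonal_apply, Matrix.one_apply]

/-! ### Density in the endomorphism algebra of a finite module -/

section dens

variable {M : Type*} [AddCommGroup M] [Module F M]

/-- over a finite simple module the commutant of a subalgebra `R` lies in `R` (Jacobson density + little Wedderburn) -/
theorem mem_of_commute [Finite M] (R : Subalgebra F (Module.End F M)) [IsSimpleModule R M] (z : Module.End F M)
    (hz : ∀ r ∈ R, z * r = r * z) : z ∈ R := by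
  classical
  haveI : Finite (Module.End R M) :=
    Finite.of_injective (fun f : Module.End R M => (f : M → M)) DFunLike.coe_injective
  have hEcomm : ∀ x y : Module.End R M, x * y = y * x := by
    intro x y
    letI := littleWedderburn (Module.End R M)
    exact mul_comm x y
  let εz : Module.End R M :=
    { toFun := z
      map_add' := z.map_add
      map_smul' := fun r m => by
        exact congrArg (fun g : Module.End F M => g m) (hz r r.2) }
  let f : Module.End (Module.End R M) M :=
    { toFun := z
      map_add' := z.map_add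
      map_smul' := fun ε m => by
        have := congrArg (fun g : Module.End R M => g m) (hEcomm εz ε)
        simpa [εz] using this }
  obtain ⟨r, hr⟩ := Module.Finite.toModuleEnd_moduleEnd_surjective (R := R) (M := M) f
  have : z = (r : Module.End F M) := by
    apply LinearMap.ext
    intro m
    have := congrArg (fun g : Module.End (Module.End R M) M => g m) hr
    exact this.symm
  rw [this]
  exact r.2

/-- Burnside: a subalgebra acting simply with scalar commutant is everything -/
theorem eq_top_of_scalar_commutant [Finite M] (R : Subalgebra F (Module.End F M)) [IsSimpleModule R M]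
    (hscal : ∀ z : Module.End F M, (∀ r ∈ R, z * r = r * z) → ∃ c : F, z = c • (1 : Module.End F M)) :
    R = ⊤ := by
  classical
  rw [eq_top_iff]
  intro g _
  let f : Module.End (Module.End R M) M :=
    { toFun := g
      map_add' := g.map_add
      map_smul' := fun ε w => by
        let εF : Module.End F M :=
          { toFun := ε
            map_add' := ε.map_add
            map_smul' := fun c w => by
              have := ε.map_smul (algebraMap F R c) w
              simpa [Algebra.algebraMap_eq_smul_one] using this }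
        have hεF : ∀ r ∈ R, εF * r = r * εF := by
          intro r hr
          apply LinearMap.ext
          intro w
          exact ε.map_smul (⟨r, hr⟩ : R) w
        obtain ⟨c, hc⟩ := hscal εF hεF
        have hε : ∀ w, ε w = c • w := by
          intro w
          have := congrArg (fun h : Module.End F M => h w) hc
          simpa [εF] using this
        simp only [Module.End.smul_def, RingHom.id_apply]
        rw [hε, hε, g.map_smul] }
  obtain ⟨r, hr⟩ := Module.Finite.toModuleEnd_moduleEnd_surjective (R := R) (M := M) f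
  have h2 : g = (r : Module.End F M) := by
    apply LinearMap.ext
    intro w
    have := congrArg (fun h : Module.End (Module.End R M) M => h w) hr
    exact this.symm
  rw [h2]
  exact r.2

end dens

/-- `U` is invariant under the subalgebra `A` -/
def Inv (A : Subalgebra F (Matrix κ κ F)) (U : Submodule F (κ → F)) : Prop := ∀ a ∈ A, ∀ u ∈ U, a *ᵥ u ∈ U

/-- an element of `A` killing a non-zero `A`-invariant subspace is zero -/
theorem eq_zero_of_kills (A B : Subalgebra F (Matrix κ κ F)) (hcomm : ∀ a ∈ A, ∀ b ∈ B, a * b = b * a)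
    (hgen : A ⊔ B = ⊤) (W : Submodule F (κ → F)) (hWinv : Inv A W) (hW : W ≠ ⊥) (a : Matrix κ κ F) (ha : a ∈ A)
    (h : ∀ w ∈ W, a *ᵥ w = 0) : a = 0 := by
  let U : Submodule F (κ → F) :=
    { carrier := {v | ∀ a' ∈ A, a *ᵥ (a' *ᵥ v) = 0}
      add_mem' := fun {x y} hx hy a' ha' => by
        rw [Matrix.mulVec_add, Matrix.mulVec_add, hx a' ha', hy a' ha', add_zero]
      zero_mem' := fun a' _ => by rw [Matrix.mulVec_zero, Matrix.mulVec_zero]
      smul_mem' := fun c x hx a' ha' => by
        rw [Matrix.mulVec_smul, Matrix.mulVec_smul, hx a' ha', smul_zero] }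
  have hUA : ∀ a'' ∈ A, ∀ u ∈ U, a'' *ᵥ u ∈ U := by
    intro a'' ha'' u hu a' ha'
    have h1 : a' *ᵥ (a'' *ᵥ u) = (a' * a'') *ᵥ u := Matrix.mulVec_mulVec _ _ _
    rw [h1]
    exact hu (a' * a'') (A.mul_mem ha' ha'')
  have hUB : ∀ b ∈ B, ∀ u ∈ U, b *ᵥ u ∈ U := by
    intro b hb u hu a' ha'
    have h1 : a' *ᵥ (b *ᵥ u) = b *ᵥ (a' *ᵥ u) := by
      rw [Matrix.mulVec_mulVec, Matrix.mulVec_mulVec, hcomm a' ha' b hb]
    have h2 : a *ᵥ (b *ᵥ (a' *ᵥ u)) = b *ᵥ (a *ᵥ (a' *ᵥ u)) := by
      rw [Matrix.mulVec_mulVec, hcomm a ha b hb, ← Matrix.mulVec_mulVec]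
    rw [h1, h2, hu a' ha', Matrix.mulVec_zero]
  have hU0 : U ≠ ⊥ := by
    obtain ⟨w, hw, hw0⟩ := Submodule.exists_mem_ne_zero_of_ne_bot hW
    intro hbot
    have : w ∈ U := by
      intro a' ha'
      exact h _ (hWinv a' ha' w hw)
    rw [hbot, Submodule.mem_bot] at this
    exact hw0 this
  have hUtop := eq_top_of_invariant A B hgen U hUA hUB hU0
  apply Matrix.toLin'.injective
  apply LinearMap.ext
  intro v
  have hv : v ∈ U := by
    rw [hUtop]
    trivial
  have := hv 1 A.one_mem
  rw [Matrix.one_mulVec] at this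
  rw [Matrix.toLin'_apply, this]
  simp

/-- the action of `A` on an invariant subspace -/
noncomputable def rep (A : Subalgebra F (Matrix κ κ F)) (W : Submodule F (κ → F)) (hW : Inv A W) :
    A →ₐ[F] Module.End F W where
  toFun a := (Matrix.toLin' (a : Matrix κ κ F)).restrict (fun w hw => by
    rw [Matrix.toLin'_apply]
    exact hW a a.2 w hw)
  map_one' := by
    apply LinearMap.ext
    intro w
    apply Subtype.ext
    simp [LinearMap.restrict_apply]
  map_mul' a a' := by
    apply LinearMap.ext
    intro w
    apply Subtype.ext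
    simp [LinearMap.restrict_apply, Matrix.toLin'_mul]
  map_zero' := by
    apply LinearMap.ext
    intro w
    apply Subtype.ext
    simp [LinearMap.restrict_apply]
  map_add' a a' := by
    apply LinearMap.ext
    intro w
    apply Subtype.ext
    simp [LinearMap.restrict_apply, Matrix.add_mulVec]
  commutes' c := by
    apply LinearMap.ext
    intro w
    apply Subtype.ext
    simp [LinearMap.restrict_apply, Algebra.algebraMap_eq_smul_one, Matrix.smul_mulVec]

theorem rep_apply (A : Subalgebra F (Matrix κ κ F)) (W : Submodule F (κ → F)) (hW : Inv A W) (a : A) (w : W) :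
    ((rep A W hW a w : W) : κ → F) = (a : Matrix κ κ F) *ᵥ (w : κ → F) := by
  simp [rep, LinearMap.restrict_apply]

section core

variable {M : Type*} [AddCommGroup M] [Module F M]

/-- the action of `A` on an invariant subspace `W`, transported to a module `M ≃ W` -/
noncomputable def repM (A : Subalgebra F (Matrix κ κ F)) (W : Submodule F (κ → F)) (hW : Inv A W)
    (e : W ≃ₗ[F] M) : A →ₐ[F] Module.End F M :=
  ((e.conjAlgEquiv F : Module.End F W ≃ₐ[F] Module.End F M) : Module.End F W →ₐ[F] Module.End F M).comp
    (rep A W hW)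

theorem repM_apply (A : Subalgebra F (Matrix κ κ F)) (W : Submodule F (κ → F)) (hW : Inv A W)
    (e : W ≃ₗ[F] M) (a : A) (x : M) :
    ((e.symm (repM A W hW e a x) : W) : κ → F) = (a : Matrix κ κ F) *ᵥ ((e.symm x : W) : κ → F) := by
  have : repM A W hW e a x = e (rep A W hW a (e.symm x)) := by
    simp [repM, LinearEquiv.conjAlgEquiv_apply]
  rw [this, LinearEquiv.symm_apply_apply, rep_apply]

/-- the image of `A` acts simply on a minimal invariant subspace -/
theorem isSimpleModule_range (A : Subalgebra F (Matrix κ κ F)) (W : Submodule F (κ → F)) (hWinv : Inv A W)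
    (hW0 : W ≠ ⊥) (hmin : ∀ U : Submodule F (κ → F), Inv A U → U ≤ W → U = ⊥ ∨ U = W) (e : W ≃ₗ[F] M) :
    IsSimpleModule (repM A W hWinv e).range M := by
  refine { exists_pair_ne := ⟨⊥, ⊤, ?_⟩, eq_bot_or_eq_top := ?_ }
  · intro h
    obtain ⟨w, hw, hw0⟩ := Submodule.exists_mem_ne_zero_of_ne_bot hW0
    have h1 : e ⟨w, hw⟩ ∈ (⊤ : Submodule (repM A W hWinv e).range M) := trivial
    rw [← h, Submodule.mem_bot] at h1
    have h2 : (⟨w, hw⟩ : W) = 0 := by
      apply e.injective
      rw [h1, map_zero]
    exact hw0 (congrArg Subtype.val h2)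
  · intro U
    let U' : Submodule F (κ → F) := ((U.restrictScalars F).comap (e : W →ₗ[F] M)).map W.subtype
    have hU'mem : ∀ v : κ → F, v ∈ U' ↔ ∃ w : W, e w ∈ U ∧ (w : κ → F) = v := by
      intro v
      simp [U']
    have hU'inv : Inv A U' := by
      intro a ha u hu
      rw [hU'mem] at hu ⊢
      obtain ⟨w, hw, rfl⟩ := hu
      refine ⟨e.symm (repM A W hWinv e ⟨a, ha⟩ (e w)), ?_, ?_⟩
      · rw [LinearEquiv.apply_symm_apply]
        exact U.smul_mem (⟨repM A W hWinv e ⟨a, ha⟩, ⟨⟨a, ha⟩, rfl⟩⟩ : (repM A W hWinv e).range) hw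
      · rw [repM_apply, LinearEquiv.symm_apply_apply]
    have hU'W : U' ≤ W := by
      intro v hv
      rw [hU'mem] at hv
      obtain ⟨w, _, rfl⟩ := hv
      exact w.2
    rcases hmin U' hU'inv hU'W with h | h
    · left
      rw [Submodule.eq_bot_iff]
      intro x hx
      have : ((e.symm x : W) : κ → F) ∈ U' := (hU'mem _).mpr ⟨e.symm x, by simpa using hx, rfl⟩
      rw [h, Submodule.mem_bot] at this
      have h2 : e.symm x = 0 := Subtype.ext this
      have := congrArg e h2
      simpa using this
    · right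
      rw [Submodule.eq_top_iff']
      intro x
      have : ((e.symm x : W) : κ → F) ∈ U' := by
        rw [h]
        exact (e.symm x).2
      obtain ⟨w', hw', hww'⟩ := (hU'mem _).mp this
      rw [Subtype.ext hww'] at hw'
      simpa using hw'

/-- the action of `A` on a minimal invariant subspace is an isomorphism onto the full endomorphism algebra -/
theorem repM_bijective [Finite M] (A B : Subalgebra F (Matrix κ κ F))
    (hcomm : ∀ a ∈ A, ∀ b ∈ B, a * b = b * a) (hgen : A ⊔ B = ⊤) (W : Submodule F (κ → F)) (hWinv : Inv A W)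
    (hW0 : W ≠ ⊥) (hmin : ∀ U : Submodule F (κ → F), Inv A U → U ≤ W → U = ⊥ ∨ U = W) (e : W ≃ₗ[F] M) :
    Function.Bijective (repM A W hWinv e) := by
  have hρ := repM_apply A W hWinv e
  -- faithfulness
  have hinj : Function.Injective (repM A W hWinv e) := by
    rw [injective_iff_map_eq_zero]
    intro a ha
    apply Subtype.ext
    apply eq_zero_of_kills A B hcomm hgen W hWinv hW0 (a : Matrix κ κ F) a.2
    intro w hw
    have := hρ a (e ⟨w, hw⟩)
    rw [ha] at this
    simpa using this.symm
  haveI hsimple : IsSimpleModule (repM A W hWinv e).range M := isSimpleModule_range A W hWinv hW0 hmin e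
  -- the commutant of the image is scalar
  have hscal : ∀ z : Module.End F M, (∀ r ∈ (repM A W hWinv e).range, z * r = r * z) →
      ∃ c : F, z = c • (1 : Module.End F M) := by
    intro z hz
    obtain ⟨a, ha⟩ := mem_of_commute (repM A W hWinv e).range z hz
    have h1 : repM A W hWinv e a = z := ha
    have hcen : ∀ a' : A, a * a' = a' * a := by
      intro a'
      apply hinj
      rw [map_mul, map_mul, h1]
      exact hz (repM A W hWinv e a') ⟨a', rfl⟩
    obtain ⟨c, hc⟩ := scalar_of_commute A B hgen (a : Matrix κ κ F)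
      (fun a' ha' => congrArg Subtype.val (hcen ⟨a', ha'⟩))
      (fun b hb => hcomm a a.2 b hb)
    refine ⟨c, ?_⟩
    rw [← h1]
    apply LinearMap.ext
    intro x
    apply e.symm.injective
    apply Subtype.ext
    rw [hρ, hc, Matrix.smul_mulVec, Matrix.one_mulVec]
    simp
  -- Burnside: the image is everything
  have htop := eq_top_of_scalar_commutant (repM A W hWinv e).range hscal
  refine ⟨hinj, fun g => ?_⟩
  have : g ∈ (repM A W hWinv e).range := by
    rw [htop]
    trivial
  obtain ⟨a, ha⟩ := this
  exact ⟨a, ha⟩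

end core

theorem exists_matrix_algHom_of_nonempty [Finite F] [Nonempty κ] (A B : Subalgebra F (Matrix κ κ F))
    (hcomm : ∀ a ∈ A, ∀ b ∈ B, a * b = b * a) (hgen : A ⊔ B = ⊤) :
    ∃ (m : ℕ) (φ : Matrix (Fin m) (Fin m) F →ₐ[F] Matrix κ κ F), Function.Injective φ ∧ φ.range = A := by
  classical
  -- a minimal non-zero invariant subspace
  obtain ⟨W, ⟨hW0, hWinv⟩, hWmin⟩ := wellFounded_lt.has_min
    {U : Submodule F (κ → F) | U ≠ ⊥ ∧ Inv A U}
    ⟨⊤, by
      obtain ⟨i⟩ := ‹Nonempty κ›
      intro h
      have h1 : (Pi.single i (1 : F) : κ → F) ∈ (⊤ : Submodule F (κ → F)) := trivial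
      rw [h, Submodule.mem_bot] at h1
      have := congrFun h1 i
      simp at this, fun a _ u _ => trivial⟩
  have hmin : ∀ U : Submodule F (κ → F), Inv A U → U ≤ W → U = ⊥ ∨ U = W := by
    intro U hU hUW
    by_cases h0 : U = ⊥
    · exact Or.inl h0
    · right
      by_contra hne
      exact hWmin U ⟨h0, hU⟩ (lt_of_le_of_ne hUW hne)
  let e : W ≃ₗ[F] (Fin (Module.finrank F W) → F) := (Module.finBasis F W).equivFun
  have hbij := repM_bijective A B hcomm hgen W hWinv hW0 hmin e
  let ρe : A ≃ₐ[F] Module.End F (Fin (Module.finrank F W) → F) := AlgEquiv.ofBijective (repM A W hWinv e) hbij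
  let θ : Matrix (Fin (Module.finrank F W)) (Fin (Module.finrank F W)) F ≃ₐ[F]
      Module.End F (Fin (Module.finrank F W) → F) := Matrix.toLinAlgEquiv'
  let g : Matrix (Fin (Module.finrank F W)) (Fin (Module.finrank F W)) F ≃ₐ[F] A := θ.trans ρe.symm
  refine ⟨Module.finrank F W, A.val.comp (g : _ →ₐ[F] A), ?_, ?_⟩
  · intro x y hxy
    apply g.injective
    apply Subtype.ext
    exact hxy
  · ext x
    constructor
    · rintro ⟨y, rfl⟩
      exact (g y).2
    · intro hx
      exact ⟨g.symm ⟨x, hx⟩, by simp⟩

/-- **STRUCT** a subalgebra `A` of `M_κ(F)`, `F` finite, generating `M_κ(F)` together with a commuting subalgebra `B`, is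
the isomorphic image of a full matrix algebra `M_m(F)` -/
theorem exists_matrix_algHom' [Finite F] (A B : Subalgebra F (Matrix κ κ F))
    (hcomm : ∀ a ∈ A, ∀ b ∈ B, a * b = b * a) (hgen : A ⊔ B = ⊤) :
    ∃ (m : ℕ) (φ : Matrix (Fin m) (Fin m) F →ₐ[F] Matrix κ κ F), Function.Injective φ ∧ φ.range = A := by
  rcases isEmpty_or_nonempty κ with hκ | hκ
  · refine ⟨0, { toFun := fun _ => 0
                 map_one' := Subsingleton.elim _ _
                 map_mul' := fun _ _ => by simp
                 map_zero' := rfl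
                 map_add' := fun _ _ => by simp
                 commutes' := fun c => Subsingleton.elim _ _ }, ?_, ?_⟩
    · intro x y _
      exact Subsingleton.elim x y
    · ext x
      constructor
      · intro _
        rw [Subsingleton.elim x 0]
        exact A.zero_mem
      · intro _
        exact ⟨0, Subsingleton.elim _ _⟩
  · exact exists_matrix_algHom_of_nonempty A B hcomm hgen

/-- **STRUCT**, `Fin n` version -/
theorem exists_matrix_algHom [Fintype F] {n : ℕ} (A B : Subalgebra F (Matrix (Fin n) (Fin n) F))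
    (hcomm : ∀ a ∈ A, ∀ b ∈ B, a * b = b * a) (hgen : A ⊔ B = ⊤) :
    ∃ (m : ℕ) (φ : Matrix (Fin m) (Fin m) F →ₐ[F] Matrix (Fin n) (Fin n) F), Function.Injective φ ∧ φ.range = A :=
  exists_matrix_algHom' A B hcomm hgen

end Cfsg.Agent.Lib.Helper10.S5630Struct
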