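import Mathlib
import Cfsg.Agent.Lib.Helper28.SpSubfDefs

/-!
# S5650 FO-IIIC (for helper28): squares of short-root parameters are long-root parameters

`sq_long_of_short`: if `d` is a short-root parameter of `M ≥ H1`, then `T(rv v, d²) ∈ M` for some
nonzero rational `v`.
-/

set_option autoImplicit false

namespace Cfsg.Agent.Lib.Helper10.S5650FOIIIC

open Matrix Cfsg.Agent.Lib.Helper6 Cfsg.Agent.Lib.Helper13 Cfsg.Agent.Lib.Helper28.SpSubf

variable {F : Type*} [Field F] {m : ℕ}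

local notation "ff" => Cfsg.sympForm m F

/-- `T(a + d v, 1) = T(a,1) T(v,d²) sieg(d • a, v)` for orthogonal `a`, `v` -/
theorem transv_add_smul (a v : Fin m ⊕ Fin m → F) (hav : ff a v = 0) (d : F) :
    sympTransvGL (a + d • v) 1 = sympTransvGL a 1 * sympTransvGL v (d ^ 2) * sieg (d • a) v := by
  have hva : ff v a = 0 := by rw [sympForm_swap, hav, neg_zero]
  apply gl_ext
  intro x
  have h0 : ff (d • a) v = 0 := by rw [sympForm_smul_left, hav, mul_zero]
  rw [Units.val_mul, Units.val_mul, ← mulVec_mulVec, ← mulVec_mulVec, sieg_mulVec _ _ h0,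
    sympTransvGL_mulVec, sympTransvGL_mulVec, sympTransvGL_mulVec]
  simp only [sympForm_add_left, sympForm_add_right, sympForm_smul_left, sympForm_smul_right,
    sympForm_self, hav, hva]
  module

theorem sq_long_of_short (hm : 2 ≤ m) (K : Subfield F) (M : Subgroup (GL (Fin m ⊕ Fin m) F))
    (hHM : H1 K m ≤ M) (hMS : M ≤ Cfsg.spGL m F) (d : F) (hd : Short K M d) :
    ∃ v : Fin m ⊕ Fin m → K, v ≠ 0 ∧ sympTransvGL (rv K v) (d ^ 2) ∈ M := by
  classical
  obtain ⟨i0, hi0⟩ : ∃ i0 : Fin m, i0 = ⟨0, by omega⟩ := ⟨_, rfl⟩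
  obtain ⟨i1, hi1⟩ : ∃ i1 : Fin m, i1 = ⟨1, by omega⟩ := ⟨_, rfl⟩
  have h01 : i0 ≠ i1 := by
    rw [hi0, hi1]
    intro h
    have := congrArg Fin.val h
    simp at this
  obtain ⟨a, ha⟩ : ∃ a : Fin m ⊕ Fin m → K, a = Pi.single (Sum.inr i0) 1 := ⟨_, rfl⟩
  obtain ⟨u, hu⟩ : ∃ u : Fin m ⊕ Fin m → K, u = Pi.single (Sum.inl i0) 1 := ⟨_, rfl⟩
  obtain ⟨v, hv⟩ : ∃ v : Fin m ⊕ Fin m → K, v = Pi.single (Sum.inl i1) 1 := ⟨_, rfl⟩
  -- values of the form
  have hau : Cfsg.sympForm m K a u = 1 := by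
    rw [sympForm_eq_sum, ha, hu]
    simp [Pi.single_apply]
  have h10 : i1 ≠ i0 := fun h => h01 h.symm
  have hav : Cfsg.sympForm m K a v = 0 := by
    rw [sympForm_eq_sum, ha, hv]
    simp [Pi.single_apply, h10]
  have huv : Cfsg.sympForm m K u v = 0 := by
    rw [sympForm_eq_sum, hu, hv]
    simp [Pi.single_apply]
  have hu0 : u ≠ 0 := by
    intro h
    have := congrFun h (Sum.inl i0)
    rw [hu] at this
    simp at this
  have ha0 : a ≠ 0 := by
    intro h
    have := congrFun h (Sum.inr i0)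
    rw [ha] at this
    simp at this
  have hv0 : v ≠ 0 := by
    intro h
    have := congrFun h (Sum.inl i1)
    rw [hv] at this
    simp at this
  have hvu : ∀ k : K, v ≠ k • u := by
    intro k h
    have := congrFun h (Sum.inl i1)
    rw [hv, hu] at this
    simp [Pi.single_apply, h01] at this
  have hva : ∀ k : K, v ≠ k • a := by
    intro k h
    have := congrFun h (Sum.inl i1)
    rw [hv, ha] at this
    simp [Pi.single_apply] at this
  -- lift to `F`
  have hau' : ff (rv K a) (rv K u) = 1 := by rw [sympForm_rv, hau]; rfl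
  have hav' : ff (rv K a) (rv K v) = 0 := by rw [sympForm_rv, hav]; rfl
  have huv' : ff (rv K u) (rv K v) = 0 := by rw [sympForm_rv, huv]; rfl
  -- the short root element `s`
  obtain ⟨s, hs⟩ : ∃ s : GL (Fin m ⊕ Fin m) F, s = sieg (d • rv K u) (rv K v) := ⟨_, rfl⟩
  have hsM : s ∈ M := by rw [hs]; exact hd u v hu0 hvu huv
  have hsa : (s : Matrix (Fin m ⊕ Fin m) (Fin m ⊕ Fin m) F) *ᵥ rv K a = rv K a + d • rv K v := by
    have h0 : ff (d • rv K u) (rv K v) = 0 := by rw [sympForm_smul_left, huv', mul_zero]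
    rw [hs, sieg_mulVec _ _ h0, sympForm_smul_right, hau', hav']
    module
  -- the conjugate transvection
  have h1 : sympTransvGL (rv K a + d • rv K v) 1 ∈ M := by
    rw [← hsa, ← conj_sympTransvGL s (hMS hsM)]
    exact M.mul_mem (M.mul_mem hsM (hHM (rat_transv_mem_one K a))) (M.inv_mem hsM)
  rw [transv_add_smul _ _ hav' d] at h1
  -- peel off the two outer factors
  have h2 : sympTransvGL (rv K a) 1 ∈ M := hHM (rat_transv_mem_one K a)
  have h3 : sieg (d • rv K a) (rv K v) ∈ M := hd a v ha0 hva hav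
  refine ⟨v, hv0, ?_⟩
  have h4 : sympTransvGL (rv K v) (d ^ 2) =
      (sympTransvGL (rv K a) 1)⁻¹ *
        (sympTransvGL (rv K a) 1 * sympTransvGL (rv K v) (d ^ 2) * sieg (d • rv K a) (rv K v)) *
        (sieg (d • rv K a) (rv K v))⁻¹ := by group
  rw [h4]
  exact M.mul_mem (M.mul_mem (M.inv_mem h2) h1) (M.inv_mem h3)

end Cfsg.Agent.Lib.Helper10.S5650FOIIIC
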