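import Mathlib
import Cfsg.Agent.Lib.Helper28.SpSubfDefs

/-!
# S5650 FO-IIIS (for helper28): short-root parameters

`short_of_long` (a long-root parameter is a short-root parameter), `short_add` (short-root
parameters are closed under addition) and `short_rat` (rational scalars are short-root
parameters).
-/

set_option autoImplicit false

namespace Cfsg.Agent.Lib.Helper10.S5650FOIIIS

open Matrix Cfsg.Agent.Lib.Helper6 Cfsg.Agent.Lib.Helper13 Cfsg.Agent.Lib.Helper28.SpSubf

variable {F : Type*} [Field F] {m : ℕ}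

local notation "ff" => Cfsg.sympForm m F

/-- `sieg (a • u) v = T(u+v,a) T(u,-a) T(v,-a)` for orthogonal `u`, `v` -/
theorem sieg_smul_eq (u v : Fin m ⊕ Fin m → F) (huv : ff u v = 0) (a : F) :
    sieg (a • u) v = sympTransvGL (u + v) a * sympTransvGL u (-a) * sympTransvGL v (-a) := by
  have hvu : ff v u = 0 := by rw [sympForm_swap, huv, neg_zero]
  apply gl_ext
  intro x
  have h0 : ff (a • u) v = 0 := by rw [sympForm_smul_left, huv, mul_zero]
  rw [sieg_mulVec _ _ h0, Units.val_mul, Units.val_mul, ← mulVec_mulVec, ← mulVec_mulVec,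
    sympTransvGL_mulVec, sympTransvGL_mulVec, sympTransvGL_mulVec]
  simp only [sympForm_add_left, sympForm_add_right, sympForm_smul_left, sympForm_smul_right,
    sympForm_self, huv, hvu]
  module

/-- `sieg ((a+b) • u) v = sieg (a • u) v * sieg (b • u) v` for orthogonal `u`, `v` -/
theorem sieg_add_smul (u v : Fin m ⊕ Fin m → F) (huv : ff u v = 0) (a b : F) :
    sieg ((a + b) • u) v = sieg (a • u) v * sieg (b • u) v := by
  have hvu : ff v u = 0 := by rw [sympForm_swap, huv, neg_zero]
  apply gl_ext
  intro x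
  have h0 : ∀ c : F, ff (c • u) v = 0 := fun c => by rw [sympForm_smul_left, huv, mul_zero]
  rw [sieg_mulVec _ _ (h0 _), Units.val_mul, ← mulVec_mulVec, sieg_mulVec _ _ (h0 _),
    sieg_mulVec _ _ (h0 _)]
  simp only [sympForm_add_left, sympForm_add_right, sympForm_smul_left, sympForm_smul_right,
    sympForm_self, huv, hvu]
  module

theorem short_of_long (K : Subfield F) (M : Subgroup (GL (Fin m ⊕ Fin m) F)) (a : F)
    (ha : Long K M a) : Short K M a := by
  intro u v _ _ huv
  have huv' : ff (rv K u) (rv K v) = 0 := by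
    rw [sympForm_rv, huv]; rfl
  rw [sieg_smul_eq _ _ huv' a]
  have h1 : sympTransvGL (rv K u + rv K v) a ∈ M := by
    rw [← rv_add]; exact ha (u + v)
  have h2 : sympTransvGL (rv K u) (-a) ∈ M := by
    rw [← sympTransvGL_inv]; exact M.inv_mem (ha u)
  have h3 : sympTransvGL (rv K v) (-a) ∈ M := by
    rw [← sympTransvGL_inv]; exact M.inv_mem (ha v)
  exact M.mul_mem (M.mul_mem h1 h2) h3

theorem short_add (K : Subfield F) (M : Subgroup (GL (Fin m ⊕ Fin m) F)) (a b : F)
    (ha : Short K M a) (hb : Short K M b) : Short K M (a + b) := by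
  intro u v hu hv huv
  have huv' : ff (rv K u) (rv K v) = 0 := by
    rw [sympForm_rv, huv]; rfl
  rw [sieg_add_smul _ _ huv' a b]
  exact M.mul_mem (ha u v hu hv huv) (hb u v hu hv huv)

theorem short_rat (K : Subfield F) (M : Subgroup (GL (Fin m ⊕ Fin m) F)) (hHM : H1 K m ≤ M)
    (k : K) : Short K M (k : F) := by
  intro u v _ _ _
  rw [← rv_smul]
  exact hHM (rat_sieg_mem K (k • u) v)

end Cfsg.Agent.Lib.Helper10.S5650FOIIIS
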