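import Mathlib
import Cfsg.Agent.Lib.Helper9.USubDefs
import Cfsg.Agent.Lib.Helper9.USubF
import Cfsg.Agent.Lib.Helper9.SUGenF
import Cfsg.Agent.Lib.Helper13.SubfSU

/-!
# S5658 side B, FO-B1 (for helper7): an impure image of a rational isotropic vector

If `g ∈ SU n F q` is not in the subfield group of `K`, then some rational isotropic vector has an
image which is not a scalar multiple of a rational vector.  (Hermitian copy of
`Cfsg.Agent.Lib.Helper10.PureSingular`.)
-/

set_option autoImplicit false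
set_option linter.unusedSectionVars false
set_option linter.unusedVariables false

namespace Cfsg.Agent.Lib.Helper10.S5658BFOB1

open Matrix Cfsg.Agent.Lib.Helper6 Cfsg.Agent.S0779 Cfsg.Agent.S0781
open Cfsg.Agent.Lib.Helper6.SUG Cfsg.Agent.Lib.Helper13 Cfsg.Agent.Lib.Helper9.SUGen
open Cfsg.Agent.Lib.Helper9.USub

section gen
variable {F : Type*} [Field F] {n : ℕ}

/-- one step, for an abstract class `S` of rational vectors: from `v ≠ 0` with `A v ∈ l₀ • K^n`
to any `u` with `u`, `u + v` in the class -/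
theorem step' (K : Subfield F) (S : (Fin n → K) → Prop) (A : GL (Fin n) F)
    (hA : ∀ u : Fin n → K, S u → ∃ (l : F) (r : Fin n → K),
      (A : Matrix (Fin n) (Fin n) F) *ᵥ rvec K u = l • rvec K r)
    (l₀ : F) (hl₀ : l₀ ≠ 0) (v rv : Fin n → K) (hv0 : v ≠ 0)
    (hv : (A : Matrix (Fin n) (Fin n) F) *ᵥ rvec K v = l₀ • rvec K rv)
    (u : Fin n → K) (huu : S u) (hsum : S (u + v)) :
    ∃ r : Fin n → K, (A : Matrix (Fin n) (Fin n) F) *ᵥ rvec K u = l₀ • rvec K r := by
  have hinjA : ∀ x y : Fin n → F, A.val *ᵥ x = A.val *ᵥ y → x = y := by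
    intro x y hxy
    have := congrArg (fun w => (A⁻¹ : GL (Fin n) F).val *ᵥ w) hxy
    simpa [mulVec_mulVec, ← Units.val_mul] using this
  obtain ⟨μ, r, hu⟩ := hA u huu
  obtain ⟨ν, s, hus⟩ := hA (u + v) hsum
  rw [rvec_add, mulVec_add, hu, hv] at hus
  by_cases hD : ∃ k l : Fin n, r k * rv l - r l * rv k ≠ 0
  · obtain ⟨k, l, hkl⟩ := hD
    have hk := congrFun hus k
    have hl := congrFun hus l
    simp only [Pi.add_apply, Pi.smul_apply, smul_eq_mul, rvec] at hk hl
    obtain ⟨d, hd⟩ : ∃ d : K, d = rv k * r l - rv l * r k := ⟨_, rfl⟩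
    obtain ⟨X, hX⟩ : ∃ X : K, X = s k * r l - s l * r k := ⟨_, rfl⟩
    have hkey : ν * (X : F) = l₀ * (d : F) := by
      rw [hX, hd]
      push_cast
      linear_combination (r k : F) * hl - (r l : F) * hk
    have hd0 : d ≠ 0 := by
      rw [hd]
      intro h0
      apply hkl
      linear_combination -h0
    have hX0 : (X : F) ≠ 0 := by
      intro h0
      rw [h0, mul_zero] at hkey
      have h1 : (d : F) = 0 := by
        rcases mul_eq_zero.mp hkey.symm with h1 | h1
        · exact absurd h1 hl₀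
        · exact h1
      exact hd0 (by exact_mod_cast h1)
    have hν : ν = l₀ * ((d / X : K) : F) := by
      rw [Subfield.coe_div, mul_div_assoc', eq_div_iff hX0]
      exact hkey
    refine ⟨(d / X) • s - rv, ?_⟩
    rw [hu]
    have h3 : μ • rvec K r = ν • rvec K s - l₀ • rvec K rv := eq_sub_of_add_eq hus
    rw [h3, hν, rvec_sub, rvec_smul, smul_sub, smul_smul]
  · push Not at hD
    have hrv : ∃ l₁, rv l₁ ≠ 0 := by
      by_contra hne
      push Not at hne
      have h1 : rv = 0 := funext hne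
      rw [h1, rvec_zero, smul_zero] at hv
      apply hv0
      apply rvec_inj K
      rw [rvec_zero]
      apply hinjA
      rw [hv, mulVec_zero]
    obtain ⟨l₁, hl₁⟩ := hrv
    obtain ⟨κ, hκ⟩ : ∃ κ : K, κ = r l₁ / rv l₁ := ⟨_, rfl⟩
    have hr : r = κ • rv := by
      funext k
      have h1 := hD k l₁
      rw [Pi.smul_apply, smul_eq_mul, hκ, div_mul_eq_mul_div, eq_div_iff hl₁]
      linear_combination h1
    have hu2 : A.val *ᵥ rvec K u = A.val *ᵥ ((μ * (κ : F) / l₀) • rvec K v) := by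
      rw [mulVec_smul, hv, hu, hr, rvec_smul, smul_smul, smul_smul]
      congr 1
      field_simp
    have hu3 := hinjA _ _ hu2
    -- a nonzero coordinate of `v`
    obtain ⟨i₁, hi₁⟩ : ∃ i₁, v i₁ ≠ 0 := by
      by_contra hne
      push Not at hne
      exact hv0 (funext hne)
    have hc : μ * (κ : F) / l₀ = ((u i₁ / v i₁ : K) : F) := by
      have h1 := congrFun hu3 i₁
      simp only [rvec, Pi.smul_apply, smul_eq_mul] at h1
      have hvi : ((v i₁ : K) : F) ≠ 0 := by
        intro h0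
        exact hi₁ (by exact_mod_cast h0)
      rw [Subfield.coe_div, eq_div_iff hvi]
      exact h1.symm
    refine ⟨(u i₁ / v i₁) • rv, ?_⟩
    rw [hu, hr, rvec_smul, rvec_smul, smul_smul, smul_smul, ← hc]
    congr 1
    field_simp

end gen

section main
variable {F : Type*} [Field F] [Fintype F] {q q₀ n : ℕ}

local notation "hh" => Cfsg.hermForm n F q

/-- the rational vector `e_s + c e_t` -/
def EE (K : Subfield F) (s t : Fin n) (c : K) : Fin n → K :=
  Pi.single s 1 + c • Pi.single t 1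

theorem herm_EE (K : Subfield F) (s t : Fin n) (c : K) (y : Fin n → F) :
    hh (rvec K (EE K s t c)) y = (y s) ^ q + (c : F) * (y t) ^ q := by
  unfold EE
  rw [rvec_add, rvec_smul, rvec_single, rvec_single, herm_add_left, herm_smul_left,
    herm_single_left', herm_single_left']

theorem EE_apply_left (K : Subfield F) {s t : Fin n} (hst : s ≠ t) (c : K) :
    rvec K (EE K s t c) s = 1 := by
  unfold EE rvec
  simp [hst]

theorem EE_apply_right (K : Subfield F) {s t : Fin n} (hst : s ≠ t) (c : K) :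
    rvec K (EE K s t c) t = c := by
  unfold EE rvec
  simp [hst.symm]

theorem EE_iso (K : Subfield F) {s t : Fin n} (hst : s ≠ t) (c : K)
    (hc : (c : F) * (c : F) ^ q = -1) :
    hh (rvec K (EE K s t c)) (rvec K (EE K s t c)) = 0 := by
  rw [herm_EE, EE_apply_left K hst, EE_apply_right K hst, one_pow, hc]
  ring

theorem exists_impure_image {K : Subfield F} [Fintype K] (D : SubD q q₀ K) (hn : 13 ≤ n)
    (g : ↥(Cfsg.SU n F q))
    (hgH : suGL n F q g ∉ Cfsg.Geo.subfieldSubgroup K (1 : GL (Fin n) F)) :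
    ∃ u : Fin n → K, hh (rvec K u) (rvec K u) = 0 ∧ ¬ Pure K (av g (rvec K u)) := by
  classical
  by_contra hcon
  push Not at hcon
  apply hgH
  have hF := D.hF
  have hq0 : q ≠ 0 := (q_pos hF).ne'
  -- the class of rational isotropic vectors
  set S : (Fin n → K) → Prop := fun u => hh (rvec K u) (rvec K u) = 0 with hS
  set A : GL (Fin n) F := suGL n F q g with hAdef
  have hAv : ∀ x : Fin n → F, A.val *ᵥ x = av g x := fun x => rfl
  have hA : ∀ u : Fin n → K, S u → ∃ (l : F) (r : Fin n → K),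
      (A : Matrix (Fin n) (Fin n) F) *ᵥ rvec K u = l • rvec K r := by
    intro u hu
    obtain ⟨l, r, hlr⟩ := hcon u hu
    exact ⟨l, r, by rw [hAv]; exact hlr⟩
  have hinjA : ∀ x y : Fin n → F, A.val *ᵥ x = A.val *ᵥ y → x = y := by
    intro x y hxy
    have := congrArg (fun w => (A⁻¹ : GL (Fin n) F).val *ᵥ w) hxy
    simpa [mulVec_mulVec, ← Units.val_mul] using this
  -- field elements
  obtain ⟨a, haK, ha⟩ := SubD_exists_norm D (-1) (K.neg_mem K.one_mem)
    (neg_ne_zero.mpr one_ne_zero) (by rw [neg_pow_q hF, one_pow])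
  obtain ⟨l, hlK, hl⟩ := SubD_exists_ne D
  obtain ⟨ζ, hζK, hζ0, hζ⟩ := SubD_exists_zeta D
  have hl0 : l ≠ 0 := by
    intro h0
    apply hl
    rw [h0, zero_pow hq0]
  have hlq0 : l ^ q ≠ 0 := pow_ne_zero q hl0
  have ha0 : a ≠ 0 := by
    intro h0
    rw [h0, zero_mul] at ha
    exact one_ne_zero (neg_eq_zero.mp ha.symm)
  obtain ⟨a', ha'def⟩ : ∃ a' : F, a' = a * (l ^ q / l) := ⟨_, rfl⟩
  have ha'K : a' ∈ K := by
    rw [ha'def]
    exact K.mul_mem haK (K.div_mem (K.pow_mem hlK q) hlK)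
  have ha' : a' * a' ^ q = -1 := by
    rw [ha'def, mul_pow, div_pow, pow_q_q hF]
    have : a * (l ^ q / l) * (a ^ q * (l / l ^ q)) = a * a ^ q := by
      field_simp
    rw [this, ha]
  have haa' : a ≠ a' := by
    intro h0
    apply hl
    have h1 : a * 1 = a * (l ^ q / l) := by rw [mul_one, ← ha'def]; exact h0
    have h2 := mul_left_cancel₀ ha0 h1
    rw [eq_div_iff hl0, one_mul] at h2
    exact h2.symm
  -- two indices
  obtain ⟨i0, hi0⟩ : ∃ i0 : Fin n, i0 = ⟨0, by omega⟩ := ⟨_, rfl⟩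
  obtain ⟨i1, hi1⟩ : ∃ i1 : Fin n, i1 = ⟨1, by omega⟩ := ⟨_, rfl⟩
  have h01 : i0 ≠ i1 := by
    rw [hi0, hi1]
    intro h
    simp [Fin.ext_iff] at h
  -- the base vector
  obtain ⟨e₀, he₀def⟩ : ∃ e₀ : Fin n → K, e₀ = EE K i0 i1 ⟨a, haK⟩ := ⟨_, rfl⟩
  have he₀ : S e₀ := by
    rw [he₀def]
    exact EE_iso K h01 _ ha
  have he₀0 : e₀ ≠ 0 := by
    intro h0
    have h1 := EE_apply_left K h01 (⟨a, haK⟩ : K)
    rw [← he₀def, h0, rvec_zero] at h1
    exact zero_ne_one h1
  obtain ⟨l₀, r₀, h₀⟩ := hA e₀ he₀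
  have hl₀ : l₀ ≠ 0 := by
    intro h0
    rw [h0, zero_smul] at h₀
    apply he₀0
    apply rvec_inj K
    rw [rvec_zero]
    apply hinjA
    rw [h₀, mulVec_zero]
  -- all rational isotropic vectors
  have hsing : ∀ u : Fin n → K, S u →
      ∃ r : Fin n → K, A.val *ᵥ rvec K u = l₀ • rvec K r := by
    intro u huu
    have huu' : hh (rvec K u) (rvec K u) = 0 := huu
    have he₀' : hh (rvec K e₀) (rvec K e₀) = 0 := he₀
    obtain ⟨μ, hμ⟩ : ∃ μ : F, μ = hh (rvec K u) (rvec K e₀) := ⟨_, rfl⟩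
    have hμK : μ ∈ K := by rw [hμ]; exact herm_rvec_mem D u e₀
    have hμ' : hh (rvec K e₀) (rvec K u) = μ ^ q := by rw [hμ, herm_conj hF]
    by_cases hμ0 : μ = 0
    · apply step' K S A hA l₀ hl₀ e₀ r₀ he₀0 h₀ u huu
      change hh (rvec K (u + e₀)) (rvec K (u + e₀)) = 0
      rw [rvec_add, herm_add_left, herm_add_right hF, herm_add_right hF, huu', he₀', hμ', ← hμ,
        hμ0, zero_pow hq0]
      ring
    · have hμq0 : μ ^ q ≠ 0 := pow_ne_zero q hμ0
      obtain ⟨c, hc⟩ : ∃ c : K, (c : F) = ζ / μ ^ q :=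
        ⟨⟨ζ / μ ^ q, K.div_mem hζK (K.pow_mem hμK q)⟩, rfl⟩
      have hc0 : c ≠ 0 := by
        intro h0
        rw [h0] at hc
        have : ζ / μ ^ q ≠ 0 := div_ne_zero hζ0 hμq0
        exact this hc.symm
      have hv0 : c • e₀ ≠ 0 := smul_ne_zero hc0 he₀0
      have hv : A.val *ᵥ rvec K (c • e₀) = l₀ • rvec K (c • r₀) := by
        rw [rvec_smul, mulVec_smul, h₀, rvec_smul, smul_smul, smul_smul, mul_comm]
      apply step' K S A hA l₀ hl₀ (c • e₀) (c • r₀) hv0 hv u huu
      change hh (rvec K (u + c • e₀)) (rvec K (u + c • e₀)) = 0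
      rw [rvec_add, rvec_smul, herm_add_left, herm_add_right hF, herm_add_right hF, huu',
        herm_smul_left, herm_smul_right, herm_smul_right, herm_smul_left, he₀', hμ', ← hμ]
      have h1 : (c : F) * μ ^ q = ζ := by
        rw [hc, div_mul_cancel₀ _ hμq0]
      have h2 : (c : F) ^ q * μ = -ζ := by
        have := congrArg (fun x => x ^ q) h1
        simp only [mul_pow, pow_q_q hF, hζ] at this
        exact this
      rw [h1, h2]
      ring
  -- the rational vectors with image in `l₀ • K^n` form a subspace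
  let W : Submodule K (Fin n → K) :=
    { carrier := {u | ∃ r : Fin n → K, A.val *ᵥ rvec K u = l₀ • rvec K r}
      add_mem' := by
        rintro x y ⟨r₁, h1⟩ ⟨r₂, h2⟩
        exact ⟨r₁ + r₂, by rw [rvec_add, mulVec_add, h1, h2, rvec_add, smul_add]⟩
      zero_mem' := ⟨0, by rw [rvec_zero, mulVec_zero, smul_zero]⟩
      smul_mem' := by
        rintro k x ⟨r₁, h1⟩
        exact ⟨k • r₁, by rw [rvec_smul, mulVec_smul, h1, rvec_smul, smul_smul, smul_smul,
          mul_comm]⟩ }
  have hWmem : ∀ u : Fin n → K, u ∈ W ↔ ∃ r : Fin n → K, A.val *ᵥ rvec K u = l₀ • rvec K r :=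
    fun u => Iff.rfl
  have hsingle : ∀ k : Fin n, (Pi.single k (1 : K) : Fin n → K) ∈ W := by
    intro k
    obtain ⟨i, hik⟩ : ∃ i : Fin n, i ≠ k := by
      by_cases hk : k = i0
      · exact ⟨i1, by rw [hk]; exact h01.symm⟩
      · exact ⟨i0, fun h => hk h.symm⟩
    have h1 : EE K i k ⟨a, haK⟩ ∈ W := (hWmem _).mpr (hsing _ (EE_iso K hik _ ha))
    have h2 : EE K i k ⟨a', ha'K⟩ ∈ W := (hWmem _).mpr (hsing _ (EE_iso K hik _ ha'))
    have hd : (⟨a, haK⟩ : K) - ⟨a', ha'K⟩ ≠ 0 := by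
      intro h0
      apply haa'
      have := congrArg (fun x : K => (x : F)) (sub_eq_zero.mp h0)
      exact this
    have h3 : (Pi.single k (1 : K) : Fin n → K) =
        ((⟨a, haK⟩ : K) - ⟨a', ha'K⟩)⁻¹ • (EE K i k ⟨a, haK⟩ - EE K i k ⟨a', ha'K⟩) := by
      unfold EE
      rw [add_sub_add_left_eq_sub, ← sub_smul, smul_smul, inv_mul_cancel₀ hd, one_smul]
    rw [h3]
    exact W.smul_mem _ (W.sub_mem h1 h2)
  have key : ∀ u : Fin n → K, ∃ r : Fin n → K, A.val *ᵥ rvec K u = l₀ • rvec K r := by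
    intro u
    rw [← hWmem]
    have hu : u = ∑ k, u k • (Pi.single k (1 : K) : Fin n → K) := by
      funext j
      simp [Finset.sum_apply, Pi.single_apply]
    rw [hu]
    exact W.sum_mem (fun k _ => W.smul_mem _ (hsingle k))
  obtain ⟨l', B, hl', hB⟩ := exists_rational_of_pure (by omega : 0 < n) K A
    (fun u => ⟨l₀, (key u).choose, (key u).choose_spec⟩)
  refine mem_subfieldSubgroup_of_eq K 1 A l' hl' B ?_
  rw [inv_one, one_mul, mul_one]
  exact hB

end main

end Cfsg.Agent.Lib.Helper10.S5658BFOB1
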