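import Mathlib
import Cfsg.Agent.Lib.Helper13.OSubDefs
import Cfsg.Agent.Lib.Helper13.OSubBridge

/-!
# S5659 FO-C (for helper13): linear algebra of a nondegenerate symmetric form

`SymF.exists_perp_ne` (a vector orthogonal to `a` but not to `b`, when `b` is not a multiple of
`a`) and `SymF.exists_duals` (dual vectors of an independent pair).
-/

set_option autoImplicit false
set_option linter.unusedSectionVars false
set_option linter.unusedVariables false

namespace Cfsg.Agent.Lib.Helper10.S5659FOC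

open Matrix Module Cfsg.Agent.Lib.Helper13

section geo
variable {n : ℕ} {K' : Type*} [Field K'] {f : (Fin n → K') → (Fin n → K') → K'}

/-- FO-GEO1 -/
theorem SymF.exists_perp_ne (hf : SymF f) {a b : Fin n → K'} (hb : ∀ k : K', b ≠ k • a) :
    ∃ x, f a x = 0 ∧ f b x ≠ 0 := by
  by_cases ha : a = 0
  · have hb0 : b ≠ 0 := by
      intro h0
      apply hb 0
      rw [h0, zero_smul]
    obtain ⟨y, hy⟩ := hf.nd b hb0
    exact ⟨y, by rw [ha, hf.zero_left], hy⟩
  · obtain ⟨y, hy⟩ := hf.nd a ha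
    have hne : b - (f b y / f a y) • a ≠ 0 := by
      intro h0
      exact hb (f b y / f a y) (sub_eq_zero.mp h0)
    obtain ⟨w, hw⟩ := hf.nd _ hne
    refine ⟨w - (f a w / f a y) • y, ?_, ?_⟩
    · rw [hf.sub_right, hf.smul_right]
      field_simp
      ring
    · rw [hf.sub_right, hf.smul_right]
      rw [hf.sub_left, hf.smul_left] at hw
      intro h0
      apply hw
      rw [← h0]
      field_simp

/-- FO-GEO2 dual vectors of an independent pair -/
theorem SymF.exists_duals (hf : SymF f) {a b : Fin n → K'} (ha : a ≠ 0)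
    (hb : ∀ k : K', b ≠ k • a) :
    ∃ a' b' : Fin n → K', f a a' = 1 ∧ f b a' = 0 ∧ f a b' = 0 ∧ f b b' = 1 := by
  have ha' : ∀ k : K', a ≠ k • b := by
    intro k hk
    have hk0 : k ≠ 0 := by
      intro h0
      apply ha
      rw [hk, h0, zero_smul]
    apply hb k⁻¹
    rw [hk, smul_smul, inv_mul_cancel₀ hk0, one_smul]
  obtain ⟨x, hx1, hx2⟩ := SymF.exists_perp_ne hf hb
  obtain ⟨x', hx1', hx2'⟩ := SymF.exists_perp_ne hf ha'
  refine ⟨(f a x')⁻¹ • x', (f b x)⁻¹ • x, ?_, ?_, ?_, ?_⟩
  · rw [hf.smul_right, inv_mul_cancel₀ hx2']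
  · rw [hf.smul_right, hx1', mul_zero]
  · rw [hf.smul_right, hx1, mul_zero]
  · rw [hf.smul_right, inv_mul_cancel₀ hx2]

end geo

end Cfsg.Agent.Lib.Helper10.S5659FOC
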