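import Mathlib
import Cfsg.Agent.Lib.Helper13.OSubDefs
import Cfsg.Agent.Lib.Helper13.OSubBridge

/-!
# S5659 FO-D (for helper13): spreading `SuX` over the rational singular vectors

`SymF.exists_common` (a common singular neighbour of two nonzero singular vectors),
`SymF.sieg_move` (the Siegel map `sieg z' (x - z)` moves `z` to `x`) and `suX_rational_of_one`
(one rational singular centre with all transvections in `M` gives all of them).
-/

set_option autoImplicit false
set_option linter.unusedSectionVars false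
set_option linter.unusedVariables false

namespace Cfsg.Agent.Lib.Helper10.S5659FOD

open Matrix Module Cfsg.Agent.Lib.Helper6 Cfsg.Agent.S0779 Cfsg.Agent.S0781
open Cfsg.Agent.Lib.Helper6.SUG Cfsg.Agent.Lib.Helper13

section geo
variable {n : ℕ} {K' : Type*} [Field K'] {f : (Fin n → K') → (Fin n → K') → K'}

/-- FO-GEO3 a common singular neighbour of two nonzero singular vectors -/
theorem SymF.exists_common [Fintype K'] (hf : SymF f) (h2 : (2 : K') ≠ 0) (hn : 5 ≤ n)
    (z x : Fin n → K') (hz0 : z ≠ 0) (hx0 : x ≠ 0) (hz : f z z = 0) (hx : f x x = 0) :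
    ∃ z' : Fin n → K', f z' z' = 0 ∧ f z z' ≠ 0 ∧ f x z' ≠ 0 := by
  have hS := hf.isS h2
  by_cases hzx : f z x = 0
  · obtain ⟨a', h1, h2', h3⟩ := hS.exists_conn z x hz0 hx0 hz hzx
    refine ⟨a', h1, ?_, ?_⟩
    · rw [hf.symm]; exact h2'
    · rw [hf.symm]; exact h3
  · -- a nonsingular vector orthogonal to `z` and `x`
    have hd := hf.finrank_perpL [z, x]
    simp only [List.length_cons, List.length_nil] at hd
    obtain ⟨c, hcS, hcc⟩ := hS.exists_noniso_in (hf.perpL [z, x]) (by omega)
    rw [hf.mem_perpL] at hcS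
    have hzc : f z c = 0 := hcS z (by simp)
    have hxc : f x c = 0 := hcS x (by simp)
    have hcc' : f c c ≠ 0 := hcc
    have hcz : f c z = 0 := by rw [hf.symm]; exact hzc
    have hcx : f c x = 0 := by rw [hf.symm]; exact hxc
    have hxz : f x z = f z x := hf.symm x z
    refine ⟨z + (-(f c c) / (2 * f z x)) • x + c, ?_, ?_, ?_⟩
    · simp only [hf.add_left, hf.add_right, hf.smul_left, hf.smul_right, hz, hx, hzc, hxc, hcz,
        hcx, hxz]
      field_simp
      ring
    · simp only [hf.add_right, hf.smul_right, hz, hzc]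
      have e : (-(f c c) / (2 * f z x)) * f z x = -(f c c) / 2 := by
        field_simp
      rw [zero_add, add_zero, e]
      intro h0
      apply hcc'
      have h1 := (div_eq_zero_iff.mp h0).resolve_right h2
      exact neg_eq_zero.mp h1
    · simp only [hf.add_right, hf.smul_right, hx, hxc, hxz]
      intro h0
      apply hzx
      simpa using h0

/-- FO-GEO4 the Siegel map `sieg z' (x - z)` moves `z` to `x` -/
theorem SymF.sieg_move (hf : SymF f) (h2 : (2 : K') ≠ 0) (z x z' : Fin n → K')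
    (hz : f z z = 0) (hx : f x x = 0) (hzz' : f z z' = 1) (hxz' : f x z' = 1) :
    hf.sieg z' (x - z) z = x := by
  unfold Cfsg.Agent.Lib.Helper13.SymF.sieg
  have e1 : f (x - z) (x - z) / 2 = - f z x := by
    rw [hf.sub_left, hf.sub_right, hf.sub_right, hx, hz, hf.symm x z]
    field_simp
    ring
  have e2 : f z (x - z) = f z x := by
    rw [hf.sub_right, hz, sub_zero]
  rw [e1, e2, hzz']
  module

end geo

section osub
variable {F : Type*} [Field F] [Fintype F] {q n : ℕ}
variable {K : Subfield F} {θ : F} {P : GL (Fin n) F}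

local notation "hh" => Cfsg.hermForm n F q

/-- FO-F spreading over the rational singular vectors -/
theorem suX_rational_of_one (h : OSub q K θ P) (hn : 13 ≤ n) {M : Subgroup (GL (Fin n) F)}
    (hHM : Cfsg.Geo.subfieldSubgroup K P ⊓ (Cfsg.GU n F q ⊓ Cfsg.Geo.specialLinear (Fin n) F) ≤ M)
    (z : Fin n → K) (hz0 : z ≠ 0) (hz : oB h z z = 0) (hX : SuX q M (iot K P z)) :
    ∀ x : Fin n → K, oB h x x = 0 → SuX q M (iot K P x) := by
  classical
  intro x hx
  by_cases hx0 : x = 0
  · rw [hx0, iot_zero]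
    exact SuX.zero M
  · have hf := h.symF
    have : Fintype K := Fintype.ofFinite K
    obtain ⟨z', hz'z', hzz', hxz'⟩ := SymF.exists_common hf h.two' (by omega) z x hz0 hx0 hz hx
    -- scale
    obtain ⟨z₁, hz₁⟩ : ∃ z₁ : Fin n → K, z₁ = (oB h z z')⁻¹ • z := ⟨_, rfl⟩
    obtain ⟨x₁, hx₁⟩ : ∃ x₁ : Fin n → K, x₁ = (oB h x z')⁻¹ • x := ⟨_, rfl⟩
    have hz₁z' : oB h z₁ z' = 1 := by
      rw [hz₁, hf.smul_left, inv_mul_cancel₀ hzz']
    have hx₁z' : oB h x₁ z' = 1 := by
      rw [hx₁, hf.smul_left, inv_mul_cancel₀ hxz']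
    have hz₁z₁ : oB h z₁ z₁ = 0 := by
      rw [hz₁, hf.smul_left, hf.smul_right, hz, mul_zero, mul_zero]
    have hx₁x₁ : oB h x₁ x₁ = 0 := by
      rw [hx₁, hf.smul_left, hf.smul_right, hx, mul_zero, mul_zero]
    have hX₁ : SuX q M (iot K P z₁) := by
      rw [hz₁, iot_smul]
      exact hX.smul _
    have hperp : oB h z' (x₁ - z₁) = 0 := by
      rw [hf.sub_right, hf.symm z' x₁, hf.symm z' z₁, hx₁z', hz₁z', sub_self]
    have hE := oEich_mem_of_le h hHM z' (x₁ - z₁) hz'z' hperp
    have h1 := hX₁.map (oEich h z' (x₁ - z₁) hz'z' hperp) hE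
    rw [oEich_iot, SymF.sieg_move hf h.two' z₁ x₁ z' hz₁z₁ hx₁x₁ hz₁z' hx₁z'] at h1
    have h2 : x = (oB h x z') • x₁ := by
      rw [hx₁, smul_smul, mul_inv_cancel₀ hxz', one_smul]
    rw [h2, iot_smul]
    exact h1.smul _

end osub

end Cfsg.Agent.Lib.Helper10.S5659FOD
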