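import Mathlib
import Cfsg.Agent.Lib.Helper13.OSubDefs
import Cfsg.Agent.Lib.Helper13.OSubBridge

/-!
# S5659 FO-E (for helper13): a nonzero pairing by a dimension count

`exists_lambda`: for any `g ∈ SU` and rational vectors `u z a b a₂ b₂` there are rational
`c ⟂ z, a, b` and `y₀ ⟂ u, a₂, b₂` with `h(ι c, g ι y₀) ≠ 0`.
-/

set_option autoImplicit false
set_option linter.unusedSectionVars false
set_option linter.unusedVariables false

namespace Cfsg.Agent.Lib.Helper10.S5659FOE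

open Matrix Module Cfsg.Agent.Lib.Helper6 Cfsg.Agent.S0779 Cfsg.Agent.S0781
open Cfsg.Agent.Lib.Helper6.SUG Cfsg.Agent.Lib.Helper13

variable {F : Type*} [Field F] [Fintype F] {q n : ℕ}
variable {K : Subfield F} {θ : F} {P : GL (Fin n) F}

local notation "hh" => Cfsg.hermForm n F q

/-- the action of `g` on rational vectors in terms of two matrices over `K` -/
theorem exists_mats (h : OSub q K θ P) (g : ↥(Cfsg.SU n F q)) :
    ∃ A₁ A₂ : Matrix (Fin n) (Fin n) K, ∀ y : Fin n → K,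
      av g (iot K P y) = subE K θ P (A₁ *ᵥ y) (A₂ *ᵥ y) := by
  obtain ⟨G, hG⟩ : ∃ G : Matrix (Fin n) (Fin n) F,
      G = (P⁻¹ : GL (Fin n) F).val * (suGL n F q g : GL (Fin n) F).val * P.val := ⟨_, rfl⟩
  have hdec := fun i j => h.sd.dec (G i j)
  choose A₁ A₂ hA using hdec
  refine ⟨A₁, A₂, fun y => ?_⟩
  have e1 : G *ᵥ rvec K y = rvec K (A₁ *ᵥ y) + θ • rvec K (A₂ *ᵥ y) := by
    funext i
    simp only [mulVec, dotProduct, rvec, Pi.add_apply, Pi.smul_apply, smul_eq_mul]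
    push_cast
    rw [Finset.mul_sum, ← Finset.sum_add_distrib]
    apply Finset.sum_congr rfl
    intro j _
    rw [hA i j]
    ring
  have e2 : av g (iot K P y) = P.val *ᵥ (G *ᵥ rvec K y) := by
    rw [hG, mulVec_mulVec, ← mul_assoc, ← mul_assoc, ← Units.val_mul, mul_inv_cancel,
      Units.val_one, one_mul, ← mulVec_mulVec, suGL_mulVec]
    rfl
  rw [e2, e1, subE_eq]

theorem exists_lambda (h : OSub q K θ P) (hn : 13 ≤ n) (g : ↥(Cfsg.SU n F q))
    (u z a b a₂ b₂ : Fin n → K) :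
    ∃ c y₀ : Fin n → K, oB h z c = 0 ∧ oB h a c = 0 ∧ oB h b c = 0 ∧
      oB h u y₀ = 0 ∧ oB h a₂ y₀ = 0 ∧ oB h b₂ y₀ = 0 ∧
      hh (iot K P c) (av g (iot K P y₀)) ≠ 0 := by
  classical
  by_contra hcon
  push Not at hcon
  have hf := h.symF
  obtain ⟨A₁, A₂, hA⟩ := exists_mats h g
  -- the subspaces
  obtain ⟨C, hC⟩ : ∃ C : Submodule K (Fin n → K), C = hf.perpL [z, a, b] := ⟨_, rfl⟩
  obtain ⟨Y, hY⟩ : ∃ Y : Submodule K (Fin n → K), Y = hf.perpL [u, a₂, b₂] := ⟨_, rfl⟩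
  obtain ⟨W, hW⟩ : ∃ W : Submodule K (Fin n → K),
      W = LinearMap.BilinForm.orthogonal hf.toBilin C := ⟨_, rfl⟩
  have hdC : n ≤ finrank K ↥C + 3 := by
    have := hf.finrank_perpL [z, a, b]
    simp only [List.length_cons, List.length_nil] at this
    rw [hC]; omega
  have hdY : n ≤ finrank K ↥Y + 3 := by
    have := hf.finrank_perpL [u, a₂, b₂]
    simp only [List.length_cons, List.length_nil] at this
    rw [hY]; omega
  have hdW : finrank K ↥W ≤ 3 := by
    rw [hW, LinearMap.BilinForm.finrank_orthogonal (hf.isS h.two').nondeg,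
      Module.finrank_fintype_fun_eq_card, Fintype.card_fin]
    omega
  have hmemC : ∀ c : Fin n → K, c ∈ C → oB h z c = 0 ∧ oB h a c = 0 ∧ oB h b c = 0 := by
    intro c hc
    rw [hC, hf.mem_perpL] at hc
    exact ⟨hc z (by simp), hc a (by simp), hc b (by simp)⟩
  have hmemY : ∀ y : Fin n → K, y ∈ Y → oB h u y = 0 ∧ oB h a₂ y = 0 ∧ oB h b₂ y = 0 := by
    intro y hy
    rw [hY, hf.mem_perpL] at hy
    exact ⟨hy u (by simp), hy a₂ (by simp), hy b₂ (by simp)⟩
  -- the components of `g ι y` lie in `W`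
  have hcomp : ∀ y : Fin n → K, y ∈ Y → A₁ *ᵥ y ∈ W ∧ A₂ *ᵥ y ∈ W := by
    intro y hy
    have hkey : ∀ c : Fin n → K, c ∈ C →
        oB h c (A₁ *ᵥ y) = 0 ∧ oB h c (A₂ *ᵥ y) = 0 := by
      intro c hc
      obtain ⟨h1, h2, h3⟩ := hmemC c hc
      obtain ⟨h4, h5, h6⟩ := hmemY y hy
      have h7 := hcon c y h1 h2 h3 h4 h5 h6
      rw [hA y, h.herm_iot_subE] at h7
      have h8 : ((oB h c (A₁ *ᵥ y) : K) : F) + θ * ((-(oB h c (A₂ *ᵥ y)) : K) : F) =
          ((0 : K) : F) + θ * ((0 : K) : F) := by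
        push_cast
        linear_combination h7
      obtain ⟨h9, h10⟩ := h.sd.uniq h8
      exact ⟨h9, neg_eq_zero.mp h10⟩
    rw [hW]
    constructor
    · rw [LinearMap.BilinForm.mem_orthogonal_iff]
      intro c hc
      exact (hkey c hc).1
    · rw [LinearMap.BilinForm.mem_orthogonal_iff]
      intro c hc
      exact (hkey c hc).2
  -- the linear map
  obtain ⟨Φ, hΦ⟩ : ∃ Φ : ↥Y →ₗ[K] ↥W × ↥W, ∀ y : ↥Y,
      ((Φ y).1 : Fin n → K) = A₁ *ᵥ (y : Fin n → K) ∧
      ((Φ y).2 : Fin n → K) = A₂ *ᵥ (y : Fin n → K) := by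
    refine ⟨(LinearMap.codRestrict W ((Matrix.mulVecLin A₁).domRestrict Y)
        (fun y => (hcomp y.1 y.2).1)).prod
      (LinearMap.codRestrict W ((Matrix.mulVecLin A₂).domRestrict Y)
        (fun y => (hcomp y.1 y.2).2)), fun y => ⟨rfl, rfl⟩⟩
  have hinj : Function.Injective Φ := by
    rw [← LinearMap.ker_eq_bot, LinearMap.ker_eq_bot']
    intro y hy
    have h1 : A₁ *ᵥ (y : Fin n → K) = 0 := by
      rw [← (hΦ y).1, hy]; rfl
    have h2 : A₂ *ᵥ (y : Fin n → K) = 0 := by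
      rw [← (hΦ y).2, hy]; rfl
    have h3 := hA (y : Fin n → K)
    rw [h1, h2, subE_zero_right, iot_zero] at h3
    have h4 : iot K P (y : Fin n → K) = 0 := by
      have := congrArg (av g⁻¹) h3
      rw [av_inv_av] at this
      rw [this]
      unfold av
      rw [mulVec_zero]
    apply Subtype.ext
    apply iot_inj K P
    rw [h4]
    exact (iot_zero K P).symm
  have hle := LinearMap.finrank_le_finrank_of_injective hinj
  rw [Module.finrank_prod] at hle
  omega

end Cfsg.Agent.Lib.Helper10.S5659FOE
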