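import Mathlib
import Cfsg.Agent.Lib.Helper13.OSubDefs
import Cfsg.Agent.Lib.Helper13.OSubBridge

/-!
# S5659 FO-S (for helper13): the subfield group does not contain `SU`

The transvection `oTv h z hz 1` with a rational singular centre `z` sends the rational vector
`ŷ` (`oB y z = 1`) to `subE y z`, which is not a scalar multiple of a rational vector.
-/

set_option autoImplicit false
set_option linter.unusedSectionVars false
set_option linter.unusedVariables false

namespace Cfsg.Agent.Lib.Helper10.S5659FOS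

open Matrix Module Cfsg.Agent.Lib.Helper6 Cfsg.Agent.S0779 Cfsg.Agent.S0781
open Cfsg.Agent.Lib.Helper6.SUG Cfsg.Agent.Lib.Helper13

variable {F : Type*} [Field F] [Fintype F] {q n : ℕ}

local notation "hh" => Cfsg.hermForm n F q

variable {K : Subfield F} {θ : F} {P : GL (Fin n) F}

theorem exists_not_mem (h : OSub q K θ P) (hn : 13 ≤ n) :
    ∃ g : ↥(Cfsg.SU n F q), suGL n F q g ∉ Cfsg.Geo.subfieldSubgroup K P := by
  have hf := h.symF
  obtain ⟨z, hz0, hz, -⟩ := hf.exists_singular_perp [] (by simp only [List.length_nil]; omega)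
  obtain ⟨y₀, hy₀⟩ := hf.nd z hz0
  set y : Fin n → K := (oB h z y₀)⁻¹ • y₀ with hy
  have hzy : oB h z y = 1 := by
    rw [hy, hf.smul_right, inv_mul_cancel₀ hy₀]
  have hyz : oB h y z = 1 := by rw [hf.symm]; exact hzy
  refine ⟨oTv h z hz 1, fun hmem => ?_⟩
  obtain ⟨l, B, hB⟩ := exists_eq_of_mem_subfieldSubgroup K P _ hmem
  have e1 : av (oTv h z hz 1) (iot K P y) = subE K θ P y z := by
    rw [← subE_zero_right K θ P y, oTv_subE, hf.zero_left, mul_zero, zero_smul, add_zero,
      hyz, mul_one, one_smul, zero_add]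
  have e4 : av (oTv h z hz 1) (iot K P y) = l • iot K P (B *ᵥ y) := by
    rw [← suGL_mulVec]
    have h5 : (suGL n F q (oTv h z hz 1) : GL (Fin n) F) =
        P * (P⁻¹ * suGL n F q (oTv h z hz 1) * P) * P⁻¹ := by
      group
    rw [h5, Units.val_mul, Units.val_mul, hB]
    unfold iot
    rw [← mulVec_mulVec, ← mulVec_mulVec, mulVec_mulVec (rvec K y), ← Units.val_mul,
      inv_mul_cancel, Units.val_one, one_mulVec, smul_mulVec, rmat_mulVec, mulVec_smul]
  obtain ⟨l₁, l₂, hl⟩ := h.sd.dec l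
  have e5 : l • iot K P (B *ᵥ y) = subE K θ P (l₁ • (B *ᵥ y)) (l₂ • (B *ᵥ y)) := by
    unfold subE
    rw [iot_smul, iot_smul, hl, smul_smul, add_smul, mul_smul]
  rw [e1, e5] at e4
  obtain ⟨h6, h7⟩ := subE_inj h.sd P e4
  -- `y = l₁ • w`, `z = l₂ • w`: then `oB z z = 0` and `oB y z = 1` are incompatible
  have h8 : oB h y z = l₁ * (l₂ * oB h (B *ᵥ y) (B *ᵥ y)) := by
    conv_lhs => rw [h6, h7]
    rw [hf.smul_left, hf.smul_right]
  have h9 : oB h z z = l₂ * (l₂ * oB h (B *ᵥ y) (B *ᵥ y)) := by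
    conv_lhs => rw [h7]
    rw [hf.smul_left, hf.smul_right]
  rw [hyz] at h8
  rw [hz] at h9
  rcases mul_eq_zero.mp h9.symm with h0 | h0
  · rw [h0, zero_mul, mul_zero] at h8
    exact one_ne_zero h8
  · rw [h0, mul_zero] at h8
    exact one_ne_zero h8

end Cfsg.Agent.Lib.Helper10.S5659FOS
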