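import Mathlib
import Cfsg.Prelude.Def_GeometricClasses
import Cfsg.Agent.Lib.Helper7.AschDefs
import Cfsg.Agent.Lib.Helper6.Unitary
import Cfsg.Agent.Lib.Helper22.AschC7Defs
import Cfsg.Agent.Lib.Helper22.S5630I7A
import Cfsg.Agent.Lib.Helper22.S5663U7Defs

/-!
# S5663, block U7, group G: the Gram matrix of `hermForm` in a tensor basis (helper10, for helper22)

Pieces M11 `gramX_herm`, M11b `gramX_expand`, M12 `gramX_fix`, M13 `gramX_mul`, M14 `isUnit_gramX`.
-/

set_option autoImplicit false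

namespace Cfsg.Agent.Lib.Helper10.S5663U7G

open Matrix Cfsg Cfsg.Geo Cfsg.Agent.Lib.Helper7.Asch Cfsg.Agent.Lib.Helper22.AschC7
  Cfsg.Agent.Lib.Helper22.S5630I7A Cfsg.Agent.Lib.Helper22.U7 Cfsg.Agent.Lib.Helper6
open scoped commutatorElement

variable {F : Type*} [Field F] {n m t : ℕ}

/-- the basic expansion of `hermForm` after a change of basis -/
theorem herm_mulVec [Fintype F] {q : ℕ} (hF : Fintype.card F = q ^ 2) (P : Matrix (Fin n) (Fin n) F)
    (u v : Fin n → F) :
    hermForm n F q (P *ᵥ u) (P *ᵥ v) = ∑ j, ∑ k, u j * (Pᵀ * P.map (conjQ hF)) j k * (v k) ^ q := by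
  unfold hermForm
  have e1 : ∀ i, ((P *ᵥ v) i) ^ q = ∑ k, conjQ hF (P i k) * (v k) ^ q := by
    intro i
    rw [← conjQ_apply hF, Matrix.mulVec, dotProduct, map_sum]
    apply Finset.sum_congr rfl
    intro k _
    rw [map_mul, conjQ_apply hF (v k)]
  have e2 : ∀ j k, (Pᵀ * P.map (conjQ hF)) j k = ∑ i, P i j * conjQ hF (P i k) := by
    intro j k
    rw [Matrix.mul_apply]
    rfl
  simp only [e1, e2]
  have e3 : ∀ i, (P *ᵥ u) i * ∑ k, conjQ hF (P i k) * (v k) ^ q =
      ∑ j, ∑ k, (P i j * u j) * (conjQ hF (P i k) * (v k) ^ q) := by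
    intro i
    rw [Matrix.mulVec, dotProduct, Finset.sum_mul_sum]
  simp only [e3]
  rw [Finset.sum_comm]
  apply Finset.sum_congr rfl
  intro j _
  rw [Finset.sum_comm]
  apply Finset.sum_congr rfl
  intro k _
  rw [Finset.mul_sum, Finset.sum_mul]
  apply Finset.sum_congr rfl
  intro i _
  ring

theorem single_comp (e : Fin n ≃ (Fin t → Fin m)) (a : Fin t → Fin m) :
    (Pi.single a 1 : (Fin t → Fin m) → F) ∘ e = Pi.single (e.symm a) 1 := by
  funext j
  rw [Function.comp_apply, Pi.single_apply, Pi.single_apply]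
  by_cases h : e j = a
  · rw [if_pos h, if_pos ((Equiv.eq_symm_apply e).mpr h)]
  · rw [if_neg h, if_neg (fun h' => h ((Equiv.eq_symm_apply e).mp h'))]

/-- **M11** -/
theorem gramX_herm [Fintype F] {q : ℕ} (hF : Fintype.card F = q ^ 2) (e : Fin n ≃ (Fin t → Fin m)) (P : GL (Fin n) F) :
    gramX (hermForm n F q) e P = Matrix.reindex e e
      ((P : Matrix (Fin n) (Fin n) F)ᵀ * (P : Matrix (Fin n) (Fin n) F).map (conjQ hF)) := by
  ext a b
  rw [gramX_apply, herm_mulVec hF, single_comp, single_comp, Matrix.reindex_apply, Matrix.submatrix_apply]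
  rw [Finset.sum_eq_single (e.symm a)]
  · rw [Finset.sum_eq_single (e.symm b)]
    · rw [Pi.single_eq_same, Pi.single_eq_same, one_mul, one_pow, mul_one]
    · intro k _ hk
      rw [Pi.single_eq_of_ne hk, zero_pow (Cfsg.Agent.S0779.q_pos hF).ne', mul_zero]
    · intro h
      exact absurd (Finset.mem_univ _) h
  · intro j _ hj
    apply Finset.sum_eq_zero
    intro k _
    rw [Pi.single_eq_of_ne hj, zero_mul, zero_mul]
  · intro h
    exact absurd (Finset.mem_univ _) h

/-- **M11b** expansion of the form in the tensor basis -/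
theorem gramX_expand [Fintype F] {q : ℕ} (hF : Fintype.card F = q ^ 2) (e : Fin n ≃ (Fin t → Fin m)) (P : GL (Fin n) F)
    (x y : (Fin t → Fin m) → F) :
    hermForm n F q ((P : Matrix (Fin n) (Fin n) F) *ᵥ (x ∘ e)) ((P : Matrix (Fin n) (Fin n) F) *ᵥ (y ∘ e)) =
      ∑ a, ∑ b, x a * gramX (hermForm n F q) e P a b * (y b) ^ q := by
  rw [herm_mulVec hF, gramX_herm hF]
  rw [← Equiv.sum_comp e.symm]
  apply Finset.sum_congr rfl
  intro a _
  rw [← Equiv.sum_comp e.symm]
  apply Finset.sum_congr rfl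
  intro b _
  rw [Function.comp_apply, Function.comp_apply, Equiv.apply_symm_apply, Equiv.apply_symm_apply,
    Matrix.reindex_apply, Matrix.submatrix_apply]

theorem reindex_mulVec_comp (e : Fin n ≃ (Fin t → Fin m)) (g : Matrix (Fin t → Fin m) (Fin t → Fin m) F)
    (x : (Fin t → Fin m) → F) :
    Matrix.reindex e.symm e.symm g *ᵥ (x ∘ e) = (g *ᵥ x) ∘ e := by
  funext i
  rw [Function.comp_apply, Matrix.mulVec, dotProduct, Matrix.mulVec, dotProduct, ← Equiv.sum_comp e]
  apply Finset.sum_congr rfl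
  intro j _
  rw [Matrix.reindex_apply, Matrix.submatrix_apply, Equiv.symm_symm, Function.comp_apply]

theorem Phi_mulVec (e : Fin n ≃ (Fin t → Fin m)) (P : GL (Fin n) F)
    (g : Matrix (Fin t → Fin m) (Fin t → Fin m) F) (x : (Fin t → Fin m) → F) :
    Phi e P g *ᵥ ((P : Matrix (Fin n) (Fin n) F) *ᵥ (x ∘ e)) = (P : Matrix (Fin n) (Fin n) F) *ᵥ ((g *ᵥ x) ∘ e) := by
  rw [Phi_def, Matrix.mulVec_mulVec, Matrix.mul_assoc, ← Units.val_mul, inv_mul_cancel, Units.val_one,
    Matrix.mul_one, ← Matrix.mulVec_mulVec, reindex_mulVec_comp]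

/-- **M12** an isometry of the shape `Phi e P g` fixes the Gram matrix -/
theorem gramX_fix [Fintype F] {q : ℕ} (hF : Fintype.card F = q ^ 2) (e : Fin n ≃ (Fin t → Fin m)) (P : GL (Fin n) F)
    (g : Matrix (Fin t → Fin m) (Fin t → Fin m) F)
    (h : ∀ u v : Fin n → F, hermForm n F q (Phi e P g *ᵥ u) (Phi e P g *ᵥ v) = hermForm n F q u v) :
    gᵀ * gramX (hermForm n F q) e P * g.map (conjQ hF) = gramX (hermForm n F q) e P := by
  ext a b
  have h1 := h ((P : Matrix (Fin n) (Fin n) F) *ᵥ ((Pi.single a 1 : (Fin t → Fin m) → F) ∘ e))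
    ((P : Matrix (Fin n) (Fin n) F) *ᵥ ((Pi.single b 1 : (Fin t → Fin m) → F) ∘ e))
  have h2 := gramX_apply (hermForm n F q) e P a b
  rw [Phi_mulVec, Phi_mulVec, gramX_expand hF, ← h2] at h1
  rw [← h1, Matrix.mul_apply]
  simp only [Matrix.mul_apply, Matrix.transpose_apply, Matrix.map_apply, Finset.sum_mul]
  rw [Finset.sum_comm]
  apply Finset.sum_congr rfl
  intro c _
  apply Finset.sum_congr rfl
  intro d _
  rw [Matrix.mulVec_single_one, Matrix.mulVec_single_one, conjQ_apply]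
  rfl

theorem glReindex_val (e : Fin n ≃ (Fin t → Fin m)) (g : GL (Fin t → Fin m) F) :
    ((glReindex e.symm g : GL (Fin n) F) : Matrix (Fin n) (Fin n) F) =
      Matrix.reindex e.symm e.symm (g : Matrix (Fin t → Fin m) (Fin t → Fin m) F) := rfl

/-- **M13** change of the basis by a matrix on `X` -/
theorem gramX_mul [Fintype F] {q : ℕ} (hF : Fintype.card F = q ^ 2) (e : Fin n ≃ (Fin t → Fin m)) (P : GL (Fin n) F)
    (g : GL (Fin t → Fin m) F) :
    gramX (hermForm n F q) e (P * glReindex e.symm g) =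
      (g : Matrix (Fin t → Fin m) (Fin t → Fin m) F)ᵀ * gramX (hermForm n F q) e P *
        (g : Matrix (Fin t → Fin m) (Fin t → Fin m) F).map (conjQ hF) := by
  rw [gramX_herm hF, gramX_herm hF, Units.val_mul, glReindex_val]
  ext a b
  simp only [Matrix.reindex_apply, Matrix.submatrix_apply, Matrix.mul_apply, Matrix.transpose_apply,
    Matrix.map_apply, Equiv.symm_symm, Equiv.apply_symm_apply, map_sum, map_mul, Finset.sum_mul, Finset.mul_sum]
  -- LHS: ∑ i, (∑ j, P i j * g (e j) a) * (∑ k, σ (P i k) * σ (g (e k) b))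
  -- RHS: ∑ d, (∑ c, g c a * ∑ i, P i (e⁻¹ c) * σ (P i (e⁻¹ d))) * σ (g d b)
  rw [Finset.sum_comm]
  rw [← Equiv.sum_comp e]
  apply Finset.sum_congr rfl
  intro k _
  rw [Finset.sum_comm]
  rw [← Equiv.sum_comp e]
  apply Finset.sum_congr rfl
  intro j _
  rw [Equiv.symm_apply_apply, Equiv.symm_apply_apply]
  apply Finset.sum_congr rfl
  intro i _
  ring

/-- **M14** -/
theorem isUnit_gramX [Fintype F] {q : ℕ} (hF : Fintype.card F = q ^ 2) (e : Fin n ≃ (Fin t → Fin m)) (P : GL (Fin n) F) :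
    IsUnit (gramX (hermForm n F q) e P) := by
  rw [gramX_herm hF]
  have h1 : IsUnit ((P : Matrix (Fin n) (Fin n) F)ᵀ) := by
    rw [Matrix.isUnit_transpose]
    exact P.isUnit
  have h2 : IsUnit ((P : Matrix (Fin n) (Fin n) F).map (conjQ hF)) :=
    IsUnit.map (conjQ hF).mapMatrix P.isUnit
  have h3 := IsUnit.map (Matrix.reindexAlgEquiv F F e) (h1.mul h2)
  exact h3

end Cfsg.Agent.Lib.Helper10.S5663U7G
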