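import Mathlib
import Cfsg.Prelude.Def_GeometricClasses
import Cfsg.Agent.Lib.Helper7.AschDefs
import Cfsg.Agent.Lib.Helper6.Unitary
import Cfsg.Agent.Lib.Helper22.AschC7Defs
import Cfsg.Agent.Lib.Helper22.S5630I7A
import Cfsg.Agent.Lib.Helper22.S5663U7Defs

/-!
# S5663, block U7, piece M10 `tensorWreathSubgroup_le_mul` (helper10, for helper22)
-/

set_option autoImplicit false

namespace Cfsg.Agent.Lib.Helper10.S5663U7M10

open Matrix Cfsg Cfsg.Geo Cfsg.Agent.Lib.Helper7.Asch Cfsg.Agent.Lib.Helper22.AschC7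
  Cfsg.Agent.Lib.Helper22.S5630I7A Cfsg.Agent.Lib.Helper22.U7 Cfsg.Agent.Lib.Helper6
open scoped commutatorElement

variable {F : Type*} [Field F] {n m t : ℕ}

/-- **M10** changing `P` by an element of the standard tensor-wreath group does not change the group (one inclusion) -/
theorem tensorWreathSubgroup_le_mul (e : Fin n ≃ (Fin t → Fin m)) (P : GL (Fin n) F) (g : GL (Fin t → Fin m) F)
    (hg : g ∈ tensorWreathStandard m t F) :
    tensorWreathSubgroup m t e P ≤ tensorWreathSubgroup m t e (P * glReindex e.symm g) := by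
  intro x hx
  unfold tensorWreathSubgroup at hx ⊢
  obtain ⟨y, hy, rfl⟩ := Subgroup.mem_map.mp hx
  obtain ⟨g₀, hg₀, rfl⟩ := Subgroup.mem_map.mp hy
  refine Subgroup.mem_map.mpr ⟨glReindex e.symm (g⁻¹ * g₀ * g), Subgroup.mem_map.mpr ⟨g⁻¹ * g₀ * g, ?_, rfl⟩, ?_⟩
  · exact Subgroup.mul_mem _ (Subgroup.mul_mem _ (Subgroup.inv_mem _ hg) hg₀) hg
  · show (P * glReindex e.symm g) * glReindex e.symm (g⁻¹ * g₀ * g) * (P * glReindex e.symm g)⁻¹ =
      P * glReindex e.symm g₀ * P⁻¹
    rw [map_mul, map_mul, map_inv]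
    group

/-- the two groups are equal -/
theorem tensorWreathSubgroup_mul_eq (e : Fin n ≃ (Fin t → Fin m)) (P : GL (Fin n) F) (g : GL (Fin t → Fin m) F)
    (hg : g ∈ tensorWreathStandard m t F) :
    tensorWreathSubgroup m t e (P * glReindex e.symm g) = tensorWreathSubgroup m t e P := by
  apply le_antisymm
  · have h := tensorWreathSubgroup_le_mul e (P * glReindex e.symm g) g⁻¹ (Subgroup.inv_mem _ hg)
    have e1 : P * glReindex e.symm g * glReindex e.symm g⁻¹ = P := by
      rw [map_inv, mul_assoc, mul_inv_cancel, mul_one]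
    rwa [e1] at h
  · exact tensorWreathSubgroup_le_mul e P g hg

end Cfsg.Agent.Lib.Helper10.S5663U7M10
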