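import Mathlib
import Cfsg.Prelude.Def_GeometricClasses
import Cfsg.Agent.Lib.Helper7.AschDefs
import Cfsg.Agent.Lib.Helper6.Unitary
import Cfsg.Agent.Lib.Helper22.AschC7Defs
import Cfsg.Agent.Lib.Helper22.S5630I7A
import Cfsg.Agent.Lib.Helper22.S5663U7Defs

/-!
# S5663, block U7, pieces M1a, M1b, M1c, M1d, M2 (helper10, for helper22)
-/

set_option autoImplicit false

namespace Cfsg.Agent.Lib.Helper10.S5663U7M12

open Matrix Cfsg Cfsg.Geo Cfsg.Agent.Lib.Helper7.Asch Cfsg.Agent.Lib.Helper22.AschC7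
  Cfsg.Agent.Lib.Helper22.S5630I7A Cfsg.Agent.Lib.Helper22.U7 Cfsg.Agent.Lib.Helper6
open scoped commutatorElement

variable {F : Type*} [Field F] {n m t : ℕ}

/-- **M1a** -/
theorem pt_map (σ : F →+* F) (A : Fin t → Matrix (Fin m) (Fin m) F) :
    (pt A).map σ = pt (fun i => (A i).map σ) := by
  ext x y
  rw [Matrix.map_apply, pt_apply, pt_apply, map_prod]
  rfl

/-- **M1b** -/
theorem pos_map (σ : F →+* F) (i : Fin t) (a : Matrix (Fin m) (Fin m) F) :
    (pos i a).map σ = pos i (a.map σ) := by
  rw [pos_def, pos_def, pt_map]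
  congr 1
  funext j
  by_cases hj : j = i
  · subst hj
    rw [Function.update_self, Function.update_self]
  · rw [Function.update_of_ne hj, Function.update_of_ne hj, Matrix.map_one σ (map_zero σ) (map_one σ)]

/-- **M1c** -/
theorem pos_transpose (i : Fin t) (a : Matrix (Fin m) (Fin m) F) : (pos i a)ᵀ = pos i aᵀ := by
  rw [pos_def, pos_def, pt_transpose]
  congr 1
  funext j
  by_cases hj : j = i
  · subst hj
    rw [Function.update_self, Function.update_self]
  · rw [Function.update_of_ne hj, Function.update_of_ne hj, Matrix.transpose_one]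

/-- **M1d** -/
theorem pt_smul (μ : Fin t → F) (A : Fin t → Matrix (Fin m) (Fin m) F) :
    pt (fun i => μ i • A i) = (∏ i, μ i) • pt A := by
  ext x y
  rw [Matrix.smul_apply, pt_apply, pt_apply, smul_eq_mul, ← Finset.prod_mul_distrib]
  rfl

/-- **M2** a factor fixing `A i` fixes the pure tensor `pt A` -/
theorem pt_fix (σ : F →+* F) (A : Fin t → Matrix (Fin m) (Fin m) F) (i : Fin t) (a : Matrix (Fin m) (Fin m) F)
    (h : aᵀ * A i * a.map σ = A i) : (pos i a)ᵀ * pt A * (pos i a).map σ = pt A := by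
  rw [pos_transpose, pos_map, pos_mul_pt, pt_mul_pos, Function.update_self, Function.update_idem, h,
    Function.update_eq_self]

end Cfsg.Agent.Lib.Helper10.S5663U7M12
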