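import Mathlib
import Cfsg.Agent.Lib.Helper7.SpExtDefs
import Cfsg.Agent.Lib.Helper7.SpExtRel
import Cfsg.Agent.Lib.Helper7.SpExtBas

/-!
# S5664 FO-22c (for helper7): `(r, q) = (2, 2)`, the product of the seven transvections of a
totally isotropic `F₂`-space of dimension three is `1`
-/

set_option autoImplicit false
set_option linter.unusedSectionVars false

namespace Cfsg.Agent.Lib.Helper10.S5664FO22c

open Matrix Module Cfsg Cfsg.Agent.Lib.Helper7.SpExt

variable {F : Type*} [Field F] [Fintype F] {L : Type*} [Field L] [Algebra F L] {ι : Type} [Fintype ι]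
  [DecidableEq ι] {ρ : L →ₐ[F] Matrix ι ι F} {f : (ι → F) →ₗ[F] (ι → F) →ₗ[F] F} {τ : L →ₗ[F] F}
  {B : (ι → F) →ₗ[F] (ι → F) →ₗ[F] L} {r : ℕ}

/-- transvections exist (any characteristic) -/
theorem exists_tv (halt : ∀ v, f v v = 0) (u : ι → F) (c : F) : ∃ g : GL ι F, IsTv f u c g := by
  obtain ⟨T, hT⟩ : ∃ T : F → (ι → F) →ₗ[F] (ι → F), ∀ c v, T c v = v + (c * f v u) • u :=
    ⟨fun c => LinearMap.id + c • (f.flip u).smulRight u, fun c v => by
      simp [LinearMap.smulRight_apply, smul_smul]⟩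
  obtain ⟨g, hg, -⟩ := exists_gl (T c) (T (-c))
    (by
      intro v
      rw [hT, hT]
      simp only [map_add, map_smul, LinearMap.add_apply, LinearMap.smul_apply, halt, smul_eq_mul,
        mul_zero, add_zero]
      module)
    (by
      intro v
      rw [hT, hT]
      simp only [map_add, map_smul, LinearMap.add_apply, LinearMap.smul_apply, halt, smul_eq_mul,
        mul_zero, add_zero]
      module)
  exact ⟨g, fun v => by rw [hg, hT]⟩

theorem two_eq_zero_of_card (hq : Fintype.card F = 2) : (2 : F) = 0 := by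
  have h := Nat.cast_card_eq_zero F
  rw [hq] at h
  exact_mod_cast h

theorem hasTv_of_rel_all (S : SpStr ρ f τ B) (hrk : finrank F L = 2) (hq : Fintype.card F = 2)
    (hn : 6 ≤ Fintype.card ι) (H : Subgroup (GL ι F))
    (hall : ∀ x y : ι → F, x ≠ 0 → y ≠ 0 → Rel f H x y) : HasTv f H := by
  classical
  have h2 : (2 : F) = 0 := two_eq_zero_of_card hq
  have halt : ∀ v, f v v = 0 := f_alt S
  haveI : Module.Finite F L := Module.finite_of_finrank_pos (by rw [hrk]; norm_num)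
  -- a nonzero vector
  obtain ⟨v₁, hv₁⟩ : ∃ v₁ : ι → F, v₁ ≠ 0 := by
    have : 0 < Fintype.card ι := by omega
    obtain ⟨i⟩ := Fintype.card_pos_iff.1 this
    refine ⟨Pi.single i 1, ?_⟩
    intro h
    have := congrFun h i
    simp at this
  -- `ω` with `ω ≠ 0`, `1 + ω ≠ 0`
  obtain ⟨ω, hω0, hω1⟩ : ∃ ω : L, ω ≠ 0 ∧ 1 + ω ≠ 0 := by
    by_contra hcon
    push Not at hcon
    have hle : finrank F L ≤ 1 := by
      apply finrank_le_one (1 : L)
      intro w
      by_cases hw : w = 0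
      · exact ⟨0, by rw [hw, zero_smul]⟩
      · refine ⟨-1, ?_⟩
        have := hcon w hw
        rw [neg_smul, one_smul]
        exact (eq_neg_of_add_eq_zero_right this).symm
    omega
  -- injectivity of the orbit map
  have horb : ∀ a : L, a ≠ 0 → ρ a *ᵥ v₁ ≠ 0 := by
    intro a ha h0
    apply hv₁
    have := congrArg (fun x => ρ a⁻¹ *ᵥ x) h0
    simp only [Matrix.mulVec_zero] at this
    rw [← rho_mul_mulVec, inv_mul_cancel₀ ha, rho_one_mulVec] at this
    exact this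
  -- a vector perpendicular to `v₁` outside the point of `v₁`
  obtain ⟨y, hyB, hypt⟩ : ∃ y : ι → F, B y v₁ = 0 ∧ y ∉ pt ρ v₁ := by
    obtain ⟨Λ, hΛ⟩ : ∃ Λ : (ι → F) →ₗ[F] L, ∀ v, Λ v = B v v₁ := ⟨B.flip v₁, fun v => rfl⟩
    by_contra hcon
    push Not at hcon
    have hle : LinearMap.ker Λ ≤ pt ρ v₁ := by
      intro y hy
      apply hcon y
      rw [← hΛ]
      exact LinearMap.mem_ker.mp hy
    have h1 := LinearMap.finrank_range_add_finrank_ker Λ
    have h3 : finrank F ↥(LinearMap.range Λ) ≤ 2 := by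
      rw [← hrk]
      exact Submodule.finrank_le _
    have h4 : finrank F ↥(pt ρ v₁) ≤ 2 := by
      rw [← hrk]
      unfold pt
      exact LinearMap.finrank_range_le (orb ρ v₁)
    have h5 := Submodule.finrank_mono hle
    rw [Module.finrank_fintype_fun_eq_card] at h1
    omega
  obtain ⟨a₁, ha₁⟩ : ∃ a₁ : ι → F, a₁ = v₁ := ⟨_, rfl⟩
  obtain ⟨a₂, ha₂⟩ : ∃ a₂ : ι → F, a₂ = ρ ω *ᵥ v₁ := ⟨_, rfl⟩
  have hm1 : a₁ ∈ pt ρ v₁ := by rw [ha₁]; exact self_mem_pt ρ v₁
  have hm2 : a₂ ∈ pt ρ v₁ := by rw [ha₂]; exact smul_mem_pt ρ v₁ ω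
  -- perpendicularity
  have p12 : f a₁ a₂ = 0 := by
    rw [ha₁, ha₂, f_rho_right S, S.alt, mul_zero, map_zero]
  have p21 : f a₂ a₁ = 0 := by rw [f_skew S, p12, neg_zero]
  have p31 : f y a₁ = 0 := by rw [ha₁, S.tr, hyB, map_zero]
  have p13 : f a₁ y = 0 := by rw [f_skew S, p31, neg_zero]
  have p32 : f y a₂ = 0 := by rw [ha₂, f_rho_right S, hyB, mul_zero, map_zero]
  have p23 : f a₂ y = 0 := by rw [f_skew S, p32, neg_zero]
  have p11 : f a₁ a₁ = 0 := halt _
  have p22 : f a₂ a₂ = 0 := halt _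
  have p33 : f y y = 0 := halt _
  -- the six vectors are nonzero
  have n2 : a₂ ≠ 0 := by rw [ha₂]; exact horb ω hω0
  have n3 : y ≠ 0 := by
    intro h
    apply hypt
    rw [h]
    exact Submodule.zero_mem _
  have n12 : a₁ + a₂ ≠ 0 := by
    rw [ha₁, ha₂]
    have : v₁ + ρ ω *ᵥ v₁ = ρ (1 + ω) *ᵥ v₁ := by rw [rho_add_mulVec, rho_one_mulVec]
    rw [this]
    exact horb _ hω1
  have n13 : a₁ + y ≠ 0 := by
    intro h
    apply hypt
    have : y = -a₁ := (eq_neg_of_add_eq_zero_right h)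
    rw [this]
    exact Submodule.neg_mem _ hm1
  have n23 : a₂ + y ≠ 0 := by
    intro h
    apply hypt
    have : y = -a₂ := (eq_neg_of_add_eq_zero_right h)
    rw [this]
    exact Submodule.neg_mem _ hm2
  have n123 : a₁ + a₂ + y ≠ 0 := by
    intro h
    apply hypt
    have : y = -(a₁ + a₂) := (eq_neg_of_add_eq_zero_right h)
    rw [this]
    exact Submodule.neg_mem _ (Submodule.add_mem _ hm1 hm2)
  -- the six transvections
  obtain ⟨t2, ht2⟩ := exists_tv (f := f) halt a₂ 1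
  obtain ⟨t3, ht3⟩ := exists_tv (f := f) halt y 1
  obtain ⟨t12, ht12⟩ := exists_tv (f := f) halt (a₁ + a₂) 1
  obtain ⟨t13, ht13⟩ := exists_tv (f := f) halt (a₁ + y) 1
  obtain ⟨t23, ht23⟩ := exists_tv (f := f) halt (a₂ + y) 1
  obtain ⟨t123, ht123⟩ := exists_tv (f := f) halt (a₁ + a₂ + y) 1
  have m1 : t2 * t3 ∈ H := hall a₂ y n2 n3 t2 t3 ht2 ht3
  have m2 : t12 * t13 ∈ H := hall _ _ n12 n13 t12 t13 ht12 ht13
  have m3 : t23 * t123 ∈ H := hall _ _ n23 n123 t23 t123 ht23 ht123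
  refine ⟨a₁, 1, by rw [ha₁]; exact hv₁, one_ne_zero, ?_⟩
  intro g hg
  have hgeq : g = (t2 * t3) * (t12 * t13) * (t23 * t123) := by
    apply gl_ext
    intro v
    rw [hg v, act_mul, act_mul, act_mul, act_mul, act_mul, ht123 v, ht23, ht13, ht12, ht3, ht2]
    simp only [one_mul, map_add, map_smul, LinearMap.add_apply, LinearMap.smul_apply, smul_eq_mul,
      p11, p12, p13, p21, p22, p23, p31, p32, p33, mul_zero, add_zero]
    funext i
    simp only [Pi.add_apply, Pi.smul_apply, smul_eq_mul]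
    linear_combination (-(f v a₁ + f v a₂ + f v y) * a₁ i - (f v a₁ + 2 * f v a₂ + f v y) * a₂ i
      - (f v a₁ + f v a₂ + 2 * f v y) * y i) * h2
  rw [hgeq]
  exact H.mul_mem (H.mul_mem m1 m2) m3

end Cfsg.Agent.Lib.Helper10.S5664FO22c
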