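import Mathlib
import Cfsg.Agent.Lib.Helper7.SpExtDefs

/-!
# S5664 FO-BR2 (for helper7): construction of the `L`-valued form `B` with `f = τ ∘ B`
-/

set_option autoImplicit false

namespace Cfsg.Agent.Lib.Helper10.S5664FOBR2

open Matrix Module Cfsg Cfsg.Agent.Lib.Helper7.SpExt

variable {F : Type*} [Field F] {L : Type*} [Field L] [Algebra F L] {ι : Type} [Fintype ι]
  [DecidableEq ι] {r : ℕ}

/-- the functional `c ↦ f (c∙v, w)` as a bilinear map in `(v, w)` -/
noncomputable def phi (ρ : L →ₐ[F] Matrix ι ι F) (f : (ι → F) →ₗ[F] (ι → F) →ₗ[F] F) :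
    (ι → F) →ₗ[F] (ι → F) →ₗ[F] (L →ₗ[F] F) :=
  LinearMap.mk₂ F (fun v w => (f.flip w).comp (orb ρ v))
    (by
      intro v v' w
      apply LinearMap.ext
      intro c
      simp only [LinearMap.comp_apply, LinearMap.add_apply, orb_apply, Matrix.mulVec_add, map_add])
    (by
      intro a v w
      apply LinearMap.ext
      intro c
      simp only [LinearMap.comp_apply, LinearMap.smul_apply, orb_apply, Matrix.mulVec_smul,
        map_smul])
    (by
      intro v w w'
      apply LinearMap.ext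
      intro c
      simp only [LinearMap.comp_apply, LinearMap.add_apply, map_add])
    (by
      intro a v w
      apply LinearMap.ext
      intro c
      simp only [LinearMap.comp_apply, LinearMap.smul_apply, map_smul])

theorem phi_apply (ρ : L →ₐ[F] Matrix ι ι F) (f : (ι → F) →ₗ[F] (ι → F) →ₗ[F] F)
    (v w : ι → F) (c : L) : phi ρ f v w c = f (ρ c *ᵥ v) w := rfl

/-- the trace-form map `b ↦ (c ↦ τ (c b))` -/
noncomputable def theta (τ : L →ₗ[F] F) : L →ₗ[F] (L →ₗ[F] F) :=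
  (LinearMap.mul F L).flip.compr₂ τ

theorem theta_apply (τ : L →ₗ[F] F) (b c : L) : theta τ b c = τ (c * b) := rfl

theorem theta_injective (τ : L →ₗ[F] F) (hτ : τ ≠ 0) : Function.Injective (theta τ) := by
  rw [← LinearMap.ker_eq_bot, LinearMap.ker_eq_bot']
  intro b hb
  by_contra hb0
  apply hτ
  apply LinearMap.ext
  intro x
  have h := LinearMap.congr_fun hb (x * b⁻¹)
  rw [theta_apply, mul_assoc, inv_mul_cancel₀ hb0, mul_one] at h
  rw [h]
  rfl

theorem exists_spstr (ρ : L →ₐ[F] Matrix ι ι F) (hrk : finrank F L = r) (hr : 0 < r)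
    (f : (ι → F) →ₗ[F] (ι → F) →ₗ[F] F) (hnd : ∀ v, v ≠ 0 → ∃ w, f v w ≠ 0)
    (hsa : ∀ a v w, f (ρ a *ᵥ v) w = f v (ρ a *ᵥ w)) (halt : ∀ a v, f (ρ a *ᵥ v) v = 0) :
    ∃ (τ : L →ₗ[F] F) (B : (ι → F) →ₗ[F] (ι → F) →ₗ[F] L), SpStr ρ f τ B := by
  classical
  haveI : Module.Finite F L := Module.finite_of_finrank_pos (by rw [hrk]; exact hr)
  -- a nonzero functional
  obtain ⟨τ, hτ⟩ : ∃ τ : L →ₗ[F] F, τ ≠ 0 := by
    have h1 : 0 < finrank F (Module.Dual F L) := by
      rw [Subspace.dual_finrank_eq, hrk]; exact hr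
    exact Module.finrank_pos_iff_exists_ne_zero.mp h1
  have hdim : finrank F L = finrank F (L →ₗ[F] F) := (Subspace.dual_finrank_eq (K := F) (V := L)).symm
  obtain ⟨Θ, hΘ⟩ : ∃ Θ : L ≃ₗ[F] (L →ₗ[F] F), ∀ b, Θ b = theta τ b :=
    ⟨LinearMap.linearEquivOfInjective (theta τ) (theta_injective τ hτ) hdim, fun b => rfl⟩
  obtain ⟨B, hB⟩ : ∃ B : (ι → F) →ₗ[F] (ι → F) →ₗ[F] L,
      ∀ v w, B v w = Θ.symm (phi ρ f v w) :=
    ⟨(phi ρ f).compr₂ Θ.symm.toLinearMap, fun v w => rfl⟩
  have key : ∀ v w c, τ (c * B v w) = f (ρ c *ᵥ v) w := by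
    intro v w c
    rw [← theta_apply, ← hΘ, hB, LinearEquiv.apply_symm_apply, phi_apply]
  have hinj : ∀ x y : L, (∀ c, τ (c * x) = τ (c * y)) → x = y := by
    intro x y h
    apply theta_injective τ hτ
    apply LinearMap.ext
    intro c
    rw [theta_apply, theta_apply, h c]
  refine ⟨τ, B, ⟨hnd, ?_, ?_, ?_⟩⟩
  · intro a v w
    apply hinj
    intro c
    rw [key, ← mul_assoc, key, rho_mul_mulVec]
  · intro v
    apply hinj
    intro c
    rw [key, halt, mul_zero, map_zero]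
  · intro v w
    have := key v w 1
    rw [one_mul, rho_one_mulVec] at this
    exact this.symm

end Cfsg.Agent.Lib.Helper10.S5664FOBR2
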