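import Mathlib
import Cfsg.Prelude.Def_GeometricClasses
import Cfsg.Agent.Lib.Helper28.TensUDefs
import Cfsg.Agent.Lib.Helper10.KronRank3

/-!
# S5670 FO-RANKA / FO-RANKB (helper10, for helper28)

A conjugate of an L-root element `1 ⊗ t_{k,c}` (resp. of an M-root element `t_{u,c} ⊗ 1`) which
lies in `N0` is again of that shape: `g (U ⊗ k) = U ⊗ k₁` (resp. `g (u ⊗ W) = u₁ ⊗ W`).
-/

set_option autoImplicit false

namespace Cfsg.Agent.Lib.Helper10.S5670FORANK

open Matrix Module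
open Cfsg.Agent.Lib.Helper16.Tens Cfsg.Agent.Lib.Helper10.TensFund Cfsg.Agent.Lib.Helper28.TensU
open Cfsg.Agent.Lib.Helper10.KronRank3
open scoped Kronecker

variable {F : Type*} [Field F] {a b : ℕ} {q : ℕ}

local notation "K" => Cfsg.Geo.kroneckerSubgroup a b F
local notation "V" => (Fin a × Fin b → F)

theorem cj_ne_zero {n : ℕ} (k : Fin n → F) (hk : k ≠ 0) : cj q k ≠ 0 := by
  obtain ⟨j, hj⟩ : ∃ j, k j ≠ 0 := by
    by_contra hall; push Not at hall; exact hk (funext hall)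
  intro h0
  have := congrFun h0 j
  rw [cj_apply, Pi.zero_apply] at this
  exact pow_ne_zero q hj this

theorem act_rL_fix_iff (k : Fin b → F) (c : F) (hk : hs q k k = 0) (hk0 : k ≠ 0) (hc : c ≠ 0)
    (v : V) : act (rL q k c hk) v = v ↔ v ∈ hyp (cj q k) := by
  rw [act_rL, mem_hyp_iff]
  constructor
  · intro h
    have h1 : c • pur (ctr (cj q k) v) k = 0 := by
      have := congrArg (fun x => x - v) h
      simpa using this
    rcases smul_eq_zero.mp h1 with h2 | h2
    · exact absurd h2 hc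
    · rcases pur_eq_zero h2 with h3 | h3
      · exact h3
      · exact absurd h3 hk0
  · intro h
    rw [h, pur_zero_left, smul_zero, add_zero]

theorem act_rM_fix_iff (u : Fin a → F) (c : F) (hu : hs q u u = 0) (hu0 : u ≠ 0) (hc : c ≠ 0)
    (v : V) : act (rM q u c hu) v = v ↔ v ∈ hypL (cj q u) := by
  rw [act_rM, mem_hypL_iff]
  constructor
  · intro h
    have h1 : c • pur u (ctrL (cj q u) v) = 0 := by
      have := congrArg (fun x => x - v) h
      simpa using this
    rcases smul_eq_zero.mp h1 with h2 | h2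
    · exact absurd h2 hc
    · rcases pur_eq_zero h2 with h3 | h3
      · exact absurd h3 hu0
      · exact h3
  · intro h
    rw [h, pur_zero_right, smul_zero, add_zero]

/-- the fixed space of a conjugate -/
theorem fix_conj (g x : GL (Fin a × Fin b) F) (P : Submodule F V)
    (hP : ∀ v, act x v = v ↔ v ∈ P) :
    LinearMap.ker ((act (g * x * g⁻¹)).toLinearMap - LinearMap.id) = img g P := by
  ext v
  rw [LinearMap.mem_ker, LinearMap.sub_apply, LinearMap.id_apply, sub_eq_zero, mem_img_iff, ← hP]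
  show act (g * x * g⁻¹) v = v ↔ _
  rw [act_mul, act_mul]
  constructor
  · intro h
    have := congrArg (act g⁻¹) h
    rwa [act_inv_act] at this
  · intro h
    rw [h, act_act_inv]

theorem ctrL_surjective {φ : Fin a → F} (hφ : φ ≠ 0) : Function.Surjective (ctrL (b := b) φ) := by
  obtain ⟨i, hi⟩ : ∃ i, φ i ≠ 0 := by
    by_contra hall; push Not at hall; exact hφ (funext hall)
  intro w
  refine ⟨pur (Pi.single i (φ i)⁻¹) w, ?_⟩
  rw [ctrL_pur]
  have : (Pi.single i (φ i)⁻¹ : Fin a → F) ⬝ᵥ φ = 1 := by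
    rw [single_dotProduct, inv_mul_cancel₀ hi]
  rw [this, one_smul]

theorem finrank_hypL' {φ : Fin a → F} (hφ : φ ≠ 0) :
    finrank F (hypL (b := b) φ) + b = a * b := by
  have h := LinearMap.finrank_range_add_finrank_ker (ctrL (b := b) φ)
  rw [LinearMap.range_eq_top.mpr (ctrL_surjective hφ), finrank_top,
    Module.finrank_fintype_fun_eq_card, Module.finrank_fintype_fun_eq_card, Fintype.card_fin,
    Fintype.card_prod, Fintype.card_fin, Fintype.card_fin] at h
  unfold hypL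
  omega

theorem finrank_pt' (k : Fin b → F) (hk : k ≠ 0) : finrank F (pt (F := F) (a := a) k) = a := by
  unfold pt
  rw [LinearMap.finrank_range_of_inj (purL_injective hk), Module.finrank_fintype_fun_eq_card,
    Fintype.card_fin]

theorem finrank_ptL' (u : Fin a → F) (hu : u ≠ 0) : finrank F (ptL (F := F) (b := b) u) = b := by
  unfold ptL
  rw [LinearMap.finrank_range_of_inj (purR_injective hu), Module.finrank_fintype_fun_eq_card,
    Fintype.card_fin]

theorem hs_pur' (u u' : Fin a → F) (w w' : Fin b → F) :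
    hs q (pur u w) (pur u' w') = hs q u u' * hs q w w' := by
  unfold hs
  rw [Fintype.sum_prod_type, Finset.sum_mul_sum]
  apply Finset.sum_congr rfl
  intro i _
  apply Finset.sum_congr rfl
  intro j _
  rw [pur_apply, pur_apply, mul_pow]
  ring

theorem hs_single_self {n : ℕ} (j : Fin n) : hs q (Pi.single j (1 : F)) (Pi.single j (1 : F)) = 1 := by
  unfold hs
  rw [Finset.sum_eq_single j]
  · simp
  · intro j' _ hj'
    simp [Pi.single_eq_of_ne hj']
  · intro h
    exact absurd (Finset.mem_univ j) h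

theorem hs_act (g : GL (Fin a × Fin b) F) (hg : g ∈ UG (Fin a × Fin b) F q) (x y : V) :
    hs q (act g x) (act g y) = hs q x y := by
  rw [act_apply, act_apply]
  exact (mem_UG_iff q g).mp hg x y

/-- FO-RANKA -/
theorem img_pt_of_conj_rL [Fintype F] (hF : Fintype.card F = q ^ 2) (ha : 1 ≤ a) (hab : a < b)
    (g : GL (Fin a × Fin b) F)
    (hg : g ∈ UG (Fin a × Fin b) F q) (k : Fin b → F) (c : F) (hk : hs q k k = 0) (hk0 : k ≠ 0)
    (hc : c ≠ 0) (hn : g * rL q k c hk * g⁻¹ ∈ K) :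
    ∃ k₁ : Fin b → F, k₁ ≠ 0 ∧ hs q k₁ k₁ = 0 ∧ img g (pt (a := a) k) = pt k₁ := by
  have hfix := fix_conj g (rL q k c hk) (hyp (cj q k)) (act_rL_fix_iff k c hk hk0 hc)
  have hker : finrank F (LinearMap.ker ((act (g * rL q k c hk * g⁻¹)).toLinearMap -
      LinearMap.id)) + a = a * b := by
    rw [hfix, finrank_img]
    exact finrank_hyp (cj_ne_zero k hk0)
  obtain ⟨k₁, hk₁, hall⟩ := exists_right_of_kron ha hab _ hn hker
  have hle : img g (pt (a := a) k) ≤ pt k₁ := by
    intro x hx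
    rw [mem_img_iff, mem_pt_iff] at hx
    obtain ⟨u, hu⟩ := hx
    obtain ⟨y, hy⟩ := ctr_surjective (a := a) (cj_ne_zero (q := q) k hk0) (c⁻¹ • u)
    obtain ⟨u', hu'⟩ := hall (act g y)
    have h1 : act (g * rL q k c hk * g⁻¹) (act g y) - act g y = x := by
      rw [act_mul, act_mul, act_inv_act, act_rL, hy, pur_smul_left, smul_smul,
        mul_inv_cancel₀ hc, one_smul, map_add, add_sub_cancel_left, hu, act_act_inv]
    rw [mem_pt_iff]
    exact ⟨u', by rw [← hu', h1]⟩
  have heq : img g (pt (a := a) k) = pt k₁ := by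
    apply Submodule.eq_of_le_of_finrank_eq hle
    rw [finrank_img, finrank_pt' k hk0, finrank_pt' k₁ hk₁]
  refine ⟨k₁, hk₁, ?_, heq⟩
  -- isotropy
  have hmem : pur (Pi.single ⟨0, by omega⟩ (1 : F) : Fin a → F) k₁ ∈ img g (pt (a := a) k) := by
    rw [heq]
    exact pur_mem_pt _ _
  rw [mem_img_iff, mem_pt_iff] at hmem
  obtain ⟨u, hu⟩ := hmem
  have h1 : hs q (pur (Pi.single ⟨0, by omega⟩ (1 : F) : Fin a → F) k₁)
      (pur (Pi.single ⟨0, by omega⟩ (1 : F) : Fin a → F) k₁) = hs q k₁ k₁ := by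
    rw [hs_pur', hs_single_self, one_mul]
  have hg' : g⁻¹ ∈ UG (Fin a × Fin b) F q := (UG (Fin a × Fin b) F q).inv_mem hg
  rw [← h1, ← hs_act g⁻¹ hg', ← hu, hs_pur', hk, mul_zero]

/-- FO-RANKB -/
theorem img_ptL_of_conj_rM [Fintype F] (hF : Fintype.card F = q ^ 2) (ha : 3 ≤ a) (hab : a < b)
    (hdvd : ¬ a ∣ b)
    (g : GL (Fin a × Fin b) F) (hg : g ∈ UG (Fin a × Fin b) F q) (u : Fin a → F) (c : F)
    (hu : hs q u u = 0)
    (hu0 : u ≠ 0) (hc : c ≠ 0) (hn : g * rM q u c hu * g⁻¹ ∈ K) :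
    ∃ u₁ : Fin a → F, u₁ ≠ 0 ∧ hs q u₁ u₁ = 0 ∧ img g (ptL (b := b) u) = ptL u₁ := by
  have hfix := fix_conj g (rM q u c hu) (hypL (cj q u)) (act_rM_fix_iff u c hu hu0 hc)
  have hker : finrank F (LinearMap.ker ((act (g * rM q u c hu * g⁻¹)).toLinearMap -
      LinearMap.id)) + b = a * b := by
    rw [hfix, finrank_img]
    exact finrank_hypL' (cj_ne_zero u hu0)
  obtain ⟨u₁, hu₁, hall⟩ := exists_left_of_kron ha (by omega) hdvd _ hn hker
  have hle : img g (ptL (b := b) u) ≤ ptL u₁ := by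
    intro x hx
    rw [mem_img_iff, mem_ptL_iff] at hx
    obtain ⟨w, hw⟩ := hx
    obtain ⟨y, hy⟩ := ctrL_surjective (b := b) (cj_ne_zero (q := q) u hu0) (c⁻¹ • w)
    obtain ⟨w', hw'⟩ := hall (act g y)
    have h1 : act (g * rM q u c hu * g⁻¹) (act g y) - act g y = x := by
      rw [act_mul, act_mul, act_inv_act, act_rM, hy, pur_smul_right, smul_smul,
        mul_inv_cancel₀ hc, one_smul, map_add, add_sub_cancel_left, hw, act_act_inv]
    rw [mem_ptL_iff]
    exact ⟨w', by rw [← hw', h1]⟩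
  have heq : img g (ptL (b := b) u) = ptL u₁ := by
    apply Submodule.eq_of_le_of_finrank_eq hle
    rw [finrank_img, finrank_ptL' u hu0, finrank_ptL' u₁ hu₁]
  refine ⟨u₁, hu₁, ?_, heq⟩
  have hmem : pur u₁ (Pi.single ⟨0, by omega⟩ (1 : F) : Fin b → F) ∈ img g (ptL (b := b) u) := by
    rw [heq]
    exact pur_mem_ptL _ _
  rw [mem_img_iff, mem_ptL_iff] at hmem
  obtain ⟨w, hw⟩ := hmem
  have h1 : hs q (pur u₁ (Pi.single ⟨0, by omega⟩ (1 : F) : Fin b → F))
      (pur u₁ (Pi.single ⟨0, by omega⟩ (1 : F) : Fin b → F)) = hs q u₁ u₁ := by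
    rw [hs_pur', hs_single_self, mul_one]
  have hg' : g⁻¹ ∈ UG (Fin a × Fin b) F q := (UG (Fin a × Fin b) F q).inv_mem hg
  rw [← h1, ← hs_act g⁻¹ hg', ← hw, hs_pur', hu, zero_mul]

end Cfsg.Agent.Lib.Helper10.S5670FORANK
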