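import Mathlib
import Cfsg.Agent.Lib.Helper28.TensUDefs
import Cfsg.Agent.Lib.Helper26.S5670T3cDefs

/-!
# S5670 T3c piece F-A3 (helper10, for helper26 / helper28): the case `a = 3`, `q = 2` (`F = F_4`)

An additive group `X` of hermitian `3 × 3` matrices over `F_4`, stable under conjugation by `SU_3(2)`, containing `1` and a
non-scalar matrix, contains a rank one matrix `u u^†`.  Proof: the diagonal torus element `diag (ω, ω², 1)` gives the diagonal
part of every element of `X`; a non-scalar diagonal (entries in `F_2`) gives `e_i e_i^†` directly; otherwise the off-diagonal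
part `O ≠ 0` of a non-scalar element is conjugated by three explicit unitary matrices of determinant one (a Fourier matrix
and two conjugates of it by diagonal unitary matrices) whose diagonals cannot all be scalar.  The polynomial identities
modulo `ω² = ω + 1`, `2 = 0` are closed by `linear_combination` with machine-generated certificates.
-/

set_option autoImplicit false
set_option maxHeartbeats 1000000
set_option linter.unusedSimpArgs false
set_option linter.unusedVariables false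
set_option linter.unusedSectionVars false
set_option linter.unnecessarySeqFocus false

namespace Cfsg.Agent.Lib.Helper10.S5670T3cFA3

open Matrix Cfsg.Agent.Lib.Helper28.TensU Cfsg.Agent.Lib.Helper26.T3c

variable {F : Type*} [Field F]

section basics
variable [Fintype F]

theorem two_eq_zero (hF : Fintype.card F = 2 ^ 2) : (2 : F) = 0 := by
  have h := Nat.cast_card_eq_zero F
  rw [hF] at h
  have h4 : ((2 : F)) ^ 2 = 0 := by exact_mod_cast h
  exact (pow_eq_zero_iff (two_ne_zero)).mp h4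

theorem exists_omega (hF : Fintype.card F = 2 ^ 2) : ∃ ω : F, ω ^ 2 = ω + 1 := by
  have h2 := two_eq_zero hF
  have hlt : 2 < Fintype.card F := by rw [hF]; norm_num
  obtain ⟨a, b, c, hab, hac, hbc⟩ := Fintype.two_lt_card_iff.mp hlt
  obtain ⟨ω, h0, h1⟩ : ∃ ω : F, ω ≠ 0 ∧ ω ≠ 1 := by
    by_cases ha0 : a = 0
    · by_cases hb1 : b = 1
      · refine ⟨c, ?_, ?_⟩
        · rw [← ha0]; exact fun h => hac h.symm
        · rw [← hb1]; exact fun h => hbc h.symm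
      · refine ⟨b, ?_, hb1⟩
        rw [← ha0]; exact fun h => hab h.symm
    · by_cases ha1 : a = 1
      · by_cases hb0 : b = 0
        · refine ⟨c, ?_, ?_⟩
          · rw [← hb0]; exact fun h => hbc h.symm
          · rw [← ha1]; exact fun h => hac h.symm
        · refine ⟨b, hb0, ?_⟩
          rw [← ha1]; exact fun h => hab h.symm
      · exact ⟨a, ha0, ha1⟩
  refine ⟨ω, ?_⟩
  have h4 : ω ^ 4 = ω := by
    have := FiniteField.pow_card ω
    rwa [hF] at this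
  have hfac : ω * (ω - 1) * (ω ^ 2 + ω + 1) = 0 := by
    linear_combination h4
  rcases mul_eq_zero.mp hfac with h | h
  · rcases mul_eq_zero.mp h with h | h
    · exact absurd h h0
    · exact absurd (sub_eq_zero.mp h) h1
  · linear_combination h - (ω + 1) * h2

theorem herm_entry {a : ℕ} (h2 : (2 : F) = 0) {S : Matrix (Fin a) (Fin a) F} (hS : SkewM 2 S)
    (i j : Fin a) : S j i = S i j ^ 2 := by
  have h := hS (Pi.single i 1) (Pi.single j 1)
  have e1 : hs 2 (S *ᵥ Pi.single i 1) (Pi.single j 1) = S j i := by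
    unfold hs
    rw [Finset.sum_eq_single j]
    · simp
    · intro k _ hk
      simp [Pi.single_eq_of_ne hk]
    · intro hj
      exact absurd (Finset.mem_univ j) hj
  have e2 : hs 2 (Pi.single i 1) (S *ᵥ Pi.single j 1) = S i j ^ 2 := by
    unfold hs
    rw [Finset.sum_eq_single i]
    · simp
    · intro k _ hk
      simp [Pi.single_eq_of_ne hk]
    · intro hi
      exact absurd (Finset.mem_univ i) hi
  rw [e1, e2] at h
  linear_combination h - (S i j) ^ 2 * h2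


end basics

def G0 (ω : F) : Matrix (Fin 3) (Fin 3) F := !![1, 1, 1; 1, ω, ω + 1; 1, ω + 1, ω]
def G1 (ω : F) : Matrix (Fin 3) (Fin 3) F := !![1, 1, ω + 1; 1, ω, ω; ω, 1, ω]
def G2 (ω : F) : Matrix (Fin 3) (Fin 3) F := !![1, 1, ω; 1, ω, 1; ω + 1, ω, ω]
def DD (ω : F) : Matrix (Fin 3) (Fin 3) F := !![ω, 0, 0; 0, ω + 1, 0; 0, 0, 1]
def OO (x y z : F) : Matrix (Fin 3) (Fin 3) F := !![0, x, z ^ 2; x ^ 2, 0, y; z, y ^ 2, 0]

theorem ct_lit (a b c d e f g h k : F) :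
    ct 2 (!![a, b, c; d, e, f; g, h, k] : Matrix (Fin 3) (Fin 3) F) =
      !![a ^ 2, d ^ 2, g ^ 2; b ^ 2, e ^ 2, h ^ 2; c ^ 2, f ^ 2, k ^ 2] := by
  ext i j
  fin_cases i <;> fin_cases j <;> simp [ct]

theorem G0_unit (ω : F) (hω : ω ^ 2 = ω + 1) (h2 : (2 : F) = 0) :
    ((G0 ω) : Matrix (Fin 3) (Fin 3) F) * ct 2 (G0 ω) = 1 := by
  ext i j
  fin_cases i <;> fin_cases j <;> simp [G0, G1, G2, OO, DD, Matrix.mul_apply, Fin.sum_univ_three]
  all_goals first | linear_combination ((1)) * h2 | linear_combination ((2)) * hω + ((2) + (2) * ω) * h2 | linear_combination ((1) + ω) * h2 | linear_combination ((5) + (2) * ω) * hω + ((3) + (5) * ω) * h2 | linear_combination ((5) + (2) * ω) * hω + ((3) + (4) * ω) * h2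

theorem G0_det (ω : F) (hω : ω ^ 2 = ω + 1) (h2 : (2 : F) = 0) :
    ((G0 ω) : Matrix (Fin 3) (Fin 3) F).det = 1 := by
  rw [Matrix.det_fin_three]
  simp [G0, G1, G2, DD]
  linear_combination ((-1) * ω) * h2

theorem G0_key (ω x y z : F) (hω : ω ^ 2 = ω + 1) (h2 : (2 : F) = 0)
    (h01 : (((G0 ω) : Matrix (Fin 3) (Fin 3) F) * (OO x y z) * ct 2 (G0 ω)) 0 0 =
      (((G0 ω) : Matrix (Fin 3) (Fin 3) F) * (OO x y z) * ct 2 (G0 ω)) 1 1)
    (h12 : (((G0 ω) : Matrix (Fin 3) (Fin 3) F) * (OO x y z) * ct 2 (G0 ω)) 1 1 =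
      (((G0 ω) : Matrix (Fin 3) (Fin 3) F) * (OO x y z) * ct 2 (G0 ω)) 2 2) :
    x + y + z = 0 := by
  have e0 : (((G0 ω) : Matrix (Fin 3) (Fin 3) F) * (OO x y z) * ct 2 (G0 ω)) 0 0 =
      x + x^2 + y + y^2 + z + z^2 := by
    simp [G0, G1, G2, OO, DD, Matrix.mul_apply, Fin.sum_univ_three] <;> ring
  have e1 : (((G0 ω) : Matrix (Fin 3) (Fin 3) F) * (OO x y z) * ct 2 (G0 ω)) 1 1 =
      x * ω^2 + x^2 * ω + y * ω + (2) * y * ω^2 + y * ω^3 + y^2 * ω^2 + y^2 * ω^3 + z + z * ω + z^2 + (2) * z^2 * ω + z^2 * ω^2 := by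
    simp [G0, G1, G2, OO, DD, Matrix.mul_apply, Fin.sum_univ_three] <;> ring
  have e2 : (((G0 ω) : Matrix (Fin 3) (Fin 3) F) * (OO x y z) * ct 2 (G0 ω)) 2 2 =
      x + (2) * x * ω + x * ω^2 + x^2 + x^2 * ω + y * ω^2 + y * ω^3 + y^2 * ω + (2) * y^2 * ω^2 + y^2 * ω^3 + z * ω + z^2 * ω^2 := by
    simp [G0, G1, G2, OO, DD, Matrix.mul_apply, Fin.sum_univ_three] <;> ring
  rw [e0, e1] at h01
  rw [e1, e2] at h12
  linear_combination h01 + (ω + 1) * h12 + ((3) * x + (5) * y^2 + (2) * y^2 * ω + (-1) * z^2) * hω + ((2) * x + (3) * x * ω + x^2 * ω + (2) * y^2 + (4) * y^2 * ω + (-1) * z^2 + (-1) * z^2 * ω) * h2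

theorem G1_unit (ω : F) (hω : ω ^ 2 = ω + 1) (h2 : (2 : F) = 0) :
    ((G1 ω) : Matrix (Fin 3) (Fin 3) F) * ct 2 (G1 ω) = 1 := by
  ext i j
  fin_cases i <;> fin_cases j <;> simp [G0, G1, G2, OO, DD, Matrix.mul_apply, Fin.sum_univ_three]
  all_goals first | linear_combination ((4) + ω) * hω + ((3) + (4) * ω) * h2 | linear_combination ((3) + ω) * hω + ((2) + (2) * ω) * h2 | linear_combination ((3) + ω) * hω + ((2) + (3) * ω) * h2 | linear_combination ((2) + (2) * ω) * hω + ((1) + (2) * ω) * h2 | linear_combination ((2) + ω) * hω + ((1) + (2) * ω) * h2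

theorem G1_det (ω : F) (hω : ω ^ 2 = ω + 1) (h2 : (2 : F) = 0) :
    ((G1 ω) : Matrix (Fin 3) (Fin 3) F).det = 1 := by
  rw [Matrix.det_fin_three]
  simp [G0, G1, G2, DD]
  linear_combination ((-1) * ω) * hω + ((-1) * ω) * h2

theorem G1_key (ω x y z : F) (hω : ω ^ 2 = ω + 1) (h2 : (2 : F) = 0)
    (h01 : (((G1 ω) : Matrix (Fin 3) (Fin 3) F) * (OO x y z) * ct 2 (G1 ω)) 0 0 =
      (((G1 ω) : Matrix (Fin 3) (Fin 3) F) * (OO x y z) * ct 2 (G1 ω)) 1 1)
    (h12 : (((G1 ω) : Matrix (Fin 3) (Fin 3) F) * (OO x y z) * ct 2 (G1 ω)) 1 1 =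
      (((G1 ω) : Matrix (Fin 3) (Fin 3) F) * (OO x y z) * ct 2 (G1 ω)) 2 2) :
    x + ω * y + (ω + 1) * z = 0 := by
  have e0 : (((G1 ω) : Matrix (Fin 3) (Fin 3) F) * (OO x y z) * ct 2 (G1 ω)) 0 0 =
      x + x^2 + y + (2) * y * ω + y * ω^2 + y^2 + y^2 * ω + z + z * ω + z^2 + (2) * z^2 * ω + z^2 * ω^2 := by
    simp [G0, G1, G2, OO, DD, Matrix.mul_apply, Fin.sum_univ_three] <;> ring
  have e1 : (((G1 ω) : Matrix (Fin 3) (Fin 3) F) * (OO x y z) * ct 2 (G1 ω)) 1 1 =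
      x * ω^2 + x^2 * ω + y * ω^3 + y^2 * ω^3 + z * ω + z^2 * ω^2 := by
    simp [G0, G1, G2, OO, DD, Matrix.mul_apply, Fin.sum_univ_three] <;> ring
  have e2 : (((G1 ω) : Matrix (Fin 3) (Fin 3) F) * (OO x y z) * ct 2 (G1 ω)) 2 2 =
      x * ω + x^2 * ω^2 + y * ω^2 + y^2 * ω + z * ω^3 + z^2 * ω^3 := by
    simp [G0, G1, G2, OO, DD, Matrix.mul_apply, Fin.sum_univ_three] <;> ring
  rw [e0, e1] at h01
  rw [e1, e2] at h12
  linear_combination h01 + (ω + 1) * h12 + ((-1) * x * ω + x^2 + x^2 * ω + (-1) * y + (-1) * y * ω^2 + (-1) * y^2 + (-1) * y^2 * ω + (-1) * y^2 * ω^2 + (2) * z + (2) * z * ω + z * ω^2 + z^2 + z^2 * ω + z^2 * ω^2) * hω + (x^2 * ω + (-1) * y + (-1) * y * ω + (-1) * y^2 + (-1) * y^2 * ω + z + (2) * z * ω) * h2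

theorem G2_unit (ω : F) (hω : ω ^ 2 = ω + 1) (h2 : (2 : F) = 0) :
    ((G2 ω) : Matrix (Fin 3) (Fin 3) F) * ct 2 (G2 ω) = 1 := by
  ext i j
  fin_cases i <;> fin_cases j <;> simp [G0, G1, G2, OO, DD, Matrix.mul_apply, Fin.sum_univ_three]
  all_goals first | linear_combination ((1) + ω) * hω + ((1) + ω) * h2 | linear_combination ((1)) * hω + ((1) + ω) * h2 | linear_combination ((3) + ω) * hω + ((2) + (3) * ω) * h2 | linear_combination ((1) + ω) * hω + ((1) + (2) * ω) * h2 | linear_combination ((6) + (3) * ω) * hω + ((3) + (6) * ω) * h2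

theorem G2_det (ω : F) (hω : ω ^ 2 = ω + 1) (h2 : (2 : F) = 0) :
    ((G2 ω) : Matrix (Fin 3) (Fin 3) F).det = 1 := by
  rw [Matrix.det_fin_three]
  simp [G0, G1, G2, DD]
  linear_combination ((-1) * ω) * hω + ((-1) * ω) * h2

theorem G2_key (ω x y z : F) (hω : ω ^ 2 = ω + 1) (h2 : (2 : F) = 0)
    (h01 : (((G2 ω) : Matrix (Fin 3) (Fin 3) F) * (OO x y z) * ct 2 (G2 ω)) 0 0 =
      (((G2 ω) : Matrix (Fin 3) (Fin 3) F) * (OO x y z) * ct 2 (G2 ω)) 1 1)
    (h12 : (((G2 ω) : Matrix (Fin 3) (Fin 3) F) * (OO x y z) * ct 2 (G2 ω)) 1 1 =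
      (((G2 ω) : Matrix (Fin 3) (Fin 3) F) * (OO x y z) * ct 2 (G2 ω)) 2 2) :
    x + (ω + 1) * y + ω * z = 0 := by
  have e0 : (((G2 ω) : Matrix (Fin 3) (Fin 3) F) * (OO x y z) * ct 2 (G2 ω)) 0 0 =
      x + x^2 + y * ω^2 + y^2 * ω + z * ω + z^2 * ω^2 := by
    simp [G0, G1, G2, OO, DD, Matrix.mul_apply, Fin.sum_univ_three] <;> ring
  have e1 : (((G2 ω) : Matrix (Fin 3) (Fin 3) F) * (OO x y z) * ct 2 (G2 ω)) 1 1 =
      x * ω^2 + x^2 * ω + y * ω + y^2 * ω^2 + z + z^2 := by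
    simp [G0, G1, G2, OO, DD, Matrix.mul_apply, Fin.sum_univ_three] <;> ring
  have e2 : (((G2 ω) : Matrix (Fin 3) (Fin 3) F) * (OO x y z) * ct 2 (G2 ω)) 2 2 =
      x * ω^2 + x * ω^3 + x^2 * ω + (2) * x^2 * ω^2 + x^2 * ω^3 + y * ω^3 + y^2 * ω^3 + z * ω + (2) * z * ω^2 + z * ω^3 + z^2 * ω^2 + z^2 * ω^3 := by
    simp [G0, G1, G2, OO, DD, Matrix.mul_apply, Fin.sum_univ_three] <;> ring
  rw [e0, e1] at h01
  rw [e1, e2] at h12
  linear_combination h01 + (ω + 1) * h12 + ((4) * x + (2) * x * ω + x * ω^2 + (7) * x^2 + (4) * x^2 * ω + x^2 * ω^2 + y + (2) * y * ω + y * ω^2 + (2) * y^2 + y^2 * ω + y^2 * ω^2 + (8) * z + (4) * z * ω + z * ω^2 + (4) * z^2 + (3) * z^2 * ω + z^2 * ω^2) * hω + ((2) * x + (3) * x * ω + (3) * x^2 + (6) * x^2 * ω + y + (2) * y * ω + y^2 + y^2 * ω + (4) * z + (6) * z * ω + (2) * z^2 + (3) * z^2 * ω) * h2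

theorem D_unit (ω : F) (hω : ω ^ 2 = ω + 1) (h2 : (2 : F) = 0) :
    ((DD ω) : Matrix (Fin 3) (Fin 3) F) * ct 2 (DD ω) = 1 := by
  ext i j
  fin_cases i <;> fin_cases j <;> simp [G0, G1, G2, OO, DD, Matrix.mul_apply, Fin.sum_univ_three]
  all_goals first | linear_combination ((1) + ω) * hω + (ω) * h2 | ring1 | linear_combination ((4) + ω) * hω + ((2) + (4) * ω) * h2

theorem D_det (ω : F) (hω : ω ^ 2 = ω + 1) (h2 : (2 : F) = 0) :
    ((DD ω) : Matrix (Fin 3) (Fin 3) F).det = 1 := by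
  rw [Matrix.det_fin_three]
  simp [DD]
  linear_combination ((1)) * hω + (ω) * h2

theorem D_avg_lit (ω : F) (hω : ω ^ 2 = ω + 1) (h2 : (2 : F) = 0) (s00 s01 s02 s10 s11 s12 s20 s21 s22 : F) :
    (!![s00, s01, s02; s10, s11, s12; s20, s21, s22] : Matrix (Fin 3) (Fin 3) F) + (DD ω) * (!![s00, s01, s02; s10, s11, s12; s20, s21, s22] : Matrix (Fin 3) (Fin 3) F) * ct 2 (DD ω) + (DD ω) * ((DD ω) * (!![s00, s01, s02; s10, s11, s12; s20, s21, s22] : Matrix (Fin 3) (Fin 3) F) * ct 2 (DD ω)) * ct 2 (DD ω) =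
      !![s00, 0, 0; 0, s11, 0; 0, 0, s22] := by
  ext i j
  fin_cases i <;> fin_cases j <;> simp [DD, ct_lit, Matrix.mul_apply, Fin.sum_univ_three]
  all_goals first | linear_combination ((6) * s00 + (4) * s00 * ω + (2) * s00 * ω^2 + s00 * ω^3 + s00 * ω^4) * hω + ((3) * s00 + (5) * s00 * ω) * h2 | linear_combination ((37) * s01 + (22) * s01 * ω + (12) * s01 * ω^2 + (5) * s01 * ω^3 + s01 * ω^4) * hω + ((19) * s01 + (30) * s01 * ω) * h2 | linear_combination (s02) * hω + (s02 + s02 * ω) * h2 | linear_combination ((15) * s10 + (9) * s10 * ω + (5) * s10 * ω^2 + (3) * s10 * ω^3 + s10 * ω^4) * hω + ((8) * s10 + (12) * s10 * ω) * h2 | linear_combination ((92) * s11 + (51) * s11 * ω + (23) * s11 * ω^2 + (7) * s11 * ω^3 + s11 * ω^4) * hω + ((47) * s11 + (76) * s11 * ω) * h2 | linear_combination (s12) * hω + ((2) * s12 + (2) * s12 * ω) * h2 | linear_combination ((3) * s20 + s20 * ω + s20 * ω^2) * hω + ((2) * s20 + (2) * s20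 * ω) * h2 | linear_combination ((13) * s21 + (5) * s21 * ω + s21 * ω^2) * hω + ((8) * s21 + (12) * s21 * ω) * h2 | linear_combination (s22) * h2

theorem D_avg (ω : F) (hω : ω ^ 2 = ω + 1) (h2 : (2 : F) = 0) (S : Matrix (Fin 3) (Fin 3) F) :
    S + (DD ω) * S * ct 2 (DD ω) + (DD ω) * ((DD ω) * S * ct 2 (DD ω)) * ct 2 (DD ω) =
      !![S 0 0, 0, 0; 0, S 1 1, 0; 0, 0, S 2 2] := by
  have := D_avg_lit ω hω h2 (S 0 0) (S 0 1) (S 0 2) (S 1 0) (S 1 1) (S 1 2) (S 2 0) (S 2 1) (S 2 2)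
  rwa [← Matrix.eta_fin_three S] at this

theorem rk1_single0 : rk1 2 (Pi.single (0 : Fin 3) (1 : F)) = !![1, 0, 0; 0, 0, 0; 0, 0, 0] := by
  ext i j
  fin_cases i <;> fin_cases j <;> simp [rk1_apply]

theorem rk1_single1 : rk1 2 (Pi.single (1 : Fin 3) (1 : F)) = !![0, 0, 0; 0, 1, 0; 0, 0, 0] := by
  ext i j
  fin_cases i <;> fin_cases j <;> simp [rk1_apply]

theorem rk1_single2 : rk1 2 (Pi.single (2 : Fin 3) (1 : F)) = !![0, 0, 0; 0, 0, 0; 0, 0, 1] := by
  ext i j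
  fin_cases i <;> fin_cases j <;> simp [rk1_apply]

theorem single_ne (i : Fin 3) : (Pi.single i (1 : F) : Fin 3 → F) ≠ 0 := by
  intro h
  have := congrFun h i
  simp at this

theorem zero_or_one (h2 : (2 : F) = 0) {t : F} (h : t = t ^ 2) : t = 0 ∨ t = 1 := by
  have : t * (t - 1) = 0 := by linear_combination -h
  rcases mul_eq_zero.mp this with h | h
  · exact Or.inl h
  · exact Or.inr (sub_eq_zero.mp h)

/-- F-A3 -/
theorem rank_one_of_two_three [Fintype F] (hF : Fintype.card F = 2 ^ 2)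
    (X : AddSubgroup (Matrix (Fin 3) (Fin 3) F)) (hX : InvX 2 X)
    (h1 : (1 : Matrix (Fin 3) (Fin 3) F) ∈ X)
    (S₀ : Matrix (Fin 3) (Fin 3) F) (hS₀ : S₀ ∈ X) (hns : ¬ ∃ c : F, S₀ = c • 1) :
    ∃ u : Fin 3 → F, u ≠ 0 ∧ rk1 2 u ∈ X := by
  have h2 := two_eq_zero hF
  obtain ⟨ω, hω⟩ := exists_omega hF
  have hdiag : ∀ S ∈ X,
      (!![S 0 0, 0, 0; 0, S 1 1, 0; 0, 0, S 2 2] : Matrix (Fin 3) (Fin 3) F) ∈ X := by
    intro S hS
    rw [← D_avg ω hω h2 S]
    have hU := D_unit ω hω h2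
    have hD := D_det ω hω h2
    have t1 := hX.conj _ hU hD S hS
    have t2 := hX.conj _ hU hD _ t1
    exact X.add_mem (X.add_mem hS t1) t2
  by_cases hall : ∀ T ∈ X, T 0 0 = T 1 1 ∧ T 1 1 = T 2 2
  · exfalso
    obtain ⟨h01, h12⟩ := hall S₀ hS₀
    have hd := hdiag S₀ hS₀
    obtain ⟨O, hO⟩ : ∃ O : Matrix (Fin 3) (Fin 3) F,
        O = S₀ - !![S₀ 0 0, 0, 0; 0, S₀ 1 1, 0; 0, 0, S₀ 2 2] := ⟨_, rfl⟩
    have hOX : O ∈ X := by rw [hO]; exact X.sub_mem hS₀ hd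
    have hO00 : O 0 0 = 0 := by rw [hO]; simp
    have hO11 : O 1 1 = 0 := by rw [hO]; simp
    have hO22 : O 2 2 = 0 := by rw [hO]; simp
    have hherm := herm_entry h2 (hX.skew O hOX)
    have hOlit : O = OO (O 0 1) (O 1 2) (O 2 0) := by
      ext i j
      fin_cases i <;> fin_cases j <;> simp [OO, hO00, hO11, hO22]
      · exact hherm 2 0
      · exact hherm 0 1
      · exact hherm 1 2
    have k0 : O 0 1 + O 1 2 + O 2 0 = 0 := by
      have hT := hX.conj _ (G0_unit ω hω h2) (G0_det ω hω h2) O hOX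
      obtain ⟨a, b⟩ := hall _ hT
      rw [hOlit] at a b
      exact G0_key ω _ _ _ hω h2 a b
    have k1 : O 0 1 + ω * O 1 2 + (ω + 1) * O 2 0 = 0 := by
      have hT := hX.conj _ (G1_unit ω hω h2) (G1_det ω hω h2) O hOX
      obtain ⟨a, b⟩ := hall _ hT
      rw [hOlit] at a b
      exact G1_key ω _ _ _ hω h2 a b
    have k2 : O 0 1 + (ω + 1) * O 1 2 + ω * O 2 0 = 0 := by
      have hT := hX.conj _ (G2_unit ω hω h2) (G2_det ω hω h2) O hOX
      obtain ⟨a, b⟩ := hall _ hT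
      rw [hOlit] at a b
      exact G2_key ω _ _ _ hω h2 a b
    have hx : O 0 1 = 0 := by
      linear_combination k0 + k1 + k2 - (O 0 1 + (ω + 1) * (O 1 2 + O 2 0)) * h2
    have hy : O 1 2 = 0 := by
      linear_combination k0 + (ω + 1) * k1 + ω * k2 -
        ((ω + 1) * O 0 1 + (ω ^ 2 + ω) * O 1 2 + (ω ^ 2 + ω + 1) * O 2 0) * h2
    have hz : O 2 0 = 0 := by
      linear_combination k0 + ω * k1 + (ω + 1) * k2 -
        ((ω + 1) * O 0 1 + (ω ^ 2 + ω + 1) * O 1 2 + (ω ^ 2 + ω) * O 2 0) * h2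
    have hO0 : O = 0 := by
      rw [hOlit, hx, hy, hz]
      ext i j
      fin_cases i <;> fin_cases j <;> simp [OO]
    apply hns
    refine ⟨S₀ 0 0, ?_⟩
    have hS : S₀ = !![S₀ 0 0, 0, 0; 0, S₀ 1 1, 0; 0, 0, S₀ 2 2] := by
      have := hO0
      rw [hO] at this
      exact sub_eq_zero.mp this
    rw [hS]
    ext i j
    fin_cases i <;> fin_cases j <;> simp [← h01, ← h12]
  · push Not at hall
    obtain ⟨T, hT, hne⟩ := hall
    have hd := hdiag T hT
    have hherm := herm_entry h2 (hX.skew T hT)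
    have one3 : (1 : Matrix (Fin 3) (Fin 3) F) = !![1, 0, 0; 0, 1, 0; 0, 0, 1] := Matrix.one_fin_three
    rcases zero_or_one h2 (hherm 0 0) with a0 | a0 <;>
    rcases zero_or_one h2 (hherm 1 1) with a1 | a1 <;>
    rcases zero_or_one h2 (hherm 2 2) with a2 | a2
    · exact absurd (a1.trans a2.symm) (hne (a0.trans a1.symm))
    · refine ⟨Pi.single 2 1, single_ne 2, ?_⟩
      rw [rk1_single2]
      rw [a0, a1, a2] at hd
      exact hd
    · refine ⟨Pi.single 1 1, single_ne 1, ?_⟩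
      rw [rk1_single1]
      rw [a0, a1, a2] at hd
      exact hd
    · refine ⟨Pi.single 0 1, single_ne 0, ?_⟩
      rw [rk1_single0]
      rw [a0, a1, a2] at hd
      have := X.sub_mem h1 hd
      convert this using 1
      rw [one3]
      ext i j
      fin_cases i <;> fin_cases j <;> simp
    · refine ⟨Pi.single 0 1, single_ne 0, ?_⟩
      rw [rk1_single0]
      rw [a0, a1, a2] at hd
      exact hd
    · refine ⟨Pi.single 1 1, single_ne 1, ?_⟩
      rw [rk1_single1]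
      rw [a0, a1, a2] at hd
      have := X.sub_mem h1 hd
      convert this using 1
      rw [one3]
      ext i j
      fin_cases i <;> fin_cases j <;> simp
    · refine ⟨Pi.single 2 1, single_ne 2, ?_⟩
      rw [rk1_single2]
      rw [a0, a1, a2] at hd
      have := X.sub_mem h1 hd
      convert this using 1
      rw [one3]
      ext i j
      fin_cases i <;> fin_cases j <;> simp
    · exact absurd (a1.trans a2.symm) (hne (a0.trans a1.symm))

end Cfsg.Agent.Lib.Helper10.S5670T3cFA3
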