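import Mathlib
import Cfsg.Agent.Lib.Helper9.OExtDefs
import Cfsg.Agent.Lib.Helper7.SpExtBas
import Cfsg.Agent.Lib.Helper21.S5664FOBASb
import Cfsg.Agent.Lib.Helper26.S5701FOBAS
import Cfsg.Agent.Lib.Helper9.OExtC1

/-!
# S5701 farm-out FO-C3a (helper10, for helper9): `gram_nondeg`

`gram_nondeg_aux` has `inter_perp_le` (FO-C1) as the explicit hypothesis `hC1`; `gram_nondeg` is the exact
skeleton statement (with helper9's `OExtC1.inter_perp_le`).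
-/

set_option autoImplicit false

namespace Cfsg.Agent.Lib.Helper10.S5701C3a

open Matrix Module QuadraticMap Cfsg.Agent.Lib.Helper7.SpExt Cfsg.Agent.Lib.Helper9.OExt
  Cfsg.Agent.Lib.Helper26.S5701BAS

variable {F : Type*} [Field F] [Fintype F] {L : Type*} [Field L] [Algebra F L] {ι : Type} [Fintype ι]
  [DecidableEq ι] {ρ : L →ₐ[F] Matrix ι ι F} {Q : QuadraticForm F (ι → F)} {τ : L →ₗ[F] F}
  {B : (ι → F) →ₗ[F] (ι → F) →ₗ[F] L} {r : ℕ}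

/-- `Img` of a product -/
theorem Img_mul (x g : GL ι F) (v : ι → F) : Img ρ (x * g) v = (Img ρ g v).map (actL x) := by
  ext y
  constructor
  · intro hy
    obtain ⟨a, ha⟩ := (mem_Img ρ (x * g) v y).1 hy
    rw [act_mul] at ha
    exact ⟨act g (ρ a *ᵥ v), (mem_Img ρ g v _).2 ⟨a, rfl⟩, ha⟩
  · rintro ⟨z, hz, rfl⟩
    obtain ⟨a, rfl⟩ := (mem_Img ρ g v z).1 hz
    exact (mem_Img ρ (x * g) v _).2 ⟨a, by rw [act_mul]; rfl⟩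

/-- a Siegel element with `B w v₁ = 0` fixes `pt ρ v₁` pointwise -/
theorem sieg_fix (S : OStr ρ Q τ B) {v₁ w : ι → F} (hv₁ : B v₁ v₁ = 0) (hw1 : B w v₁ = 0)
    {x : GL ι F} (hx : IsSieg ρ B v₁ w x) {y : ι → F} (hy : y ∈ pt ρ v₁) : act x y = y := by
  obtain ⟨c, rfl⟩ := (mem_pt ρ v₁ y).1 hy
  rw [hx, S.lin, S.lin, hv₁, S.symm v₁ w, hw1]
  simp

theorem gram_nondeg_aux (S : OStr ρ Q τ B) (hrk : finrank F L = r) (hr : 0 < r)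
    (H : Subgroup (GL ι F)) (hS : HasSieg ρ B H)
    (hH : H ≤ Cfsg.isometryGroup F ⇑Q) (hnoP : ∀ h h' v v', ¬ PPair ρ Q B H h h' v v')
    (hC1 : ∀ (v₁ v₀ : ι → F) (g₀ : GL ι F), MaxI ρ B H v₁ v₀ g₀ →
      ∀ u ∈ Img ρ g₀ v₀, B u v₁ = 0 → u ∈ pt ρ v₁)
    (v₁ v₀ : ι → F) (g₀ : GL ι F) (hmax : MaxI ρ B H v₁ v₀ g₀) (v₂ : ι → F)
    (h12 : B v₁ v₂ = 1) (w : ι → F) (hw0 : w ≠ 0) (hw1 : B w v₁ = 0) (hw2 : B w v₂ = 0)
    (x : GL ι F) (hx : IsSieg ρ B v₁ w x) :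
    ∀ u ∈ Img ρ g₀ v₀, (∀ u' ∈ Img ρ g₀ v₀, polar (⇑Q) (act x u) u' = 0) → u ∈ pt ρ v₁ := by
  obtain ⟨hg₀, hv₁, hv₀, hne, hDne, hmaxI⟩ := hmax
  have hxH : x ∈ H := hS v₁ w x hv₁.2 (by rw [S.symm]; exact hw1) hx
  have hfix : ∀ y ∈ pt ρ v₁, act x y = y := fun y hy => sieg_fix S hv₁.2 hw1 hx hy
  set P' := Img ρ g₀ v₀ with hP'
  set D := pt ρ v₁ ⊓ Img ρ g₀ v₀ with hD
  -- `D ≤ xP'`
  have hDx : D ≤ Img ρ (x * g₀) v₀ := by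
    intro d hd
    rw [Img_mul]
    exact ⟨d, hd.2, by rw [actL_apply]; exact hfix d hd.1⟩
  -- Step 1 : `xP' ≠ P'`
  have hstep1 : Img ρ (x * g₀) v₀ ≠ Img ρ g₀ v₀ := by
    intro heq
    -- the pair `(1, g₀, v₁, v₀)` is an `IPair`, hence not perpendicular
    have hI : IPair ρ B H 1 g₀ v₁ v₀ := by
      refine ⟨H.one_mem, hg₀, hv₁, hv₀, ?_, ?_⟩
      · rw [Img_one]; exact hne
      · rw [Img_one]; exact hDne
    have hnp := hnoP 1 g₀ v₁ v₀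
    have : ∃ u₀ ∈ Img ρ g₀ v₀, B u₀ v₁ ≠ 0 := by
      by_contra hcon
      push Not at hcon
      apply hnp
      refine ⟨hI, ?_⟩
      intro y hy u hu
      rw [Img_one] at hy
      rw [polar_comm]
      exact (B_eq_zero_iff S u v₁).1 (hcon u hu) y hy
    obtain ⟨u₀, hu₀, hu₀v⟩ := this
    have hxu₀ : act x u₀ ∈ Img ρ g₀ v₀ := by
      rw [← heq, Img_mul]
      exact ⟨u₀, hu₀, rfl⟩
    have hdiff : act x u₀ - u₀ ∈ Img ρ g₀ v₀ := Submodule.sub_mem _ hxu₀ hu₀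
    have hform : act x u₀ - u₀ = ρ (B u₀ w) *ᵥ v₁ - ρ (B u₀ v₁) *ᵥ w -
        ρ (B w w / 2 * B u₀ v₁) *ᵥ v₁ := by
      rw [hx]; abel
    have hB0 : B (act x u₀ - u₀) v₁ = 0 := by
      rw [hform]
      simp only [map_sub, LinearMap.sub_apply, S.lin, hv₁.2, hw1, mul_zero, sub_zero]
    have hmem := hC1 v₁ v₀ g₀ ⟨hg₀, hv₁, hv₀, hne, hDne, hmaxI⟩ _ hdiff hB0
    -- so `B(u₀,v₁)∙w ∈ pt ρ v₁`
    have hw' : ρ (B u₀ v₁) *ᵥ w ∈ pt ρ v₁ := by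
      have h1 : ρ (B u₀ v₁) *ᵥ w = ρ (B u₀ w) *ᵥ v₁ - ρ (B w w / 2 * B u₀ v₁) *ᵥ v₁ -
          (act x u₀ - u₀) := by
        rw [hform]; abel
      rw [h1]
      exact Submodule.sub_mem _ (Submodule.sub_mem _ (smul_mem_pt ρ v₁ _) (smul_mem_pt ρ v₁ _)) hmem
    obtain ⟨c, hc⟩ := (mem_pt ρ v₁ _).1 hw'
    -- `w = (c / B(u₀,v₁))∙v₁`
    have hw'' : w = ρ ((B u₀ v₁)⁻¹ * c) *ᵥ v₁ := by
      rw [rho_mul_mulVec, hc, ← rho_mul_mulVec, inv_mul_cancel₀ hu₀v, rho_one_mulVec]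
    apply hw0
    have : (B u₀ v₁)⁻¹ * c = 0 := by
      have h2 := hw2
      rw [hw'', S.lin, h12, mul_one] at h2
      exact h2
    rw [hw'', this, rho_zero_mulVec]
  -- Step 2 : `xP' ⊓ P' = D`
  have hI2 : IPair ρ B H (x * g₀) g₀ v₀ v₀ := by
    refine ⟨H.mul_mem hxH hg₀, hg₀, hv₀, hv₀, hstep1, ?_⟩
    intro h0
    apply hDne
    rw [eq_bot_iff]
    intro d hd
    rw [← h0]
    exact ⟨hDx hd, hd.2⟩
  have hle : D ≤ Img ρ (x * g₀) v₀ ⊓ Img ρ g₀ v₀ := fun d hd => ⟨hDx hd, hd.2⟩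
  have heqD : Img ρ (x * g₀) v₀ ⊓ Img ρ g₀ v₀ = D :=
    (Submodule.eq_of_le_of_finrank_le hle (hmaxI _ _ _ _ hI2)).symm
  -- Step 3 : the conjugated maximal pair
  have hmax' : MaxI ρ B H v₀ v₀ (g₀⁻¹ * x * g₀) := by
    have hmap : (Img ρ (x * g₀) v₀ ⊓ Img ρ g₀ v₀).map (actL g₀⁻¹) =
        pt ρ v₀ ⊓ Img ρ (g₀⁻¹ * x * g₀) v₀ := by
      rw [Submodule.map_inf _ (Cfsg.Agent.Lib.Helper21.S5664BASb.actL_injective g₀⁻¹),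
        ← Img_mul, ← Img_mul, inv_mul_cancel, Img_one, inf_comm, mul_assoc]
    refine ⟨H.mul_mem (H.mul_mem (H.inv_mem hg₀) hxH) hg₀, hv₀, hv₀, ?_, ?_, ?_⟩
    · intro heq
      apply hstep1
      have h1 : Img ρ (x * g₀) v₀ = (Img ρ (g₀⁻¹ * x * g₀) v₀).map (actL g₀) := by
        rw [← Img_mul]
        congr 1
        group
      rw [h1, ← heq]
      rfl
    · rw [← hmap, heqD]
      intro h0
      apply hDne
      rw [eq_bot_iff]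
      intro d hd
      have h1 : actL g₀⁻¹ d ∈ D.map (actL g₀⁻¹) := ⟨d, hd, rfl⟩
      rw [h0, Submodule.mem_bot] at h1
      rw [Submodule.mem_bot]
      exact Cfsg.Agent.Lib.Helper21.S5664BASb.actL_injective g₀⁻¹ (h1.trans (map_zero _).symm)
    · intro k k' w₁ w₂ hI
      rw [← hmap, heqD]
      rw [← (Submodule.equivMapOfInjective (actL g₀⁻¹)
        (Cfsg.Agent.Lib.Helper21.S5664BASb.actL_injective g₀⁻¹) D).finrank_eq]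
      exact hmaxI k k' w₁ w₂ hI
  have hC1' := hC1 v₀ v₀ (g₀⁻¹ * x * g₀) hmax'
  -- Step 4
  intro u hu hperp
  have hxu : act x u ∈ Img ρ (x * g₀) v₀ := by
    rw [Img_mul]; exact ⟨u, hu, rfl⟩
  have hxuP : act x u ∈ Img ρ g₀ v₀ := by
    -- `g₀⁻¹ (x u) ∈ Img ρ (g₀⁻¹ x g₀) v₀` and is `B`-perpendicular to `v₀`
    have h1 : act g₀⁻¹ (act x u) ∈ Img ρ (g₀⁻¹ * x * g₀) v₀ := by
      rw [mul_assoc, Img_mul]
      exact ⟨act x u, hxu, rfl⟩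
    have h2 : B (act g₀⁻¹ (act x u)) v₀ = 0 := by
      rw [B_eq_zero_iff S]
      intro y hy
      have h3 := polar_act (Q := Q) (hH hg₀) (act g₀⁻¹ (act x u)) y
      rw [act_act_inv] at h3
      rw [← h3]
      apply hperp
      obtain ⟨a, rfl⟩ := (mem_pt ρ v₀ y).1 hy
      exact (mem_Img ρ g₀ v₀ _).2 ⟨a, rfl⟩
    have h4 := hC1' _ h1 h2
    obtain ⟨a, ha⟩ := (mem_pt ρ v₀ _).1 h4
    refine (mem_Img ρ g₀ v₀ _).2 ⟨a, ?_⟩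
    rw [ha, act_act_inv]
  have hxuD : act x u ∈ D := by
    rw [← heqD]; exact ⟨hxu, hxuP⟩
  have h5 : act x (act x u) = act x u := hfix _ hxuD.1
  have h6 : act x u = u := act_injective x h5
  rw [← h6]
  exact hxuD.1

theorem gram_nondeg (S : OStr ρ Q τ B) (hr : r.Prime) (hrk : finrank F L = r)
    (hn : 4 * r ≤ Fintype.card ι) (H : Subgroup (GL ι F)) (hS : HasSieg ρ B H)
    (hH : H ≤ Cfsg.isometryGroup F ⇑Q) (hnoP : ∀ h h' v v', ¬ PPair ρ Q B H h h' v v')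
    (v₁ v₀ : ι → F) (g₀ : GL ι F) (hmax : MaxI ρ B H v₁ v₀ g₀) (v₂ : ι → F) (hv₂ : LSing B v₂)
    (h12 : B v₁ v₂ = 1) (w : ι → F) (hw0 : w ≠ 0) (hw1 : B w v₁ = 0) (hw2 : B w v₂ = 0)
    (x : GL ι F) (hx : IsSieg ρ B v₁ w x) :
    ∀ u ∈ Img ρ g₀ v₀, (∀ u' ∈ Img ρ g₀ v₀, polar (⇑Q) (act x u) u' = 0) → u ∈ pt ρ v₁ :=
  gram_nondeg_aux S hrk hr.pos H hS hH hnoP
    (fun v₁ v₀ g₀ hm => Cfsg.Agent.Lib.Helper9.OExtC1.inter_perp_le S hr hrk hn H hS hH hnoP v₁ v₀ g₀ hm)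
    v₁ v₀ g₀ hmax v₂ h12 w hw0 hw1 hw2 x hx

end Cfsg.Agent.Lib.Helper10.S5701C3a
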