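import Mathlib
import Cfsg.Agent.Lib.Helper9.OExtDefs
import Cfsg.Agent.Lib.Helper7.SpExtBas
import Cfsg.Agent.Lib.Helper21.S5664FOBASb
import Cfsg.Agent.Lib.Helper26.S5701FOBAS
import Cfsg.Agent.Lib.Helper15.S5701FOF0

/-!
# S5701 farm-out FO-E0 (helper10, for helper9): `configA_symm` and `exists_mixed_sieg`
-/

set_option autoImplicit false

namespace Cfsg.Agent.Lib.Helper10.S5701E0

open Matrix Module QuadraticMap Cfsg.Agent.Lib.Helper7.SpExt Cfsg.Agent.Lib.Helper9.OExt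
  Cfsg.Agent.Lib.Helper6 Cfsg.Agent.Lib.Helper13

variable {F : Type*} [Field F] [Fintype F] {L : Type*} [Field L] [Algebra F L] {ι : Type} [Fintype ι]
  [DecidableEq ι] {ρ : L →ₐ[F] Matrix ι ι F} {Q : QuadraticForm F (ι → F)} {τ : L →ₗ[F] F}
  {B : (ι → F) →ₗ[F] (ι → F) →ₗ[F] L} {r : ℕ}

/-- the image of `pt ρ v₁ ⊓ Img ρ g₀ v₀` under `g₀⁻¹` -/
theorem map_inv_inf (g₀ : GL ι F) (v₁ v₀ : ι → F) :
    (pt ρ v₁ ⊓ Img ρ g₀ v₀).map (actL g₀⁻¹) = pt ρ v₀ ⊓ Img ρ g₀⁻¹ v₁ := by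
  ext x
  constructor
  · rintro ⟨y, ⟨hy1, hy2⟩, rfl⟩
    refine ⟨?_, ?_⟩
    · obtain ⟨a, ha⟩ := (mem_Img ρ g₀ v₀ y).1 hy2
      rw [actL_apply, ← ha, act_inv_act]
      exact smul_mem_pt ρ v₀ a
    · obtain ⟨a, ha⟩ := (mem_pt ρ v₁ y).1 hy1
      exact (mem_Img ρ g₀⁻¹ v₁ _).2 ⟨a, by rw [ha]; rfl⟩
  · rintro ⟨hx1, hx2⟩
    refine ⟨act g₀ x, ⟨?_, ?_⟩, ?_⟩
    · obtain ⟨a, ha⟩ := (mem_Img ρ g₀⁻¹ v₁ x).1 hx2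
      rw [← ha, act_act_inv]
      exact smul_mem_pt ρ v₁ a
    · obtain ⟨a, ha⟩ := (mem_pt ρ v₀ x).1 hx1
      exact (mem_Img ρ g₀ v₀ _).2 ⟨a, by rw [ha]⟩
    · rw [actL_apply, act_inv_act]

theorem configA_symm (S : OStr ρ Q τ B) (H : Subgroup (GL ι F))
    (hH : H ≤ Cfsg.isometryGroup F ⇑Q) {v₁ v₀ : ι → F} {g₀ : GL ι F}
    (hc : ConfigA ρ Q B H r v₁ v₀ g₀) : ConfigA ρ Q B H r v₀ v₁ g₀⁻¹ := by
  obtain ⟨hg, hv₁, hv₀, hfr, hperp⟩ := hc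
  refine ⟨H.inv_mem hg, hv₀, hv₁, ?_, ?_⟩
  · rw [← map_inv_inf g₀ v₁ v₀]
    rw [← (Submodule.equivMapOfInjective (actL g₀⁻¹)
      (Cfsg.Agent.Lib.Helper21.S5664BASb.actL_injective g₀⁻¹) (pt ρ v₁ ⊓ Img ρ g₀ v₀)).finrank_eq]
    exact hfr
  · intro x hx y hy
    obtain ⟨a, rfl⟩ := (mem_pt ρ v₀ x).1 hx
    obtain ⟨b, rfl⟩ := (mem_Img ρ g₀⁻¹ v₁ y).1 hy
    have h1 := Cfsg.Agent.Lib.Helper26.S5701BAS.polar_act (Q := Q) (hH hg) (ρ a *ᵥ v₀)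
      (act g₀⁻¹ (ρ b *ᵥ v₁))
    rw [act_act_inv] at h1
    rw [← h1, polar_comm]
    exact hperp _ (smul_mem_pt ρ v₁ b) _ ((mem_Img ρ g₀ v₀ _).2 ⟨a, rfl⟩)

theorem exists_mixed_sieg (S : OStr ρ Q τ B) (hr : r.Prime) (hrk : finrank F L = r)
    (H : Subgroup (GL ι F)) (hH : H ≤ Cfsg.isometryGroup F ⇑Q) (v₁ v₀ : ι → F) (g₀ : GL ι F)
    (hc : ConfigA ρ Q B H r v₁ v₀ g₀)
    (hZ0 : ∀ a b : L, SiegIn Q H (ρ a *ᵥ v₀) (ρ b *ᵥ v₀)) :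
    ∃ (d : L) (u : ι → F), d ≠ 0 ∧ B u (ρ d *ᵥ v₁) = 0 ∧ u ∉ pt ρ (ρ d *ᵥ v₁) ∧
      SiegIn Q H (ρ d *ᵥ v₁) u := by
  obtain ⟨hg, hv₁, hv₀, hfr, hperp⟩ := hc
  have hrpos : 0 < r := hr.pos
  -- a non-zero vector of `D = pt ρ v₁ ⊓ Img ρ g₀ v₀`
  have hDne : pt ρ v₁ ⊓ Img ρ g₀ v₀ ≠ ⊥ := by
    intro h0
    rw [h0, finrank_bot] at hfr
    have := hr.two_le
    omega
  obtain ⟨x, hxD, hx0⟩ := Submodule.exists_mem_ne_zero_of_ne_bot hDne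
  obtain ⟨d, hd⟩ := (mem_pt ρ v₁ x).1 hxD.1
  obtain ⟨a, ha⟩ := (mem_Img ρ g₀ v₀ x).1 hxD.2
  have hd0 : d ≠ 0 := by
    rintro rfl
    apply hx0
    rw [← hd, map_zero, Matrix.zero_mulVec]
  -- a vector of `Img ρ g₀ v₀` outside `pt ρ v₁`
  have hnle : ¬ Img ρ g₀ v₀ ≤ pt ρ v₁ := by
    intro hle
    have h1 : pt ρ v₁ ⊓ Img ρ g₀ v₀ = Img ρ g₀ v₀ := inf_eq_right.mpr hle
    rw [h1, Cfsg.Agent.Lib.Helper21.S5664BASb.finrank_Img ρ hrk hrpos g₀ hv₀.1] at hfr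
    omega
  obtain ⟨u, huI, huP⟩ := SetLike.not_le_iff_exists.mp hnle
  obtain ⟨b, hb⟩ := (mem_Img ρ g₀ v₀ u).1 huI
  have hpt : pt ρ (ρ d *ᵥ v₁) = pt ρ v₁ := by
    apply Cfsg.Agent.Lib.Helper26.S5701BAS.pt_eq_of_mem ρ (smul_mem_pt ρ v₁ d)
    rw [hd]; exact hx0
  refine ⟨d, u, hd0, ?_, ?_, ?_⟩
  · rw [Cfsg.Agent.Lib.Helper26.S5701BAS.B_eq_zero_iff S, hpt]
    intro y hy
    rw [polar_comm]
    exact hperp y hy u huI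
  · rw [hpt]; exact huP
  · have hconj := Cfsg.Agent.Lib.Helper15.S5701F0.SiegIn.conj (Q := Q) hg (hH hg)
      (Cfsg.Agent.Lib.Helper26.S5701BAS.Q_rho_of_sing S hv₀.2 a)
      (by
        rw [Cfsg.Agent.Lib.Helper26.S5701BAS.polar_rho_left S,
          Cfsg.Agent.Lib.Helper26.S5701BAS.B_lin_right S, hv₀.2, mul_zero, mul_zero, map_zero])
      (hZ0 a b)
    rw [ha, hb, ← hd] at hconj
    exact hconj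

end Cfsg.Agent.Lib.Helper10.S5701E0
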