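import Mathlib
import Cfsg.Prelude.Def_GeometricClasses
import Cfsg.Agent.Lib.Helper25.SpinDefs

/-!
# S5707 layer L1a (helper10, for helper25): pure tensor matrices / vectors, site permutations

Exact statements of the stubs of `Cfsg/Agent/Lib/Helper25/SpinL1a.lean`.
-/

set_option autoImplicit false

namespace Cfsg.Agent.Lib.Helper10.S5707L1a

open Matrix Cfsg.Agent.Lib.Helper25.Spin

variable {F : Type*} [Field F]

variable {S : Type} [Fintype S] [DecidableEq S] {m : ℕ}

theorem pureMat_apply (gs : S → Matrix (Fin m) (Fin m) F) (x y : S → Fin m) :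
    pureMat gs x y = ∏ s, gs s (x s) (y s) := rfl

theorem pureVec_apply (vs : S → Fin m → F) (x : S → Fin m) :
    pureVec vs x = ∏ s, vs s (x s) := rfl

theorem permMat_apply (σ : Equiv.Perm S) (x y : S → Fin m) :
    (permMat σ : Matrix (S → Fin m) (S → Fin m) F) x y = if y = x ∘ σ then 1 else 0 := rfl

/-- ALG-PURE -/
theorem pureMat_mul (gs gs' : S → Matrix (Fin m) (Fin m) F) :
    pureMat gs * pureMat gs' = pureMat (fun s => gs s * gs' s) := by
  ext x y
  rw [Matrix.mul_apply]
  simp only [pureMat_apply, Matrix.mul_apply]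
  rw [Finset.prod_univ_sum, Fintype.piFinset_univ]
  apply Finset.sum_congr rfl
  intro z _
  rw [Finset.prod_mul_distrib]

theorem prod_one_apply (x y : S → Fin m) (s : Finset S) :
    (∏ i ∈ s, (1 : Matrix (Fin m) (Fin m) F) (x i) (y i)) = if (∀ i ∈ s, x i = y i) then 1 else 0 := by
  simp only [Matrix.one_apply]
  rw [Finset.prod_ite_zero]
  simp

/-- ALG-PURE -/
theorem pureMat_one : pureMat (fun _ : S => (1 : Matrix (Fin m) (Fin m) F)) = 1 := by
  ext x y
  rw [pureMat_apply, prod_one_apply, Matrix.one_apply]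
  by_cases h : x = y
  · subst h
    simp
  · rw [if_neg h, if_neg]
    intro h'
    exact h (funext fun i => h' i (Finset.mem_univ i))

/-- ALG-PURE -/
theorem pureMat_transpose (gs : S → Matrix (Fin m) (Fin m) F) :
    (pureMat gs)ᵀ = pureMat (fun s => (gs s)ᵀ) := by
  ext x y
  rw [Matrix.transpose_apply, pureMat_apply, pureMat_apply]
  rfl

/-- ALG-PURE -/
theorem pureMat_mulVec (gs : S → Matrix (Fin m) (Fin m) F) (vs : S → Fin m → F) :
    pureMat gs *ᵥ pureVec vs = pureVec (fun s => gs s *ᵥ vs s) := by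
  funext x
  rw [Matrix.mulVec, dotProduct]
  simp only [pureMat_apply, pureVec_apply, Matrix.mulVec, dotProduct]
  rw [Finset.prod_univ_sum, Fintype.piFinset_univ]
  apply Finset.sum_congr rfl
  intro z _
  rw [Finset.prod_mul_distrib]

/-- ALG-PURE -/
theorem pureVec_single (x : S → Fin m) :
    pureVec (fun s => (Pi.single (x s) (1 : F) : Fin m → F)) = Pi.single x 1 := by
  funext y
  rw [pureVec_apply]
  simp only [Pi.single_apply]
  rw [Finset.prod_ite_zero]
  simp only [Finset.mem_univ, forall_true_left, Finset.prod_const_one]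
  by_cases h : y = x
  · subst h
    simp
  · rw [if_neg h, if_neg]
    intro h'
    exact h (funext fun i => h' i)

/-- ALG-PERM -/
theorem permMat_mul (σ τ : Equiv.Perm S) :
    (permMat σ : Matrix (S → Fin m) (S → Fin m) F) * permMat τ = permMat (σ * τ) := by
  ext x y
  rw [Matrix.mul_apply]
  simp only [permMat_apply]
  rw [Finset.sum_eq_single (x ∘ σ)]
  · rw [if_pos rfl, one_mul]
    rfl
  · intro z _ hz
    rw [if_neg hz, zero_mul]
  · intro h
    exact absurd (Finset.mem_univ _) h

/-- ALG-PERM -/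
theorem permMat_one : (permMat (1 : Equiv.Perm S) : Matrix (S → Fin m) (S → Fin m) F) = 1 := by
  ext x y
  rw [permMat_apply, Matrix.one_apply]
  have : x ∘ (1 : Equiv.Perm S) = x := rfl
  rw [this]
  by_cases h : x = y
  · rw [if_pos h, if_pos h.symm]
  · rw [if_neg h, if_neg (fun h' => h h'.symm)]

theorem permMat_mul_apply (σ : Equiv.Perm S) (M : Matrix (S → Fin m) (S → Fin m) F) (x y : S → Fin m) :
    ((permMat σ : Matrix (S → Fin m) (S → Fin m) F) * M) x y = M (x ∘ σ) y := by
  rw [Matrix.mul_apply]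
  simp only [permMat_apply]
  rw [Finset.sum_eq_single (x ∘ σ)]
  · rw [if_pos rfl, one_mul]
  · intro z _ hz
    rw [if_neg hz, zero_mul]
  · intro h
    exact absurd (Finset.mem_univ _) h

theorem mul_permMat_apply (σ : Equiv.Perm S) (M : Matrix (S → Fin m) (S → Fin m) F) (x y : S → Fin m) :
    (M * (permMat σ : Matrix (S → Fin m) (S → Fin m) F)) x y = M x (y ∘ ⇑σ⁻¹) := by
  rw [Matrix.mul_apply]
  simp only [permMat_apply]
  have key : ∀ z : S → Fin m, y = z ∘ σ ↔ z = y ∘ ⇑σ⁻¹ := by
    intro z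
    constructor
    · intro h
      funext s
      simp [h]
    · intro h
      funext s
      simp [h]
  rw [Finset.sum_eq_single (y ∘ ⇑σ⁻¹)]
  · rw [if_pos ((key _).mpr rfl), mul_one]
  · intro z _ hz
    rw [if_neg (fun h => hz ((key z).mp h)), mul_zero]
  · intro h
    exact absurd (Finset.mem_univ _) h

/-- ALG-PERM -/
theorem permMat_conj_pureMat (σ : Equiv.Perm S) (gs : S → Matrix (Fin m) (Fin m) F) :
    permMat σ * pureMat gs * permMat σ⁻¹ = pureMat (fun s => gs (σ⁻¹ s)) := by
  ext x y
  rw [mul_permMat_apply, permMat_mul_apply, pureMat_apply, pureMat_apply, inv_inv]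
  rw [← Equiv.prod_comp σ (fun s => gs (σ⁻¹ s) (x s) (y s))]
  apply Finset.prod_congr rfl
  intro s _
  simp

/-- ALG-PERM -/
theorem permMat_mulVec (σ : Equiv.Perm S) (vs : S → Fin m → F) :
    (permMat σ : Matrix (S → Fin m) (S → Fin m) F) *ᵥ pureVec vs = pureVec (fun s => vs (σ⁻¹ s)) := by
  funext x
  rw [Matrix.mulVec, dotProduct]
  simp only [permMat_apply]
  rw [Finset.sum_eq_single (x ∘ σ)]
  · rw [if_pos rfl, one_mul, pureVec_apply, pureVec_apply]
    rw [← Equiv.prod_comp σ (fun s => vs (σ⁻¹ s) (x s))]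
    apply Finset.prod_congr rfl
    intro s _
    simp
  · intro z _ hz
    rw [if_neg hz, zero_mul]
  · intro h
    exact absurd (Finset.mem_univ _) h

end Cfsg.Agent.Lib.Helper10.S5707L1a
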