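import Mathlib
import Cfsg.Prelude.Def_GeometricClasses
import Cfsg.Agent.Lib.Helper25.SpinDefs
import Cfsg.Agent.Lib.Helper10.S5707L1a

/-!
# S5707 layer L1b (helper10, for helper25): single-site operators

Exact statements of the stubs of `Cfsg/Agent/Lib/Helper25/SpinL1b.lean`.
-/

set_option autoImplicit false

namespace Cfsg.Agent.Lib.Helper10.S5707L1b

open Matrix Cfsg.Agent.Lib.Helper25.Spin Cfsg.Agent.Lib.Helper10.S5707L1a

variable {F : Type*} [Field F]

variable {S : Type} [Fintype S] [DecidableEq S] {m : ℕ}

theorem op_def (s : S) (A : Matrix (Fin m) (Fin m) F) :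
    op s A = pureMat (Function.update (fun _ => (1 : Matrix (Fin m) (Fin m) F)) s A) := rfl

theorem pureMat_update_apply (gs : S → Matrix (Fin m) (Fin m) F) (s : S) (A : Matrix (Fin m) (Fin m) F)
    (x y : S → Fin m) :
    pureMat (Function.update gs s A) x y = A (x s) (y s) * ∏ j ∈ Finset.univ.erase s, gs j (x j) (y j) := by
  rw [pureMat_apply, ← Finset.mul_prod_erase Finset.univ _ (Finset.mem_univ s), Function.update_self]
  congr 1
  apply Finset.prod_congr rfl
  intro j hj
  rw [Function.update_of_ne (Finset.ne_of_mem_erase hj)]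

theorem pureMat_update_smul (gs : S → Matrix (Fin m) (Fin m) F) (s : S) (c : F) (A : Matrix (Fin m) (Fin m) F) :
    pureMat (Function.update gs s (c • A)) = c • pureMat (Function.update gs s A) := by
  ext x y
  rw [Matrix.smul_apply, pureMat_update_apply, pureMat_update_apply, Matrix.smul_apply, smul_eq_mul,
    smul_eq_mul, mul_assoc]

theorem pureMat_update_add (gs : S → Matrix (Fin m) (Fin m) F) (s : S) (A B : Matrix (Fin m) (Fin m) F) :
    pureMat (Function.update gs s (A + B)) =
      pureMat (Function.update gs s A) + pureMat (Function.update gs s B) := by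
  ext x y
  rw [Matrix.add_apply, pureMat_update_apply, pureMat_update_apply, pureMat_update_apply,
    Matrix.add_apply, add_mul]

/-- ALG-OP -/
theorem op_apply (s : S) (A : Matrix (Fin m) (Fin m) F) (x y : S → Fin m) :
    op s A x y = if ∀ s', s' ≠ s → x s' = y s' then A (x s) (y s) else 0 := by
  rw [op_def, pureMat_update_apply, prod_one_apply]
  by_cases h : ∀ j, j ≠ s → x j = y j
  · rw [if_pos h, if_pos, mul_one]
    intro j hj
    exact h j (Finset.ne_of_mem_erase hj)
  · rw [if_neg h, if_neg, mul_zero]
    intro h'
    exact h fun j hj => h' j (Finset.mem_erase.mpr ⟨hj, Finset.mem_univ j⟩)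

/-- ALG-OP -/
theorem op_mul (s : S) (A A' : Matrix (Fin m) (Fin m) F) : op s A * op s A' = op s (A * A') := by
  rw [op_def, op_def, op_def, pureMat_mul]
  congr 1
  funext j
  by_cases hj : j = s
  · subst hj
    rw [Function.update_self, Function.update_self, Function.update_self]
  · rw [Function.update_of_ne hj, Function.update_of_ne hj, Function.update_of_ne hj, mul_one]

theorem pureMat_mul_op (gs : S → Matrix (Fin m) (Fin m) F) (s : S) (A : Matrix (Fin m) (Fin m) F) :
    pureMat gs * op s A = pureMat (Function.update gs s (gs s * A)) := by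
  rw [op_def, pureMat_mul]
  congr 1
  funext j
  by_cases hj : j = s
  · subst hj
    rw [Function.update_self, Function.update_self]
  · rw [Function.update_of_ne hj, Function.update_of_ne hj, mul_one]

theorem op_mul_pureMat (gs : S → Matrix (Fin m) (Fin m) F) (s : S) (A : Matrix (Fin m) (Fin m) F) :
    op s A * pureMat gs = pureMat (Function.update gs s (A * gs s)) := by
  rw [op_def, pureMat_mul]
  congr 1
  funext j
  by_cases hj : j = s
  · subst hj
    rw [Function.update_self, Function.update_self]
  · rw [Function.update_of_ne hj, Function.update_of_ne hj, one_mul]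

/-- ALG-OP -/
theorem op_comm {s s' : S} (h : s ≠ s') (A A' : Matrix (Fin m) (Fin m) F) :
    op s A * op s' A' = op s' A' * op s A := by
  rw [op_def s' A', op_mul_pureMat, pureMat_mul_op, Function.update_of_ne h, mul_one, one_mul]

/-- ALG-OP -/
theorem op_one (s : S) : op s (1 : Matrix (Fin m) (Fin m) F) = 1 := by
  rw [op_def, Function.update_eq_self, pureMat_one]

/-- ALG-OP -/
theorem op_add (s : S) (A A' : Matrix (Fin m) (Fin m) F) : op s (A + A') = op s A + op s A' := by
  rw [op_def, op_def, op_def, pureMat_update_add]

/-- ALG-OP -/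
theorem op_smul (s : S) (c : F) (A : Matrix (Fin m) (Fin m) F) : op s (c • A) = c • op s A := by
  rw [op_def, op_def, pureMat_update_smul]

/-- ALG-OP -/
theorem op_zero (s : S) : op s (0 : Matrix (Fin m) (Fin m) F) = 0 := by
  have := op_smul s (0 : F) (0 : Matrix (Fin m) (Fin m) F)
  rwa [zero_smul, zero_smul] at this

/-- ALG-OP -/
theorem pureMat_conj_op (gs gs' : S → Matrix (Fin m) (Fin m) F) (h : ∀ s, gs s * gs' s = 1) (s : S)
    (A : Matrix (Fin m) (Fin m) F) :
    pureMat gs * op s A * pureMat gs' = op s (gs s * A * gs' s) := by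
  rw [pureMat_mul_op, pureMat_mul, op_def]
  congr 1
  funext j
  by_cases hj : j = s
  · subst hj
    rw [Function.update_self, Function.update_self]
  · rw [Function.update_of_ne hj, Function.update_of_ne hj, h j]

/-- ALG-PERM -/
theorem permMat_conj_op (σ : Equiv.Perm S) (s : S) (A : Matrix (Fin m) (Fin m) F) :
    permMat σ * op s A * permMat σ⁻¹ = op (σ s) A := by
  rw [op_def, permMat_conj_pureMat, op_def]
  congr 1
  funext j
  by_cases hj : j = σ s
  · subst hj
    rw [Function.update_self]
    simp
  · rw [Function.update_of_ne hj, Function.update_of_ne]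
    intro h'
    apply hj
    rw [← h']
    simp

end Cfsg.Agent.Lib.Helper10.S5707L1b
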