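import Mathlib
import Cfsg.Prelude.Def_GeometricClasses
import Cfsg.Agent.Lib.Helper25.SpinDefs
import Cfsg.Agent.Lib.Helper10.S5707L1a
import Cfsg.Agent.Lib.Helper10.S5707L1b

/-!
# S5707 layer L1c (helper10, for helper25): the X / Y relations and the Clifford space (m = 2)

Exact statements of the stubs of `Cfsg/Agent/Lib/Helper25/SpinL1c.lean`.
-/

set_option autoImplicit false

namespace Cfsg.Agent.Lib.Helper10.S5707L1c

open Matrix Cfsg.Agent.Lib.Helper25.Spin Cfsg.Agent.Lib.Helper10.S5707L1a Cfsg.Agent.Lib.Helper10.S5707L1b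

variable {F : Type*} [Field F]

variable {S : Type} [Fintype S] [DecidableEq S]

theorem E01_mul_E01 : (E01 : Matrix (Fin 2) (Fin 2) F) * E01 = 0 := by
  ext i j
  fin_cases i <;> fin_cases j <;> simp [E01, Matrix.mul_apply, Fin.sum_univ_two]

theorem E10_mul_E10 : (E10 : Matrix (Fin 2) (Fin 2) F) * E10 = 0 := by
  ext i j
  fin_cases i <;> fin_cases j <;> simp [E10, Matrix.mul_apply, Fin.sum_univ_two]

theorem E01_mul_E10_add : (E01 : Matrix (Fin 2) (Fin 2) F) * E10 + E10 * E01 = 1 := by
  ext i j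
  fin_cases i <;> fin_cases j <;> simp [E01, E10, Matrix.mul_apply, Fin.sum_univ_two]

theorem trace_E01 : (E01 : Matrix (Fin 2) (Fin 2) F).trace = 0 := by
  simp [E01, Matrix.trace, Fin.sum_univ_two]

theorem trace_E10 : (E10 : Matrix (Fin 2) (Fin 2) F).trace = 0 := by
  simp [E10, Matrix.trace, Fin.sum_univ_two]

/-- ALG-XY -/
theorem Xop_mul_self (s : S) : Xop (F := F) s * Xop s = 0 := by
  unfold Xop
  rw [op_mul, E01_mul_E01, op_zero]

/-- ALG-XY -/
theorem Yop_mul_self (s : S) : Yop (F := F) s * Yop s = 0 := by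
  unfold Yop
  rw [op_mul, E10_mul_E10, op_zero]

/-- ALG-XY -/
theorem Xop_mul_Yop_add (s : S) : Xop (F := F) s * Yop s + Yop s * Xop s = 1 := by
  unfold Xop Yop
  rw [op_mul, op_mul, ← op_add, E01_mul_E10_add, op_one]

/-- ALG-XY -/
theorem Xop_comm_Xop {s s' : S} (h : s ≠ s') : Xop (F := F) s * Xop s' = Xop s' * Xop s := by
  unfold Xop
  exact op_comm h _ _

/-- ALG-XY -/
theorem Yop_comm_Yop {s s' : S} (h : s ≠ s') : Yop (F := F) s * Yop s' = Yop s' * Yop s := by
  unfold Yop
  exact op_comm h _ _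

/-- ALG-XY -/
theorem Xop_comm_Yop {s s' : S} (h : s ≠ s') : Xop (F := F) s * Yop s' = Yop s' * Xop s := by
  unfold Xop Yop
  exact op_comm h _ _

theorem mulVec_single_apply {ι : Type} [Fintype ι] [DecidableEq ι] (M : Matrix ι ι F) (x : ι) (a : F) (z : ι) :
    (M *ᵥ Pi.single x a) z = M z x * a := by
  rw [Matrix.mulVec, dotProduct, Finset.sum_eq_single x]
  · rw [Pi.single_eq_same]
  · intro y _ hy
    rw [Pi.single_eq_of_ne hy, mul_zero]
  · intro h
    exact absurd (Finset.mem_univ _) h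

theorem fin2_eq_zero_or_one (a : Fin 2) : a = 0 ∨ a = 1 := by
  fin_cases a
  · exact Or.inl rfl
  · exact Or.inr rfl

theorem eq_flp_iff (s : S) (x z : S → Fin 2) :
    z = flp s x ↔ (∀ s', s' ≠ s → z s' = x s') ∧ z s = Fin.rev (x s) := by
  unfold flp
  constructor
  · intro h
    subst h
    refine ⟨fun s' hs' => ?_, ?_⟩
    · rw [Function.update_of_ne hs']
    · rw [Function.update_self]
  · rintro ⟨h1, h2⟩
    funext j
    by_cases hj : j = s
    · subst hj
      rw [Function.update_self, h2]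
    · rw [Function.update_of_ne hj, h1 j hj]

/-- ALG-XY -/
theorem Xop_mulVec_single (s : S) (x : S → Fin 2) (a : F) :
    Xop (F := F) s *ᵥ Pi.single x a = if x s = 1 then Pi.single (flp s x) a else 0 := by
  funext z
  rw [mulVec_single_apply]
  unfold Xop
  rw [op_apply]
  by_cases hx : x s = 1
  · rw [if_pos hx]
    by_cases hz : z = flp s x
    · have h := (eq_flp_iff s x z).mp hz
      rw [if_pos h.1, h.2, hx]
      rw [hz, Pi.single_eq_same]
      simp [E01]
    · rw [Pi.single_eq_of_ne hz]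
      by_cases h1 : ∀ s', s' ≠ s → z s' = x s'
      · rw [if_pos h1]
        have h2 : z s ≠ Fin.rev (x s) := fun h2 => hz ((eq_flp_iff s x z).mpr ⟨h1, h2⟩)
        rw [hx] at h2
        have h3 : z s = 1 := by
          rcases fin2_eq_zero_or_one (z s) with h | h
          · exact absurd h h2
          · exact h
        rw [h3, hx]
        simp [E01]
      · rw [if_neg h1, zero_mul]
  · rw [if_neg hx]
    have hx0 : x s = 0 := by
      rcases fin2_eq_zero_or_one (x s) with h | h
      · exact h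
      · exact absurd h hx
    rw [hx0]
    split_ifs
    · rcases fin2_eq_zero_or_one (z s) with h | h <;> rw [h] <;> simp [E01]
    · simp

/-- ALG-XY -/
theorem Yop_mulVec_single (s : S) (x : S → Fin 2) (a : F) :
    Yop (F := F) s *ᵥ Pi.single x a = if x s = 0 then Pi.single (flp s x) a else 0 := by
  funext z
  rw [mulVec_single_apply]
  unfold Yop
  rw [op_apply]
  by_cases hx : x s = 0
  · rw [if_pos hx]
    by_cases hz : z = flp s x
    · have h := (eq_flp_iff s x z).mp hz
      rw [if_pos h.1, h.2, hx]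
      rw [hz, Pi.single_eq_same]
      simp [E10]
    · rw [Pi.single_eq_of_ne hz]
      by_cases h1 : ∀ s', s' ≠ s → z s' = x s'
      · rw [if_pos h1]
        have h2 : z s ≠ Fin.rev (x s) := fun h2 => hz ((eq_flp_iff s x z).mpr ⟨h1, h2⟩)
        rw [hx] at h2
        have h3 : z s = 0 := by
          rcases fin2_eq_zero_or_one (z s) with h | h
          · exact h
          · exact absurd h h2
        rw [h3, hx]
        simp [E10]
      · rw [if_neg h1, zero_mul]
  · rw [if_neg hx]
    have hx1 : x s = 1 := by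
      rcases fin2_eq_zero_or_one (x s) with h | h
      · exact absurd h hx
      · exact h
    rw [hx1]
    split_ifs
    · rcases fin2_eq_zero_or_one (z s) with h | h <;> rw [h] <;> simp [E10]
    · simp

theorem eq_lin_of_trace [CharP F 2] (A : Matrix (Fin 2) (Fin 2) F) (hA : A.trace = 0) :
    A = A 0 1 • (E01 : Matrix (Fin 2) (Fin 2) F) + A 1 0 • (E10 : Matrix (Fin 2) (Fin 2) F) +
      A 0 0 • (1 : Matrix (Fin 2) (Fin 2) F) := by
  have h2 : (2 : F) = 0 := by
    have := CharP.cast_eq_zero F 2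
    exact_mod_cast this
  have h11 : A 1 1 = A 0 0 := by
    rw [Matrix.trace, Fin.sum_univ_two] at hA
    simp only [Matrix.diag_apply] at hA
    have : A 1 1 = A 0 0 - 2 * A 0 0 := by linear_combination hA
    rw [this, h2, zero_mul, sub_zero]
  ext i j
  fin_cases i <;> fin_cases j <;> simp [E01, E10, h11]

/-- ALG-LL -/
theorem op_eq_lin [CharP F 2] (s : S) (A : Matrix (Fin 2) (Fin 2) F) (hA : A.trace = 0) :
    op s A = A 0 1 • Xop s + A 1 0 • Yop s + A 0 0 • (1 : Matrix (S → Fin 2) (S → Fin 2) F) := by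
  conv_lhs => rw [eq_lin_of_trace A hA]
  rw [op_add, op_add, op_smul, op_smul, op_smul, op_one]
  rfl

/-- ALG-LL -/
theorem Xop_mem_LL (s : S) : Xop (F := F) s ∈ LL := by
  apply Submodule.subset_span
  exact ⟨s, E01, trace_E01, rfl⟩

/-- ALG-LL -/
theorem Yop_mem_LL (s : S) : Yop (F := F) s ∈ LL := by
  apply Submodule.subset_span
  exact ⟨s, E10, trace_E10, rfl⟩

/-- ALG-LL -/
theorem one_mem_LL [CharP F 2] [Nonempty S] : (1 : Matrix (S → Fin 2) (S → Fin 2) F) ∈ LL := by
  obtain ⟨s⟩ := (inferInstance : Nonempty S)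
  apply Submodule.subset_span
  refine ⟨s, 1, ?_, (op_one s).symm⟩
  have h2 : (2 : F) = 0 := by
    have := CharP.cast_eq_zero F 2
    exact_mod_cast this
  rw [Matrix.trace_one]
  simpa using h2

/-- ALG-LL: to normalise `LL` it suffices to map the `X`'s and `Y`'s into `LL` -/
theorem conj_mem_LL_of [CharP F 2] (g g' : Matrix (S → Fin 2) (S → Fin 2) F) (hgg' : g * g' = 1)
    (hX : ∀ s, g * Xop s * g' ∈ LL) (hY : ∀ s, g * Yop s * g' ∈ LL) :
    ∀ M ∈ LL (F := F) (S := S), g * M * g' ∈ LL := by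
  intro M hM
  unfold LL at hM
  induction hM using Submodule.span_induction with
  | mem M hM =>
    obtain ⟨s, A, hA, rfl⟩ := hM
    haveI : Nonempty S := ⟨s⟩
    rw [op_eq_lin s A hA]
    have h1 : g * (A 0 1 • Xop s + A 1 0 • Yop s + A 0 0 • (1 : Matrix (S → Fin 2) (S → Fin 2) F)) * g' =
        A 0 1 • (g * Xop s * g') + A 1 0 • (g * Yop s * g') +
          A 0 0 • (1 : Matrix (S → Fin 2) (S → Fin 2) F) := by
      rw [mul_add, mul_add, add_mul, add_mul, Matrix.mul_smul, Matrix.mul_smul, Matrix.mul_smul,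
        Matrix.smul_mul, Matrix.smul_mul, Matrix.smul_mul, mul_one, hgg']
    rw [h1]
    exact Submodule.add_mem _ (Submodule.add_mem _ (Submodule.smul_mem _ _ (hX s))
      (Submodule.smul_mem _ _ (hY s))) (Submodule.smul_mem _ _ one_mem_LL)
  | zero =>
    rw [mul_zero, zero_mul]
    exact Submodule.zero_mem _
  | add M N _ _ h1 h2 =>
    rw [mul_add, add_mul]
    exact Submodule.add_mem _ h1 h2
  | smul c M _ h1 =>
    rw [Matrix.mul_smul, Matrix.smul_mul]
    exact Submodule.smul_mem _ _ h1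

end Cfsg.Agent.Lib.Helper10.S5707L1c
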