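import Mathlib
import Cfsg.Prelude.Def_GeometricClasses
import Cfsg.Agent.Lib.Helper25.SpinDefs
import Cfsg.Agent.Lib.Helper10.S5707L1a
import Cfsg.Agent.Lib.Helper10.S5707L1b
import Cfsg.Agent.Lib.Helper10.S5707L1c

/-!
# S5707 layer L3a (helper10, for helper25): the unipotents are involutions; entries of LL

Exact statements of the stubs of `Cfsg/Agent/Lib/Helper25/SpinL3a.lean`, plus the abstract
"raising / lowering pair" calculus used again in layer L3b.
-/

set_option autoImplicit false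

namespace Cfsg.Agent.Lib.Helper10.S5707L3a

open Matrix Cfsg.Agent.Lib.Helper25.Spin Cfsg.Agent.Lib.Helper10.S5707L1a Cfsg.Agent.Lib.Helper10.S5707L1b
  Cfsg.Agent.Lib.Helper10.S5707L1c

section abstract

variable {R : Type*} [Ring R]

/-- a lowering / raising pair: `a² = b² = 0`, `aba = a`, `bab = b` -/
structure XY (a b : R) : Prop where
  aa : a * a = 0
  bb : b * b = 0
  aba : a * b * a = a
  bab : b * a * b = b

theorem XY.symm {a b : R} (h : XY a b) : XY b a := ⟨h.bb, h.aa, h.bab, h.aba⟩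

/-- commuting pairs multiply to a pair -/
theorem XY.mul {a b c d : R} (h1 : XY a b) (h2 : XY c d) (hac : Commute a c) (had : Commute a d)
    (hbc : Commute b c) (hbd : Commute b d) : XY (a * c) (b * d) := by
  refine ⟨?_, ?_, ?_, ?_⟩
  · rw [Commute.mul_mul_mul_comm hac.symm, h1.aa, zero_mul]
  · rw [Commute.mul_mul_mul_comm hbd.symm, h1.bb, zero_mul]
  · rw [Commute.mul_mul_mul_comm hbc.symm a d]
    rw [Commute.mul_mul_mul_comm (hac.symm.mul_left had.symm) (a * b) c, h1.aba, h2.aba]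
  · rw [Commute.mul_mul_mul_comm had.symm b c]
    rw [Commute.mul_mul_mul_comm (hbd.symm.mul_left hbc.symm) (b * a) d, h1.bab, h2.bab]

theorem XY.mul_comm_mul {a b c d : R} (hbc : Commute b c) : (a * c) * (b * d) = (a * b) * (c * d) :=
  Commute.mul_mul_mul_comm hbc.symm a d

/-- `(1 + U)² = 1` when `U² = 0` and `2 = 0` -/
theorem one_add_mul_self (h2 : ∀ a : R, a + a = 0) (U : R) (hU : U * U = 0) : (1 + U) * (1 + U) = 1 := by
  have e : (1 + U) * (1 + U) = 1 + (U + U) + U * U := by noncomm_ring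
  rw [e, h2, hU, add_zero, add_zero]

/-- `((1 + U)(1 + D))² = 1 + DU + U + D` for a pair `(U, D)`, when `2 = 0` -/
theorem comm_formula (h2 : ∀ a : R, a + a = 0) {U D : R} (h : XY U D) :
    (1 + U) * (1 + D) * ((1 + U) * (1 + D)) = 1 + D * U + U + D := by
  have e : (1 + U) * (1 + D) * ((1 + U) * (1 + D)) =
      1 + U + D + U * D + U + U * U + U * D + U * U * D + D + D * U + D * D + D * U * D + U * D
        + U * D * U + U * (D * D) + U * D * U * D := by noncomm_ring
  rw [e, h.aa, h.bb, h.aba, h.bab, zero_mul, mul_zero]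
  have e2 : 1 + U + D + U * D + U + 0 + U * D + 0 + D + D * U + 0 + D + U * D + U + 0 + U * D =
      (1 + D * U + U + D) + ((U + D + U * D + U * D) + (U + D + U * D + U * D)) := by abel
  rw [e2, h2, add_zero]

end abstract

variable {F : Type*} [Field F]

variable {S : Type} [Fintype S] [DecidableEq S]

theorem E01_E10_E01 : (E01 : Matrix (Fin 2) (Fin 2) F) * E10 * E01 = E01 := by
  ext i j
  fin_cases i <;> fin_cases j <;> simp [E01, E10, Matrix.mul_apply, Fin.sum_univ_two]

theorem E10_E01_E10 : (E10 : Matrix (Fin 2) (Fin 2) F) * E01 * E10 = E10 := by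
  ext i j
  fin_cases i <;> fin_cases j <;> simp [E01, E10, Matrix.mul_apply, Fin.sum_univ_two]

/-- the one-site pair -/
theorem xy_site (s : S) : XY (Xop (F := F) s) (Yop s) := by
  refine ⟨Xop_mul_self s, Yop_mul_self s, ?_, ?_⟩
  · unfold Xop Yop
    rw [op_mul, op_mul, E01_E10_E01]
  · unfold Xop Yop
    rw [op_mul, op_mul, E10_E01_E10]

theorem cXX {s s' : S} (h : s ≠ s') : Commute (Xop (F := F) s) (Xop s') := Xop_comm_Xop h
theorem cYY {s s' : S} (h : s ≠ s') : Commute (Yop (F := F) s) (Yop s') := Yop_comm_Yop h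
theorem cXY {s s' : S} (h : s ≠ s') : Commute (Xop (F := F) s) (Yop s') := Xop_comm_Yop h
theorem cYX {s s' : S} (h : s ≠ s') : Commute (Yop (F := F) s) (Xop s') := (Xop_comm_Yop h.symm).symm

/-- the two-site pair -/
theorem xy_two {s1 s2 : S} (h : s1 ≠ s2) :
    XY (Xop (F := F) s1 * Xop s2) (Yop s1 * Yop s2) :=
  XY.mul (xy_site s1) (xy_site s2) (cXX h) (cXY h) (cYX h) (cYY h)

/-- the three-site pair -/
theorem xy_three {s1 s2 s3 : S} (h12 : s1 ≠ s2) (h13 : s1 ≠ s3) (h23 : s2 ≠ s3) :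
    XY (Xop (F := F) s1 * Xop s2 * Xop s3) (Yop s1 * Yop s2 * Yop s3) :=
  XY.mul (xy_two h12) (xy_site s3) ((cXX h13).mul_left (cXX h23)) ((cXY h13).mul_left (cXY h23))
    ((cYX h13).mul_left (cYX h23)) ((cYY h13).mul_left (cYY h23))

theorem mat_add_self [CharP F 2] {ι : Type} (M : Matrix ι ι F) : M + M = 0 := by
  ext i j
  rw [Matrix.add_apply, Matrix.zero_apply]
  exact CharTwo.add_self_eq_zero (M i j)

variable [CharP F 2]

/-- EL-UNIT: `(1 + X₁X₂)² = 1` (char 2, `X₁² = 0`) -/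
theorem tX2_mul_self {s1 s2 : S} (h : s1 ≠ s2) : tX2 (F := F) s1 s2 * tX2 s1 s2 = 1 := by
  unfold tX2
  exact one_add_mul_self mat_add_self _ (xy_two h).aa

/-- EL-UNIT -/
theorem tY2_mul_self {s1 s2 : S} (h : s1 ≠ s2) : tY2 (F := F) s1 s2 * tY2 s1 s2 = 1 := by
  unfold tY2
  exact one_add_mul_self mat_add_self _ (xy_two h).bb

/-- EL-UNIT -/
theorem tX3_mul_self {s1 s2 s3 : S} (h12 : s1 ≠ s2) (h13 : s1 ≠ s3) (h23 : s2 ≠ s3) :
    tX3 (F := F) s1 s2 s3 * tX3 s1 s2 s3 = 1 := by
  unfold tX3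
  exact one_add_mul_self mat_add_self _ (xy_three h12 h13 h23).aa

/-- EL-UNIT -/
theorem tY3_mul_self {s1 s2 s3 : S} (h12 : s1 ≠ s2) (h13 : s1 ≠ s3) (h23 : s2 ≠ s3) :
    tY3 (F := F) s1 s2 s3 * tY3 s1 s2 s3 = 1 := by
  unfold tY3
  exact one_add_mul_self mat_add_self _ (xy_three h12 h13 h23).bb

omit [CharP F 2] in
/-- EL-H: every element of `LL` has zero entries at pairs of indices differing in two sites -/
theorem LL_apply_eq_zero (M : Matrix (S → Fin 2) (S → Fin 2) F) (hM : M ∈ LL) (x y : S → Fin 2) {s s' : S}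
    (hss' : s ≠ s') (hs : x s ≠ y s) (hs' : x s' ≠ y s') : M x y = 0 := by
  unfold LL at hM
  induction hM using Submodule.span_induction with
  | mem M hM =>
    obtain ⟨s0, A, _, rfl⟩ := hM
    rw [op_apply, if_neg]
    intro hall
    by_cases h0 : s = s0
    · subst h0
      exact hs' (hall s' (Ne.symm hss'))
    · exact hs (hall s h0)
  | zero => rfl
  | add M N _ _ h1 h2 => rw [Matrix.add_apply, h1, h2, add_zero]
  | smul c M _ h1 => rw [Matrix.smul_apply, h1, smul_zero]

end Cfsg.Agent.Lib.Helper10.S5707L3a
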