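import Mathlib
import Cfsg.Prelude.Def_GeometricClasses
import Cfsg.Agent.Lib.Helper25.SpinDefs
import Cfsg.Agent.Lib.Helper25.SpinL1a
import Cfsg.Agent.Lib.Helper25.SpinL1b
import Cfsg.Agent.Lib.Helper25.SpinL1c
import Cfsg.Agent.Lib.Helper25.SpinL2a
import Cfsg.Agent.Lib.Helper25.SpinL2b
import Cfsg.Agent.Lib.Helper10.S5707L3a

/-!
# S5707 layer L3b (helper10, for helper25): isometries, normalising, gElt, hElt

Exact statements of the stubs of `Cfsg/Agent/Lib/Helper25/SpinL3b.lean`.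
Layers 1 and 2 are used through helper25's stub files; layer 3a through `Helper10/S5707L3a`.
-/

set_option autoImplicit false

namespace Cfsg.Agent.Lib.Helper10.S5707L3b

open Matrix Cfsg.Agent.Lib.Helper25.Spin Cfsg.Agent.Lib.Helper10.S5707L3a

variable {F : Type*} [Field F]

variable {S : Type} [Fintype S] [DecidableEq S]

/-! ### `toGL` of an involution -/

theorem isUnit_of_mul_self {ι : Type} [Fintype ι] [DecidableEq ι] {M : Matrix ι ι F} (h : M * M = 1) :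
    IsUnit M := ⟨⟨M, M, h, h⟩, rfl⟩

theorem toGL_val' {ι : Type} [Fintype ι] [DecidableEq ι] {M : Matrix ι ι F} (h : M * M = 1) :
    ((toGL M : GL ι F) : Matrix ι ι F) = M := toGL_val (isUnit_of_mul_self h)

theorem toGL_mul_self {ι : Type} [Fintype ι] [DecidableEq ι] {M : Matrix ι ι F} (h : M * M = 1) :
    (toGL M : GL ι F) * toGL M = 1 := by
  apply Units.ext
  rw [Units.val_mul, toGL_val' h, h]
  rfl

theorem toGL_inv {ι : Type} [Fintype ι] [DecidableEq ι] {M : Matrix ι ι F} (h : M * M = 1) :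
    (toGL M : GL ι F)⁻¹ = toGL M := inv_eq_of_mul_eq_one_right (toGL_mul_self h)

/-! ### the action on basis vectors -/

theorem flp_apply (s : S) (x : S → Fin 2) (s' : S) :
    flp s x s' = if s' = s then Fin.rev (x s') else x s' := by
  unfold flp
  rw [Function.update_apply]
  by_cases h : s' = s
  · subst h
    simp
  · simp [h]

theorem flp_self (s : S) (x : S → Fin 2) : flp s x s = Fin.rev (x s) := by
  rw [flp_apply, if_pos rfl]

theorem flp_ne {s s' : S} (h : s' ≠ s) (x : S → Fin 2) : flp s x s' = x s' := by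
  rw [flp_apply, if_neg h]

theorem flp_flp (s : S) (x : S → Fin 2) : flp s (flp s x) = x := by
  funext s'
  by_cases h : s' = s
  · subst h
    rw [flp_self, flp_self, Fin.rev_rev]
  · rw [flp_ne h, flp_ne h]

theorem X_pos {s : S} {x : S → Fin 2} (a : F) (hx : x s = 1) :
    Xop (F := F) s *ᵥ Pi.single x a = Pi.single (flp s x) a := by
  rw [Xop_mulVec_single, if_pos hx]

theorem X_neg {s : S} {x : S → Fin 2} (a : F) (hx : x s = 0) :
    Xop (F := F) s *ᵥ Pi.single x a = 0 := by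
  rw [Xop_mulVec_single, if_neg]
  rw [hx]
  decide

theorem Y_pos {s : S} {x : S → Fin 2} (a : F) (hx : x s = 0) :
    Yop (F := F) s *ᵥ Pi.single x a = Pi.single (flp s x) a := by
  rw [Yop_mulVec_single, if_pos hx]

theorem Y_neg {s : S} {x : S → Fin 2} (a : F) (hx : x s = 1) :
    Yop (F := F) s *ᵥ Pi.single x a = 0 := by
  rw [Yop_mulVec_single, if_neg]
  rw [hx]
  decide

theorem rev_zero2 : Fin.rev (0 : Fin 2) = 1 := by decide
theorem rev_one2 : Fin.rev (1 : Fin 2) = 0 := by decide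

theorem YX_pos {s : S} {x : S → Fin 2} (a : F) (hx : x s = 1) :
    (Yop (F := F) s * Xop s) *ᵥ Pi.single x a = Pi.single x a := by
  rw [← Matrix.mulVec_mulVec, X_pos a hx, Y_pos a (by rw [flp_self, hx, rev_one2]), flp_flp]

theorem YX_neg {s : S} {x : S → Fin 2} (a : F) (hx : x s = 0) :
    (Yop (F := F) s * Xop s) *ᵥ Pi.single x a = 0 := by
  rw [← Matrix.mulVec_mulVec, X_neg a hx, Matrix.mulVec_zero]

theorem XY_pos {s : S} {x : S → Fin 2} (a : F) (hx : x s = 0) :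
    (Xop (F := F) s * Yop s) *ᵥ Pi.single x a = Pi.single x a := by
  rw [← Matrix.mulVec_mulVec, Y_pos a hx, X_pos a (by rw [flp_self, hx, rev_zero2]), flp_flp]

theorem XY_neg {s : S} {x : S → Fin 2} (a : F) (hx : x s = 1) :
    (Xop (F := F) s * Yop s) *ᵥ Pi.single x a = 0 := by
  rw [← Matrix.mulVec_mulVec, Y_neg a hx, Matrix.mulVec_zero]

theorem fin2_cases (a : Fin 2) : a = 0 ∨ a = 1 := by
  fin_cases a
  · exact Or.inl rfl
  · exact Or.inr rfl

/-! ### monomial operators -/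

/-- `M` maps each scaled basis vector to zero or to a scaled basis vector moved only inside `T` -/
def Mono (T : Finset S) (M : Matrix (S → Fin 2) (S → Fin 2) F) : Prop :=
  ∀ (x : S → Fin 2) (a : F), M *ᵥ Pi.single x a = 0 ∨
    ∃ y : S → Fin 2, (∀ s, s ∉ T → y s = x s) ∧ M *ᵥ Pi.single x a = Pi.single y a

theorem mono_X (s : S) : Mono {s} (Xop (F := F) s) := by
  intro x a
  rcases fin2_cases (x s) with h | h
  · exact Or.inl (X_neg a h)
  · refine Or.inr ⟨flp s x, fun s' hs' => ?_, X_pos a h⟩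
    exact flp_ne (fun h' => hs' (by rw [h']; exact Finset.mem_singleton_self s)) x

theorem mono_Y (s : S) : Mono {s} (Yop (F := F) s) := by
  intro x a
  rcases fin2_cases (x s) with h | h
  · refine Or.inr ⟨flp s x, fun s' hs' => ?_, Y_pos a h⟩
    exact flp_ne (fun h' => hs' (by rw [h']; exact Finset.mem_singleton_self s)) x
  · exact Or.inl (Y_neg a h)

theorem Mono.mul {T T' : Finset S} {M N : Matrix (S → Fin 2) (S → Fin 2) F} (hM : Mono T M) (hN : Mono T' N) :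
    Mono (T ∪ T') (M * N) := by
  intro x a
  rw [← Matrix.mulVec_mulVec]
  rcases hN x a with h | ⟨y, hy, h⟩
  · left
    rw [h, Matrix.mulVec_zero]
  · rw [h]
    rcases hM y a with h' | ⟨z, hz, h'⟩
    · exact Or.inl h'
    · refine Or.inr ⟨z, fun s hs => ?_, h'⟩
      rw [Finset.mem_union, not_or] at hs
      rw [hz s hs.1, hy s hs.2]

theorem single_eq_smul (x : S → Fin 2) (a : F) :
    (Pi.single x a : (S → Fin 2) → F) = a • Pi.single x 1 := by
  funext z
  by_cases h : z = x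
  · subst h
    rw [Pi.smul_apply, Pi.single_eq_same, Pi.single_eq_same, smul_eq_mul, mul_one]
  · rw [Pi.smul_apply, Pi.single_eq_of_ne h, Pi.single_eq_of_ne h, smul_zero]

theorem Mono.Q0 {T : Finset S} {M : Matrix (S → Fin 2) (S → Fin 2) F} (hM : Mono T M) (s0 : S) {s3 : S}
    (hs3 : s3 ∉ T) (x : S → Fin 2) (a : F) :
    Q0 s0 ((1 + M) *ᵥ Pi.single x a) = 0 := by
  rw [Matrix.add_mulVec, Matrix.one_mulVec]
  rcases hM x a with h | ⟨y, hy, h⟩
  · rw [h, add_zero]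
    exact Q0_single s0 x a
  · rw [h, single_eq_smul x a, single_eq_smul y a, ← smul_add, Q0_smul]
    rw [Q0_single_add_single s0 x y, mul_zero]
    intro hyc
    have h1 : y s3 = x s3 := hy s3 hs3
    rw [hyc] at h1
    unfold cpl at h1
    rcases fin2_cases (x s3) with h0 | h0 <;> rw [h0] at h1 <;> revert h1 <;> decide

/-! ### self-adjoint operators -/

/-- self-adjoint for `B0` -/
def SA (M : Matrix (S → Fin 2) (S → Fin 2) F) : Prop :=
  ∀ v w : (S → Fin 2) → F, B0 (M *ᵥ v) w = B0 v (M *ᵥ w)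

theorem sa_X (s : S) : SA (Xop (F := F) s) := B0_Xop s
theorem sa_Y (s : S) : SA (Yop (F := F) s) := B0_Yop s

theorem SA.mul {M N : Matrix (S → Fin 2) (S → Fin 2) F} (hM : SA M) (hN : SA N) (hc : Commute M N) :
    SA (M * N) := by
  intro v w
  rw [← Matrix.mulVec_mulVec, hM, hN, Matrix.mulVec_mulVec, hc.eq]

theorem SA.one_add {M : Matrix (S → Fin 2) (S → Fin 2) F} (hM : SA M) : SA (1 + M) := by
  intro v w
  rw [Matrix.add_mulVec, Matrix.add_mulVec, Matrix.one_mulVec, Matrix.one_mulVec,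
    (B0_isBilinear (F := F) (S := S)).add_left, (B0_isBilinear (F := F) (S := S)).add_right, hM]

theorem SA.iso {M : Matrix (S → Fin 2) (S → Fin 2) F} (hM : SA M) (h1 : M * M = 1)
    (v w : (S → Fin 2) → F) : B0 (M *ᵥ v) (M *ᵥ w) = B0 v w := by
  rw [hM, Matrix.mulVec_mulVec, h1, Matrix.one_mulVec]

theorem iso_mem (s0 : S) {M : Matrix (S → Fin 2) (S → Fin 2) F} (h1 : M * M = 1) (hSA : SA M)
    (hQ : ∀ (x : S → Fin 2) (a : F), Q0 s0 (M *ᵥ Pi.single x a) = 0) :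
    toGL M ∈ Cfsg.isometryGroup F (Q0 (F := F) s0) := by
  apply mem_isometryGroup_of s0
  · rw [toGL_val' h1]
    exact hSA.iso h1
  · rw [toGL_val' h1]
    exact hQ

theorem not_mem_pair {s1 s2 s3 : S} (h13 : s1 ≠ s3) (h23 : s2 ≠ s3) : s3 ∉ ({s1} ∪ {s2} : Finset S) := by
  rw [Finset.mem_union, Finset.mem_singleton, Finset.mem_singleton]
  rintro (h | h)
  · exact h13 h.symm
  · exact h23 h.symm

theorem not_mem_triple {s1 s2 s3 s4 : S} (h14 : s1 ≠ s4) (h24 : s2 ≠ s4) (h34 : s3 ≠ s4) :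
    s4 ∉ ({s1} ∪ {s2} ∪ {s3} : Finset S) := by
  rw [Finset.mem_union, Finset.mem_singleton]
  rintro (h | h)
  · exact not_mem_pair h14 h24 h
  · exact h34 h.symm

variable [CharP F 2]

/-- EL-ISO: `1 + X₁X₂` is an isometry of `Q0` (a third site is needed). -/
theorem tX2_mem_iso (s0 : S) {s1 s2 s3 : S} (h12 : s1 ≠ s2) (h13 : s1 ≠ s3) (h23 : s2 ≠ s3) :
    toGL (tX2 (F := F) s1 s2) ∈ Cfsg.isometryGroup F (Q0 (F := F) s0) := by
  apply iso_mem s0 (S5707L3a.tX2_mul_self h12)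
  · exact ((sa_X s1).mul (sa_X s2) (cXX h12)).one_add
  · exact ((mono_X s1).mul (mono_X s2)).Q0 s0 (not_mem_pair h13 h23)

/-- EL-ISO -/
theorem tY2_mem_iso (s0 : S) {s1 s2 s3 : S} (h12 : s1 ≠ s2) (h13 : s1 ≠ s3) (h23 : s2 ≠ s3) :
    toGL (tY2 (F := F) s1 s2) ∈ Cfsg.isometryGroup F (Q0 (F := F) s0) := by
  apply iso_mem s0 (S5707L3a.tY2_mul_self h12)
  · exact ((sa_Y s1).mul (sa_Y s2) (cYY h12)).one_add
  · exact ((mono_Y s1).mul (mono_Y s2)).Q0 s0 (not_mem_pair h13 h23)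

/-- EL-ISO: `1 + X₁X₂X₃` is an isometry of `Q0` (a fourth site is needed) -/
theorem tX3_mem_iso (s0 : S) {s1 s2 s3 s4 : S} (h12 : s1 ≠ s2) (h13 : s1 ≠ s3) (h23 : s2 ≠ s3)
    (h14 : s1 ≠ s4) (h24 : s2 ≠ s4) (h34 : s3 ≠ s4) :
    toGL (tX3 (F := F) s1 s2 s3) ∈ Cfsg.isometryGroup F (Q0 (F := F) s0) := by
  apply iso_mem s0 (S5707L3a.tX3_mul_self h12 h13 h23)
  · exact (((sa_X s1).mul (sa_X s2) (cXX h12)).mul (sa_X s3) ((cXX h13).mul_left (cXX h23))).one_add
  · exact (((mono_X s1).mul (mono_X s2)).mul (mono_X s3)).Q0 s0 (not_mem_triple h14 h24 h34)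

/-- EL-ISO -/
theorem tY3_mem_iso (s0 : S) {s1 s2 s3 s4 : S} (h12 : s1 ≠ s2) (h13 : s1 ≠ s3) (h23 : s2 ≠ s3)
    (h14 : s1 ≠ s4) (h24 : s2 ≠ s4) (h34 : s3 ≠ s4) :
    toGL (tY3 (F := F) s1 s2 s3) ∈ Cfsg.isometryGroup F (Q0 (F := F) s0) := by
  apply iso_mem s0 (S5707L3a.tY3_mul_self h12 h13 h23)
  · exact (((sa_Y s1).mul (sa_Y s2) (cYY h12)).mul (sa_Y s3) ((cYY h13).mul_left (cYY h23))).one_add
  · exact (((mono_Y s1).mul (mono_Y s2)).mul (mono_Y s3)).Q0 s0 (not_mem_triple h14 h24 h34)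

/-! ### normalising `LL` -/

section abstract

variable {R : Type*} [Ring R]

/-- `(1 + xc) y (1 + xc) = y + c` when `xy + yx = 1`, `c² = 0`, `c` commutes with `x`, `y`, and `2 = 0` -/
theorem conj_formula (h2 : ∀ a : R, a + a = 0) {x y c : R} (hxy : x * y + y * x = 1) (hcc : c * c = 0)
    (hcx : Commute c x) (hcy : Commute c y) :
    (1 + x * c) * y * (1 + x * c) = y + c := by
  have e : (1 + x * c) * y * (1 + x * c) = y + x * (c * y) + y * x * c + x * (c * y) * x * c := by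
    noncomm_ring
  rw [e, hcy.eq]
  have e2 : x * (y * c) * x * c = x * y * (c * x) * c := by noncomm_ring
  rw [e2, hcx.eq]
  have e3 : x * y * (x * c) * c = x * y * x * (c * c) := by noncomm_ring
  rw [e3, hcc, mul_zero, add_zero]
  have e4 : y + x * (y * c) + y * x * c = y + (x * y + y * x) * c := by noncomm_ring
  rw [e4, hxy, one_mul]

theorem conj_comm {τ m : R} (h1 : τ * τ = 1) (hc : Commute τ m) : τ * m * τ = m := by
  rw [hc.eq, mul_assoc, h1, mul_one]

end abstract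

omit [CharP F 2] in
theorem cXX' (s s' : S) : Commute (Xop (F := F) s) (Xop s') := by
  by_cases h : s = s'
  · subst h
    exact Commute.refl _
  · exact cXX h

omit [CharP F 2] in
theorem cYY' (s s' : S) : Commute (Yop (F := F) s) (Yop s') := by
  by_cases h : s = s'
  · subst h
    exact Commute.refl _
  · exact cYY h

omit [CharP F 2] in
theorem YX_add (s : S) : Yop (F := F) s * Xop s + Xop s * Yop s = 1 := by
  rw [add_comm]
  exact Xop_mul_Yop_add s

theorem norm_of {τ : Matrix (S → Fin 2) (S → Fin 2) F} (h1 : τ * τ = 1)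
    (hX : ∀ s, τ * Xop s * τ ∈ LL) (hY : ∀ s, τ * Yop s * τ ∈ LL) : toGL τ ∈ NormLL := by
  rw [mem_NormLL_iff, toGL_inv h1, toGL_val' h1]
  exact ⟨conj_mem_LL_of τ τ h1 hX hY, conj_mem_LL_of τ τ h1 hX hY⟩

/-- EL-NORM: `τ = 1 + X₁X₂` normalises `LL` -/
theorem tX2_mem_Norm {s1 s2 : S} (h : s1 ≠ s2) : toGL (tX2 (F := F) s1 s2) ∈ NormLL := by
  have h1 := S5707L3a.tX2_mul_self (F := F) h
  apply norm_of h1
  · intro s
    rw [conj_comm h1]
    · exact Xop_mem_LL s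
    · unfold tX2
      exact (Commute.one_left _).add_left ((cXX' s1 s).mul_left (cXX' s2 s))
  · intro s
    by_cases hs1 : s = s1
    · subst hs1
      unfold tX2
      rw [conj_formula mat_add_self (Xop_mul_Yop_add s) (Xop_mul_self s2) (cXX h.symm) (cXY h.symm)]
      exact Submodule.add_mem _ (Yop_mem_LL s) (Xop_mem_LL s2)
    · by_cases hs2 : s = s2
      · subst hs2
        unfold tX2
        rw [(cXX h).eq]
        rw [conj_formula mat_add_self (Xop_mul_Yop_add s) (Xop_mul_self s1) (cXX h) (cXY h)]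
        exact Submodule.add_mem _ (Yop_mem_LL s) (Xop_mem_LL s1)
      · rw [conj_comm h1]
        · exact Yop_mem_LL s
        · unfold tX2
          exact (Commute.one_left _).add_left
            ((cXY (Ne.symm hs1)).mul_left (cXY (Ne.symm hs2)))

/-- EL-NORM -/
theorem tY2_mem_Norm {s1 s2 : S} (h : s1 ≠ s2) : toGL (tY2 (F := F) s1 s2) ∈ NormLL := by
  have h1 := S5707L3a.tY2_mul_self (F := F) h
  apply norm_of h1
  · intro s
    by_cases hs1 : s = s1
    · subst hs1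
      unfold tY2
      rw [conj_formula mat_add_self (YX_add s) (Yop_mul_self s2) (cYY h.symm) (cYX h.symm)]
      exact Submodule.add_mem _ (Xop_mem_LL s) (Yop_mem_LL s2)
    · by_cases hs2 : s = s2
      · subst hs2
        unfold tY2
        rw [(cYY h).eq]
        rw [conj_formula mat_add_self (YX_add s) (Yop_mul_self s1) (cYY h) (cYX h)]
        exact Submodule.add_mem _ (Xop_mem_LL s) (Yop_mem_LL s1)
      · rw [conj_comm h1]
        · exact Xop_mem_LL s
        · unfold tY2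
          exact (Commute.one_left _).add_left
            ((cYX (Ne.symm hs1)).mul_left (cYX (Ne.symm hs2)))
  · intro s
    rw [conj_comm h1]
    · exact Yop_mem_LL s
    · unfold tY2
      exact (Commute.one_left _).add_left ((cYY' s1 s).mul_left (cYY' s2 s))

/-! ### the commutators -/

theorem comm_val {ι : Type} [Fintype ι] [DecidableEq ι] {τ σ : Matrix ι ι F} (hτ : τ * τ = 1) (hσ : σ * σ = 1) :
    ((toGL τ * toGL σ * (toGL τ)⁻¹ * (toGL σ)⁻¹ : GL ι F) : Matrix ι ι F) = τ * σ * (τ * σ) := by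
  rw [toGL_inv hτ, toGL_inv hσ, Units.val_mul, Units.val_mul, Units.val_mul, toGL_val' hτ, toGL_val' hσ,
    mul_assoc (τ * σ)]

/-- EL-G: matrix of `gElt` -/
theorem gElt_val {s1 s2 : S} (h : s1 ≠ s2) :
    ((gElt (F := F) s1 s2 : GL (S → Fin 2) F) : Matrix (S → Fin 2) (S → Fin 2) F) =
      1 + Yop s1 * Xop s1 * (Yop s2 * Xop s2) + Xop s1 * Xop s2 + Yop s1 * Yop s2 := by
  unfold gElt
  rw [comm_val (S5707L3a.tX2_mul_self h) (S5707L3a.tY2_mul_self h)]
  unfold tX2 tY2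
  rw [comm_formula mat_add_self (xy_two h), XY.mul_comm_mul (cXY (F := F) h)]

/-- EL-G: `g e_{00z} = e_{00z} + e_{11z}` -/
theorem gElt_mulVec_single {s1 s2 : S} (h : s1 ≠ s2) (x : S → Fin 2) (hx1 : x s1 = 0) (hx2 : x s2 = 0) :
    ((gElt (F := F) s1 s2 : GL (S → Fin 2) F) : Matrix (S → Fin 2) (S → Fin 2) F) *ᵥ Pi.single x 1 =
      Pi.single x 1 + Pi.single (flp s1 (flp s2 x)) 1 := by
  rw [gElt_val h, Matrix.add_mulVec, Matrix.add_mulVec, Matrix.add_mulVec, Matrix.one_mulVec]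
  rw [← Matrix.mulVec_mulVec (Pi.single x 1) (Yop s1 * Xop s1), YX_neg 1 hx2, Matrix.mulVec_zero]
  rw [← Matrix.mulVec_mulVec (Pi.single x 1) (Xop s1), X_neg 1 hx2, Matrix.mulVec_zero]
  rw [← Matrix.mulVec_mulVec (Pi.single x 1) (Yop s1), Y_pos 1 hx2,
    Y_pos 1 (by rw [flp_ne h, hx1]), add_zero, add_zero]

/-- EL-H: matrix of `hElt` and of its inverse -/
theorem hElt_val {s1 s2 s3 : S} (h12 : s1 ≠ s2) (h13 : s1 ≠ s3) (h23 : s2 ≠ s3) :
    ((hElt (F := F) s1 s2 s3 : GL (S → Fin 2) F) : Matrix (S → Fin 2) (S → Fin 2) F) =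
      1 + Yop s1 * Xop s1 * (Yop s2 * Xop s2) * (Yop s3 * Xop s3) + Xop s1 * Xop s2 * Xop s3 + Yop s1 * Yop s2 * Yop s3 ∧
    (((hElt (F := F) s1 s2 s3)⁻¹ : GL (S → Fin 2) F) : Matrix (S → Fin 2) (S → Fin 2) F) =
      1 + Xop s1 * Yop s1 * (Xop s2 * Yop s2) * (Xop s3 * Yop s3) + Xop s1 * Xop s2 * Xop s3 + Yop s1 * Yop s2 * Yop s3 := by
  have hτ := S5707L3a.tX3_mul_self (F := F) h12 h13 h23
  have hσ := S5707L3a.tY3_mul_self (F := F) h12 h13 h23
  constructor
  · unfold hElt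
    rw [comm_val hτ hσ]
    unfold tX3 tY3
    rw [comm_formula mat_add_self (xy_three h12 h13 h23)]
    rw [XY.mul_comm_mul ((cXY (F := F) h13).mul_left (cXY (F := F) h23)), XY.mul_comm_mul (cXY (F := F) h12)]
  · have e : (hElt (F := F) s1 s2 s3)⁻¹ =
        toGL (tY3 (F := F) s1 s2 s3) * toGL (tX3 (F := F) s1 s2 s3) * (toGL (tY3 (F := F) s1 s2 s3))⁻¹ *
          (toGL (tX3 (F := F) s1 s2 s3))⁻¹ := by
      unfold hElt
      group
    rw [e, comm_val hσ hτ]
    unfold tX3 tY3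
    rw [comm_formula mat_add_self (xy_three h12 h13 h23).symm]
    rw [XY.mul_comm_mul ((cYX (F := F) h13).mul_left (cYX (F := F) h23)), XY.mul_comm_mul (cYX (F := F) h12)]
    abel

/-- EL-H: `hElt` does not normalise `LL` -/
theorem hElt_not_mem_Norm {s1 s2 s3 : S} (h12 : s1 ≠ s2) (h13 : s1 ≠ s3) (h23 : s2 ≠ s3) :
    hElt (F := F) s1 s2 s3 ∉ NormLL := by
  intro hmem
  have hL := ((mem_NormLL_iff _).mp hmem).1 (Yop s1) (Yop_mem_LL s1)
  obtain ⟨hv, hiv⟩ := hElt_val (F := F) h12 h13 h23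
  rw [hv, hiv] at hL
  let z : S → Fin 2 := fun _ => 1
  have z1 : z s1 = 1 := rfl
  have z2 : z s2 = 1 := rfl
  have z3 : z s3 = 1 := rfl
  have y1 : flp s1 z s1 = 0 := by rw [flp_self, z1, rev_one2]
  have y2 : flp s1 z s2 = 1 := by rw [flp_ne h12.symm, z2]
  have y3 : flp s1 z s3 = 1 := by rw [flp_ne h13.symm, z3]
  have x2 : flp s1 (flp s2 (flp s3 z)) s2 = 0 := by
    rw [flp_ne h12.symm, flp_self, flp_ne h23, z2, rev_one2]
  have x3 : flp s1 (flp s2 (flp s3 z)) s3 = 0 := by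
    rw [flp_ne h13.symm, flp_ne h23.symm, flp_self, z3, rev_one2]
  have hentry := LL_apply_eq_zero _ hL (flp s1 (flp s2 (flp s3 z))) (flp s1 z) h23
    (by rw [x2, y2]; decide) (by rw [x3, y3]; decide)
  -- step A: the inverse fixes `e_y`
  have hA : (1 + Xop s1 * Yop s1 * (Xop s2 * Yop s2) * (Xop s3 * Yop s3) + Xop s1 * Xop s2 * Xop s3
      + Yop s1 * Yop s2 * Yop s3 : Matrix (S → Fin 2) (S → Fin 2) F) *ᵥ Pi.single (flp s1 z) 1 =
      Pi.single (flp s1 z) 1 := by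
    rw [Matrix.add_mulVec, Matrix.add_mulVec, Matrix.add_mulVec, Matrix.one_mulVec]
    rw [← Matrix.mulVec_mulVec (Pi.single (flp s1 z) 1) (Xop s1 * Yop s1 * (Xop s2 * Yop s2)), XY_neg 1 y3,
      Matrix.mulVec_zero]
    rw [← Matrix.mulVec_mulVec (Pi.single (flp s1 z) 1) (Xop s1 * Xop s2), X_pos 1 y3,
      ← Matrix.mulVec_mulVec _ (Xop s1), X_pos 1 (by rw [flp_ne h23, y2]),
      X_neg 1 (by rw [flp_ne h12, flp_ne h13, y1])]
    rw [← Matrix.mulVec_mulVec (Pi.single (flp s1 z) 1) (Yop s1 * Yop s2), Y_neg 1 y3, Matrix.mulVec_zero,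
      add_zero, add_zero, add_zero]
  -- step B
  have hB : Yop (F := F) s1 *ᵥ Pi.single (flp s1 z) 1 = Pi.single z 1 := by
    rw [Y_pos 1 y1, flp_flp]
  -- step C
  have hC : (1 + Yop s1 * Xop s1 * (Yop s2 * Xop s2) * (Yop s3 * Xop s3) + Xop s1 * Xop s2 * Xop s3
      + Yop s1 * Yop s2 * Yop s3 : Matrix (S → Fin 2) (S → Fin 2) F) *ᵥ Pi.single z 1 =
      Pi.single z 1 + Pi.single z 1 + Pi.single (flp s1 (flp s2 (flp s3 z))) 1 := by
    rw [Matrix.add_mulVec, Matrix.add_mulVec, Matrix.add_mulVec, Matrix.one_mulVec]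
    rw [← Matrix.mulVec_mulVec (Pi.single z 1) (Yop s1 * Xop s1 * (Yop s2 * Xop s2)), YX_pos 1 z3,
      ← Matrix.mulVec_mulVec (Pi.single z 1) (Yop s1 * Xop s1), YX_pos 1 z2, YX_pos 1 z1]
    rw [← Matrix.mulVec_mulVec (Pi.single z 1) (Xop s1 * Xop s2), X_pos 1 z3,
      ← Matrix.mulVec_mulVec _ (Xop s1), X_pos 1 (by rw [flp_ne h23, z2]),
      X_pos 1 (by rw [flp_ne h12, flp_ne h13, z1])]
    rw [← Matrix.mulVec_mulVec (Pi.single z 1) (Yop s1 * Yop s2), Y_neg 1 z3, Matrix.mulVec_zero, add_zero]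
  have hval : ((1 + Yop s1 * Xop s1 * (Yop s2 * Xop s2) * (Yop s3 * Xop s3) + Xop s1 * Xop s2 * Xop s3
      + Yop s1 * Yop s2 * Yop s3) * Yop s1 *
      (1 + Xop s1 * Yop s1 * (Xop s2 * Yop s2) * (Xop s3 * Yop s3) + Xop s1 * Xop s2 * Xop s3
      + Yop s1 * Yop s2 * Yop s3) : Matrix (S → Fin 2) (S → Fin 2) F)
        (flp s1 (flp s2 (flp s3 z))) (flp s1 z) = 1 := by
    have e := Cfsg.Agent.Lib.Helper10.S5707L1c.mulVec_single_apply
      ((1 + Yop s1 * Xop s1 * (Yop s2 * Xop s2) * (Yop s3 * Xop s3) + Xop s1 * Xop s2 * Xop s3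
      + Yop s1 * Yop s2 * Yop s3) * Yop s1 *
      (1 + Xop s1 * Yop s1 * (Xop s2 * Yop s2) * (Xop s3 * Yop s3) + Xop s1 * Xop s2 * Xop s3
      + Yop s1 * Yop s2 * Yop s3) : Matrix (S → Fin 2) (S → Fin 2) F) (flp s1 z) (1 : F)
        (flp s1 (flp s2 (flp s3 z)))
    rw [mul_one] at e
    rw [← e, ← Matrix.mulVec_mulVec, hA, ← Matrix.mulVec_mulVec, hB, hC]
    rw [Pi.add_apply, Pi.add_apply, Pi.single_eq_same, CharTwo.add_self_eq_zero, zero_add]
  rw [hval] at hentry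
  exact one_ne_zero hentry

end Cfsg.Agent.Lib.Helper10.S5707L3b
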