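import Mathlib
import Cfsg.Prelude.Def_GeometricClasses
import Cfsg.Agent.Lib.Helper25.SpinDefs
import Cfsg.Agent.Lib.Helper10.S5707L1a
import Cfsg.Agent.Lib.Helper10.S5707L1b

/-!
# S5707 layer L4a, the WR + C2 pieces (helper10, for helper25)

Exact statements of the stubs `exists_normal_form`, `pureMat_mem_wreath`, `pureVec_ne_single_add_single`,
`gram_two`, `not_symplectic_odd` of `Cfsg/Agent/Lib/Helper25/SpinL4a.lean`.
-/

set_option autoImplicit false

namespace Cfsg.Agent.Lib.Helper10.S5707L4a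

open Matrix Cfsg.Agent.Lib.Helper25.Spin Cfsg.Agent.Lib.Helper10.S5707L1a Cfsg.Agent.Lib.Helper10.S5707L1b

variable {F : Type*} [Field F]

/-! ### WR-NF -/

section nf

variable {m t : ℕ}

theorem permMat_inv_mul (σ : Equiv.Perm (Fin t)) :
    (permMat σ⁻¹ : Matrix (Fin t → Fin m) (Fin t → Fin m) F) * permMat σ = 1 := by
  rw [permMat_mul, inv_mul_cancel, permMat_one]

theorem permMat_mul_inv (σ : Equiv.Perm (Fin t)) :
    (permMat σ : Matrix (Fin t → Fin m) (Fin t → Fin m) F) * permMat σ⁻¹ = 1 := by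
  rw [permMat_mul, mul_inv_cancel, permMat_one]

theorem pureMat_mul_eq_one (gs gs' : Fin t → Matrix (Fin m) (Fin m) F) (h : ∀ i, gs i * gs' i = 1) :
    pureMat gs * pureMat gs' = 1 := by
  rw [pureMat_mul]
  have : (fun s => gs s * gs' s) = fun _ => (1 : Matrix (Fin m) (Fin m) F) := funext h
  rw [this, pureMat_one]

/-- the inverse of a normal form -/
theorem inv_of_nf (n : GL (Fin t → Fin m) F) (gs gs' : Fin t → Matrix (Fin m) (Fin m) F) (σ : Equiv.Perm (Fin t))
    (h : ∀ i, gs i * gs' i = 1)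
    (hn : (n : Matrix (Fin t → Fin m) (Fin t → Fin m) F) = pureMat gs * permMat σ) :
    ((n⁻¹ : GL (Fin t → Fin m) F) : Matrix (Fin t → Fin m) (Fin t → Fin m) F) = permMat σ⁻¹ * pureMat gs' := by
  apply Units.inv_eq_of_mul_eq_one_right
  rw [hn]
  calc pureMat gs * permMat σ * (permMat σ⁻¹ * pureMat gs')
      = pureMat gs * (permMat σ * permMat σ⁻¹) * pureMat gs' := by simp only [mul_assoc]
    _ = 1 := by rw [permMat_mul_inv, mul_one, pureMat_mul_eq_one gs gs' h]

/-- the normal form without the inverse -/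
theorem exists_nf (n : GL (Fin t → Fin m) F) (hn : n ∈ Cfsg.Geo.tensorWreathStandard m t F) :
    ∃ (gs gs' : Fin t → Matrix (Fin m) (Fin m) F) (σ : Equiv.Perm (Fin t)), (∀ i, gs i * gs' i = 1) ∧
      (n : Matrix (Fin t → Fin m) (Fin t → Fin m) F) = pureMat gs * permMat σ := by
  unfold Cfsg.Geo.tensorWreathStandard at hn
  induction hn using Subgroup.closure_induction with
  | mem g hg =>
    rcases hg with ⟨gs, hgs⟩ | ⟨σ, hσ⟩
    · refine ⟨fun i => (gs i : Matrix (Fin m) (Fin m) F),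
        fun i => ((gs i)⁻¹ : GL (Fin m) F), 1, fun i => ?_, ?_⟩
      · rw [← Units.val_mul, mul_inv_cancel]
        rfl
      · rw [permMat_one, mul_one]
        ext x y
        rw [hgs x y]
        rfl
    · refine ⟨fun _ => 1, fun _ => 1, σ, fun i => mul_one 1, ?_⟩
      rw [pureMat_one, one_mul]
      ext x y
      rw [hσ x y]
      rfl
  | one =>
    refine ⟨fun _ => 1, fun _ => 1, 1, fun i => mul_one 1, ?_⟩
    rw [pureMat_one, one_mul, permMat_one]
    rfl
  | mul a b _ _ ha hb =>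
    obtain ⟨gs1, gs1', σ1, h1, e1⟩ := ha
    obtain ⟨gs2, gs2', σ2, h2, e2⟩ := hb
    refine ⟨fun i => gs1 i * gs2 (σ1⁻¹ i), fun i => gs2' (σ1⁻¹ i) * gs1' i, σ1 * σ2, fun i => ?_, ?_⟩
    · calc gs1 i * gs2 (σ1⁻¹ i) * (gs2' (σ1⁻¹ i) * gs1' i)
          = gs1 i * (gs2 (σ1⁻¹ i) * gs2' (σ1⁻¹ i)) * gs1' i := by simp only [mul_assoc]
        _ = 1 := by rw [h2, mul_one, h1]
    · rw [Units.val_mul, e1, e2, ← pureMat_mul, ← permMat_mul, ← permMat_conj_pureMat σ1 gs2]
      calc pureMat gs1 * permMat σ1 * (pureMat gs2 * permMat σ2)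
          = pureMat gs1 * (permMat σ1 * pureMat gs2) * 1 * permMat σ2 := by simp only [mul_assoc, one_mul]
        _ = pureMat gs1 * (permMat σ1 * pureMat gs2) * (permMat σ1⁻¹ * permMat σ1) * permMat σ2 := by
            rw [permMat_inv_mul]
        _ = pureMat gs1 * (permMat σ1 * pureMat gs2 * permMat σ1⁻¹) * (permMat σ1 * permMat σ2) := by
            simp only [mul_assoc]
  | inv a _ ha =>
    obtain ⟨gs, gs', σ, h, e⟩ := ha
    have h' : ∀ i, gs' i * gs i = 1 := fun i => mul_eq_one_comm.mp (h i)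
    refine ⟨fun i => gs' (σ i), fun i => gs (σ i), σ⁻¹, fun i => h' (σ i), ?_⟩
    rw [inv_of_nf a gs gs' σ h e]
    have hc := permMat_conj_pureMat σ⁻¹ gs'
    rw [inv_inv] at hc
    have hc' : (fun s => gs' (σ s)) = fun s => gs' (σ⁻¹⁻¹ s) := by
      funext s
      rw [inv_inv]
    rw [hc', ← permMat_conj_pureMat σ⁻¹ gs', inv_inv]
    calc permMat σ⁻¹ * pureMat gs' = permMat σ⁻¹ * pureMat gs' * 1 := by rw [mul_one]
      _ = permMat σ⁻¹ * pureMat gs' * (permMat σ * permMat σ⁻¹) := by rw [permMat_mul_inv]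
      _ = permMat σ⁻¹ * pureMat gs' * permMat σ * permMat σ⁻¹ := by simp only [mul_assoc]

/-- WR-NF: normal form of the elements of the frozen tensor-wreath subgroup. -/
theorem exists_normal_form (m t : ℕ) (n : GL (Fin t → Fin m) F)
    (hn : n ∈ Cfsg.Geo.tensorWreathStandard m t F) :
    ∃ (gs gs' : Fin t → Matrix (Fin m) (Fin m) F) (σ : Equiv.Perm (Fin t)), (∀ i, gs i * gs' i = 1) ∧
      (n : Matrix (Fin t → Fin m) (Fin t → Fin m) F) = pureMat gs * permMat σ ∧
      ((n⁻¹ : GL (Fin t → Fin m) F) : Matrix (Fin t → Fin m) (Fin t → Fin m) F) = permMat σ⁻¹ * pureMat gs' := by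
  obtain ⟨gs, gs', σ, h, e⟩ := exists_nf n hn
  exact ⟨gs, gs', σ, h, e, inv_of_nf n gs gs' σ h e⟩

/-- WR-NF: pure tensors of invertible matrices belong to the frozen subgroup -/
theorem pureMat_mem_wreath (m t : ℕ) (b b' : Matrix (Fin m) (Fin m) F) (hbb' : b * b' = 1)
    (g : GL (Fin t → Fin m) F)
    (hg : (g : Matrix (Fin t → Fin m) (Fin t → Fin m) F) = pureMat (fun _ => b)) :
    g ∈ Cfsg.Geo.tensorWreathStandard m t F := by
  apply Subgroup.subset_closure
  left
  refine ⟨fun _ => ⟨b, b', hbb', mul_eq_one_comm.mp hbb'⟩, fun x y => ?_⟩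
  rw [hg]
  rfl

end nf

/-! ### WR-NP -/

/-- WR-PURE: `e_{y0} + e_{y1}` is not a pure tensor when `y0`, `y1` differ in two sites. -/
theorem pureVec_ne_single_add_single {S : Type} [Fintype S] [DecidableEq S] {m : ℕ} (y0 y1 : S → Fin m)
    {i1 i2 : S} (h12 : i1 ≠ i2) (h1 : y0 i1 ≠ y1 i1) (h2 : y0 i2 ≠ y1 i2) (vs : S → Fin m → F) :
    pureVec vs ≠ Pi.single y0 (1 : F) + Pi.single y1 1 := by
  intro hv
  have h01 : y0 ≠ y1 := fun h => h1 (by rw [h])
  set z : S → Fin m := Function.update y0 i1 (y1 i1) with hz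
  set z' : S → Fin m := Function.update y1 i1 (y0 i1) with hz'
  have hprod : pureVec vs y0 * pureVec vs y1 = pureVec vs z * pureVec vs z' := by
    rw [pureVec_apply, pureVec_apply, pureVec_apply, pureVec_apply, ← Finset.prod_mul_distrib,
      ← Finset.prod_mul_distrib]
    apply Finset.prod_congr rfl
    intro s _
    by_cases hs : s = i1
    · subst hs
      rw [hz, hz', Function.update_self, Function.update_self, mul_comm]
    · rw [hz, hz', Function.update_of_ne hs, Function.update_of_ne hs]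
  have hz0 : z ≠ y0 := by
    intro h
    have := congrFun h i1
    rw [hz, Function.update_self] at this
    exact h1 this.symm
  have hz1 : z ≠ y1 := by
    intro h
    have := congrFun h i2
    rw [hz, Function.update_of_ne h12.symm] at this
    exact h2 this
  rw [hv] at hprod
  simp only [Pi.add_apply] at hprod
  rw [Pi.single_eq_same, Pi.single_eq_same, Pi.single_eq_of_ne h01, Pi.single_eq_of_ne h01.symm,
    Pi.single_eq_of_ne hz0, Pi.single_eq_of_ne hz1] at hprod
  simp at hprod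

/-! ### bilinear expansion -/

section expand

variable {κ : Type} [Fintype κ] [DecidableEq κ]

theorem bilin_expand (f : (κ → F) → (κ → F) → F) (hf : Cfsg.Geo.IsBilinearForm f) (x y : κ → F) :
    f x y = ∑ a, ∑ b, x a * Cfsg.Geo.gramMatrix f a b * y b := by
  let B : (κ → F) →ₗ[F] (κ → F) →ₗ[F] F :=
    LinearMap.mk₂ F f hf.add_left (fun c x v => by rw [hf.smul_left, smul_eq_mul])
      hf.add_right (fun c v x => by rw [hf.smul_right, smul_eq_mul])
  have hB : ∀ u v, B u v = f u v := fun _ _ => rfl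
  have hx : x = ∑ a, x a • (Pi.single a 1 : κ → F) := by
    funext k
    simp [Finset.sum_apply, Pi.single_apply]
  have hy : y = ∑ b, y b • (Pi.single b 1 : κ → F) := by
    funext k
    simp [Finset.sum_apply, Pi.single_apply]
  rw [← hB]
  conv_lhs => rw [hx, hy]
  simp only [map_sum, LinearMap.sum_apply, map_smul, LinearMap.smul_apply, smul_eq_mul, Finset.mul_sum]
  rw [Finset.sum_comm]
  apply Finset.sum_congr rfl
  intro a _
  apply Finset.sum_congr rfl
  intro b _
  rw [hB]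
  unfold Cfsg.Geo.gramMatrix
  ring

end expand

/-! ### C2-GRAM -/

/-- C2-GRAM: a symplectic form on `F^2` in characteristic 2 has Gram matrix `γ • J2`, `γ ≠ 0` -/
theorem gram_two [CharP F 2] (f₁ : (Fin 2 → F) → (Fin 2 → F) → F) (hf₁ : Cfsg.Geo.IsSymplecticForm f₁) :
    ∃ γ : F, γ ≠ 0 ∧ Cfsg.Geo.gramMatrix f₁ = γ • J2 (F := F) := by
  have h00 : Cfsg.Geo.gramMatrix f₁ 0 0 = 0 := hf₁.alternating _
  have h11 : Cfsg.Geo.gramMatrix f₁ 1 1 = 0 := hf₁.alternating _
  have h10 : Cfsg.Geo.gramMatrix f₁ 1 0 = Cfsg.Geo.gramMatrix f₁ 0 1 := by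
    have := hf₁.skew (Pi.single 1 1) (Pi.single 0 1)
    unfold Cfsg.Geo.gramMatrix
    rw [this, CharTwo.neg_eq]
  refine ⟨Cfsg.Geo.gramMatrix f₁ 0 1, ?_, ?_⟩
  · intro h0
    have hne : (Pi.single 0 1 : Fin 2 → F) ≠ 0 := by
      intro h
      have := congrFun h 0
      simp at this
    obtain ⟨x, hx⟩ := (hf₁.nondegenerate _ hne).2
    apply hx
    rw [bilin_expand f₁ hf₁.bilinear]
    simp [Fin.sum_univ_two, h00, h11, h10, h0]
  · ext a b
    fin_cases a <;> fin_cases b <;> simp [J2, h00, h11, h10]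

/-! ### C4-ODD -/

/-- C4-ODD: there is no symplectic form on `F^1` or `F^3` -/
theorem not_symplectic_odd (k : ℕ) (hk : k = 1 ∨ k = 3) (f₁ : (Fin k → F) → (Fin k → F) → F) :
    ¬ Cfsg.Geo.IsSymplecticForm f₁ := by
  intro hf₁
  rcases hk with rfl | rfl
  · have hne : (Pi.single 0 1 : Fin 1 → F) ≠ 0 := by
      intro h
      have := congrFun h 0
      simp at this
    obtain ⟨x, hx⟩ := (hf₁.nondegenerate _ hne).2
    apply hx
    rw [bilin_expand f₁ hf₁.bilinear]
    have h00 : Cfsg.Geo.gramMatrix f₁ 0 0 = 0 := hf₁.alternating _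
    simp [h00]
  · have hd : ∀ a, Cfsg.Geo.gramMatrix f₁ a a = 0 := fun a => hf₁.alternating _
    have hs : ∀ a b, Cfsg.Geo.gramMatrix f₁ a b = - Cfsg.Geo.gramMatrix f₁ b a := fun a b => hf₁.skew _ _
    set G := Cfsg.Geo.gramMatrix f₁ with hG
    let v : Fin 3 → F := ![G 1 2, - G 0 2, G 0 1]
    have hkill : ∀ x : Fin 3 → F, f₁ x v = 0 := by
      intro x
      rw [bilin_expand f₁ hf₁.bilinear]
      simp only [Fin.sum_univ_three, ← hG]
      have e0 : v 0 = G 1 2 := rfl
      have e1 : v 1 = - G 0 2 := rfl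
      have e2 : v 2 = G 0 1 := rfl
      rw [e0, e1, e2, hd 0, hd 1, hd 2, hs 1 0, hs 2 0, hs 2 1]
      ring
    by_cases hv : v = 0
    · have g12 : G 1 2 = 0 := congrFun hv 0
      have g02 : G 0 2 = 0 := by
        have : - G 0 2 = 0 := congrFun hv 1
        exact neg_eq_zero.mp this
      have g01 : G 0 1 = 0 := congrFun hv 2
      have hne : (Pi.single 0 1 : Fin 3 → F) ≠ 0 := by
        intro h
        have := congrFun h 0
        simp at this
      obtain ⟨x, hx⟩ := (hf₁.nondegenerate _ hne).2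
      apply hx
      rw [bilin_expand f₁ hf₁.bilinear]
      simp only [Fin.sum_univ_three, ← hG]
      rw [hd 0, g01, g02]
      simp
    · obtain ⟨x, hx⟩ := (hf₁.nondegenerate v hv).1
      exact hx (hkill x)

end Cfsg.Agent.Lib.Helper10.S5707L4a
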