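import Mathlib
import Cfsg.Prelude.Def_GeometricClasses
import Cfsg.Agent.Lib.Helper25.SpinDefs
import Cfsg.Agent.Lib.Helper25.SpinL1a
import Cfsg.Agent.Lib.Helper25.SpinL1b
import Cfsg.Agent.Lib.Helper25.SpinL1c
import Cfsg.Agent.Lib.Helper25.SpinL2a
import Cfsg.Agent.Lib.Helper25.SpinL2b
import Cfsg.Agent.Lib.Helper10.S5707L4a

/-!
# S5707 layer L4a, the C4 pieces (helper10, for helper25)

Exact statements of the stubs `rigidity`, `reindex_op_hi`, `reindex_op_lo`, `formG_J4_beta`, `mem_l4_iff`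
of `Cfsg/Agent/Lib/Helper25/SpinL4a.lean`. Layers 1, 2 through helper25's stub files.
-/

set_option autoImplicit false

namespace Cfsg.Agent.Lib.Helper10.S5707L4a2

open Matrix Cfsg.Agent.Lib.Helper25.Spin

variable {F : Type*} [Field F]

/-! ### C4-RIG -/

theorem eq_of_dot {ι : Type} [Fintype ι] [DecidableEq ι] (M N : Matrix ι ι F)
    (h : ∀ x y : ι → F, x ⬝ᵥ (M *ᵥ y) = x ⬝ᵥ (N *ᵥ y)) : M = N := by
  ext a b
  have := h (Pi.single a 1) (Pi.single b 1)
  rwa [single_one_dotProduct, single_one_dotProduct, Matrix.mulVec_single_one, Matrix.mulVec_single_one] at this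

theorem dot_conj {ι : Type} [Fintype ι] [DecidableEq ι] (P Q : Matrix ι ι F) (x y : ι → F) :
    (P *ᵥ x) ⬝ᵥ (Q *ᵥ (P *ᵥ y)) = x ⬝ᵥ ((Pᵀ * Q * P) *ᵥ y) := by
  rw [← Matrix.vecMul_transpose, ← Matrix.dotProduct_mulVec, Matrix.mulVec_mulVec, Matrix.mulVec_mulVec,
    Matrix.mul_assoc]

theorem pureMat_apply' {S : Type} [Fintype S] [DecidableEq S] {m : ℕ} (gs : S → Matrix (Fin m) (Fin m) F)
    (x y : S → Fin m) : pureMat gs x y = ∏ s, gs s (x s) (y s) := rfl

/-- if `⊗ hs i = ⊗ G` with `G ≠ 0` then every `hs i` is a multiple of `G` -/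
theorem pureMat_eq_const {m t : ℕ} (hs : Fin t → Matrix (Fin m) (Fin m) F) (G : Matrix (Fin m) (Fin m) F)
    (hG : G ≠ 0) (h : pureMat hs = pureMat (fun _ => G)) : ∀ i, ∃ lam : F, hs i = lam • G := by
  have hab : ∃ a0 b0, G a0 b0 ≠ 0 := by
    by_contra hcon
    push_neg at hcon
    apply hG
    ext a b
    exact hcon a b
  obtain ⟨a0, b0, h0⟩ := hab
  intro i
  have key : ∀ α β : Fin m, hs i α β * ∏ j ∈ Finset.univ.erase i, hs j a0 b0 =
      G α β * ∏ j ∈ Finset.univ.erase i, G a0 b0 := by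
    intro α β
    have e := congrFun (congrFun h (Function.update (fun _ => a0) i α)) (Function.update (fun _ => b0) i β)
    rw [pureMat_apply', pureMat_apply', ← Finset.mul_prod_erase Finset.univ _ (Finset.mem_univ i),
      ← Finset.mul_prod_erase Finset.univ _ (Finset.mem_univ i), Function.update_self, Function.update_self] at e
    have e1 : ∏ j ∈ Finset.univ.erase i, hs j (Function.update (fun _ => a0) i α j)
        (Function.update (fun _ => b0) i β j) = ∏ j ∈ Finset.univ.erase i, hs j a0 b0 := by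
      apply Finset.prod_congr rfl
      intro j hj
      rw [Function.update_of_ne (Finset.ne_of_mem_erase hj), Function.update_of_ne (Finset.ne_of_mem_erase hj)]
    have e2 : ∏ j ∈ Finset.univ.erase i, G (Function.update (fun _ => a0) i α j)
        (Function.update (fun _ => b0) i β j) = ∏ j ∈ Finset.univ.erase i, G a0 b0 := by
      apply Finset.prod_congr rfl
      intro j hj
      rw [Function.update_of_ne (Finset.ne_of_mem_erase hj), Function.update_of_ne (Finset.ne_of_mem_erase hj)]
    rw [e1, e2] at e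
    exact e
  have hd : ∏ j ∈ Finset.univ.erase i, G a0 b0 ≠ 0 := Finset.prod_ne_zero_iff.mpr (fun _ _ => h0)
  have hc : ∏ j ∈ Finset.univ.erase i, hs j a0 b0 ≠ 0 := by
    intro hc
    have := key a0 b0
    rw [hc, mul_zero] at this
    exact mul_ne_zero h0 hd this.symm
  refine ⟨(∏ j ∈ Finset.univ.erase i, G a0 b0) / (∏ j ∈ Finset.univ.erase i, hs j a0 b0), ?_⟩
  ext α β
  rw [Matrix.smul_apply, smul_eq_mul, div_mul_eq_mul_div, eq_div_iff hc, key α β, mul_comm]

/-- C4-RIG: rigidity -/
theorem rigidity (m t : ℕ) (G : Matrix (Fin m) (Fin m) F) (hG : G ≠ 0) (gs : Fin t → Matrix (Fin m) (Fin m) F)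
    (σ : Equiv.Perm (Fin t))
    (hpres : ∀ x y : (Fin t → Fin m) → F,
      formG G ((pureMat gs * permMat σ) *ᵥ x) ((pureMat gs * permMat σ) *ᵥ y) = formG G x y) :
    ∀ i, ∃ lam : F, (gs i)ᵀ * G * gs i = lam • G := by
  have h1 : ∀ x y : (Fin t → Fin m) → F, formG G (pureMat gs *ᵥ x) (pureMat gs *ᵥ y) = formG G x y := by
    intro x y
    have e := hpres ((permMat σ⁻¹ : Matrix (Fin t → Fin m) (Fin t → Fin m) F) *ᵥ x)
      ((permMat σ⁻¹ : Matrix (Fin t → Fin m) (Fin t → Fin m) F) *ᵥ y)
    rw [formG_permMat, Matrix.mulVec_mulVec, Matrix.mulVec_mulVec, Matrix.mul_assoc, permMat_mul,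
      mul_inv_cancel, permMat_one, Matrix.mul_one] at e
    exact e
  have h2 : (pureMat gs)ᵀ * pureMat (fun _ : Fin t => G) * pureMat gs = pureMat (fun _ : Fin t => G) := by
    apply eq_of_dot
    intro x y
    rw [← dot_conj, ← formG_eq, ← formG_eq]
    exact h1 x y
  rw [pureMat_transpose, pureMat_mul, pureMat_mul] at h2
  exact pureMat_eq_const _ G hG h2

/-! ### digits -/

theorem fin2_zero_or_one (a : Fin 2) : a = 0 ∨ a = 1 := by
  revert a
  decide

theorem dig_ext {a b : Fin 4} (h0 : dig a 0 = dig b 0) (h1 : dig a 1 = dig b 1) : a = b := by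
  revert h0 h1
  revert a b
  decide

theorem dig_rev (a : Fin 4) (j : Fin 2) : dig (Fin.rev a) j = Fin.rev (dig a j) := by
  revert a j
  decide

theorem beta_apply (t : ℕ) (x : Fin t → Fin 4) (p : Fin t × Fin 2) : beta t x p = dig (x p.1) p.2 := rfl

theorem beta_rev (t : ℕ) (a : Fin t → Fin 4) : beta t (fun i => Fin.rev (a i)) = cpl (beta t a) := by
  funext p
  rw [beta_apply]
  unfold cpl
  rw [beta_apply, dig_rev]

/-! ### C4-BETA -/

theorem reindex_eq_of {t : ℕ} (M : Matrix (Fin t → Fin 4) (Fin t → Fin 4) F)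
    (N : Matrix (Fin t × Fin 2 → Fin 2) (Fin t × Fin 2 → Fin 2) F)
    (h : ∀ x x', M x x' = N (beta t x) (beta t x')) : Matrix.reindex (beta t) (beta t) M = N := by
  ext y y'
  rw [Matrix.reindex_apply, Matrix.submatrix_apply, h, Equiv.apply_symm_apply, Equiv.apply_symm_apply]

/-- C4-BETA: reindexing a block operator on the high digit -/
theorem reindex_op_hi (t : ℕ) (i : Fin t) (A : Matrix (Fin 2) (Fin 2) F) :
    Matrix.reindex (beta t) (beta t) (op i (hi4 A)) = op ((i, 0) : Fin t × Fin 2) A := by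
  apply reindex_eq_of
  intro x x'
  rw [op_apply, op_apply]
  by_cases hc : (∀ s', s' ≠ i → x s' = x' s') ∧ dig (x i) 1 = dig (x' i) 1
  · have hc' : ∀ p : Fin t × Fin 2, p ≠ (i, 0) → beta t x p = beta t x' p := by
      rintro ⟨j, k⟩ hp
      rw [beta_apply, beta_apply]
      by_cases hj : j = i
      · subst hj
        have hk : k = 1 := by
          rcases fin2_zero_or_one k with h | h
          · exact absurd (by rw [h]) hp
          · exact h
        rw [hk]
        exact hc.2
      · rw [hc.1 j hj]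
    rw [if_pos hc.1, if_pos hc']
    unfold hi4
    rw [if_pos hc.2]
    rfl
  · have hc' : ¬ ∀ p : Fin t × Fin 2, p ≠ (i, 0) → beta t x p = beta t x' p := by
      intro hall
      apply hc
      refine ⟨fun j hj => ?_, ?_⟩
      · apply dig_ext
        · exact hall (j, 0) (fun h => hj (congrArg Prod.fst h))
        · exact hall (j, 1) (fun h => hj (congrArg Prod.fst h))
      · exact hall (i, 1) (fun h => by simpa using congrArg Prod.snd h)
    rw [if_neg hc']
    by_cases h1 : ∀ s', s' ≠ i → x s' = x' s'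
    · rw [if_pos h1]
      unfold hi4
      rw [if_neg (fun h2 => hc ⟨h1, h2⟩)]
    · rw [if_neg h1]

/-- C4-BETA: reindexing a block operator on the low digit -/
theorem reindex_op_lo (t : ℕ) (i : Fin t) (A : Matrix (Fin 2) (Fin 2) F) :
    Matrix.reindex (beta t) (beta t) (op i (lo4 A)) = op ((i, 1) : Fin t × Fin 2) A := by
  apply reindex_eq_of
  intro x x'
  rw [op_apply, op_apply]
  by_cases hc : (∀ s', s' ≠ i → x s' = x' s') ∧ dig (x i) 0 = dig (x' i) 0
  · have hc' : ∀ p : Fin t × Fin 2, p ≠ (i, 1) → beta t x p = beta t x' p := by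
      rintro ⟨j, k⟩ hp
      rw [beta_apply, beta_apply]
      by_cases hj : j = i
      · subst hj
        have hk : k = 0 := by
          rcases fin2_zero_or_one k with h | h
          · exact h
          · exact absurd (by rw [h]) hp
        rw [hk]
        exact hc.2
      · rw [hc.1 j hj]
    rw [if_pos hc.1, if_pos hc']
    unfold lo4
    rw [if_pos hc.2]
    rfl
  · have hc' : ¬ ∀ p : Fin t × Fin 2, p ≠ (i, 1) → beta t x p = beta t x' p := by
      intro hall
      apply hc
      refine ⟨fun j hj => ?_, ?_⟩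
      · apply dig_ext
        · exact hall (j, 0) (fun h => hj (congrArg Prod.fst h))
        · exact hall (j, 1) (fun h => hj (congrArg Prod.fst h))
      · exact hall (i, 0) (fun h => by simpa using congrArg Prod.snd h)
    rw [if_neg hc']
    by_cases h1 : ∀ s', s' ≠ i → x s' = x' s'
    · rw [if_pos h1]
      unfold lo4
      rw [if_neg (fun h2 => hc ⟨h1, h2⟩)]
    · rw [if_neg h1]

theorem prod_J4 {t : ℕ} (a b : Fin t → Fin 4) :
    (∏ i, J4 (F := F) (a i) (b i)) = if b = (fun i => Fin.rev (a i)) then 1 else 0 := by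
  unfold J4
  rw [Finset.prod_ite_zero]
  simp only [Finset.mem_univ, forall_true_left, Finset.prod_const_one]
  by_cases h : b = fun i => Fin.rev (a i)
  · rw [if_pos h, if_pos]
    intro i
    rw [h]
  · rw [if_neg h, if_neg]
    intro h'
    exact h (funext h')

/-- C4-BETA: the forms correspond -/
theorem formG_J4_beta (t : ℕ) (v w : (Fin t × Fin 2 → Fin 2) → F) :
    formG (J4 (F := F)) (v ∘ beta t) (w ∘ beta t) = B0 v w := by
  unfold formG B0
  rw [← Equiv.sum_comp (beta t) (fun x => v x * w (cpl x))]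
  apply Finset.sum_congr rfl
  intro a _
  rw [Finset.sum_eq_single (fun i => Fin.rev (a i))]
  · rw [prod_J4, if_pos rfl, mul_one, Function.comp_apply, Function.comp_apply, beta_rev]
  · intro b _ hb
    rw [prod_J4, if_neg hb, mul_zero, zero_mul]
  · intro h
    exact absurd (Finset.mem_univ _) h

end Cfsg.Agent.Lib.Helper10.S5707L4a2
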