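import Mathlib
import Cfsg.Prelude.Def_GeometricClasses
import Cfsg.Agent.Lib.Helper25.SpinDefs
import Cfsg.Agent.Lib.Helper10.S5707L4a

/-!
# S5707 layer L4a, the 4 x 4 pieces (helper10, for helper25)

Exact statements of the stubs `mem_l4_iff`, `l4_conj`, `exists_symplectic_basis4`
of `Cfsg/Agent/Lib/Helper25/SpinL4a.lean`. Mathlib + SpinDefs only.
-/

set_option autoImplicit false

namespace Cfsg.Agent.Lib.Helper10.S5707L4a3

open Matrix Cfsg.Agent.Lib.Helper25.Spin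

variable {F : Type*} [Field F]

/-! ### C4-L4 -/

theorem hi4_eq (A : Matrix (Fin 2) (Fin 2) F) :
    hi4 A = !![A 0 0, 0, A 0 1, 0; 0, A 0 0, 0, A 0 1; A 1 0, 0, A 1 1, 0; 0, A 1 0, 0, A 1 1] := by
  ext a b
  fin_cases a <;> fin_cases b <;> rfl

theorem lo4_eq (A : Matrix (Fin 2) (Fin 2) F) :
    lo4 A = !![A 0 0, A 0 1, 0, 0; A 1 0, A 1 1, 0, 0; 0, 0, A 0 0, A 0 1; 0, 0, A 1 0, A 1 1] := by
  ext a b
  fin_cases a <;> fin_cases b <;> rfl

theorem mem_l4 (X : Matrix (Fin 4) (Fin 4) F) :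
    X ∈ l4 (F := F) ↔ (∀ a, X (Fin.rev a) a = 0) ∧ (∀ a b, X (Fin.rev b) a = X (Fin.rev a) b) ∧ X 0 0 + X 1 1 = 0 :=
  Iff.rfl

theorem two_eq_zero' [CharP F 2] : (2 : F) = 0 := by
  have := CharP.cast_eq_zero F 2
  exact_mod_cast this

theorem eq_of_add_eq_zero [CharP F 2] {a b : F} (h : a + b = 0) : b = a := by
  have h2 := two_eq_zero' (F := F)
  have : b = a - 2 * a + (a + b) - 0 := by ring
  rw [this, h, h2]
  ring

/-- C4-L4: `l4 = sl_2 ⊗ 1 + 1 ⊗ sl_2` (char 2) -/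
theorem mem_l4_iff [CharP F 2] (X : Matrix (Fin 4) (Fin 4) F) :
    X ∈ l4 (F := F) ↔ ∃ A A' : Matrix (Fin 2) (Fin 2) F, A.trace = 0 ∧ A'.trace = 0 ∧ X = hi4 A + lo4 A' := by
  rw [mem_l4]
  constructor
  · rintro ⟨c1, c2, c3⟩
    have h30 : X 3 0 = 0 := c1 0
    have h21 : X 2 1 = 0 := c1 1
    have h12 : X 1 2 = 0 := c1 2
    have h03 : X 0 3 = 0 := c1 3
    have h11 : X 1 1 = X 0 0 := eq_of_add_eq_zero c3
    have h22 : X 2 2 = X 0 0 := (c2 1 2).symm.trans h11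
    have h33 : X 3 3 = X 0 0 := (c2 0 3).symm
    have h23 : X 2 3 = X 0 1 := (c2 1 3).symm
    have h32 : X 3 2 = X 1 0 := (c2 0 2).symm
    have h13 : X 1 3 = X 0 2 := (c2 2 3).symm
    have h31 : X 3 1 = X 2 0 := (c2 0 1).symm
    refine ⟨!![X 0 0, X 0 2; X 2 0, X 0 0], !![0, X 0 1; X 1 0, 0], ?_, ?_, ?_⟩
    · rw [Matrix.trace_fin_two]
      exact CharTwo.add_self_eq_zero _
    · rw [Matrix.trace_fin_two]
      simp
    · rw [hi4_eq, lo4_eq]
      ext a b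
      fin_cases a <;> fin_cases b <;> simp [h30, h21, h12, h03, h11, h22, h33, h23, h32, h13, h31]
  · rintro ⟨A, A', hA, hA', rfl⟩
    rw [Matrix.trace_fin_two] at hA hA'
    have a11 : A 1 1 = A 0 0 := eq_of_add_eq_zero hA
    have a'11 : A' 1 1 = A' 0 0 := eq_of_add_eq_zero hA'
    rw [hi4_eq, lo4_eq]
    refine ⟨?_, ?_, ?_⟩
    · intro a
      fin_cases a <;> simp [Fin.rev]
    · intro a b
      fin_cases a <;> fin_cases b <;> simp [Fin.rev, a11, a'11] <;> ring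
    · simp only [Matrix.add_apply]
      simp [a'11]
      have := CharTwo.add_self_eq_zero (A 0 0 + A' 0 0)
      linear_combination this

/-! ### C4-GSP -/

theorem J4_mul_apply (X : Matrix (Fin 4) (Fin 4) F) (a b : Fin 4) :
    (J4 * X : Matrix (Fin 4) (Fin 4) F) a b = X (Fin.rev a) b := by
  rw [Matrix.mul_apply, Finset.sum_eq_single (Fin.rev a)]
  · unfold J4
    rw [if_pos rfl, one_mul]
  · intro c _ hc
    unfold J4
    rw [if_neg hc, zero_mul]
  · intro h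
    exact absurd (Finset.mem_univ _) h

theorem J4_mul_J4 : (J4 : Matrix (Fin 4) (Fin 4) F) * J4 = 1 := by
  ext a b
  rw [J4_mul_apply, Matrix.one_apply]
  unfold J4
  rw [Fin.rev_rev]
  by_cases h : a = b
  · rw [if_pos h, if_pos h.symm]
  · rw [if_neg h, if_neg (fun h' => h h'.symm)]

theorem J4_eq : (J4 : Matrix (Fin 4) (Fin 4) F) = !![0, 0, 0, 1; 0, 0, 1, 0; 0, 1, 0, 0; 1, 0, 0, 0] := by
  ext a b
  fin_cases a <;> fin_cases b <;> rfl

/-- C4-GSP: similitudes of `J4` normalise `l4` (char 2). -/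
theorem l4_conj [CharP F 2] (g g' : Matrix (Fin 4) (Fin 4) F) (hgg' : g * g' = 1) (lam : F)
    (hsim : gᵀ * J4 * g = lam • J4 (F := F)) (A : Matrix (Fin 4) (Fin 4) F) (hA : A ∈ l4 (F := F)) :
    g * A * g' ∈ l4 (F := F) := by
  rw [mem_l4] at hA ⊢
  obtain ⟨c1, c2, c3⟩ := hA
  have h2 := two_eq_zero' (F := F)
  have hg'g : g' * g = 1 := mul_eq_one_comm.mp hgg'
  obtain ⟨Z, hZ⟩ : ∃ Z : Matrix (Fin 4) (Fin 4) F, Z = J4 * A := ⟨_, rfl⟩
  have zd : ∀ a, Z a a = 0 := fun a => by rw [hZ, J4_mul_apply]; exact c1 a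
  have zs : ∀ a b, Z b a = Z a b := fun a b => by rw [hZ, J4_mul_apply, J4_mul_apply]; exact c2 a b
  have z3 : Z 3 0 + Z 2 1 = 0 := by rw [hZ, J4_mul_apply, J4_mul_apply]; exact c3
  have e1 : J4 * g = lam • (g'ᵀ * J4) := by
    have e : g'ᵀ * (gᵀ * J4 * g) = g'ᵀ * (lam • J4) := by rw [hsim]
    rw [← Matrix.mul_assoc, ← Matrix.mul_assoc, ← Matrix.transpose_mul, hgg', Matrix.transpose_one,
      Matrix.one_mul, Matrix.mul_smul] at e
    exact e
  obtain ⟨W, hW⟩ : ∃ W : Matrix (Fin 4) (Fin 4) F, W = g'ᵀ * Z * g' := ⟨_, rfl⟩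
  have e2 : J4 * (g * A * g') = lam • W := by
    rw [← Matrix.mul_assoc, ← Matrix.mul_assoc, e1, hW, hZ]
    simp only [Matrix.smul_mul, Matrix.mul_assoc]
  have ent : ∀ a b, (g * A * g') (Fin.rev a) b = lam * W a b := by
    intro a b
    have e := J4_mul_apply (g * A * g') a b
    rw [← e, e2, Matrix.smul_apply, smul_eq_mul]
  have wab : ∀ a b, W a b = ∑ d, ∑ c, g' c a * Z c d * g' d b := by
    intro a b
    rw [hW, Matrix.mul_apply]
    simp only [Matrix.mul_apply, Matrix.transpose_apply, Finset.sum_mul]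
  -- the similitude relation for `g'`
  have e3 : lam • (g' * J4 * g'ᵀ) = J4 := by
    have e : g' * J4 * g'ᵀ * (gᵀ * J4 * g) = 1 := by
      calc g' * J4 * g'ᵀ * (gᵀ * J4 * g) = g' * J4 * (g'ᵀ * gᵀ) * J4 * g := by simp only [Matrix.mul_assoc]
        _ = g' * (J4 * J4) * g := by
            rw [← Matrix.transpose_mul, hgg', Matrix.transpose_one, Matrix.mul_one]
            simp only [Matrix.mul_assoc]
        _ = 1 := by rw [J4_mul_J4, Matrix.mul_one, hg'g]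
    rw [hsim, Matrix.mul_smul] at e
    have e' : (lam • (g' * J4 * g'ᵀ * J4)) * J4 = 1 * J4 := by rw [e]
    rw [Matrix.smul_mul, Matrix.mul_assoc (g' * J4 * g'ᵀ), J4_mul_J4, Matrix.mul_one, Matrix.one_mul] at e'
    exact e'
  have kk : ∀ c d, lam * (g' c 3 * g' d 0 + g' c 2 * g' d 1 + g' c 1 * g' d 2 + g' c 0 * g' d 3) = J4 c d := by
    intro c d
    rw [← e3, Matrix.smul_apply, smul_eq_mul]
    congr 1
    rw [Matrix.mul_apply]
    simp only [Matrix.mul_apply, Matrix.transpose_apply, Fin.sum_univ_four]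
    rw [J4_eq]
    simp
  have j01 : (J4 : Matrix (Fin 4) (Fin 4) F) 0 1 = 0 := rfl
  have j02 : (J4 : Matrix (Fin 4) (Fin 4) F) 0 2 = 0 := rfl
  have j03 : (J4 : Matrix (Fin 4) (Fin 4) F) 0 3 = 1 := rfl
  have j12 : (J4 : Matrix (Fin 4) (Fin 4) F) 1 2 = 1 := rfl
  have j13 : (J4 : Matrix (Fin 4) (Fin 4) F) 1 3 = 0 := rfl
  have j23 : (J4 : Matrix (Fin 4) (Fin 4) F) 2 3 = 0 := rfl
  have zs10 := zs 0 1
  have zs20 := zs 0 2
  have zs30 := zs 0 3
  have zs21 := zs 1 2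
  have zs31 := zs 1 3
  have zs32 := zs 2 3
  refine ⟨?_, ?_, ?_⟩
  · intro a
    rw [ent, wab]
    simp only [Fin.sum_univ_four, zd, zs10, zs20, zs30, zs21, zs31, zs32]
    linear_combination lam * (g' 0 a * g' 1 a * Z 0 1 + g' 0 a * g' 2 a * Z 0 2 + g' 0 a * g' 3 a * Z 0 3
      + g' 1 a * g' 2 a * Z 1 2 + g' 1 a * g' 3 a * Z 1 3 + g' 2 a * g' 3 a * Z 2 3) * h2
  · intro a b
    rw [ent, ent, wab, wab]
    congr 1
    rw [Finset.sum_comm]
    apply Finset.sum_congr rfl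
    intro c _
    apply Finset.sum_congr rfl
    intro d _
    rw [zs d c]
    ring
  · have e0 := ent 3 0
    have e1' := ent 2 1
    have r3 : Fin.rev (3 : Fin 4) = 0 := rfl
    have r2 : Fin.rev (2 : Fin 4) = 1 := rfl
    rw [r3] at e0
    rw [r2] at e1'
    rw [e0, e1', wab, wab]
    simp only [Fin.sum_univ_four, zd, zs10, zs20, zs30, zs21, zs31, zs32]
    have k01 := kk 0 1
    have k02 := kk 0 2
    have k03 := kk 0 3
    have k12 := kk 1 2
    have k13 := kk 1 3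
    have k23 := kk 2 3
    rw [j01] at k01
    rw [j02] at k02
    rw [j03] at k03
    rw [j12] at k12
    rw [j13] at k13
    rw [j23] at k23
    rw [zs30, zs21] at z3
    linear_combination Z 0 1 * k01 + Z 0 2 * k02 + Z 0 3 * k03 + Z 1 2 * k12 + Z 1 3 * k13 + Z 2 3 * k23 + z3

/-! ### C4-SB -/

section sb

open Cfsg.Geo

theorem f_lin_left {κ : Type} [Fintype κ] [DecidableEq κ] {f : (κ → F) → (κ → F) → F} (hb : IsBilinearForm f)
    (x u w v : κ → F) (a b : F) : f (x + a • u + b • w) v = f x v + a * f u v + b * f w v := by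
  rw [hb.add_left, hb.add_left, hb.smul_left, hb.smul_left]

theorem f_lin_right {κ : Type} [Fintype κ] [DecidableEq κ] {f : (κ → F) → (κ → F) → F} (hb : IsBilinearForm f)
    (x u w v : κ → F) (a b : F) : f v (x + a • u + b • w) = f v x + a * f v u + b * f v w := by
  rw [hb.add_right, hb.add_right, hb.smul_right, hb.smul_right]

theorem exists_not_mem_span_pair (v0 v3 : Fin 4 → F) : ∃ x : Fin 4 → F, x ∉ Submodule.span F {v0, v3} := by
  classical
  by_contra hcon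
  push_neg at hcon
  have htop : Submodule.span F ({v0, v3} : Set (Fin 4 → F)) = ⊤ := by
    rw [eq_top_iff]
    intro x _
    exact hcon x
  have h1 : Module.finrank F (Submodule.span F ((({v0, v3} : Finset (Fin 4 → F)) : Set (Fin 4 → F)))) ≤
      ({v0, v3} : Finset (Fin 4 → F)).card := finrank_span_finset_le_card _
  have h2 : ({v0, v3} : Finset (Fin 4 → F)).card ≤ 2 := Finset.card_le_two
  have h3 : ((({v0, v3} : Finset (Fin 4 → F)) : Set (Fin 4 → F))) = {v0, v3} := by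
    simp
  rw [h3, htop, finrank_top, Module.finrank_fin_fun] at h1
  omega

/-- C4-SB: a symplectic basis: the Gram matrix of a symplectic form on `F^4` is congruent to `J4` (char 2) -/
theorem exists_symplectic_basis4 [CharP F 2] (f₁ : (Fin 4 → F) → (Fin 4 → F) → F)
    (hf₁ : Cfsg.Geo.IsSymplecticForm f₁) :
    ∃ b b' : Matrix (Fin 4) (Fin 4) F, b * b' = 1 ∧ b' * b = 1 ∧ bᵀ * Cfsg.Geo.gramMatrix f₁ * b = J4 (F := F) := by
  have hb := hf₁.bilinear
  have hsk : ∀ v w, f₁ v w = f₁ w v := fun v w => by rw [hf₁.skew v w, CharTwo.neg_eq]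
  have halt := hf₁.alternating
  -- the first hyperbolic pair
  have hne0 : (Pi.single 0 1 : Fin 4 → F) ≠ 0 := by
    intro h
    have := congrFun h 0
    simp at this
  obtain ⟨w, hw⟩ := (hf₁.nondegenerate _ hne0).2
  obtain ⟨v0, hv0⟩ : ∃ v0 : Fin 4 → F, v0 = Pi.single 0 1 := ⟨_, rfl⟩
  rw [← hv0] at hw
  obtain ⟨v3, hv3⟩ : ∃ v3 : Fin 4 → F, v3 = (f₁ v0 w)⁻¹ • w := ⟨_, rfl⟩
  have h03 : f₁ v0 v3 = 1 := by rw [hv3, hb.smul_right, inv_mul_cancel₀ hw]
  have h30 : f₁ v3 v0 = 1 := by rw [hsk, h03]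
  -- the projection to the orthogonal complement
  have hpi0 : ∀ x, f₁ (x + f₁ x v3 • v0 + f₁ x v0 • v3) v0 = 0 := by
    intro x
    rw [f_lin_left hb, halt, h30, mul_zero, add_zero, mul_one]
    exact CharTwo.add_self_eq_zero _
  have hpi3 : ∀ x, f₁ (x + f₁ x v3 • v0 + f₁ x v0 • v3) v3 = 0 := by
    intro x
    rw [f_lin_left hb, halt, h03, mul_zero, add_zero, mul_one]
    exact CharTwo.add_self_eq_zero _
  obtain ⟨x, hx⟩ := exists_not_mem_span_pair v0 v3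
  obtain ⟨v1, hv1⟩ : ∃ v1 : Fin 4 → F, v1 = x + f₁ x v3 • v0 + f₁ x v0 • v3 := ⟨_, rfl⟩
  have h10 : f₁ v1 v0 = 0 := by rw [hv1]; exact hpi0 x
  have h13 : f₁ v1 v3 = 0 := by rw [hv1]; exact hpi3 x
  have hv1ne : v1 ≠ 0 := by
    intro h0
    apply hx
    obtain ⟨a, ha⟩ : ∃ a : F, a = f₁ x v3 := ⟨_, rfl⟩
    obtain ⟨c, hc⟩ : ∃ c : F, c = f₁ x v0 := ⟨_, rfl⟩
    rw [← ha, ← hc] at hv1
    have e : x = a • v0 + c • v3 := by
      have e1 : x + (a • v0 + c • v3) = 0 := by rw [← add_assoc, ← hv1, h0]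
      have e2 : x = -(a • v0 + c • v3) := eq_neg_of_add_eq_zero_left e1
      rw [e2]
      funext i
      simp only [Pi.neg_apply]
      exact CharTwo.neg_eq _
    rw [e]
    exact Submodule.add_mem _ (Submodule.smul_mem _ _ (Submodule.subset_span (by simp)))
      (Submodule.smul_mem _ _ (Submodule.subset_span (by simp)))
  obtain ⟨y, hy⟩ := (hf₁.nondegenerate _ hv1ne).2
  have hy' : f₁ v1 (y + f₁ y v3 • v0 + f₁ y v0 • v3) = f₁ v1 y := by
    rw [f_lin_right hb, h10, h13, mul_zero, mul_zero, add_zero, add_zero]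
  obtain ⟨v2, hv2⟩ : ∃ v2 : Fin 4 → F, v2 = (f₁ v1 y)⁻¹ • (y + f₁ y v3 • v0 + f₁ y v0 • v3) := ⟨_, rfl⟩
  have h12 : f₁ v1 v2 = 1 := by rw [hv2, hb.smul_right, hy', inv_mul_cancel₀ hy]
  have h20 : f₁ v2 v0 = 0 := by rw [hv2, hb.smul_left, hpi0, mul_zero]
  have h23 : f₁ v2 v3 = 0 := by rw [hv2, hb.smul_left, hpi3, mul_zero]
  have h21 : f₁ v2 v1 = 1 := by rw [hsk, h12]
  have h01 : f₁ v0 v1 = 0 := by rw [hsk, h10]
  have h02 : f₁ v0 v2 = 0 := by rw [hsk, h20]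
  have h31 : f₁ v3 v1 = 0 := by rw [hsk, h13]
  have h32 : f₁ v3 v2 = 0 := by rw [hsk, h23]
  -- the matrix
  obtain ⟨b, hbdef⟩ : ∃ b : Matrix (Fin 4) (Fin 4) F, b = Matrix.of (fun i a => (![v0, v1, v2, v3] a) i) :=
    ⟨_, rfl⟩
  have hgram : bᵀ * Cfsg.Geo.gramMatrix f₁ * b = J4 (F := F) := by
    have hent : ∀ a c, (bᵀ * Cfsg.Geo.gramMatrix f₁ * b) a c = f₁ (![v0, v1, v2, v3] a) (![v0, v1, v2, v3] c) := by
      intro a c
      rw [Cfsg.Agent.Lib.Helper10.S5707L4a.bilin_expand f₁ hb, Matrix.mul_apply, Finset.sum_comm]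
      apply Finset.sum_congr rfl
      intro j _
      rw [Matrix.mul_apply, Finset.sum_mul]
      apply Finset.sum_congr rfl
      intro i _
      rw [Matrix.transpose_apply, hbdef]
      rfl
    ext a c
    rw [hent, J4_eq]
    fin_cases a <;> fin_cases c <;>
      simp [halt, h03, h30, h10, h13, h12, h20, h23, h21, h01, h02, h31, h32]
  have hb'b : J4 * bᵀ * Cfsg.Geo.gramMatrix f₁ * b = 1 := by
    rw [Matrix.mul_assoc J4, Matrix.mul_assoc J4, hgram, J4_mul_J4]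
  exact ⟨b, J4 * bᵀ * Cfsg.Geo.gramMatrix f₁, mul_eq_one_comm.mp hb'b, hb'b, hgram⟩

end sb

end Cfsg.Agent.Lib.Helper10.S5707L4a3
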