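import Mathlib
import Cfsg.Prelude.Def_GeometricClasses
import Cfsg.Agent.Lib.Helper25.SpinDefs
import Cfsg.Agent.Lib.Helper10.S5707L1a
import Cfsg.Agent.Lib.Helper10.S5707L1b
import Cfsg.Agent.Lib.Helper10.S5707L1c
import Cfsg.Agent.Lib.Helper10.S5707L4a

/-!
# S5707 layer L4b, the WR + C2 pieces (helper10, for helper25)

Exact statements of the stubs `wreath_mulVec_pure`, `wreath2_le_Norm` of `Cfsg/Agent/Lib/Helper25/SpinL4b.lean`.
-/

set_option autoImplicit false

namespace Cfsg.Agent.Lib.Helper10.S5707L4b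

open Matrix Cfsg.Agent.Lib.Helper25.Spin Cfsg.Agent.Lib.Helper10.S5707L1a Cfsg.Agent.Lib.Helper10.S5707L1b
  Cfsg.Agent.Lib.Helper10.S5707L1c Cfsg.Agent.Lib.Helper10.S5707L4a

variable {F : Type*} [Field F]

/-- WR-PURE: the tensor-wreath subgroup maps pure tensors to pure tensors -/
theorem wreath_mulVec_pure (m t : ℕ) (n : GL (Fin t → Fin m) F)
    (hn : n ∈ Cfsg.Geo.tensorWreathStandard m t F) (vs : Fin t → Fin m → F) :
    ∃ vs' : Fin t → Fin m → F,
      (n : Matrix (Fin t → Fin m) (Fin t → Fin m) F) *ᵥ pureVec vs = pureVec vs' := by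
  obtain ⟨gs, gs', σ, _, e⟩ := exists_nf n hn
  refine ⟨fun s => gs s *ᵥ vs (σ⁻¹ s), ?_⟩
  rw [e, ← Matrix.mulVec_mulVec, permMat_mulVec, pureMat_mulVec]

theorem trace_conj {g g' A : Matrix (Fin 2) (Fin 2) F} (h : g * g' = 1) (hA : A.trace = 0) :
    (g * A * g').trace = 0 := by
  rw [Matrix.trace_mul_cycle, mul_eq_one_comm.mp h, one_mul, hA]

theorem op_conj_mem {S : Type} [Fintype S] [DecidableEq S] (s : S) {g g' A : Matrix (Fin 2) (Fin 2) F}
    (h : g * g' = 1) (hA : A.trace = 0) : op s (g * A * g') ∈ LL (F := F) (S := S) := by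
  apply Submodule.subset_span
  exact ⟨s, _, trace_conj h hA, rfl⟩

/-- C2-NORM: the tensor-wreath subgroup for `m = 2` normalises the Clifford space -/
theorem wreath2_le_Norm [CharP F 2] (t : ℕ) :
    Cfsg.Geo.tensorWreathStandard 2 t F ≤ NormLL (F := F) (S := Fin t) := by
  unfold Cfsg.Geo.tensorWreathStandard
  rw [Subgroup.closure_le]
  rintro g (⟨gs, hgs⟩ | ⟨σ, hσ⟩)
  · have h1 : ∀ i, (gs i : Matrix (Fin 2) (Fin 2) F) * ((gs i)⁻¹ : GL (Fin 2) F) = 1 := by
      intro i
      rw [← Units.val_mul, mul_inv_cancel]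
      rfl
    have h2 : ∀ i, (((gs i)⁻¹ : GL (Fin 2) F) : Matrix (Fin 2) (Fin 2) F) * (gs i : Matrix (Fin 2) (Fin 2) F) = 1 :=
      fun i => mul_eq_one_comm.mp (h1 i)
    have e : (g : Matrix (Fin t → Fin 2) (Fin t → Fin 2) F) =
        pureMat (fun i => (gs i : Matrix (Fin 2) (Fin 2) F)) := by
      ext x y
      rw [hgs x y]
      rfl
    have e' : ((g⁻¹ : GL (Fin t → Fin 2) F) : Matrix (Fin t → Fin 2) (Fin t → Fin 2) F) =
        pureMat (fun i => (((gs i)⁻¹ : GL (Fin 2) F) : Matrix (Fin 2) (Fin 2) F)) := by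
      apply Units.inv_eq_of_mul_eq_one_right
      rw [e]
      exact pureMat_mul_eq_one _ _ h1
    rw [SetLike.mem_coe, mem_NormLL_iff, e, e']
    constructor
    · apply conj_mem_LL_of _ _ (pureMat_mul_eq_one _ _ h1)
      · intro s
        unfold Xop
        rw [pureMat_conj_op _ _ h1 s]
        exact op_conj_mem s (h1 s) trace_E01
      · intro s
        unfold Yop
        rw [pureMat_conj_op _ _ h1 s]
        exact op_conj_mem s (h1 s) trace_E10
    · apply conj_mem_LL_of _ _ (pureMat_mul_eq_one _ _ h2)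
      · intro s
        unfold Xop
        rw [pureMat_conj_op _ _ h2 s]
        exact op_conj_mem s (h2 s) trace_E01
      · intro s
        unfold Yop
        rw [pureMat_conj_op _ _ h2 s]
        exact op_conj_mem s (h2 s) trace_E10
  · have e : (g : Matrix (Fin t → Fin 2) (Fin t → Fin 2) F) = permMat σ := by
      ext x y
      rw [hσ x y]
      rfl
    have e' : ((g⁻¹ : GL (Fin t → Fin 2) F) : Matrix (Fin t → Fin 2) (Fin t → Fin 2) F) = permMat σ⁻¹ := by
      apply Units.inv_eq_of_mul_eq_one_right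
      rw [e]
      exact permMat_mul_inv σ
    rw [SetLike.mem_coe, mem_NormLL_iff, e, e']
    constructor
    · apply conj_mem_LL_of _ _ (permMat_mul_inv σ)
      · intro s
        unfold Xop
        rw [permMat_conj_op]
        exact Xop_mem_LL (σ s)
      · intro s
        unfold Yop
        rw [permMat_conj_op]
        exact Yop_mem_LL (σ s)
    · have hc : ∀ (s : Fin t) (A : Matrix (Fin 2) (Fin 2) F),
          (permMat σ⁻¹ : Matrix (Fin t → Fin 2) (Fin t → Fin 2) F) * op s A * permMat σ = op (σ⁻¹ s) A := by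
        intro s A
        have := permMat_conj_op (F := F) (m := 2) σ⁻¹ s A
        rwa [inv_inv] at this
      apply conj_mem_LL_of _ _ (permMat_inv_mul σ)
      · intro s
        unfold Xop
        rw [hc]
        exact Xop_mem_LL (σ⁻¹ s)
      · intro s
        unfold Yop
        rw [hc]
        exact Yop_mem_LL (σ⁻¹ s)

end Cfsg.Agent.Lib.Helper10.S5707L4b
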