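import Mathlib
import Cfsg.Prelude.Def_GeometricClasses
import Cfsg.Agent.Lib.Helper25.SpinDefs
import Cfsg.Agent.Lib.Helper25.SpinL1a
import Cfsg.Agent.Lib.Helper25.SpinL1b
import Cfsg.Agent.Lib.Helper25.SpinL1c
import Cfsg.Agent.Lib.Helper25.SpinL2a
import Cfsg.Agent.Lib.Helper25.SpinL2b
import Cfsg.Agent.Lib.Helper10.S5707L4a
import Cfsg.Agent.Lib.Helper10.S5707L4a2
import Cfsg.Agent.Lib.Helper10.S5707L4a3

/-!
# S5707 layer L4b, the C4 pieces (helper10, for helper25)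

Exact statements of the stubs `wreath4_conj_LL4`, `reindex_mem_LL_iff` of `Cfsg/Agent/Lib/Helper25/SpinL4b.lean`.
-/

set_option autoImplicit false

namespace Cfsg.Agent.Lib.Helper10.S5707L4b2

open Matrix Cfsg.Agent.Lib.Helper25.Spin

variable {F : Type*} [Field F]

theorem J4_ne_zero : (J4 : Matrix (Fin 4) (Fin 4) F) ≠ 0 := by
  intro h
  have e := congrFun (congrFun h 0) 3
  have e1 : (J4 : Matrix (Fin 4) (Fin 4) F) 0 3 = 1 := rfl
  rw [e1] at e
  exact one_ne_zero e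

theorem conj_mem_LL4_of (t : ℕ) (g g' : Matrix (Fin t → Fin 4) (Fin t → Fin 4) F)
    (h : ∀ (i : Fin t) (A : Matrix (Fin 4) (Fin 4) F), A ∈ l4 (F := F) → g * op i A * g' ∈ LL4 (F := F) t) :
    ∀ M ∈ LL4 (F := F) t, g * M * g' ∈ LL4 (F := F) t := by
  intro M hM
  unfold LL4 at hM
  induction hM using Submodule.span_induction with
  | mem M hM =>
    obtain ⟨i, A, hA, rfl⟩ := hM
    exact h i A hA
  | zero =>
    rw [mul_zero, zero_mul]
    exact Submodule.zero_mem _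
  | add M N _ _ h1 h2 =>
    rw [mul_add, add_mul]
    exact Submodule.add_mem _ h1 h2
  | smul c M _ h1 =>
    rw [Matrix.mul_smul, Matrix.smul_mul]
    exact Submodule.smul_mem _ _ h1

/-- the inverse of a similitude is a similitude -/
theorem simil_inv {g g' : Matrix (Fin 4) (Fin 4) F} (h : g * g' = 1) {lam : F}
    (hl : gᵀ * J4 * g = lam • J4 (F := F)) : ∃ lam' : F, g'ᵀ * J4 * g' = lam' • J4 (F := F) := by
  have e : g'ᵀ * (gᵀ * J4 * g) * g' = g'ᵀ * (lam • J4) * g' := by rw [hl]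
  have e1 : g'ᵀ * (gᵀ * J4 * g) * g' = J4 := by
    calc g'ᵀ * (gᵀ * J4 * g) * g' = (g'ᵀ * gᵀ) * J4 * (g * g') := by simp only [Matrix.mul_assoc]
      _ = J4 := by rw [← Matrix.transpose_mul, h, Matrix.transpose_one, Matrix.one_mul, Matrix.mul_one]
  rw [e1, Matrix.mul_smul, Matrix.smul_mul] at e
  have hlam : lam ≠ 0 := by
    intro h0
    rw [h0, zero_smul] at e
    exact J4_ne_zero e
  refine ⟨lam⁻¹, ?_⟩
  calc g'ᵀ * J4 * g' = lam⁻¹ • (lam • (g'ᵀ * J4 * g')) := by rw [smul_smul, inv_mul_cancel₀ hlam, one_smul]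
    _ = lam⁻¹ • J4 := by rw [← e]

/-- C4-NORM: an element of the tensor-wreath subgroup (`m = 4`) preserving `formG J4` normalises `LL4`. -/
theorem wreath4_conj_LL4 [CharP F 2] (t : ℕ) (n : GL (Fin t → Fin 4) F)
    (hn : n ∈ Cfsg.Geo.tensorWreathStandard 4 t F)
    (hpres : ∀ x y : (Fin t → Fin 4) → F,
      formG (J4 (F := F)) ((n : Matrix (Fin t → Fin 4) (Fin t → Fin 4) F) *ᵥ x)
        ((n : Matrix (Fin t → Fin 4) (Fin t → Fin 4) F) *ᵥ y) = formG J4 x y) :
    (∀ M ∈ LL4 (F := F) t, (n : Matrix (Fin t → Fin 4) (Fin t → Fin 4) F) * M *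
        ((n⁻¹ : GL (Fin t → Fin 4) F) : Matrix (Fin t → Fin 4) (Fin t → Fin 4) F) ∈ LL4 (F := F) t) ∧
    (∀ M ∈ LL4 (F := F) t, ((n⁻¹ : GL (Fin t → Fin 4) F) : Matrix (Fin t → Fin 4) (Fin t → Fin 4) F) * M *
        (n : Matrix (Fin t → Fin 4) (Fin t → Fin 4) F) ∈ LL4 (F := F) t) := by
  obtain ⟨gs, gs', σ, h1, e, e'⟩ := Cfsg.Agent.Lib.Helper10.S5707L4a.exists_normal_form 4 t n hn
  have hrig := Cfsg.Agent.Lib.Helper10.S5707L4a2.rigidity 4 t J4 J4_ne_zero gs σ (by rw [← e]; exact hpres)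
  have h1' : ∀ i, gs' i * gs i = 1 := fun i => mul_eq_one_comm.mp (h1 i)
  rw [e, e']
  constructor
  · apply conj_mem_LL4_of
    intro i A hA
    have e2 : pureMat gs * permMat σ * op i A * (permMat σ⁻¹ * pureMat gs') =
        pureMat gs * (permMat σ * op i A * permMat σ⁻¹) * pureMat gs' := by simp only [Matrix.mul_assoc]
    rw [e2, permMat_conj_op, pureMat_conj_op gs gs' h1]
    obtain ⟨lam, hl⟩ := hrig (σ i)
    apply Submodule.subset_span
    exact ⟨σ i, _, Cfsg.Agent.Lib.Helper10.S5707L4a3.l4_conj _ _ (h1 (σ i)) lam hl A hA, rfl⟩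
  · apply conj_mem_LL4_of
    intro i A hA
    have e2 : permMat σ⁻¹ * pureMat gs' * op i A * (pureMat gs * permMat σ) =
        permMat σ⁻¹ * (pureMat gs' * op i A * pureMat gs) * permMat σ := by simp only [Matrix.mul_assoc]
    rw [e2, pureMat_conj_op gs' gs h1']
    have e3 := permMat_conj_op (F := F) σ⁻¹ i (gs' i * A * gs i)
    rw [inv_inv] at e3
    rw [e3]
    obtain ⟨lam, hl⟩ := hrig i
    obtain ⟨lam', hl'⟩ := simil_inv (h1 i) hl
    apply Submodule.subset_span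
    exact ⟨σ⁻¹ i, _, Cfsg.Agent.Lib.Helper10.S5707L4a3.l4_conj _ _ (h1' i) lam' hl' A hA, rfl⟩

theorem hi4_zero : hi4 (0 : Matrix (Fin 2) (Fin 2) F) = 0 := by
  rw [Cfsg.Agent.Lib.Helper10.S5707L4a3.hi4_eq]
  ext a b
  fin_cases a <;> fin_cases b <;> simp

theorem lo4_zero : lo4 (0 : Matrix (Fin 2) (Fin 2) F) = 0 := by
  rw [Cfsg.Agent.Lib.Helper10.S5707L4a3.lo4_eq]
  ext a b
  fin_cases a <;> fin_cases b <;> simp

/-- C4-BETA: the Clifford spaces correspond -/
theorem reindex_mem_LL_iff [CharP F 2] (t : ℕ) (M : Matrix (Fin t → Fin 4) (Fin t → Fin 4) F) :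
    Matrix.reindex (beta t) (beta t) M ∈ LL (F := F) (S := Fin t × Fin 2) ↔ M ∈ LL4 (F := F) t := by
  constructor
  · intro h
    have key : ∀ N ∈ LL (F := F) (S := Fin t × Fin 2), (Matrix.reindex (beta t) (beta t)).symm N ∈ LL4 (F := F) t := by
      intro N hN
      unfold LL at hN
      induction hN using Submodule.span_induction with
      | mem N hN =>
        obtain ⟨⟨i, j⟩, A, hA, rfl⟩ := hN
        rcases Cfsg.Agent.Lib.Helper10.S5707L4a2.fin2_zero_or_one j with rfl | rfl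
        · rw [← Cfsg.Agent.Lib.Helper10.S5707L4a2.reindex_op_hi, Equiv.symm_apply_apply]
          apply Submodule.subset_span
          refine ⟨i, _, ?_, rfl⟩
          rw [Cfsg.Agent.Lib.Helper10.S5707L4a3.mem_l4_iff]
          exact ⟨A, 0, hA, Matrix.trace_zero _ _, by rw [lo4_zero, add_zero]⟩
        · rw [← Cfsg.Agent.Lib.Helper10.S5707L4a2.reindex_op_lo, Equiv.symm_apply_apply]
          apply Submodule.subset_span
          refine ⟨i, _, ?_, rfl⟩
          rw [Cfsg.Agent.Lib.Helper10.S5707L4a3.mem_l4_iff]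
          exact ⟨0, A, Matrix.trace_zero _ _, hA, by rw [hi4_zero, zero_add]⟩
      | zero => exact Submodule.zero_mem _
      | add N N' _ _ h1 h2 => exact Submodule.add_mem _ h1 h2
      | smul c N _ h1 => exact Submodule.smul_mem _ _ h1
    have := key _ h
    rwa [Equiv.symm_apply_apply] at this
  · intro hM
    unfold LL4 at hM
    induction hM using Submodule.span_induction with
    | mem M hM =>
      obtain ⟨i, A, hA, rfl⟩ := hM
      rw [Cfsg.Agent.Lib.Helper10.S5707L4a3.mem_l4_iff] at hA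
      obtain ⟨A1, A2, h1, h2, rfl⟩ := hA
      rw [op_add]
      have e : Matrix.reindex (beta t) (beta t) (op i (hi4 A1) + op i (lo4 A2)) =
          Matrix.reindex (beta t) (beta t) (op i (hi4 A1)) + Matrix.reindex (beta t) (beta t) (op i (lo4 A2)) := rfl
      rw [e, Cfsg.Agent.Lib.Helper10.S5707L4a2.reindex_op_hi, Cfsg.Agent.Lib.Helper10.S5707L4a2.reindex_op_lo]
      exact Submodule.add_mem _ (Submodule.subset_span ⟨(i, 0), A1, h1, rfl⟩)
        (Submodule.subset_span ⟨(i, 1), A2, h2, rfl⟩)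
    | zero => exact Submodule.zero_mem _
    | add N N' _ _ h1 h2 => exact Submodule.add_mem _ h1 h2
    | smul c N _ h1 => exact Submodule.smul_mem _ _ h1

end Cfsg.Agent.Lib.Helper10.S5707L4b2
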