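import Mathlib
import Cfsg.Prelude.Def_GeometricClasses
import Cfsg.Agent.Lib.Helper25.SpinDefs
import Cfsg.Agent.Lib.Helper10.S5707L1a
import Cfsg.Agent.Lib.Helper10.S5707L3b
import Cfsg.Agent.Lib.Helper10.S5707L4a
import Cfsg.Agent.Lib.Helper10.S5707L4b

/-!
# S5707 layer L4c (helper10, for helper25): gElt is not in the wreath subgroup (k = 2)

Exact statement of the stub of `Cfsg/Agent/Lib/Helper25/SpinL4c.lean`.
-/

set_option autoImplicit false

namespace Cfsg.Agent.Lib.Helper10.S5707L4c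

open Matrix Cfsg.Agent.Lib.Helper25.Spin

variable {F : Type*} [Field F]

/-- C2-G: `gElt ∉` wreath -/
theorem gElt_not_mem_wreath2 [CharP F 2] (t : ℕ) {s1 s2 : Fin t} (h : s1 ≠ s2) :
    gElt (F := F) s1 s2 ∉ Cfsg.Geo.tensorWreathStandard 2 t F := by
  intro hmem
  let x : Fin t → Fin 2 := fun _ => 0
  obtain ⟨vs', hvs'⟩ := Cfsg.Agent.Lib.Helper10.S5707L4b.wreath_mulVec_pure 2 t _ hmem
    (fun s => (Pi.single (x s) (1 : F) : Fin 2 → F))
  rw [Cfsg.Agent.Lib.Helper10.S5707L1a.pureVec_single,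
    Cfsg.Agent.Lib.Helper10.S5707L3b.gElt_mulVec_single h x rfl rfl] at hvs'
  refine Cfsg.Agent.Lib.Helper10.S5707L4a.pureVec_ne_single_add_single x (flp s1 (flp s2 x)) h ?_ ?_ vs'
    hvs'.symm
  · rw [Cfsg.Agent.Lib.Helper10.S5707L3b.flp_self, Cfsg.Agent.Lib.Helper10.S5707L3b.flp_ne h]
    decide
  · rw [Cfsg.Agent.Lib.Helper10.S5707L3b.flp_ne h.symm, Cfsg.Agent.Lib.Helper10.S5707L3b.flp_self]
    decide

end Cfsg.Agent.Lib.Helper10.S5707L4c
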