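import Mathlib
import Cfsg.Prelude.Def_GeometricClasses
import Cfsg.Prelude.Def_LieClassical
import Cfsg.Agent.Lib.Helper13.SUMax
import Cfsg.Agent.Lib.Helper13.SUTsPair
import Cfsg.Agent.Lib.Helper13.SubfField
import Cfsg.Agent.Lib.Helper14.OEPlusS433
import Cfsg.Agent.Lib.Helper6.Unitary2
import Cfsg.Agent.Lib.Helper15.S5778Final

/-!
# S5778, piece E2 (helper10): in `GU_3(3)` a subfield group of index two lies in a frame stabiliser

The rational structure `V₀ = P (F₀³)` (`F₀` the field with three elements) carries the symmetric non-degenerate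
`F₀`-valued form `h`; over the field with three elements such a form has an orthogonal frame `w_k` with constant value
`a`, and the vectors of value `a` are exactly the six vectors `± w_k` (helper14).  An element `g = P (l • B) P⁻¹` of the
subfield group which is unitary has `(det g)⁴ = 1`, `det g = l³ det B`, `det B = ± 1`, `l⁸ = 1`, hence `l⁴ = 1`, so `B` is an
isometry of `V₀` and permutes the lines `⟨w_k⟩`.
-/

set_option autoImplicit false

namespace Cfsg.Agent.Lib.Helper10.S5778E2

open Matrix Module QuadraticMap Cfsg Cfsg.Geo Cfsg.Agent.S0779 Cfsg.Agent.S0781 Cfsg.Agent.Lib.Helper6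
  Cfsg.Agent.Lib.Helper13 Cfsg.Agent.Lib.Helper13.UTP Cfsg.Agent.Lib.Helper14.OEPlusS433 Cfsg.Agent.Lib.Helper26.OETypeTC9

variable {F : Type*} [Field F] [Fintype F]

local notation "hh" => Cfsg.hermForm 3 F 3

theorem subfield_le_frame_gu (hF : Fintype.card F = 3 ^ 2) (F₀ : Subfield F) (P : GL (Fin 3) F)
    (hc : Fintype.card F = Nat.card F₀ ^ 2) (hP : IsFormRationalStructure (hermForm 3 F 3) F₀ 1 P) :
    ∃ D : Fin 3 → Submodule F (Fin 3 → F), IsNondegenerateMDecomposition (hermForm 3 F 3) 1 D ∧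
      subfieldSubgroup F₀ P ⊓ GU 3 F 3 ≤ decompositionStabilizer D := by
  classical
  letI : Fintype ↥F₀ := Fintype.ofFinite _
  -- the subfield has three elements
  have hcard0 : Fintype.card ↥F₀ = 3 := by
    rw [← Nat.card_eq_fintype_card]
    rw [hF] at hc
    have h1 : Nat.card ↥F₀ ^ 2 = 3 ^ 2 := hc.symm
    exact Nat.pow_left_injective (by norm_num : 2 ≠ 0) h1
  have h3 : (3 : F) = 0 := by
    have h := Nat.cast_card_eq_zero F
    rw [hF] at h
    have h9 : (3 : F) * 3 = 0 := by
      have : ((3 ^ 2 : ℕ) : F) = 3 * 3 := by norm_num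
      rw [← this]
      exact h
    rcases mul_eq_zero.mp h9 with h | h <;> exact h
  have h2 : (2 : F) ≠ 0 := by
    intro h
    have : (1 : F) = 0 := by linear_combination h3 - h
    exact one_ne_zero this
  have h2K : (2 : ↥F₀) ≠ 0 := two_ne_zero_of_card_three hcard0
  have hcube : ∀ x : ↥F₀, (x : F) ^ 3 = x := by
    intro x
    have h := FiniteField.pow_card x
    rw [hcard0] at h
    have := congrArg (Subtype.val) h
    simpa using this
  have hcube' : ∀ x : F, x ∈ F₀ → x ^ 3 = x := fun x hx => hcube ⟨x, hx⟩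
  -- the rational vectors
  obtain ⟨X, hX⟩ : ∃ X : (Fin 3 → ↥F₀) → (Fin 3 → F),
      ∀ u, X u = (P : Matrix (Fin 3) (Fin 3) F) *ᵥ rvec F₀ u := ⟨_, fun _ => rfl⟩
  have hXadd : ∀ u v, X (u + v) = X u + X v := by
    intro u v
    rw [hX, hX, hX, rvec_add, Matrix.mulVec_add]
  have hXsmul : ∀ (c : ↥F₀) u, X (c • u) = (c : F) • X u := by
    intro c u
    rw [hX, hX, rvec_smul, Matrix.mulVec_smul]
  have hXinj : ∀ u, X u = 0 → u = 0 := by
    intro u hu
    rw [hX] at hu
    have h1 := congrArg (fun z => ((P⁻¹ : GL (Fin 3) F) : Matrix (Fin 3) (Fin 3) F) *ᵥ z) hu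
    simp only [Matrix.mulVec_mulVec, Matrix.mulVec_zero] at h1
    rw [← Units.val_mul, inv_mul_cancel, Units.val_one, Matrix.one_mulVec] at h1
    apply rvec_inj F₀
    rw [h1, rvec_zero]
  have hrat : ∀ u v, hh (X u) (X v) ∈ F₀ := by
    intro u v
    have := hP (rvec F₀ u) (rvec F₀ v) (fun i => (u i).2) (fun i => (v i).2)
    rw [one_mul] at this
    rw [hX, hX]
    exact this
  have hsymm : ∀ u v, hh (X v) (X u) = hh (X u) (X v) := by
    intro u v
    rw [← herm_conj hF (X u) (X v)]
    exact hcube' _ (hrat u v)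
  -- the quadratic form on the rational structure
  obtain ⟨Q₀, hQ₀def⟩ : ∃ Q₀ : (Fin 3 → ↥F₀) → ↥F₀, ∀ u, (Q₀ u : F) = hh (X u) (X u) :=
    ⟨fun u => ⟨hh (X u) (X u), hrat u u⟩, fun _ => rfl⟩
  have hpolar : ∀ u v, ((polar Q₀ u v : ↥F₀) : F) = 2 * hh (X u) (X v) := by
    intro u v
    unfold QuadraticMap.polar
    rw [Subfield.coe_sub, Subfield.coe_sub, hQ₀def, hQ₀def, hQ₀def, hXadd, herm_add_left,
      herm_add_right hF, herm_add_right hF, hsymm u v]
    ring
  have hQ₀ : IsNondegenerateQuadraticForm Q₀ := by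
    refine ⟨?_, ⟨?_, ?_, ?_, ?_⟩, ?_⟩
    · intro c v
      apply Subtype.ext
      rw [Subfield.coe_mul, SubmonoidClass.coe_pow, hQ₀def, hQ₀def, hXsmul, herm_smul_left,
        herm_smul_right, hcube]
      ring
    · intro x y v
      apply Subtype.ext
      rw [Subfield.coe_add, hpolar, hpolar, hpolar, hXadd, herm_add_left]
      ring
    · intro c x v
      apply Subtype.ext
      rw [Subfield.coe_mul, hpolar, hpolar, hXsmul, herm_smul_left]
      ring
    · intro v x y
      apply Subtype.ext
      rw [Subfield.coe_add, hpolar, hpolar, hpolar, hXadd, herm_add_right hF]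
      ring
    · intro c v x
      apply Subtype.ext
      rw [Subfield.coe_mul, hpolar, hpolar, hXsmul, herm_smul_right, hcube]
      ring
    · -- non-degeneracy
      have key : ∀ v : Fin 3 → ↥F₀, v ≠ 0 → ∃ x, polar Q₀ v x ≠ 0 := by
        intro v hv
        by_contra hcon
        push Not at hcon
        have hXv : X v ≠ 0 := fun h => hv (hXinj v h)
        have h1 : ∀ i : Fin 3, hh (X (Pi.single i 1)) (X v) = 0 := by
          intro i
          have h := hcon (Pi.single i 1)
          have h' := congrArg (Subtype.val) h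
          rw [hpolar, Subfield.coe_zero] at h'
          rcases mul_eq_zero.mp h' with h'' | h''
          · exact absurd h'' h2
          · rw [hsymm]
            exact h''
        have h4 : (hermL 3 (X v)).comp (Matrix.toLin' (P : Matrix (Fin 3) (Fin 3) F)) = 0 := by
          apply LinearMap.pi_ext
          intro i c
          rw [LinearMap.comp_apply, Matrix.toLin'_apply, LinearMap.zero_apply, hermL_apply]
          have e1 : (Pi.single i c : Fin 3 → F) = c • Pi.single i 1 := by
            rw [← Pi.single_smul, smul_eq_mul, mul_one]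
          rw [e1, Matrix.mulVec_smul, herm_smul_left]
          have e2 : (P : Matrix (Fin 3) (Fin 3) F) *ᵥ (Pi.single i (1 : F)) = X (Pi.single i 1) := by
            rw [hX, rvec_single]
          rw [e2, h1 i, mul_zero]
        apply hXv
        apply herm_nondeg hF
        intro y
        apply herm_swap_zero hF
        have h5 := LinearMap.congr_fun h4 (((P⁻¹ : GL (Fin 3) F) : Matrix (Fin 3) (Fin 3) F) *ᵥ y)
        rw [LinearMap.comp_apply, Matrix.toLin'_apply, LinearMap.zero_apply, hermL_apply,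
          Matrix.mulVec_mulVec, ← Units.val_mul, mul_inv_cancel, Units.val_one, Matrix.one_mulVec] at h5
        exact h5
      intro v hv
      obtain ⟨x, hx⟩ := key v hv
      refine ⟨⟨x, ?_⟩, ⟨x, hx⟩⟩
      rw [polar_comm]
      exact hx
  -- the frame with constant value
  have hWnd : IsNondegenerateOn (polar Q₀) (⊤ : Submodule ↥F₀ (Fin 3 → ↥F₀)) := by
    intro w _ hw
    obtain ⟨⟨x, hx⟩, ⟨y, hy⟩⟩ := hQ₀.nondegenerate w hw
    exact ⟨⟨x, Submodule.mem_top, hx⟩, ⟨y, Submodule.mem_top, hy⟩⟩
  have hdtop : finrank ↥F₀ (⊤ : Submodule ↥F₀ (Fin 3 → ↥F₀)) = 3 := by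
    rw [finrank_top, Module.finrank_fin_fun]
  obtain ⟨a, u, ha, hu, hua⟩ := exists_const_frame hQ₀ hcard0 ⊤ hWnd hdtop
  obtain ⟨α, hα⟩ : ∃ α : F, α = (a : F) := ⟨_, rfl⟩
  have hα0 : α ≠ 0 := by
    rw [hα]
    intro h
    exact ha (Subtype.ext h)
  obtain ⟨x, hx⟩ : ∃ x : Fin 3 → (Fin 3 → F), ∀ k, x k = X (u k) := ⟨_, fun _ => rfl⟩
  have hxx : ∀ k, hh (x k) (x k) = α := by
    intro k
    rw [hx, ← hQ₀def, hua, hα]
  have hxy : ∀ i j, i ≠ j → hh (x i) (x j) = 0 := by
    intro i j hij
    have h := congrArg (Subtype.val) (hu.orth i j hij)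
    rw [hpolar, Subfield.coe_zero] at h
    rcases mul_eq_zero.mp h with h' | h'
    · exact absurd h' h2
    · rw [hx, hx]
      exact h'
  have hxne : ∀ k, x k ≠ 0 := by
    intro k h0
    have := hxx k
    rw [h0, herm_zero_left] at this
    exact hα0 this.symm
  -- vectors of value `a`
  have hchar : ∀ v : Fin 3 → ↥F₀, Q₀ v = a → ∃ (j : Fin 3) (c : ↥F₀), c ≠ 0 ∧ v = c • u j := by
    intro v hv
    obtain ⟨bu, hbu⟩ := hu.exists_basis hQ₀ h2K hdtop (by norm_num)
    obtain ⟨y, hy⟩ : ∃ y : Fin 3 → ↥F₀, v = ∑ k, y k • u k := by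
      refine ⟨fun k => bu.repr ⟨v, Submodule.mem_top⟩ k, ?_⟩
      have h1 := congrArg (Subtype.val) (bu.sum_repr ⟨v, Submodule.mem_top⟩)
      rw [Submodule.coe_sum] at h1
      simp only [Submodule.coe_smul, hbu] at h1
      exact h1.symm
    have h1 : Q₀ v = ∑ k, y k ^ 2 * a := by
      rw [hy, ← Finset.sum_filter_of_ne (s := Finset.univ) (p := fun _ => True) (fun _ _ _ => trivial)]
      simp only [Finset.filter_true]
      rw [Q_sum_orth hQ₀ u hu.orth y Finset.univ]
      exact Finset.sum_congr rfl fun k _ => by rw [hua]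
    have h4 : ∑ k, y k ^ 2 = 1 := by
      rw [hv, ← Finset.sum_mul] at h1
      have : (∑ k, y k ^ 2 - 1) * a = 0 := by linear_combination -h1
      rcases mul_eq_zero.mp this with h | h
      · exact sub_eq_zero.mp h
      · exact absurd h ha
    obtain ⟨k, hk, hk'⟩ := unique_nonzero_of_sum_sq hcard0 y h4
    refine ⟨k, y k, hk, ?_⟩
    rw [hy]
    apply Finset.sum_eq_single k
    · intro k' _ hkk
      rw [hk' k' hkk, zero_smul]
    · intro h
      exact absurd (Finset.mem_univ k) h
  -- linear independence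
  have hli : LinearIndependent F x := by
    rw [Fintype.linearIndependent_iff]
    intro g hg k
    have h1 := congrArg (fun z => hermL 3 (x k) z) hg
    simp only [map_sum, map_smul, hermL_apply, map_zero, smul_eq_mul] at h1
    rw [Finset.sum_eq_single k] at h1
    · rcases mul_eq_zero.mp h1 with h | h
      · exact h
      · rw [hxx] at h
        exact absurd h hα0
    · intro j _ hj
      rw [hxy j k hj, mul_zero]
    · intro h
      exact absurd (Finset.mem_univ _) h
  have hdec : IsMDecomposition 1 (fun k => F ∙ x k) := by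
    refine ⟨by norm_num, one_pos, fun k => finrank_span_singleton (hxne k),
      hli.iSupIndep_span_singleton, ?_⟩
    rw [← Submodule.span_range_eq_iSup]
    apply hli.span_eq_top_of_card_eq_finrank'
    rw [Fintype.card_fin, Module.finrank_fin_fun]
  refine ⟨fun k => F ∙ x k, ⟨hdec, ?_, ?_⟩, ?_⟩
  · -- nondegenerate lines
    intro j y hy hy0
    obtain ⟨c, rfl⟩ := Submodule.mem_span_singleton.mp hy
    have hc0 : c ≠ 0 := by
      rintro rfl
      exact hy0 (zero_smul _ _)
    refine ⟨⟨x j, Submodule.mem_span_singleton_self _, ?_⟩,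
      ⟨x j, Submodule.mem_span_singleton_self _, ?_⟩⟩
    · rw [herm_smul_right, hxx]
      exact mul_ne_zero (pow_ne_zero _ hc0) hα0
    · rw [herm_smul_left, hxx]
      exact mul_ne_zero hc0 hα0
  · -- orthogonality
    intro j j' hjj y hy z hz
    obtain ⟨c, rfl⟩ := Submodule.mem_span_singleton.mp hy
    obtain ⟨d, rfl⟩ := Submodule.mem_span_singleton.mp hz
    rw [herm_smul_left, herm_smul_right, hxy _ _ hjj, mul_zero, mul_zero]
  · -- the stabiliser
    intro g hg
    obtain ⟨hg1, hgU⟩ := hg
    have hU : ∀ y z : Fin 3 → F, hh ((g : Matrix (Fin 3) (Fin 3) F) *ᵥ y)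
        ((g : Matrix (Fin 3) (Fin 3) F) *ᵥ z) = hh y z := fun y z => hgU y z
    have hdetg : (g : Matrix (Fin 3) (Fin 3) F).det ^ 4 = 1 := by
      have h := Cfsg.Agent.Lib.Helper6.det_norm_of_pres (q := 3) hF (g : Matrix (Fin 3) (Fin 3) F) hU
      exact h
    obtain ⟨l, B, hB⟩ := exists_eq_of_mem_subfieldSubgroup F₀ P g hg1
    -- the action on rational vectors
    have hgX : ∀ v : Fin 3 → ↥F₀, (g : Matrix (Fin 3) (Fin 3) F) *ᵥ X v = l • X (B *ᵥ v) := by
      intro v
      have e1 : (g : Matrix (Fin 3) (Fin 3) F) * (P : Matrix (Fin 3) (Fin 3) F) =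
          (P : Matrix (Fin 3) (Fin 3) F) * (l • rmat F₀ B) := by
        rw [← hB, ← Units.val_mul, ← Units.val_mul]
        congr 1
        group
      rw [hX, hX, Matrix.mulVec_mulVec, e1, ← Matrix.mulVec_mulVec, Matrix.smul_mulVec, rmat_mulVec,
        Matrix.mulVec_smul]
    -- the fourth power of the scalar is one
    have hdet : l ^ 3 * ((B.det : ↥F₀) : F) = (g : Matrix (Fin 3) (Fin 3) F).det := by
      have h1 : ((P⁻¹ * g * P : GL (Fin 3) F) : Matrix (Fin 3) (Fin 3) F).det =
          (g : Matrix (Fin 3) (Fin 3) F).det := by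
        rw [Units.val_mul, Units.val_mul, Matrix.det_mul, Matrix.det_mul]
        have h3 : ((P⁻¹ : GL (Fin 3) F) : Matrix (Fin 3) (Fin 3) F).det *
            (P : Matrix (Fin 3) (Fin 3) F).det = 1 := by
          rw [← Matrix.det_mul, ← Units.val_mul, inv_mul_cancel, Units.val_one, Matrix.det_one]
        linear_combination (g : Matrix (Fin 3) (Fin 3) F).det * h3
      rw [hB, Matrix.det_smul, Fintype.card_fin] at h1
      have h2 : (rmat F₀ B).det = ((B.det : ↥F₀) : F) := by
        have h5 : (rmat F₀ B).det = F₀.subtype B.det := by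
          unfold rmat
          rw [RingHom.map_det]
          rfl
        rw [h5]
        rfl
      rw [h2] at h1
      exact h1
    have hdet4 : (l ^ 3 * ((B.det : ↥F₀) : F)) ^ 4 = 1 := by rw [hdet, hdetg]
    have hl0 : l ≠ 0 := by
      rintro rfl
      rw [zero_pow (by norm_num), zero_mul, zero_pow (by norm_num)] at hdet4
      exact zero_ne_one hdet4
    have hl2 : l ^ 4 = 1 := by
      have hβ : ((B.det : ↥F₀) : F) ^ 2 = 1 := by
        have hβ0 : ((B.det : ↥F₀) : F) ≠ 0 := by
          intro h0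
          rw [h0, mul_zero, zero_pow (by norm_num)] at hdet4
          exact zero_ne_one hdet4
        have h1 := hcube B.det
        have h4 : ((B.det : ↥F₀) : F) * (((B.det : ↥F₀) : F) ^ 2 - 1) = 0 := by linear_combination h1
        rcases mul_eq_zero.mp h4 with h | h
        · exact absurd h hβ0
        · exact sub_eq_zero.mp h
      have h12 : l ^ 12 = 1 := by
        have h5 : (l ^ 3 * ((B.det : ↥F₀) : F)) ^ 4 = l ^ 12 * (((B.det : ↥F₀) : F) ^ 2) ^ 2 := by ring
        rw [h5, hβ, one_pow, mul_one] at hdet4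
        exact hdet4
      have h8 : l ^ 8 = 1 := by
        have := FiniteField.pow_card_sub_one_eq_one l hl0
        rw [hF] at this
        exact this
      have : l ^ 12 = l ^ 8 * l ^ 4 := by ring
      rw [h12, h8, one_mul] at this
      exact this.symm
    -- `B` preserves the quadratic form
    have hQB : ∀ v : Fin 3 → ↥F₀, Q₀ (B *ᵥ v) = Q₀ v := by
      intro v
      apply Subtype.ext
      rw [hQ₀def, hQ₀def]
      have h1 := hU (X v) (X v)
      rw [hgX, herm_smul_left, herm_smul_right] at h1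
      have h4 : l * (l ^ 3 * hh (X (B *ᵥ v)) (X (B *ᵥ v))) =
          l ^ 4 * hh (X (B *ᵥ v)) (X (B *ᵥ v)) := by ring
      rw [h4, hl2, one_mul] at h1
      exact h1
    have hDinj : Function.Injective (fun k => F ∙ x k) := hdec.indep.injective (fun k => by
      intro h0
      have := finrank_span_singleton (K := F) (hxne k)
      rw [h0, finrank_bot] at this
      omega)
    apply mem_decompositionStabilizer_of_forall_exists _ hDinj g
    intro k
    obtain ⟨j, c, hc0, hcj⟩ := hchar (B *ᵥ u k) (by rw [hQB, hua])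
    refine ⟨j, ?_⟩
    show (F ∙ x k).map _ = F ∙ x j
    rw [Submodule.map_span, Set.image_singleton, Matrix.toLin'_apply, hx, hgX, hcj, hXsmul, ← hx, smul_smul]
    exact Submodule.span_singleton_smul_eq (IsUnit.mk0 _ (mul_ne_zero hl0 (by
      intro h
      exact hc0 (Subtype.ext h)))) _

/-- piece `E2` of helper15's skeleton, exact shape -/
theorem e2 (hF : Fintype.card F = 3 ^ 2) : Cfsg.Agent.Lib.Helper15.S5778Final.E2 F :=
  fun F₀ P hc hP => subfield_le_frame_gu hF F₀ P hc hP

end Cfsg.Agent.Lib.Helper10.S5778E2
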