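import Mathlib
import Cfsg.Prelude.Def_GeometricClasses
import Cfsg.Agent.Lib.Helper28.Hes64Defs

/-!
# S5781 FO-HD (helper10): the Heisenberg group `R64 F` acts absolutely irreducibly on `F^4` (`2 ≠ 0`)
-/

set_option autoImplicit false

namespace Cfsg.Agent.Lib.Helper10.S5781HD

open Cfsg Cfsg.Geo
open Cfsg.Agent.Lib.Helper28.Hes64
open scoped MatrixGroups Matrix

variable {F : Type*} [Field F]

theorem hm_mem (c : Fˣ) (j k : Fin 4) : hm (c : F) j k ∈ matrixSet (R64 F) :=
  ⟨hg c j k, hg_mem c j k, rfl⟩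

theorem Z_mem (j : Fin 4) : hm (1 : F) j 0 ∈ matrixSet (R64 F) := by
  have := hm_mem (F := F) 1 j 0
  rwa [Units.val_one] at this

theorem X_mem (k : Fin 4) : hm (1 : F) 0 k ∈ matrixSet (R64 F) := by
  have := hm_mem (F := F) 1 0 k
  rwa [Units.val_one] at this

theorem Z_apply (j a a' : Fin 4) : hm (1 : F) j 0 a a' = if a = a' then sgF F j a else 0 := by
  rw [hm_apply, xr_zero, one_mul]

theorem X_apply (k a a' : Fin 4) : hm (1 : F) 0 k a a' = if a = xr a' k then 1 else 0 := by
  rw [hm_apply, sgF_zero_left, one_mul]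

theorem Z_mulVec (j : Fin 4) (w : Fin 4 → F) (a : Fin 4) : (hm (1 : F) j 0 *ᵥ w) a = sgF F j a * w a := by
  rw [Matrix.mulVec, dotProduct, Finset.sum_eq_single a]
  · rw [Z_apply, if_pos rfl]
  · intro b _ hb
    rw [Z_apply, if_neg (Ne.symm hb), zero_mul]
  · intro h
    exact absurd (Finset.mem_univ a) h

theorem X_mulVec_single (k a₀ : Fin 4) :
    hm (1 : F) 0 k *ᵥ (Pi.single a₀ (1 : F)) = Pi.single (xr a₀ k) (1 : F) := by
  funext a
  rw [Matrix.mulVec_single_one]
  show hm (1 : F) 0 k a a₀ = _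
  rw [X_apply, Pi.single_apply]

theorem four_ne_zero' (h2 : (2 : F) ≠ 0) : (4 : F) ≠ 0 := by
  have : (4 : F) = 2 * 2 := by norm_num
  rw [this]
  exact mul_ne_zero h2 h2

theorem sgF_neg_of (j a b : Fin 4) (h : sg j a = - sg j b) : sgF F j a = - sgF F j b := by
  unfold sgF
  rw [h]
  push_cast
  ring

theorem commutant (h2 : (2 : F) ≠ 0) (M : Matrix (Fin 4) (Fin 4) F)
    (hM : ∀ s ∈ matrixSet (R64 F), M * s = s * M) : ∃ c : F, M = c • (1 : Matrix (Fin 4) (Fin 4) F) := by
  have hoff : ∀ a a', a ≠ a' → M a a' = 0 := by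
    intro a a' haa'
    obtain ⟨j, hj⟩ := exists_sg_ne a a' haa'
    have hjF := sgF_neg_of (F := F) j a a' hj
    have h1 := congrFun (congrFun (hM _ (Z_mem j)) a) a'
    rw [Matrix.mul_apply, Matrix.mul_apply, Finset.sum_eq_single a', Finset.sum_eq_single a] at h1
    · rw [Z_apply, Z_apply, if_pos rfl, if_pos rfl, hjF] at h1
      have h3 : M a a' * (2 * sgF F j a') = 0 := by linear_combination h1
      rcases mul_eq_zero.mp h3 with h | h
      · exact h
      · exact absurd h (mul_ne_zero h2 (sgF_ne_zero j a'))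
    · intro b _ hb
      rw [Z_apply, if_neg (Ne.symm hb), zero_mul]
    · intro h
      exact absurd (Finset.mem_univ a) h
    · intro b _ hb
      rw [Z_apply, if_neg hb, mul_zero]
    · intro h
      exact absurd (Finset.mem_univ a') h
  have hdiag : ∀ a, M a a = M 0 0 := by
    intro a
    have h1 := congrFun (congrFun (hM _ (X_mem a)) 0) a
    rw [Matrix.mul_apply, Matrix.mul_apply, Finset.sum_eq_single 0, Finset.sum_eq_single a] at h1
    · rw [X_apply, if_pos (by rw [xr_self]), mul_one, one_mul] at h1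
      exact h1.symm
    · intro b _ hb
      rw [X_apply, if_neg, zero_mul]
      intro h
      exact hb ((xr_eq_zero_iff b a).mp h.symm)
    · intro h
      exact absurd (Finset.mem_univ a) h
    · intro b _ hb
      rw [X_apply, xr_self, if_neg hb, mul_zero]
    · intro h
      exact absurd (Finset.mem_univ (0 : Fin 4)) h
  refine ⟨M 0 0, ?_⟩
  ext a a'
  rw [Matrix.smul_apply, Matrix.one_apply, smul_eq_mul]
  by_cases h : a = a'
  · subst h
    rw [if_pos rfl, mul_one, hdiag]
  · rw [if_neg h, mul_zero, hoff a a' h]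

theorem irreducible (h2 : (2 : F) ≠ 0) : ActsIrreducibly (matrixSet (R64 F)) := by
  intro W hW
  by_cases hbot : W = ⊥
  · exact Or.inl hbot
  right
  have hinv : ∀ s ∈ matrixSet (R64 F), ∀ w ∈ W, s *ᵥ w ∈ W := by
    intro s hs w hw
    apply hW s hs
    exact ⟨w, hw, by rw [Matrix.toLin'_apply]⟩
  obtain ⟨w, hw, hw0⟩ := Submodule.exists_mem_ne_zero_of_ne_bot hbot
  obtain ⟨a₀, ha₀⟩ : ∃ a, w a ≠ 0 := by
    by_contra h
    push Not at h
    exact hw0 (funext h)
  -- the projection of `w` to the coordinate `a₀`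
  have hv : (∑ j : Fin 4, sgF F j a₀ • (hm (1 : F) j 0 *ᵥ w)) ∈ W :=
    W.sum_mem fun j _ => W.smul_mem _ (hinv _ (Z_mem j) w hw)
  have hveq : (∑ j : Fin 4, sgF F j a₀ • (hm (1 : F) j 0 *ᵥ w)) = (4 * w a₀) • Pi.single a₀ (1 : F) := by
    funext a
    rw [Finset.sum_apply]
    simp only [Pi.smul_apply, smul_eq_mul, Z_mulVec]
    have : ∀ j : Fin 4, sgF F j a₀ * (sgF F j a * w a) = (sgF F j a₀ * sgF F j a) * w a := fun j => by ring
    simp only [this]
    rw [← Finset.sum_mul, sum_sgF, Pi.single_apply]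
    by_cases h : a₀ = a
    · subst h
      rw [if_pos rfl, if_pos rfl, mul_one]
    · rw [if_neg h, if_neg (Ne.symm h), zero_mul, mul_zero]
  have he0 : (Pi.single a₀ (1 : F) : Fin 4 → F) ∈ W := by
    rw [hveq] at hv
    have := W.smul_mem (4 * w a₀)⁻¹ hv
    rwa [smul_smul, inv_mul_cancel₀ (mul_ne_zero (four_ne_zero' h2) ha₀), one_smul] at this
  have he : ∀ b : Fin 4, (Pi.single b (1 : F) : Fin 4 → F) ∈ W := by
    intro b
    have := hinv _ (X_mem (xr a₀ b)) _ he0
    rw [X_mulVec_single] at this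
    have hb : xr a₀ (xr a₀ b) = b := by
      rw [← xr_assoc, xr_self, zero_xr]
    rwa [hb] at this
  rw [Submodule.eq_top_iff']
  intro v
  have : v = ∑ b : Fin 4, v b • (Pi.single b (1 : F) : Fin 4 → F) := by
    funext a
    rw [Finset.sum_apply, Finset.sum_eq_single a]
    · simp
    · intro b _ hb
      simp [Pi.single_apply, Ne.symm hb]
    · intro h
      exact absurd (Finset.mem_univ a) h
  rw [this]
  exact W.sum_mem fun b _ => W.smul_mem _ (he b)

/-- **FO-HD** -/
theorem absIrred_R64 (h2 : (2 : F) ≠ 0) : ActsAbsolutelyIrreducibly (matrixSet (R64 F)) :=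
  ⟨irreducible h2, commutant h2⟩

end Cfsg.Agent.Lib.Helper10.S5781HD
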