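import Mathlib
import Cfsg.Prelude.Def_GeometricClasses
import Cfsg.Agent.Lib.Helper28.Hes64Defs

/-!
# S5781 FO-HE (helper10): over the field with five elements every monomial matrix of determinant one normalises `R64 F`
-/

set_option autoImplicit false

namespace Cfsg.Agent.Lib.Helper10.S5781HE

open Cfsg Cfsg.Geo
open Cfsg.Agent.Lib.Helper28.Hes64
open scoped MatrixGroups Matrix

variable {F : Type*} [Field F]

/-! ### monomial matrices -/

theorem mono_congr {π σ : Equiv.Perm (Fin 4)} {n d : Fin 4 → F} (h1 : π = σ) (h2 : n = d) : mono π n = mono σ d := by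
  rw [h1, h2]

theorem mono_one_diag (n : Fin 4 → F) : mono 1 n = Matrix.diagonal n := by
  ext a a'
  rw [mono_apply, Matrix.diagonal_apply, Equiv.Perm.one_apply]
  by_cases h : a = a'
  · subst h
    rw [if_pos rfl]
  · rw [if_neg h, if_neg h]

theorem mono_transpose (π : Equiv.Perm (Fin 4)) :
    (mono π (fun _ => (1 : F)))ᵀ = mono π⁻¹ (fun _ => (1 : F)) := by
  ext a a'
  rw [Matrix.transpose_apply, mono_apply, mono_apply]
  by_cases h : a' = π a
  · rw [if_pos h, if_pos]
    rw [h]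
    simp
  · rw [if_neg h, if_neg]
    intro h'
    apply h
    rw [h']
    simp

theorem det_mono_one_sq (π : Equiv.Perm (Fin 4)) : (mono π (fun _ => (1 : F))).det ^ 2 = 1 := by
  have h1 : mono π (fun _ => (1 : F)) * (mono π (fun _ => (1 : F)))ᵀ = 1 := by
    rw [mono_transpose, mono_mul, mul_inv_cancel]
    ext a a'
    rw [mono_apply, Matrix.one_apply, Equiv.Perm.one_apply, mul_one]
  have h2 := congrArg Matrix.det h1
  rw [Matrix.det_mul, Matrix.det_transpose, Matrix.det_one] at h2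
  rw [sq]
  exact h2

theorem mono_split (π : Equiv.Perm (Fin 4)) (n : Fin 4 → F) :
    mono π n = mono π (fun _ => (1 : F)) * Matrix.diagonal n := by
  rw [← mono_one_diag, mono_mul, mul_one]
  apply mono_congr rfl
  funext a
  rw [one_mul]

theorem det_mono_sq (π : Equiv.Perm (Fin 4)) (n : Fin 4 → F) : (mono π n).det ^ 2 = (∏ a, n a) ^ 2 := by
  rw [mono_split, Matrix.det_mul, Matrix.det_diagonal, mul_pow, det_mono_one_sq, one_mul]

/-! ### the field with five elements -/

section five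

variable [Fintype F]

theorem pow_four (hq : Fintype.card F = 5) (x : F) (hx : x ≠ 0) : x ^ 4 = 1 := by
  have := FiniteField.pow_card_sub_one_eq_one x hx
  rwa [hq] at this

theorem inv_sq_eq (hq : Fintype.card F = 5) (x : F) (hx : x ≠ 0) : (x ^ 2)⁻¹ = x ^ 2 := by
  have h4 := pow_four hq x hx
  have hx2 : x ^ 2 ≠ 0 := pow_ne_zero 2 hx
  apply inv_eq_of_mul_eq_one_right
  rw [← pow_add]
  exact h4

end five

/-! ### the character criterion -/

theorem sq_eq_one_cases (x : F) (h : x ^ 2 = 1) : x = 1 ∨ x = -1 := by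
  have : (x - 1) * (x + 1) = 0 := by linear_combination h
  rcases mul_eq_zero.mp this with h1 | h1
  · left
    exact sub_eq_zero.mp h1
  · right
    exact eq_neg_of_add_eq_zero_left h1

theorem criterion (d : Fin 4 → F) (h0 : d 0 ≠ 0) (hsq : ∀ b, d b ^ 2 = d 0 ^ 2)
    (hprod : d 0 * d 1 * d 2 * d 3 = d 0 ^ 4) : ∃ j' : Fin 4, ∀ b, d b = d 0 * sgF F j' b := by
  have hε : ∀ b, d b = d 0 ∨ d b = - d 0 := by
    intro b
    have h1 : (d b / d 0) ^ 2 = 1 := by
      rw [div_pow, hsq b, div_self (pow_ne_zero 2 h0)]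
    rcases sq_eq_one_cases _ h1 with h | h
    · left
      rw [div_eq_iff h0] at h
      rw [h, one_mul]
    · right
      rw [div_eq_iff h0] at h
      rw [h, neg_one_mul]
  have h03 : d 0 ^ 3 ≠ 0 := pow_ne_zero 3 h0
  have h04 : d 0 ^ 4 ≠ 0 := pow_ne_zero 4 h0
  have h2 : (2 : F) ≠ 0 ∨ (2 : F) = 0 := (em _).symm
  rcases hε 1 with e1 | e1 <;> rcases hε 2 with e2 | e2 <;> rcases hε 3 with e3 | e3
  · refine ⟨0, fun b => ?_⟩
    fin_cases b <;> simp [sgF, sg, e1, e2, e3]
  · -- product is -d0^4: forces 2 d0^4 = 0; then -1 = 1 and any character works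
    have h : (2 : F) * d 0 ^ 4 = 0 := by
      rw [e1, e2, e3] at hprod
      linear_combination -hprod
    have h2' : (2 : F) = 0 := by
      rcases mul_eq_zero.mp h with h | h
      · exact h
      · exact absurd h h04
    have hneg : ∀ x : F, -x = x := fun x => by linear_combination (-x) * h2'
    refine ⟨0, fun b => ?_⟩
    fin_cases b <;> simp [sgF, sg, e1, e2, e3, hneg]
  · have h : (2 : F) * d 0 ^ 4 = 0 := by
      rw [e1, e2, e3] at hprod
      linear_combination -hprod
    have h2' : (2 : F) = 0 := by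
      rcases mul_eq_zero.mp h with h | h
      · exact h
      · exact absurd h h04
    have hneg : ∀ x : F, -x = x := fun x => by linear_combination (-x) * h2'
    refine ⟨0, fun b => ?_⟩
    fin_cases b <;> simp [sgF, sg, e1, e2, e3, hneg]
  · refine ⟨2, fun b => ?_⟩
    fin_cases b <;> simp [sgF, sg, e1, e2, e3]
  · have h : (2 : F) * d 0 ^ 4 = 0 := by
      rw [e1, e2, e3] at hprod
      linear_combination -hprod
    have h2' : (2 : F) = 0 := by
      rcases mul_eq_zero.mp h with h | h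
      · exact h
      · exact absurd h h04
    have hneg : ∀ x : F, -x = x := fun x => by linear_combination (-x) * h2'
    refine ⟨0, fun b => ?_⟩
    fin_cases b <;> simp [sgF, sg, e1, e2, e3, hneg]
  · refine ⟨1, fun b => ?_⟩
    fin_cases b <;> simp [sgF, sg, e1, e2, e3]
  · refine ⟨3, fun b => ?_⟩
    fin_cases b <;> simp [sgF, sg, e1, e2, e3]
  · have h : (2 : F) * d 0 ^ 4 = 0 := by
      rw [e1, e2, e3] at hprod
      linear_combination -hprod
    have h2' : (2 : F) = 0 := by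
      rcases mul_eq_zero.mp h with h | h
      · exact h
      · exact absurd h h04
    have hneg : ∀ x : F, -x = x := fun x => by linear_combination (-x) * h2'
    refine ⟨0, fun b => ?_⟩
    fin_cases b <;> simp [sgF, sg, e1, e2, e3, hneg]

theorem pair_eq (x y z w : F) (hz : z ^ 2 = 1) (hw : w ^ 2 = 1) (hp : x * y * z * w = 1) : x * y = z * w := by
  linear_combination (-(x * y)) * hz + (-(x * y) * z ^ 2) * hw + (z * w) * hp

/-- the products over the cosets of `⟨k⟩` agree -/
theorem coset_prod (q : Fin 4 → F) (hq2 : ∀ a, q a ^ 2 = 1) (hqp : q 0 * q 1 * q 2 * q 3 = 1) (k a : Fin 4) :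
    q a * q (xr a k) = q 0 * q k := by
  fin_cases k <;> fin_cases a
  · show q 0 * q (xr 0 0) = q 0 * q 0
    have hx : xr 0 0 = 0 := by decide
    rw [hx]
  · show q 1 * q (xr 1 0) = q 0 * q 0
    have hx : xr 1 0 = 1 := by decide
    rw [hx]
    rw [← sq, ← sq, hq2, hq2]
  · show q 2 * q (xr 2 0) = q 0 * q 0
    have hx : xr 2 0 = 2 := by decide
    rw [hx]
    rw [← sq, ← sq, hq2, hq2]
  · show q 3 * q (xr 3 0) = q 0 * q 0
    have hx : xr 3 0 = 3 := by decide
    rw [hx]
    rw [← sq, ← sq, hq2, hq2]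
  · show q 0 * q (xr 0 1) = q 0 * q 1
    have hx : xr 0 1 = 1 := by decide
    rw [hx]
  · show q 1 * q (xr 1 1) = q 0 * q 1
    have hx : xr 1 1 = 0 := by decide
    rw [hx]
    exact mul_comm _ _
  · show q 2 * q (xr 2 1) = q 0 * q 1
    have hx : xr 2 1 = 3 := by decide
    rw [hx]
    exact pair_eq (q 2) (q 3) (q 0) (q 1) (hq2 0) (hq2 1) (by linear_combination hqp)
  · show q 3 * q (xr 3 1) = q 0 * q 1
    have hx : xr 3 1 = 2 := by decide
    rw [hx]
    exact pair_eq (q 3) (q 2) (q 0) (q 1) (hq2 0) (hq2 1) (by linear_combination hqp)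
  · show q 0 * q (xr 0 2) = q 0 * q 2
    have hx : xr 0 2 = 2 := by decide
    rw [hx]
  · show q 1 * q (xr 1 2) = q 0 * q 2
    have hx : xr 1 2 = 3 := by decide
    rw [hx]
    exact pair_eq (q 1) (q 3) (q 0) (q 2) (hq2 0) (hq2 2) (by linear_combination hqp)
  · show q 2 * q (xr 2 2) = q 0 * q 2
    have hx : xr 2 2 = 0 := by decide
    rw [hx]
    exact mul_comm _ _
  · show q 3 * q (xr 3 2) = q 0 * q 2
    have hx : xr 3 2 = 1 := by decide
    rw [hx]
    exact pair_eq (q 3) (q 1) (q 0) (q 2) (hq2 0) (hq2 2) (by linear_combination hqp)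
  · show q 0 * q (xr 0 3) = q 0 * q 3
    have hx : xr 0 3 = 3 := by decide
    rw [hx]
  · show q 1 * q (xr 1 3) = q 0 * q 3
    have hx : xr 1 3 = 2 := by decide
    rw [hx]
    exact pair_eq (q 1) (q 2) (q 0) (q 3) (hq2 0) (hq2 3) (by linear_combination hqp)
  · show q 2 * q (xr 2 3) = q 0 * q 3
    have hx : xr 2 3 = 1 := by decide
    rw [hx]
    exact pair_eq (q 2) (q 1) (q 0) (q 3) (hq2 0) (hq2 3) (by linear_combination hqp)
  · show q 3 * q (xr 3 3) = q 0 * q 3
    have hx : xr 3 3 = 0 := by decide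
    rw [hx]
    exact mul_comm _ _

theorem prod_sgF (j : Fin 4) : ∏ a, sgF F j a = 1 := by
  rw [Fin.prod_univ_four]
  fin_cases j <;> simp [sgF, sg]

section main

variable [Fintype F]

/-- conjugation of a Heisenberg element by a monomial matrix of determinant one -/
theorem key (hq : Fintype.card F = 5) (N : Matrix (Fin 4) (Fin 4) F) (π : Equiv.Perm (Fin 4))
    (h1 : ∀ a a', a ≠ π a' → N a a' = 0) (hdet : N.det = 1) (c : Fˣ) (j k : Fin 4) :
    ∃ (c' : Fˣ) (j' k' : Fin 4), N * hm (c : F) j k = hm (c' : F) j' k' * N := by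
  set n : Fin 4 → F := fun a' => N (π a') a' with hn
  have hN : N = mono π n := by
    ext a a'
    rw [mono_apply]
    by_cases h : a = π a'
    · rw [if_pos h, h]
    · rw [if_neg h, h1 a a' h]
  have hn0 : ∀ a, n a ≠ 0 := by
    intro a' h0
    have : N.det = 0 := by
      apply Matrix.det_eq_zero_of_column_eq_zero a'
      intro a
      by_cases h : a = π a'
      · rw [h]
        exact h0
      · exact h1 a a' h
    rw [hdet] at this
    exact one_ne_zero this
  have hp2 : (∏ a, n a) ^ 2 = 1 := by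
    rw [← det_mono_sq π n, ← hN, hdet, one_pow]
  have hq2 : ∀ a, (n a ^ 2) ^ 2 = 1 := by
    intro a
    rw [← pow_mul]
    exact pow_four hq _ (hn0 a)
  have hqp : n 0 ^ 2 * n 1 ^ 2 * n 2 ^ 2 * n 3 ^ 2 = 1 := by
    rw [Fin.prod_univ_four] at hp2
    linear_combination hp2
  have hcos := coset_prod (fun a => n a ^ 2) hq2 hqp
  obtain ⟨k', hk'⟩ := perm_conj_tau π k
  let d : Fin 4 → F := fun b => (c : F) * sgF F j (π.symm b) * n (π.symm b) * (n (xr (π.symm b) k))⁻¹
  have hd : ∀ b, d b = (c : F) * sgF F j (π.symm b) * n (π.symm b) * (n (xr (π.symm b) k))⁻¹ := fun _ => rfl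
  have hd0 : d 0 ≠ 0 :=
    mul_ne_zero (mul_ne_zero (mul_ne_zero c.ne_zero (sgF_ne_zero _ _)) (hn0 _)) (inv_ne_zero (hn0 _))
  have hdsq : ∀ b, d b ^ 2 = (c : F) ^ 2 * (n 0 ^ 2 * n k ^ 2) := by
    intro b
    rw [hd, mul_pow, mul_pow, mul_pow, inv_pow, inv_sq_eq hq _ (hn0 _)]
    have hs : sgF F j (π.symm b) ^ 2 = 1 := by
      rw [sq]
      exact sgF_sq _ _
    rw [hs, mul_one, mul_assoc]
    congr 1
    exact hcos k (π.symm b)
  have hsq : ∀ b, d b ^ 2 = d 0 ^ 2 := fun b => by rw [hdsq b, hdsq 0]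
  have hprod : d 0 * d 1 * d 2 * d 3 = d 0 ^ 4 := by
    rw [pow_four hq _ hd0]
    have h0 : d 0 * d 1 * d 2 * d 3 = ∏ b, d b := by rw [Fin.prod_univ_four]
    have h1' : ∏ b, d b = ∏ a, ((c : F) * sgF F j a * n a * (n (xr a k))⁻¹) :=
      Equiv.prod_comp π.symm (fun a => (c : F) * sgF F j a * n a * (n (xr a k))⁻¹)
    have h2' : ∏ a, (n (xr a k))⁻¹ = (∏ a, n a)⁻¹ := by
      rw [Finset.prod_inv_distrib]
      congr 1
      exact Equiv.prod_comp (tau k) n
    have hpn : (∏ a, n a) ≠ 0 := Finset.prod_ne_zero_iff.mpr fun a _ => hn0 a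
    rw [h0, h1', Finset.prod_mul_distrib, Finset.prod_mul_distrib, Finset.prod_mul_distrib, h2', prod_sgF,
      Finset.prod_const, Finset.card_univ, Fintype.card_fin, pow_four hq _ c.ne_zero, one_mul, one_mul,
      mul_inv_cancel₀ hpn]
  obtain ⟨j', hj'⟩ := criterion d hd0 hsq hprod
  refine ⟨Units.mk0 (d 0) hd0, j', k', ?_⟩
  rw [Units.val_mk0, hN, hm_eq_mono, hm_eq_mono, mono_mul, mono_mul]
  apply mono_congr
  · apply Equiv.ext
    intro a
    rw [Equiv.Perm.mul_apply, Equiv.Perm.mul_apply, tau_apply, tau_apply]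
    exact hk' a
  · funext a'
    have hb := hj' (xr (π a') k')
    have e1 : π.symm (xr (π a') k') = xr a' k := by
      rw [← hk' a', Equiv.symm_apply_apply]
    rw [hd, e1, xr_xr_cancel] at hb
    rw [tau_apply, ← hb]
    field_simp [hn0 a']

/-- **FO-HE** over the field with five elements every monomial matrix of determinant one normalises `R64 F` -/
theorem mono_mem_normalizer (hq : Fintype.card F = 5) (N : GL (Fin 4) F) (π : Equiv.Perm (Fin 4))
    (h1 : ∀ a a', a ≠ π a' → (N : Matrix (Fin 4) (Fin 4) F) a a' = 0)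
    (h2 : ∀ a a', a ≠ π.symm a' → ((N⁻¹ : GL (Fin 4) F) : Matrix (Fin 4) (Fin 4) F) a a' = 0)
    (hdet : (N : Matrix (Fin 4) (Fin 4) F).det = 1) : N ∈ subgroupNormalizer (R64 F) := by
  have hdet' : ((N⁻¹ : GL (Fin 4) F) : Matrix (Fin 4) (Fin 4) F).det = 1 := by
    have : ((N⁻¹ : GL (Fin 4) F) : Matrix (Fin 4) (Fin 4) F).det * (N : Matrix (Fin 4) (Fin 4) F).det = 1 := by
      rw [← Matrix.det_mul, ← Units.val_mul, inv_mul_cancel, Units.val_one, Matrix.det_one]
    rwa [hdet, mul_one] at this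
  unfold subgroupNormalizer
  rw [Subgroup.mem_normalizer_iff]
  intro x
  constructor
  · rintro ⟨c, j, k, rfl⟩
    obtain ⟨c', j', k', hk⟩ := key hq (N : Matrix (Fin 4) (Fin 4) F) π h1 hdet c j k
    refine ⟨c', j', k', ?_⟩
    rw [mul_inv_eq_iff_eq_mul]
    apply Units.ext
    rw [Units.val_mul, Units.val_mul, hg_val, hg_val]
    exact hk
  · rintro ⟨c, j, k, hx⟩
    obtain ⟨c', j', k', hk⟩ := key hq ((N⁻¹ : GL (Fin 4) F) : Matrix (Fin 4) (Fin 4) F) π.symm h2 hdet' c j k
    refine ⟨c', j', k', ?_⟩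
    have hx' : x = N⁻¹ * hg c j k * N := by
      rw [← hx]
      group
    rw [hx']
    have : N⁻¹ * hg c j k = hg c' j' k' * N⁻¹ := by
      apply Units.ext
      rw [Units.val_mul, Units.val_mul, hg_val, hg_val]
      exact hk
    rw [this, mul_assoc, inv_mul_cancel, mul_one]

end main

end Cfsg.Agent.Lib.Helper10.S5781HE
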