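import Mathlib
import Cfsg.Prelude.Def_GeometricClasses
import Cfsg.Agent.Lib.Helper11.U4Defs
import Cfsg.Agent.Lib.Helper13.SUTsPair
import Cfsg.Agent.Lib.Helper13.SubfField

/-!
# S5784, piece X2 (helper10): for `q ≤ 3` the stabiliser in `SU_4(q)` of a pair of complementary
totally singular planes lies in a subfield subgroup of symplectic type

`tsPair_le_subfield`: with dual bases `e₁, e₂` of `D 0` and `f₁, f₂` of `D 1`, the set
`V₀ = {α e₁ + β e₂ + β^q f₁ - α^q f₂}` is a rational structure over the field with `q` elements on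
which `ζ h` is alternating with rational values (`ζ^q = -ζ`); an element of the stabiliser of
determinant one has blocks `A`, `A'` with `det A` rational, hence `det A = ± 1` as `q ≤ 3`, and
then `λ⁻¹ g` preserves `V₀` for `λ = 1` or `λ = ζ`.
-/

set_option autoImplicit false

namespace Cfsg.Agent.Lib.Helper10.S5784X2

open Matrix Module Cfsg Cfsg.Geo Cfsg.Agent.S0779 Cfsg.Agent.S0781 Cfsg.Agent.Lib.Helper6
  Cfsg.Agent.Lib.Helper13 Cfsg.Agent.Lib.Helper13.UTP Cfsg.Agent.Lib.Helper11.U4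

section algebra
variable {F : Type*} [Field F]

/-- the algebra of a unitary block pair: `Aᵀ σ(B) = 1`, `det A det B = 1`, fixed elements are `±1` -/
theorem block_alg (σ : F →+* F) (hσσ : ∀ x, σ (σ x) = x)
    (hfix : ∀ x : F, σ x = x → x ≠ 0 → x * x = 1)
    (a b c d a' b' c' d' : F)
    (u1 : a * σ a' + c * σ c' = 1) (u2 : a * σ b' + c * σ d' = 0)
    (u3 : b * σ a' + d * σ c' = 0) (u4 : b * σ b' + d * σ d' = 1)
    (hdet : (a * d - b * c) * (a' * d' - b' * c') = 1) :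
    ∃ μ : F, μ * μ = 1 ∧ σ μ = μ ∧ a' = μ * σ d ∧ b' = -(μ * σ c) ∧ c' = -(μ * σ b) ∧
      d' = μ * σ a := by
  obtain ⟨μ, hμ⟩ : ∃ μ : F, μ = a * d - b * c := ⟨_, rfl⟩
  have hμ0 : μ ≠ 0 := by
    intro h0
    rw [← hμ, h0, zero_mul] at hdet
    exact zero_ne_one hdet
  have e1 : μ * σ a' = d := by rw [hμ]; linear_combination d * u1 - c * u3
  have e2 : μ * σ c' = -b := by rw [hμ]; linear_combination a * u3 - b * u1
  have e3 : μ * σ b' = -c := by rw [hμ]; linear_combination d * u2 - c * u4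
  have e4 : μ * σ d' = a := by rw [hμ]; linear_combination a * u4 - b * u2
  have e5 : μ * σ (a' * d' - b' * c') = 1 := by
    have : μ * (μ * σ (a' * d' - b' * c')) = μ := by
      rw [map_sub, map_mul, map_mul]
      have h1 : μ * (μ * (σ a' * σ d' - σ b' * σ c')) =
          (μ * σ a') * (μ * σ d') - (μ * σ b') * (μ * σ c') := by
        ring
      rw [h1, e1, e2, e3, e4, hμ]
      ring
    exact mul_left_cancel₀ hμ0 (by rw [this, mul_one])
  have e6 : σ μ = μ := by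
    have h1 : σ μ * (a' * d' - b' * c') = 1 := by
      have := congrArg σ e5
      rw [map_mul, hσσ, map_one] at this
      exact this
    have h2 : μ * (a' * d' - b' * c') = 1 := by rw [hμ]; exact hdet
    have h3 : (a' * d' - b' * c') ≠ 0 := by
      intro h0
      rw [h0, mul_zero] at h2
      exact zero_ne_one h2
    exact mul_right_cancel₀ h3 (h1.trans h2.symm)
  have e7 : μ * μ = 1 := hfix μ e6 hμ0
  refine ⟨μ, e7, e6, ?_, ?_, ?_, ?_⟩
  · have := congrArg σ e1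
    rw [map_mul, hσσ, e6] at this
    calc a' = (μ * μ) * a' := by rw [e7, one_mul]
      _ = μ * (μ * a') := by ring
      _ = μ * σ d := by rw [this]
  · have := congrArg σ e3
    rw [map_mul, hσσ, e6, map_neg] at this
    calc b' = (μ * μ) * b' := by rw [e7, one_mul]
      _ = μ * (μ * b') := by ring
      _ = -(μ * σ c) := by rw [this]; ring
  · have := congrArg σ e2
    rw [map_mul, hσσ, e6, map_neg] at this
    calc c' = (μ * μ) * c' := by rw [e7, one_mul]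
      _ = μ * (μ * c') := by ring
      _ = -(μ * σ b) := by rw [this]; ring
  · have := congrArg σ e4
    rw [map_mul, hσσ, e6] at this
    calc d' = (μ * μ) * d' := by rw [e7, one_mul]
      _ = μ * (μ * d') := by ring
      _ = μ * σ a := by rw [this]

/-- descent: a matrix preserving (up to a scalar) the real structure cut out by `Rl` is rational in
the coordinates `C` -/
theorem descent {n : ℕ} (F₀ : Subfield F) (Rl : (Fin n → F) → Prop) (C M : GL (Fin n) F)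
    (hC1 : ∀ u : Fin n → F, (∀ i, u i ∈ F₀) → Rl ((C : Matrix (Fin n) (Fin n) F) *ᵥ u))
    (hC2 : ∀ x, Rl x → ∃ u : Fin n → F, (∀ i, u i ∈ F₀) ∧ (C : Matrix (Fin n) (Fin n) F) *ᵥ u = x)
    (lam : F) (hlam : lam ≠ 0)
    (hM : ∀ x, Rl x → Rl (lam⁻¹ • ((M : Matrix (Fin n) (Fin n) F) *ᵥ x))) :
    ∃ B : Matrix (Fin n) (Fin n) F₀,
      ((C⁻¹ * M * C : GL (Fin n) F) : Matrix (Fin n) (Fin n) F) = lam • B.map F₀.subtype := by
  classical
  have hcol : ∀ k : Fin n, ∃ u : Fin n → F, (∀ i, u i ∈ F₀) ∧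
      (C : Matrix (Fin n) (Fin n) F) *ᵥ u =
        lam⁻¹ • ((M : Matrix (Fin n) (Fin n) F) *ᵥ
          ((C : Matrix (Fin n) (Fin n) F) *ᵥ Pi.single k 1)) := by
    intro k
    apply hC2
    apply hM
    apply hC1
    intro i
    by_cases hik : i = k
    · subst hik
      rw [Pi.single_eq_same]
      exact F₀.one_mem
    · rw [Pi.single_eq_of_ne hik]
      exact F₀.zero_mem
  choose u hu1 hu2 using hcol
  refine ⟨fun i k => ⟨u k i, hu1 k i⟩, ?_⟩
  ext i k
  have h1 : ((C⁻¹ * M * C : GL (Fin n) F) : Matrix (Fin n) (Fin n) F) *ᵥ Pi.single k 1 =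
      lam • u k := by
    rw [Units.val_mul, Units.val_mul, ← Matrix.mulVec_mulVec, ← Matrix.mulVec_mulVec]
    have h2 : (M : Matrix (Fin n) (Fin n) F) *ᵥ ((C : Matrix (Fin n) (Fin n) F) *ᵥ Pi.single k 1) =
        lam • ((C : Matrix (Fin n) (Fin n) F) *ᵥ u k) := by
      rw [hu2 k, smul_smul, mul_inv_cancel₀ hlam, one_smul]
    rw [h2, Matrix.mulVec_smul, Matrix.mulVec_mulVec, ← Units.val_mul, inv_mul_cancel, Units.val_one,
      Matrix.one_mulVec]
  have h3 := congrFun h1 i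
  rw [Matrix.mulVec_single_one] at h3
  exact h3

/-- an invertible matrix with prescribed, linearly independent columns -/
theorem exists_gl_of_cols {n : ℕ} (v : Fin n → (Fin n → F))
    (hinj : ∀ x : Fin n → F, ∑ j, x j • v j = 0 → x = 0) :
    ∃ P : GL (Fin n) F, ∀ x : Fin n → F, (P : Matrix (Fin n) (Fin n) F) *ᵥ x = ∑ j, x j • v j := by
  classical
  obtain ⟨M, hM⟩ : ∃ M : Matrix (Fin n) (Fin n) F, M = Matrix.of fun i j => v j i := ⟨_, rfl⟩
  have hmv : ∀ x : Fin n → F, M *ᵥ x = ∑ j, x j • v j := by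
    intro x
    ext i
    rw [hM, Matrix.mulVec, dotProduct, Finset.sum_apply]
    apply Finset.sum_congr rfl
    intro j _
    rw [Matrix.of_apply, Pi.smul_apply, smul_eq_mul, mul_comm]
  have hinj' : Function.Injective M.mulVec := by
    intro x y hxy
    have h1 : M *ᵥ (x - y) = 0 := by
      rw [Matrix.mulVec_sub]
      exact sub_eq_zero.mpr hxy
    rw [hmv] at h1
    exact sub_eq_zero.mp (hinj _ h1)
  have hu : IsUnit M := Matrix.mulVec_injective_iff_isUnit.mp hinj'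
  refine ⟨hu.unit, fun x => ?_⟩
  rw [IsUnit.unit_spec]
  exact hmv x

theorem det_fin_four' (A : Matrix (Fin 4) (Fin 4) F) :
    A.det = A 0 0 * (A 1 1 * A 2 2 * A 3 3 - A 1 1 * A 2 3 * A 3 2 - A 1 2 * A 2 1 * A 3 3
        + A 1 2 * A 2 3 * A 3 1 + A 1 3 * A 2 1 * A 3 2 - A 1 3 * A 2 2 * A 3 1)
      - A 0 1 * (A 1 0 * A 2 2 * A 3 3 - A 1 0 * A 2 3 * A 3 2 - A 1 2 * A 2 0 * A 3 3
        + A 1 2 * A 2 3 * A 3 0 + A 1 3 * A 2 0 * A 3 2 - A 1 3 * A 2 2 * A 3 0)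
      + A 0 2 * (A 1 0 * A 2 1 * A 3 3 - A 1 0 * A 2 3 * A 3 1 - A 1 1 * A 2 0 * A 3 3
        + A 1 1 * A 2 3 * A 3 0 + A 1 3 * A 2 0 * A 3 1 - A 1 3 * A 2 1 * A 3 0)
      - A 0 3 * (A 1 0 * A 2 1 * A 3 2 - A 1 0 * A 2 2 * A 3 1 - A 1 1 * A 2 0 * A 3 2
        + A 1 1 * A 2 2 * A 3 0 + A 1 2 * A 2 0 * A 3 1 - A 1 2 * A 2 1 * A 3 0) := by
  rw [Matrix.det_succ_row_zero]
  simp only [Fin.sum_univ_four, Matrix.det_fin_three, Matrix.submatrix_apply]
  have e10 : (Fin.succAbove (0 : Fin 4) (0 : Fin 3)) = 1 := by decide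
  have e11 : (Fin.succAbove (0 : Fin 4) (1 : Fin 3)) = 2 := by decide
  have e12 : (Fin.succAbove (0 : Fin 4) (2 : Fin 3)) = 3 := by decide
  have e20 : (Fin.succAbove (1 : Fin 4) (0 : Fin 3)) = 0 := by decide
  have e21 : (Fin.succAbove (1 : Fin 4) (1 : Fin 3)) = 2 := by decide
  have e22 : (Fin.succAbove (1 : Fin 4) (2 : Fin 3)) = 3 := by decide
  have e30 : (Fin.succAbove (2 : Fin 4) (0 : Fin 3)) = 0 := by decide
  have e31 : (Fin.succAbove (2 : Fin 4) (1 : Fin 3)) = 1 := by decide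
  have e32 : (Fin.succAbove (2 : Fin 4) (2 : Fin 3)) = 3 := by decide
  have e40 : (Fin.succAbove (3 : Fin 4) (0 : Fin 3)) = 0 := by decide
  have e41 : (Fin.succAbove (3 : Fin 4) (1 : Fin 3)) = 1 := by decide
  have e42 : (Fin.succAbove (3 : Fin 4) (2 : Fin 3)) = 2 := by decide
  have s0 : Fin.succ (0 : Fin 3) = 1 := rfl
  have s1 : Fin.succ (1 : Fin 3) = 2 := rfl
  have s2 : Fin.succ (2 : Fin 3) = 3 := rfl
  simp only [e10, e11, e12, e20, e21, e22, e30, e31, e32, e40, e41, e42, s0, s1, s2]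
  norm_num
  ring

theorem det_blockDiag (a b c d a' b' c' d' : F) :
    Matrix.det !![a, b, 0, 0; c, d, 0, 0; 0, 0, a', b'; 0, 0, c', d'] =
      (a * d - b * c) * (a' * d' - b' * c') := by
  rw [det_fin_four']
  simp
  ring

theorem det_blockAnti (a b c d a' b' c' d' : F) :
    Matrix.det !![0, 0, a', b'; 0, 0, c', d'; a, b, 0, 0; c, d, 0, 0] =
      (a * d - b * c) * (a' * d' - b' * c') := by
  rw [det_fin_four']
  simp
  ring

/-- conjugate matrices have the same determinant -/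
theorem det_eq_of_conj {n : ℕ} (E : GL (Fin n) F) (g M : Matrix (Fin n) (Fin n) F)
    (h : ∀ x : Fin n → F, g *ᵥ ((E : Matrix (Fin n) (Fin n) F) *ᵥ x) =
      (E : Matrix (Fin n) (Fin n) F) *ᵥ (M *ᵥ x)) : M.det = g.det := by
  have h1 : g * (E : Matrix (Fin n) (Fin n) F) = (E : Matrix (Fin n) (Fin n) F) * M := by
    apply Matrix.toLin'.injective
    apply LinearMap.ext
    intro x
    rw [Matrix.toLin'_apply, Matrix.toLin'_apply, ← Matrix.mulVec_mulVec, ← Matrix.mulVec_mulVec]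
    exact h x
  have h2 := congrArg Matrix.det h1
  rw [Matrix.det_mul, Matrix.det_mul] at h2
  have hE : (E : Matrix (Fin n) (Fin n) F).det ≠ 0 := by
    have := (Matrix.GeneralLinearGroup.det E).ne_zero
    rwa [Matrix.GeneralLinearGroup.val_det_apply] at this
  exact mul_left_cancel₀ hE (by rw [← h2, mul_comm])

/-- the vector with coordinates `a, b, c, d` in the frame `e₁, e₂, f₁, f₂` -/
def comb (e₁ e₂ f₁ f₂ : Fin 4 → F) (a b c d : F) : Fin 4 → F :=
  a • e₁ + b • e₂ + c • f₁ + d • f₂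

theorem mulVec_comb (g : Matrix (Fin 4) (Fin 4) F) (e₁ e₂ f₁ f₂ : Fin 4 → F) (a b c d : F) :
    g *ᵥ comb e₁ e₂ f₁ f₂ a b c d =
      a • g *ᵥ e₁ + b • g *ᵥ e₂ + c • g *ᵥ f₁ + d • g *ᵥ f₂ := by
  unfold comb
  simp only [Matrix.mulVec_add, Matrix.mulVec_smul]

end algebra

section main
variable {F : Type*} [Field F] [Fintype F] {q : ℕ}

local notation "hh" => Cfsg.hermForm 4 F q

/-- the Gram table of a hyperbolic frame -/
structure Frame (q : ℕ) (e₁ e₂ f₁ f₂ : Fin 4 → F) : Prop where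
  ee11 : Cfsg.hermForm 4 F q e₁ e₁ = 0
  ee12 : Cfsg.hermForm 4 F q e₁ e₂ = 0
  ee21 : Cfsg.hermForm 4 F q e₂ e₁ = 0
  ee22 : Cfsg.hermForm 4 F q e₂ e₂ = 0
  ff11 : Cfsg.hermForm 4 F q f₁ f₁ = 0
  ff12 : Cfsg.hermForm 4 F q f₁ f₂ = 0
  ff21 : Cfsg.hermForm 4 F q f₂ f₁ = 0
  ff22 : Cfsg.hermForm 4 F q f₂ f₂ = 0
  ef11 : Cfsg.hermForm 4 F q e₁ f₁ = 1
  ef12 : Cfsg.hermForm 4 F q e₁ f₂ = 0
  ef21 : Cfsg.hermForm 4 F q e₂ f₁ = 0
  ef22 : Cfsg.hermForm 4 F q e₂ f₂ = 1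
  fe11 : Cfsg.hermForm 4 F q f₁ e₁ = 1
  fe12 : Cfsg.hermForm 4 F q f₁ e₂ = 0
  fe21 : Cfsg.hermForm 4 F q f₂ e₁ = 0
  fe22 : Cfsg.hermForm 4 F q f₂ e₂ = 1

theorem herm_comb (hF : Fintype.card F = q ^ 2) {e₁ e₂ f₁ f₂ : Fin 4 → F}
    (T : Frame q e₁ e₂ f₁ f₂) (a b c d a' b' c' d' : F) :
    hh (comb e₁ e₂ f₁ f₂ a b c d) (comb e₁ e₂ f₁ f₂ a' b' c' d') =
      a * c' ^ q + b * d' ^ q + c * a' ^ q + d * b' ^ q := by
  unfold comb
  simp only [herm_add_left, herm_add_right hF, herm_smul_left, herm_smul_right, T.ee11, T.ee12,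
    T.ee21, T.ee22, T.ff11, T.ff12, T.ff21, T.ff22, T.ef11, T.ef12, T.ef21, T.ef22, T.fe11, T.fe12,
    T.fe21, T.fe22]
  ring

theorem comb_eq_zero (hF : Fintype.card F = q ^ 2) {e₁ e₂ f₁ f₂ : Fin 4 → F}
    (T : Frame q e₁ e₂ f₁ f₂) {a b c d : F} (h : comb e₁ e₂ f₁ f₂ a b c d = 0) :
    a = 0 ∧ b = 0 ∧ c = 0 ∧ d = 0 := by
  have hq0 : q ≠ 0 := (q_pos hF).ne'
  have h1 := herm_comb hF T a b c d 0 0 1 0
  have h2 := herm_comb hF T a b c d 0 0 0 1
  have h3 := herm_comb hF T a b c d 1 0 0 0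
  have h4 := herm_comb hF T a b c d 0 1 0 0
  rw [h, herm_zero_left] at h1 h2 h3 h4
  simp only [zero_pow hq0, one_pow, mul_zero, mul_one, add_zero, zero_add] at h1 h2 h3 h4
  exact ⟨h1.symm, h2.symm, h3.symm, h4.symm⟩

/-- coordinates with respect to a dual pair of pairs of vectors -/
theorem expand_of_dual {A : Submodule F (Fin 4 → F)} (hA : finrank F A = 2)
    {e₁ e₂ f₁ f₂ : Fin 4 → F} (he₁ : e₁ ∈ A) (he₂ : e₂ ∈ A)
    (h11 : hh e₁ f₁ = 1) (h12 : hh e₁ f₂ = 0) (h21 : hh e₂ f₁ = 0) (h22 : hh e₂ f₂ = 1) :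
    ∀ x ∈ A, x = hh x f₁ • e₁ + hh x f₂ • e₂ := by
  classical
  obtain ⟨φ, hφ⟩ : ∃ φ : A →ₗ[F] F × F,
      ∀ x : A, φ x = (hh (x : Fin 4 → F) f₁, hh (x : Fin 4 → F) f₂) :=
    ⟨((hermL q f₁).prod (hermL q f₂)).comp A.subtype, fun x => rfl⟩
  have hval : ∀ s t : F, (hh (s • e₁ + t • e₂) f₁, hh (s • e₁ + t • e₂) f₂) = (s, t) := by
    intro s t
    rw [herm_add_left, herm_add_left, herm_smul_left, herm_smul_left, herm_smul_left,
      herm_smul_left, h11, h12, h21, h22, mul_one, mul_zero, add_zero, mul_zero, mul_one, zero_add]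
  have hsurj : Function.Surjective φ := by
    rintro ⟨s, t⟩
    refine ⟨⟨s • e₁ + t • e₂, A.add_mem (A.smul_mem _ he₁) (A.smul_mem _ he₂)⟩, ?_⟩
    rw [hφ]
    exact hval s t
  have hfr : finrank F A = finrank F (F × F) := by
    rw [hA, Module.finrank_prod, Module.finrank_self]
  have hinj : Function.Injective φ :=
    (LinearMap.injective_iff_surjective_of_finrank_eq_finrank hfr).mpr hsurj
  intro x hx
  have hmem : hh x f₁ • e₁ + hh x f₂ • e₂ ∈ A := A.add_mem (A.smul_mem _ he₁) (A.smul_mem _ he₂)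
  have hxx : (⟨x, hx⟩ : A) = ⟨_, hmem⟩ := by
    apply hinj
    rw [hφ, hφ]
    exact (hval _ _).symm
  exact congrArg Subtype.val hxx

/-- dual bases of a pair of complementary totally singular planes -/
theorem exists_dual_basis (hF : Fintype.card F = q ^ 2) {A B : Submodule F (Fin 4 → F)}
    (hT : HPair q A B) (hA : finrank F A = 2) (hB : finrank F B = 2) :
    ∃ e₁ e₂ f₁ f₂ : Fin 4 → F, e₁ ∈ A ∧ e₂ ∈ A ∧ f₁ ∈ B ∧ f₂ ∈ B ∧ Frame q e₁ e₂ f₁ f₂ ∧
      (∀ x ∈ A, x = hh x f₁ • e₁ + hh x f₂ • e₂) ∧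
      (∀ y ∈ B, y = hh y e₁ • f₁ + hh y e₂ • f₂) := by
  classical
  have hq0 : q ≠ 0 := (q_pos hF).ne'
  have hpos : 0 < finrank F A := by omega
  obtain ⟨⟨e₁, he₁⟩, hne⟩ := Module.finrank_pos_iff_exists_ne_zero.mp hpos
  have he₁0 : e₁ ≠ 0 := fun h => hne (Subtype.ext h)
  obtain ⟨f₁, hf₁, hf₁e₁, he₁f₁⟩ := hT.partner hF he₁ he₁0
  have h1 := finrank_inf_ker_add_one A (hermL q f₁) e₁ he₁ (by
    rw [hermL_apply, he₁f₁]
    exact one_ne_zero)
  have hpos' : 0 < finrank F ↥(A ⊓ LinearMap.ker (hermL q f₁)) := by omega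
  obtain ⟨⟨e₂, he₂'⟩, hne₂⟩ := Module.finrank_pos_iff_exists_ne_zero.mp hpos'
  have he₂0 : e₂ ≠ 0 := fun h => hne₂ (Subtype.ext h)
  obtain ⟨he₂, he₂k⟩ := Submodule.mem_inf.mp he₂'
  have he₂f₁ : hh e₂ f₁ = 0 := by rwa [LinearMap.mem_ker, hermL_apply] at he₂k
  obtain ⟨f₂', hf₂', hf₂'e₂, he₂f₂'⟩ := hT.partner hF he₂ he₂0
  obtain ⟨t, ht⟩ : ∃ t : F, t = hh e₁ f₂' := ⟨_, rfl⟩
  obtain ⟨f₂, hf₂def⟩ : ∃ f₂ : Fin 4 → F, f₂ = f₂' + (-(t ^ q)) • f₁ := ⟨_, rfl⟩
  have hf₂ : f₂ ∈ B := by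
    rw [hf₂def]
    exact B.add_mem hf₂' (B.smul_mem _ hf₁)
  have he₁f₂ : hh e₁ f₂ = 0 := by
    rw [hf₂def, herm_add_right hF, herm_smul_right, neg_pow_q hF, pow_q_q hF, he₁f₁, ← ht]
    ring
  have he₂f₂ : hh e₂ f₂ = 1 := by
    rw [hf₂def, herm_add_right hF, herm_smul_right, he₂f₁, he₂f₂', mul_zero, add_zero]
  have T : Frame q e₁ e₂ f₁ f₂ :=
    { ee11 := hT.tsA _ he₁ _ he₁
      ee12 := hT.tsA _ he₁ _ he₂
      ee21 := hT.tsA _ he₂ _ he₁
      ee22 := hT.tsA _ he₂ _ he₂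
      ff11 := hT.tsB _ hf₁ _ hf₁
      ff12 := hT.tsB _ hf₁ _ hf₂
      ff21 := hT.tsB _ hf₂ _ hf₁
      ff22 := hT.tsB _ hf₂ _ hf₂
      ef11 := he₁f₁
      ef12 := he₁f₂
      ef21 := he₂f₁
      ef22 := he₂f₂
      fe11 := by rw [← herm_conj hF, he₁f₁, one_pow]
      fe12 := herm_swap_zero hF he₂f₁
      fe21 := herm_swap_zero hF he₁f₂
      fe22 := by rw [← herm_conj hF, he₂f₂, one_pow] }
  refine ⟨e₁, e₂, f₁, f₂, he₁, he₂, hf₁, hf₂, T, ?_, ?_⟩
  · exact expand_of_dual hA he₁ he₂ T.ef11 T.ef12 T.ef21 T.ef22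
  · exact expand_of_dual hB hf₁ hf₂ T.fe11 T.fe12 T.fe21 T.fe22

theorem sq_eq_one_of_fixed (hF : Fintype.card F = q ^ 2) (hq : q ≤ 3) (x : F) (hx : x ^ q = x)
    (hx0 : x ≠ 0) : x * x = 1 := by
  have h2 := Cfsg.Agent.Lib.Helper11.U4.two_le_q hF
  interval_cases q
  · have h1 : x * x = x * 1 := by rw [mul_one, ← sq]; exact hx
    have h3 : x = 1 := mul_left_cancel₀ hx0 h1
    rw [h3, one_mul]
  · have h1 : x * (x * x) = x * 1 := by
      rw [mul_one]
      calc x * (x * x) = x ^ 3 := by ring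
        _ = x := hx
    exact mul_left_cancel₀ hx0 h1

/-- **X2**: for `q ≤ 3` the stabiliser in `SU_4(q)` of a pair of complementary totally singular
planes lies in a subfield subgroup of symplectic type -/
theorem tsPair_le_subfield (hF : Fintype.card F = q ^ 2) (hq : q ≤ 3)
    (D : Fin 2 → Submodule F (Fin 4 → F)) (hD : IsMDecomposition 2 D)
    (hts : ∀ i, IsTotallySingularFor (hermForm 4 F q) (D i)) :
    ∃ (F₀ : Subfield F) (P : GL (Fin 4) F) (ζ : F), Fintype.card F = Nat.card F₀ ^ 2 ∧ ζ ≠ 0 ∧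
      ζ + ζ ^ q = 0 ∧ IsFormRationalStructure (hermForm 4 F q) F₀ ζ P ∧
      (∀ u : Fin 4 → F, (∀ i, u i ∈ F₀) →
        hermForm 4 F q ((P : Matrix (Fin 4) (Fin 4) F) *ᵥ u)
          ((P : Matrix (Fin 4) (Fin 4) F) *ᵥ u) = 0) ∧
      decompositionStabilizer D ⊓ (GU 4 F q ⊓ specialLinear (Fin 4) F) ≤ subfieldSubgroup F₀ P := by
  classical
  have hq0 : q ≠ 0 := (q_pos hF).ne'
  have hfin2 : ∀ x : Fin 2, x = 0 ∨ x = 1 := by decide
  have hsup : D 0 ⊔ D 1 = ⊤ := by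
    rw [eq_top_iff, ← hD.iSup_eq_top]
    apply iSup_le
    intro i
    rcases hfin2 i with h | h
    · rw [h]
      exact le_sup_left
    · rw [h]
      exact le_sup_right
  have hT : HPair q (D 0) (D 1) := by
    refine ⟨hts 0, hts 1, fun x => ?_⟩
    have hx : x ∈ D 0 ⊔ D 1 := by
      rw [hsup]
      exact Submodule.mem_top
    obtain ⟨a, ha, b, hb, hab⟩ := Submodule.mem_sup.mp hx
    exact ⟨a, ha, b, hb, hab.symm⟩
  obtain ⟨e₁, e₂, f₁, f₂, he₁, he₂, hf₁, hf₂, T, hexpA, hexpB⟩ :=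
    exists_dual_basis hF hT (hD.finrank_eq 0) (hD.finrank_eq 1)
  -- the field automorphism
  obtain ⟨σ, hσ⟩ : ∃ σ : F →+* F, ∀ x : F, x ^ q = σ x := ⟨frobH hF, fun _ => rfl⟩
  have hσσ : ∀ x, σ (σ x) = x := fun x => by
    rw [← hσ, ← hσ]
    exact pow_q_q hF x
  have hfix : ∀ x : F, σ x = x → x ≠ 0 → x * x = 1 := fun x hx hx0 =>
    sq_eq_one_of_fixed hF hq x (by rw [hσ]; exact hx) hx0
  obtain ⟨ω, hω⟩ : ∃ ω : F, σ ω ≠ ω := by
    by_contra hcon
    push Not at hcon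
    apply frobE_ne_refl hF
    ext x
    rw [frobE_apply, hσ, hcon]
    rfl
  obtain ⟨ζ, hζdef⟩ : ∃ ζ : F, ζ = ω - σ ω := ⟨_, rfl⟩
  have hζ0 : ζ ≠ 0 := by
    rw [hζdef]
    exact sub_ne_zero.mpr (Ne.symm hω)
  have hσζ : σ ζ = -ζ := by
    rw [hζdef, map_sub, hσσ]
    ring
  -- the abbreviation for coordinates
  obtain ⟨cb, hcb⟩ : ∃ cb : F → F → F → F → (Fin 4 → F), cb = comb e₁ e₂ f₁ f₂ := ⟨_, rfl⟩
  have hcbdef : ∀ a b c d : F, cb a b c d = a • e₁ + b • e₂ + c • f₁ + d • f₂ := by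
    intro a b c d
    rw [hcb]
    rfl
  have hherm : ∀ a b c d a' b' c' d' : F, hh (cb a b c d) (cb a' b' c' d') =
      a * σ c' + b * σ d' + c * σ a' + d * σ b' := by
    intro a b c d a' b' c' d'
    rw [hcb, herm_comb hF T, hσ, hσ, hσ, hσ]
  have hcb0 : ∀ a b c d : F, cb a b c d = 0 → a = 0 ∧ b = 0 ∧ c = 0 ∧ d = 0 := by
    intro a b c d h
    rw [hcb] at h
    exact comb_eq_zero hF T h
  have hcbmul : ∀ (g : Matrix (Fin 4) (Fin 4) F) (a b c d : F), g *ᵥ cb a b c d =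
      a • g *ᵥ e₁ + b • g *ᵥ e₂ + c • g *ᵥ f₁ + d • g *ᵥ f₂ := by
    intro g a b c d
    rw [hcb]
    exact mulVec_comb g e₁ e₂ f₁ f₂ a b c d
  -- the frame matrix
  obtain ⟨E, hE⟩ : ∃ E : GL (Fin 4) F, ∀ x : Fin 4 → F,
      (E : Matrix (Fin 4) (Fin 4) F) *ᵥ x = cb (x 0) (x 1) (x 2) (x 3) := by
    obtain ⟨v, hv0, hv1, hv2, hv3⟩ : ∃ v : Fin 4 → (Fin 4 → F),
        v 0 = e₁ ∧ v 1 = e₂ ∧ v 2 = f₁ ∧ v 3 = f₂ := ⟨![e₁, e₂, f₁, f₂], rfl, rfl, rfl, rfl⟩
    have hsum : ∀ x : Fin 4 → F, ∑ j, x j • v j = cb (x 0) (x 1) (x 2) (x 3) := by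
      intro x
      rw [Fin.sum_univ_four, hv0, hv1, hv2, hv3, hcbdef]
    obtain ⟨E, hE⟩ := exists_gl_of_cols v (by
      intro x hx
      rw [hsum] at hx
      obtain ⟨h0, h1, h2, h3⟩ := hcb0 _ _ _ _ hx
      funext i
      fin_cases i
      · exact h0
      · exact h1
      · exact h2
      · exact h3)
    exact ⟨E, fun x => by rw [hE, hsum]⟩
  -- the rational frame
  obtain ⟨P, hP⟩ : ∃ P : GL (Fin 4) F, ∀ x : Fin 4 → F,
      (P : Matrix (Fin 4) (Fin 4) F) *ᵥ x =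
        cb (x 0 + ω * x 2) (x 1 + ω * x 3) (x 1 + σ ω * x 3) (-(x 0) - σ ω * x 2) := by
    obtain ⟨v, hv0, hv1, hv2, hv3⟩ : ∃ v : Fin 4 → (Fin 4 → F),
        v 0 = e₁ + (-1 : F) • f₂ ∧ v 1 = e₂ + f₁ ∧ v 2 = ω • e₁ + (-(σ ω)) • f₂ ∧
          v 3 = ω • e₂ + σ ω • f₁ :=
      ⟨![e₁ + (-1 : F) • f₂, e₂ + f₁, ω • e₁ + (-(σ ω)) • f₂, ω • e₂ + σ ω • f₁],
        rfl, rfl, rfl, rfl⟩
    have hsum : ∀ x : Fin 4 → F, ∑ j, x j • v j =
        cb (x 0 + ω * x 2) (x 1 + ω * x 3) (x 1 + σ ω * x 3) (-(x 0) - σ ω * x 2) := by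
      intro x
      rw [Fin.sum_univ_four, hv0, hv1, hv2, hv3, hcbdef]
      module
    obtain ⟨P, hP⟩ := exists_gl_of_cols v (by
      intro x hx
      rw [hsum] at hx
      obtain ⟨h0, h1, h2, h3⟩ := hcb0 _ _ _ _ hx
      have hx2 : x 2 = 0 := by
        have : ζ * x 2 = 0 := by
          rw [hζdef]
          linear_combination h0 + h3
        rcases mul_eq_zero.mp this with h | h
        · exact absurd h hζ0
        · exact h
      have hx3 : x 3 = 0 := by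
        have : ζ * x 3 = 0 := by
          rw [hζdef]
          linear_combination h1 - h2
        rcases mul_eq_zero.mp this with h | h
        · exact absurd h hζ0
        · exact h
      have hx0 : x 0 = 0 := by
        rw [hx2, mul_zero, add_zero] at h0
        exact h0
      have hx1 : x 1 = 0 := by
        rw [hx3, mul_zero, add_zero] at h1
        exact h1
      funext i
      fin_cases i
      · exact hx0
      · exact hx1
      · exact hx2
      · exact hx3)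
    exact ⟨P, fun x => by rw [hP, hsum]⟩
  -- the real structure
  obtain ⟨Rl, hRl⟩ : ∃ Rl : (Fin 4 → F) → Prop,
      ∀ x, Rl x ↔ ∃ α β : F, x = cb α β (σ β) (-(σ α)) := ⟨_, fun _ => Iff.rfl⟩
  have hrat : ∀ x : F, x ∈ fixQ hF → σ x = x := by
    intro x hx
    rw [← hσ]
    exact (mem_fixQ hF x).mp hx
  have hC1 : ∀ u : Fin 4 → F, (∀ i, u i ∈ fixQ hF) →
      Rl ((P : Matrix (Fin 4) (Fin 4) F) *ᵥ u) := by
    intro u hu
    rw [hRl]
    refine ⟨u 0 + ω * u 2, u 1 + ω * u 3, ?_⟩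
    rw [hP, map_add, map_add, map_mul, map_mul, hrat _ (hu 0), hrat _ (hu 1), hrat _ (hu 2),
      hrat _ (hu 3), neg_add']
  have hC2 : ∀ x, Rl x → ∃ u : Fin 4 → F, (∀ i, u i ∈ fixQ hF) ∧
      (P : Matrix (Fin 4) (Fin 4) F) *ᵥ u = x := by
    intro x hx
    rw [hRl] at hx
    obtain ⟨α, β, rfl⟩ := hx
    obtain ⟨u2, hu2⟩ : ∃ u2 : F, u2 = (α - σ α) * ζ⁻¹ := ⟨_, rfl⟩
    obtain ⟨u3, hu3⟩ : ∃ u3 : F, u3 = (β - σ β) * ζ⁻¹ := ⟨_, rfl⟩
    have hz2 : (ω - σ ω) * u2 = α - σ α := by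
      rw [← hζdef, hu2, mul_comm, mul_assoc, inv_mul_cancel₀ hζ0, mul_one]
    have hz3 : (ω - σ ω) * u3 = β - σ β := by
      rw [← hζdef, hu3, mul_comm, mul_assoc, inv_mul_cancel₀ hζ0, mul_one]
    have hs2 : σ u2 = u2 := by
      rw [hu2, map_mul, map_sub, map_inv₀, hσσ, hσζ, inv_neg]
      ring
    have hs3 : σ u3 = u3 := by
      rw [hu3, map_mul, map_sub, map_inv₀, hσσ, hσζ, inv_neg]
      ring
    have hs0 : σ (α - ω * u2) = α - ω * u2 := by
      rw [map_sub, map_mul, hs2]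
      linear_combination hz2
    have hs1 : σ (β - ω * u3) = β - ω * u3 := by
      rw [map_sub, map_mul, hs3]
      linear_combination hz3
    have hmem : ∀ y : F, σ y = y → y ∈ fixQ hF := by
      intro y hy
      rw [mem_fixQ, hσ]
      exact hy
    refine ⟨![α - ω * u2, β - ω * u3, u2, u3], ?_, ?_⟩
    · intro i
      fin_cases i
      · exact hmem _ hs0
      · exact hmem _ hs1
      · exact hmem _ hs2
      · exact hmem _ hs3
    · rw [hP]
      have e0 : (![α - ω * u2, β - ω * u3, u2, u3] : Fin 4 → F) 0 = α - ω * u2 := rfl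
      have e1 : (![α - ω * u2, β - ω * u3, u2, u3] : Fin 4 → F) 1 = β - ω * u3 := rfl
      have e2 : (![α - ω * u2, β - ω * u3, u2, u3] : Fin 4 → F) 2 = u2 := rfl
      have e3 : (![α - ω * u2, β - ω * u3, u2, u3] : Fin 4 → F) 3 = u3 := rfl
      rw [e0, e1, e2, e3]
      have c0 : α - ω * u2 + ω * u2 = α := by ring
      have c1 : β - ω * u3 + ω * u3 = β := by ring
      have c2 : β - ω * u3 + σ ω * u3 = σ β := by linear_combination (-1 : F) * hz3
      have c3 : -(α - ω * u2) - σ ω * u2 = -(σ α) := by linear_combination hz2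
      rw [c0, c1, c2, c3]
  refine ⟨fixQ hF, P, ζ, card_eq_fixQ_sq hF, hζ0, ?_, ?_, ?_, ?_⟩
  · rw [hσ, hσζ, add_neg_cancel]
  · intro u v hu hv
    have h1 := hC1 u hu
    have h2 := hC1 v hv
    rw [hRl] at h1 h2
    obtain ⟨α, β, hα⟩ := h1
    obtain ⟨α', β', hα'⟩ := h2
    rw [hα, hα', hherm, mem_fixQ, hσ]
    simp only [map_mul, map_add, map_neg, hσσ, hσζ]
    ring
  · intro u hu
    have h1 := hC1 u hu
    rw [hRl] at h1
    obtain ⟨α, β, hα⟩ := h1
    rw [hα, hherm]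
    simp only [map_neg, hσσ]
    ring
  · intro g hg
    obtain ⟨hgD, hgU, hgS⟩ := hg
    have hU : ∀ u v : Fin 4 → F, hh ((g : Matrix (Fin 4) (Fin 4) F) *ᵥ u)
        ((g : Matrix (Fin 4) (Fin 4) F) *ᵥ v) = hh u v := fun u v => hgU u v
    have hdetg : (g : Matrix (Fin 4) (Fin 4) F).det = 1 := by
      have h1 : Matrix.GeneralLinearGroup.det g = 1 := MonoidHom.mem_ker.mp hgS
      have h2 := congrArg Units.val h1
      rwa [Matrix.GeneralLinearGroup.val_det_apply, Units.val_one] at h2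
    obtain ⟨τ, hτ⟩ := hgD
    have hmap : ∀ i, ∀ x ∈ D i, (g : Matrix (Fin 4) (Fin 4) F) *ᵥ x ∈ D (τ i) := by
      intro i x hx
      rw [← hτ i]
      exact ⟨x, hx, Matrix.toLin'_apply _ _⟩
    have hA' : ∀ x ∈ D 0, ∃ s t : F, x = cb s t 0 0 := by
      intro x hx
      refine ⟨hh x f₁, hh x f₂, ?_⟩
      rw [hcbdef, zero_smul, add_zero, zero_smul, add_zero]
      exact hexpA x hx
    have hB' : ∀ y ∈ D 1, ∃ s t : F, y = cb 0 0 s t := by
      intro y hy
      refine ⟨hh y e₁, hh y e₂, ?_⟩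
      rw [hcbdef, zero_smul, zero_smul, zero_add, zero_add]
      exact hexpB y hy
    -- the scalar
    have hlamex : ∀ κ : F, κ * κ = 1 → ∃ lam : F, lam ≠ 0 ∧ σ lam = κ * lam := by
      intro κ hκ
      have h1 : (κ - 1) * (κ + 1) = 0 := by linear_combination hκ
      rcases mul_eq_zero.mp h1 with h | h
      · refine ⟨1, one_ne_zero, ?_⟩
        rw [map_one, sub_eq_zero.mp h, one_mul]
      · refine ⟨ζ, hζ0, ?_⟩
        rw [hσζ, eq_neg_of_add_eq_zero_left h]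
        ring
    rcases hfin2 (τ 0) with h0 | h0
    · -- the diagonal case
      have h1 : τ 1 = 1 := by
        rcases hfin2 (τ 1) with h | h
        · exact absurd (τ.injective (h0.trans h.symm)) (by decide)
        · exact h
      have hA : ∀ x ∈ D 0, (g : Matrix (Fin 4) (Fin 4) F) *ᵥ x ∈ D 0 := by
        intro x hx
        have := hmap 0 x hx
        rwa [h0] at this
      have hB : ∀ x ∈ D 1, (g : Matrix (Fin 4) (Fin 4) F) *ᵥ x ∈ D 1 := by
        intro x hx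
        have := hmap 1 x hx
        rwa [h1] at this
      obtain ⟨a, c, hge₁⟩ := hA' _ (hA _ he₁)
      obtain ⟨b, d, hge₂⟩ := hA' _ (hA _ he₂)
      obtain ⟨a', c', hgf₁⟩ := hB' _ (hB _ hf₁)
      obtain ⟨b', d', hgf₂⟩ := hB' _ (hB _ hf₂)
      have u1 : a * σ a' + c * σ c' = 1 := by
        have := hU e₁ f₁
        rw [hge₁, hgf₁, hherm, T.ef11] at this
        rw [← this]
        ring
      have u2 : a * σ b' + c * σ d' = 0 := by
        have := hU e₁ f₂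
        rw [hge₁, hgf₂, hherm, T.ef12] at this
        rw [← this]
        ring
      have u3 : b * σ a' + d * σ c' = 0 := by
        have := hU e₂ f₁
        rw [hge₂, hgf₁, hherm, T.ef21] at this
        rw [← this]
        ring
      have u4 : b * σ b' + d * σ d' = 1 := by
        have := hU e₂ f₂
        rw [hge₂, hgf₂, hherm, T.ef22] at this
        rw [← this]
        ring
      have hgcb : ∀ x0 x1 x2 x3 : F, (g : Matrix (Fin 4) (Fin 4) F) *ᵥ cb x0 x1 x2 x3 =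
          cb (a * x0 + b * x1) (c * x0 + d * x1) (a' * x2 + b' * x3) (c' * x2 + d' * x3) := by
        intro x0 x1 x2 x3
        rw [hcbmul, hge₁, hge₂, hgf₁, hgf₂]
        simp only [hcbdef]
        module
      have hdet : (a * d - b * c) * (a' * d' - b' * c') = 1 := by
        rw [← det_blockDiag, ← hdetg]
        apply det_eq_of_conj E
        intro x
        rw [hE, hE, hgcb]
        congr 1 <;> simp [Matrix.mulVec, dotProduct, Fin.sum_univ_four]
      obtain ⟨μ, hμμ, hσμ, ha', hb', hc', hd'⟩ :=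
        block_alg σ hσσ hfix a b c d a' b' c' d' u1 u2 u3 u4 hdet
      obtain ⟨lam, hlam0, hlam⟩ := hlamex μ hμμ
      have hμinv : μ⁻¹ = μ := inv_eq_of_mul_eq_one_right hμμ
      have hσli : σ lam⁻¹ = μ * lam⁻¹ := by
        rw [map_inv₀, hlam, mul_inv, hμinv]
      obtain ⟨B, hB⟩ := descent (fixQ hF) Rl P g hC1 hC2 lam hlam0 (by
        intro x hx
        rw [hRl] at hx ⊢
        obtain ⟨α, β, rfl⟩ := hx
        refine ⟨lam⁻¹ * (a * α + b * β), lam⁻¹ * (c * α + d * β), ?_⟩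
        rw [hgcb, ha', hb', hc', hd']
        simp only [map_mul, map_add, hσli, hcbdef]
        module)
      exact mem_subfieldSubgroup_of_eq (fixQ hF) P g lam hlam0 B hB
    · -- the interchanging case
      have h1 : τ 1 = 0 := by
        rcases hfin2 (τ 1) with h | h
        · exact h
        · exact absurd (τ.injective (h0.trans h.symm)) (by decide)
      have hA : ∀ x ∈ D 0, (g : Matrix (Fin 4) (Fin 4) F) *ᵥ x ∈ D 1 := by
        intro x hx
        have := hmap 0 x hx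
        rwa [h0] at this
      have hB : ∀ x ∈ D 1, (g : Matrix (Fin 4) (Fin 4) F) *ᵥ x ∈ D 0 := by
        intro x hx
        have := hmap 1 x hx
        rwa [h1] at this
      obtain ⟨a, c, hge₁⟩ := hB' _ (hA _ he₁)
      obtain ⟨b, d, hge₂⟩ := hB' _ (hA _ he₂)
      obtain ⟨a', c', hgf₁⟩ := hA' _ (hB _ hf₁)
      obtain ⟨b', d', hgf₂⟩ := hA' _ (hB _ hf₂)
      have u1 : a * σ a' + c * σ c' = 1 := by
        have := hU e₁ f₁
        rw [hge₁, hgf₁, hherm, T.ef11] at this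
        rw [← this]
        ring
      have u2 : a * σ b' + c * σ d' = 0 := by
        have := hU e₁ f₂
        rw [hge₁, hgf₂, hherm, T.ef12] at this
        rw [← this]
        ring
      have u3 : b * σ a' + d * σ c' = 0 := by
        have := hU e₂ f₁
        rw [hge₂, hgf₁, hherm, T.ef21] at this
        rw [← this]
        ring
      have u4 : b * σ b' + d * σ d' = 1 := by
        have := hU e₂ f₂
        rw [hge₂, hgf₂, hherm, T.ef22] at this
        rw [← this]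
        ring
      have hgcb : ∀ x0 x1 x2 x3 : F, (g : Matrix (Fin 4) (Fin 4) F) *ᵥ cb x0 x1 x2 x3 =
          cb (a' * x2 + b' * x3) (c' * x2 + d' * x3) (a * x0 + b * x1) (c * x0 + d * x1) := by
        intro x0 x1 x2 x3
        rw [hcbmul, hge₁, hge₂, hgf₁, hgf₂]
        simp only [hcbdef]
        module
      have hdet : (a * d - b * c) * (a' * d' - b' * c') = 1 := by
        rw [← det_blockAnti, ← hdetg]
        apply det_eq_of_conj E
        intro x
        rw [hE, hE, hgcb]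
        congr 1 <;> simp [Matrix.mulVec, dotProduct, Fin.sum_univ_four]
      obtain ⟨μ, hμμ, hσμ, ha', hb', hc', hd'⟩ :=
        block_alg σ hσσ hfix a b c d a' b' c' d' u1 u2 u3 u4 hdet
      obtain ⟨lam, hlam0, hlam⟩ := hlamex (-μ) (by rw [neg_mul_neg]; exact hμμ)
      have hμinv : μ⁻¹ = μ := inv_eq_of_mul_eq_one_right hμμ
      have hσli : σ lam⁻¹ = -(μ * lam⁻¹) := by
        rw [map_inv₀, hlam, mul_inv, inv_neg, hμinv]
        ring
      obtain ⟨B, hB⟩ := descent (fixQ hF) Rl P g hC1 hC2 lam hlam0 (by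
        intro x hx
        rw [hRl] at hx ⊢
        obtain ⟨α, β, rfl⟩ := hx
        refine ⟨lam⁻¹ * (μ * (σ c * σ α + σ d * σ β)),
          -(lam⁻¹ * (μ * (σ a * σ α + σ b * σ β))), ?_⟩
        rw [hgcb, ha', hb', hc', hd']
        simp only [map_mul, map_add, map_neg, hσli, hσσ, hσμ, hcbdef]
        have hμ2 : μ * μ = 1 := hμμ
        have e1 : -(-(μ * lam⁻¹) * (μ * (a * α + b * β))) =
            (μ * μ) * (lam⁻¹ * (a * α + b * β)) := by
          ring
        have e2 : -(-(μ * lam⁻¹) * (μ * (c * α + d * β))) =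
            (μ * μ) * (lam⁻¹ * (c * α + d * β)) := by
          ring
        rw [e1, e2, hμ2]
        module)
      exact mem_subfieldSubgroup_of_eq (fixQ hF) P g lam hlam0 B hB

end main

end Cfsg.Agent.Lib.Helper10.S5784X2
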