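import Mathlib
import Cfsg.Prelude.Def_GeometricClasses
import Cfsg.Agent.Lib.Helper9.SUCorMain
import Cfsg.Agent.Lib.Helper10.S5784X2

/-!
# S5784: the maximal subgroups of `SU_4(q)` from the unitary hub (helper10)

`final4`: the generic reduction `reduceU` of helper9 at `n = 4`, the arithmetic of the classes in dimension four, and
the two exceptional containments: for `q = 3` the stabiliser of an orthogonal frame is not maximal (hypothesis `hX1`,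
proved by helper24), and for `q ≤ 3` the stabiliser of a pair of complementary totally singular planes lies in a
subfield subgroup of symplectic type (`S5784X2.tsPair_le_subfield`).
-/

set_option autoImplicit false

namespace Cfsg.Agent.Lib.Helper10.S5784Main

open Cfsg Cfsg.Geo Cfsg.Agent.Lib.Helper9.UCor
open scoped MatrixGroups Matrix Kronecker

variable {F : Type*} [Field F] [Fintype F] {q : ℕ}

theorem final4 (hF : Fintype.card F = q ^ 2) (pc : SUPieces 4 q F) (hub : HubU 4 q F)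
    (hX1 : q = 3 → ∀ D : Fin 4 → Submodule F (Fin 4 → F),
      IsNondegenerateMDecomposition (hermForm 4 F q) 1 D →
      ∃ K : Subgroup (GL (Fin 4) F),
        decompositionStabilizer D ⊓ (GU 4 F q ⊓ specialLinear (Fin 4) F) < K ∧
          K < GU 4 F q ⊓ specialLinear (Fin 4) F)
    (H : Subgroup (Matrix.GeneralLinearGroup (Fin 4) F))
    (hH : Cfsg.Geo.IsMaximalIn (Cfsg.GU 4 F q ⊓ Cfsg.Geo.specialLinear (Fin 4) F) H) :
    (∃ W : Submodule F (Fin 4 → F), W ≠ ⊥ ∧ Cfsg.Geo.IsTotallySingularFor (Cfsg.hermForm 4 F q) W ∧ H = Cfsg.Geo.subspaceStabilizer W ⊓ (Cfsg.GU 4 F q ⊓ Cfsg.Geo.specialLinear (Fin 4) F)) ∨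
    (∃ W : Submodule F (Fin 4 → F), W ≠ ⊥ ∧ Cfsg.Geo.IsNondegenerateOn (Cfsg.hermForm 4 F q) W ∧ 2 * Module.finrank F W < 4 ∧ H = Cfsg.Geo.subspaceStabilizer W ⊓ (Cfsg.GU 4 F q ⊓ Cfsg.Geo.specialLinear (Fin 4) F)) ∨
    (q ≠ 3 ∧ ∃ D : Fin 4 → Submodule F (Fin 4 → F), Cfsg.Geo.IsNondegenerateMDecomposition (Cfsg.hermForm 4 F q) 1 D ∧ H = Cfsg.Geo.decompositionStabilizer D ⊓ (Cfsg.GU 4 F q ⊓ Cfsg.Geo.specialLinear (Fin 4) F)) ∨
    (3 ≤ q ∧ ∃ D : Fin 2 → Submodule F (Fin 4 → F), Cfsg.Geo.IsNondegenerateMDecomposition (Cfsg.hermForm 4 F q) 2 D ∧ H = Cfsg.Geo.decompositionStabilizer D ⊓ (Cfsg.GU 4 F q ⊓ Cfsg.Geo.specialLinear (Fin 4) F)) ∨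
    (4 ≤ q ∧ ∃ D : Fin 2 → Submodule F (Fin 4 → F), Cfsg.Geo.IsMDecomposition 2 D ∧ (∀ i, Cfsg.Geo.IsTotallySingularFor (Cfsg.hermForm 4 F q) (D i)) ∧ H = Cfsg.Geo.decompositionStabilizer D ⊓ (Cfsg.GU 4 F q ⊓ Cfsg.Geo.specialLinear (Fin 4) F)) ∨
    (∃ (F₀ : Subfield F) (r : ℕ) (P : Matrix.GeneralLinearGroup (Fin 4) F), r.Prime ∧ Odd r ∧ Fintype.card F = Nat.card F₀ ^ r ∧ Cfsg.Geo.IsFormRationalStructure (Cfsg.hermForm 4 F q) F₀ 1 P ∧ H = Cfsg.Geo.subfieldSubgroup F₀ P ⊓ (Cfsg.GU 4 F q ⊓ Cfsg.Geo.specialLinear (Fin 4) F)) ∨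
    (∃ (F₀ : Subfield F) (P : Matrix.GeneralLinearGroup (Fin 4) F) (ζ : F), Fintype.card F = Nat.card F₀ ^ 2 ∧ ζ ≠ 0 ∧ ζ + ζ ^ q = 0 ∧ Cfsg.Geo.IsFormRationalStructure (Cfsg.hermForm 4 F q) F₀ ζ P ∧ (∀ u : Fin 4 → F, (∀ i, u i ∈ F₀) → (Cfsg.hermForm 4 F q) (Matrix.mulVec (P : Matrix (Fin 4) (Fin 4) F) u) (Matrix.mulVec (P : Matrix (Fin 4) (Fin 4) F) u) = 0) ∧ H = Cfsg.Geo.subfieldSubgroup F₀ P ⊓ (Cfsg.GU 4 F q ⊓ Cfsg.Geo.specialLinear (Fin 4) F)) ∨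
    (Odd q ∧ ∃ (F₀ : Subfield F) (P : Matrix.GeneralLinearGroup (Fin 4) F), Fintype.card F = Nat.card F₀ ^ 2 ∧ Cfsg.Geo.IsFormRationalStructure (Cfsg.hermForm 4 F q) F₀ 1 P ∧ H = Cfsg.Geo.subfieldSubgroup F₀ P ⊓ (Cfsg.GU 4 F q ⊓ Cfsg.Geo.specialLinear (Fin 4) F)) ∨
    (∃ (p : ℕ) (R : Subgroup (Matrix.GeneralLinearGroup (Fin 4) F)), p.Prime ∧ q = p ∧ p % 4 = 3 ∧ Cfsg.Geo.IsSymplecticTypeGroup 2 R ∧ Cfsg.Geo.ActsAbsolutelyIrreducibly (Cfsg.Geo.matrixSet R) ∧ R ≤ Cfsg.Geo.similarityGroup (Cfsg.hermForm 4 F q) ∧ Nat.card R = 64 ∧ Nat.card (Subgroup.center R) = 4 ∧ H = Cfsg.Geo.subgroupNormalizer R ⊓ (Cfsg.GU 4 F q ⊓ Cfsg.Geo.specialLinear (Fin 4) F)) ∨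
    Cfsg.Geo.InUnitaryResidualClass H := by
  rcases reduceU hF (by norm_num) pc hub H hH with h | h | ⟨t, k, D, hD, hk2, hE⟩ |
      ⟨k, D, hk, hD, hts, hE⟩ | h | h | ⟨heven, h⟩ | ⟨r, R, p, e, k, hR, habs, hsim, hrp, hmin, hcase, hE⟩ |
      ⟨r, K, hr, hodd, hK, hadj, hE⟩ | ⟨n₁, n₂, e, P, f₁, f₂, h1, h12, h2q, hf₁, hf₂, hT, hE⟩ |
      ⟨k, t, e, P, f₁, hk, ht, hkq, hf₁, hT, hE⟩ | h
  · exact Or.inl h
  · exact Or.inr (Or.inl h)
  · -- non-degenerate decompositions: `4 = 4 * 1 = 2 * 2`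
    have htk := Cfsg.Agent.Lib.Helper9.HubCor.mul_eq_of_isMDecomposition D hD.decomp
    have ht := hD.decomp.two_le
    have hk := hD.decomp.pos
    have hk4 : k ≤ 2 := by nlinarith
    interval_cases k
    · obtain rfl : t = 4 := by omega
      refine Or.inr (Or.inr (Or.inl ⟨?_, D, hD, hE⟩))
      intro hq3
      obtain ⟨K, hHK, hKG⟩ := hX1 hq3 D hD
      rw [← hE] at hHK
      rcases hH.2 K hHK.le hKG.le with h | h
      · exact absurd h (ne_of_gt hHK)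
      · exact absurd h (ne_of_lt hKG)
    · obtain rfl : t = 2 := by omega
      exact Or.inr (Or.inr (Or.inr (Or.inl ⟨hk2 rfl, D, hD, hE⟩)))
  · -- pairs of totally singular planes
    obtain rfl : k = 2 := by omega
    by_cases hq4 : 4 ≤ q
    · exact Or.inr (Or.inr (Or.inr (Or.inr (Or.inl ⟨hq4, D, hD, hts, hE⟩))))
    · obtain ⟨F₀, P, ζ, hc, hζ0, hζq, hrat, halt, hle⟩ :=
        Cfsg.Agent.Lib.Helper10.S5784X2.tsPair_le_subfield hF (by omega) D hD hts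
      have hHle : H ≤ subfieldSubgroup F₀ P := by
        rw [hE]
        exact hle
      have hEq := eq_of_le_memberU H (subfieldSubgroup F₀ P) hH hHle
        (pc.pu5 F₀ (Cfsg.Agent.Lib.Helper29.AschCor.proper_of_card F₀ 2 Nat.prime_two hc) P)
      exact Or.inr (Or.inr (Or.inr (Or.inr (Or.inr (Or.inr (Or.inl
        ⟨F₀, P, ζ, hc, hζ0, hζq, hrat, halt, hEq⟩))))))
  · exact Or.inr (Or.inr (Or.inr (Or.inr (Or.inr (Or.inl h)))))
  · exact Or.inr (Or.inr (Or.inr (Or.inr (Or.inr (Or.inr (Or.inr (Or.inl h)))))))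
  · exact Or.inr (Or.inr (Or.inr (Or.inr (Or.inr (Or.inr (Or.inl h))))))
  · -- class 6: `4 = 2 ^ 2`
    have hnk := pc.c6exact r R p e k hR habs hrp hmin hcase
    have hr2 : r = 2 := by
      have h2 : r ∣ 4 := by
        rw [hnk]
        apply dvd_pow_self
        rintro rfl
        norm_num at hnk
      have h4 : (4 : ℕ) = 2 ^ 2 := by norm_num
      rw [h4] at h2
      exact (Nat.prime_dvd_prime_iff_eq hR.prime Nat.prime_two).mp (hR.prime.dvd_of_dvd_pow h2)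
    subst hr2
    have hk2 : k = 2 := by
      have h4 : (2 : ℕ) ^ 2 = 2 ^ k := by rw [← hnk]; norm_num
      exact (Nat.pow_right_injective (le_refl 2) h4).symm
    subst hk2
    rcases hcase with ⟨hodd, -⟩ | ⟨-, he, hZ, hcard⟩
    · exact absurd hodd (by decide)
    · subst he
      rw [hZ] at hmin
      obtain ⟨hp, hqp, hmod⟩ := c6_arith_two hF p hmin
      exact Or.inr (Or.inr (Or.inr (Or.inr (Or.inr (Or.inr (Or.inr (Or.inr (Or.inl
        ⟨p, R, hp, hqp, hmod, hR, habs, hsim, by rw [hcard]; norm_num, hZ, hE⟩))))))))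
  · -- class 3: an odd prime does not divide `4`
    exfalso
    have hd := Cfsg.Agent.Lib.Helper24.HubCor.dvd_of_isFieldSubalgebra K hK (by norm_num)
    have h4 : (4 : ℕ) = 2 ^ 2 := by norm_num
    rw [h4] at hd
    have := (Nat.prime_dvd_prime_iff_eq hr Nat.prime_two).mp (hr.dvd_of_dvd_pow hd)
    subst this
    exact absurd hodd (by decide)
  · -- tensor products: `4 = n₁ n₂` with `2 ≤ n₁ < n₂` is impossible
    exfalso
    have hc := card_tensorU e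
    nlinarith
  · -- tensor powers: `4 = k ^ t` with `3 ≤ k`, `2 ≤ t` is impossible
    exfalso
    have hc := card_wreathU e
    have h1 : k ^ 2 ≤ k ^ t := Nat.pow_le_pow_right (by omega) ht
    have h2 : 3 ^ 2 ≤ k ^ 2 := Nat.pow_le_pow_left hk 2
    omega
  · exact Or.inr (Or.inr (Or.inr (Or.inr (Or.inr (Or.inr (Or.inr (Or.inr (Or.inr h))))))))

end Cfsg.Agent.Lib.Helper10.S5784Main
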