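import Mathlib
import Cfsg.Prelude.Def_GeometricClasses
import Cfsg.Agent.Lib.Helper13.UnitaryFrame
import Cfsg.Agent.Lib.Helper9.HubCorA1

/-!
# SU corollary family, piece E1 (helper10, for helper9)

Over `F_4` a non-degenerate unitary plane has exactly two non-isotropic points, and they are orthogonal; so
an orthogonal decomposition into non-degenerate planes refines to an orthogonal frame, preserved by every
isometry that preserves the decomposition.
-/

set_option autoImplicit false
set_option linter.unusedSimpArgs false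

namespace Cfsg.Agent.Lib.Helper10.SUCorE1

open Cfsg Cfsg.Geo
open scoped MatrixGroups Matrix Kronecker
open Module Cfsg.Agent.S0779 Cfsg.Agent.Lib.Helper6 Cfsg.Agent.Lib.Helper13

variable {F : Type*} [Field F] [Fintype F] {n q : ℕ}

local notation "hh" => Cfsg.hermForm n F 2

/-- the two non-isotropic points of a non-degenerate plane over the field with four elements -/
theorem plane_frame (hF : Fintype.card F = 2 ^ 2) (W : Submodule F (Fin n → F))
    (hW : IsNondegenerateOn (hermForm n F 2) W) (hdim : finrank F W = 2) :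
    ∃ u w : Fin n → F, u ∈ W ∧ w ∈ W ∧ hh u u = 1 ∧ hh w w = 1 ∧ hh u w = 0 ∧ hh w u = 0 ∧
      ∀ x ∈ W, hh x x = 1 → (∃ c : F, c ≠ 0 ∧ x = c • u) ∨ (∃ c : F, c ≠ 0 ∧ x = c • w) := by
  have h2 := four_two hF
  have hpos : 0 < finrank F W := by rw [hdim]; norm_num
  obtain ⟨⟨w₀, hw₀W⟩, hw₀⟩ := Module.finrank_pos_iff_exists_ne_zero.mp hpos
  have hw₀0 : w₀ ≠ 0 := fun h => hw₀ (Subtype.ext h)
  obtain ⟨u, hu, hu1⟩ := exists_norm_one hF W hW w₀ hw₀W hw₀0
  obtain ⟨w, hw, hw0, hwu⟩ := unitary_hw hF W hdim u hu hu1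
  have huw : hh u w = 0 := by
    have := herm_conj hF w u
    rw [hwu] at this
    exact this.symm.trans (zero_pow two_ne_zero)
  -- coordinates
  have k1 := finrank_inf_ker_add_one W (hermB n hF u) u hu (by
    rw [hermB_apply, hu1]; exact one_ne_zero)
  have hk : finrank F ↥(W ⊓ LinearMap.ker (hermB n hF u)) = 1 := by
    rw [hdim] at k1; omega
  have hwK : w ∈ W ⊓ LinearMap.ker (hermB n hF u) :=
    Submodule.mem_inf.mpr ⟨hw, by rw [LinearMap.mem_ker, hermB_apply]; exact hwu⟩
  have hcoord : ∀ x ∈ W, ∃ r : F, x = hh x u • u + r • w := by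
    intro x hx
    have hxK : x + hh x u • u ∈ W ⊓ LinearMap.ker (hermB n hF u) :=
      Submodule.mem_inf.mpr ⟨W.add_mem hx (W.smul_mem _ hu), by
        rw [LinearMap.mem_ker, hermB_apply, herm_add_left, herm_smul_left, hu1]
        linear_combination hh x u * h2⟩
    obtain ⟨r, hr⟩ := exists_smul_of_finrank_one _ hk w _ hwK hxK hw0
    refine ⟨r, ?_⟩
    rw [← hr, add_comm, add_assoc, ← two_smul F (hh x u • u), h2, zero_smul, add_zero]
  have hw1 : hh w w = 1 := by
    rcases herm_norm_01 hF w with h0 | h1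
    · exfalso
      obtain ⟨x, hx, hxw⟩ := (hW w hw hw0).1
      obtain ⟨r, hr⟩ := hcoord x hx
      apply hxw
      rw [hr, herm_add_left, herm_smul_left, herm_smul_left, huw, h0, mul_zero, mul_zero, add_zero]
    · exact h1
  refine ⟨u, w, hu, hw, hu1, hw1, huw, hwu, ?_⟩
  intro x hx hx1
  by_cases hc : hh x u = 0
  · right
    obtain ⟨r, hr⟩ := hcoord x hx
    rw [hc, zero_smul, zero_add] at hr
    refine ⟨r, ?_, hr⟩
    rintro rfl
    rw [zero_smul] at hr
    rw [hr, herm_zero_left] at hx1
    exact zero_ne_one hx1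
  · left
    exact ⟨_, hc, unitary_key hF W hW hdim u x hu hx hu1 hx1 hc⟩

/-- **E1** over `F_4` a non-degenerate 2-space has exactly two non-isotropic points, and they are orthogonal:
an orthogonal decomposition into non-degenerate 2-spaces refines to an orthogonal frame -/
theorem exists_frame_of_two_decomposition (hF : Fintype.card F = 2 ^ 2) {t : ℕ}
    (D : Fin t → Submodule F (Fin n → F)) (hD : IsNondegenerateMDecomposition (hermForm n F 2) 2 D) :
    ∃ D' : Fin n → Submodule F (Fin n → F), IsNondegenerateMDecomposition (hermForm n F 2) 1 D' ∧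
      decompositionStabilizer D ⊓ GU n F 2 ≤ decompositionStabilizer D' := by
  classical
  have h2 := four_two hF
  have ht2 : t * 2 = n := Cfsg.Agent.Lib.Helper9.HubCor.mul_eq_of_isMDecomposition D hD.decomp
  have htt := hD.decomp.two_le
  have hfr := fun i => plane_frame hF (D i) (hD.nondegenerate i) (hD.decomp.finrank_eq i)
  choose u w hu hw hu1 hw1 huw hwu hkey using hfr
  obtain ⟨V, hV⟩ : ∃ V : Fin t × Fin 2 → (Fin n → F), V = fun p => if p.2 = 0 then u p.1 else w p.1 :=
    ⟨_, rfl⟩
  have hV0 : ∀ i, V (i, 0) = u i := by intro i; rw [hV]; simp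
  have hV1 : ∀ i, V (i, 1) = w i := by intro i; rw [hV]; simp
  have hVcases : ∀ p : Fin t × Fin 2, p = (p.1, 0) ∨ p = (p.1, 1) := by
    rintro ⟨i, k⟩
    fin_cases k
    · left; rfl
    · right; rfl
  have hVmem : ∀ p, V p ∈ D p.1 := by
    intro p
    rcases hVcases p with h | h
    · rw [h, hV0]; exact hu _
    · rw [h, hV1]; exact hw _
  have hVnorm : ∀ p, hh (V p) (V p) = 1 := by
    intro p
    rcases hVcases p with h | h
    · rw [h, hV0]; exact hu1 _
    · rw [h, hV1]; exact hw1 _
  have hVorth : ∀ p p', p ≠ p' → hh (V p) (V p') = 0 := by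
    intro p p' hpp
    by_cases h1 : p.1 = p'.1
    · rcases hVcases p with h | h <;> rcases hVcases p' with h' | h'
      · exfalso; apply hpp; rw [h, h', h1]
      · rw [h, h', hV0, hV1, h1]; exact huw _
      · rw [h, h', hV0, hV1, h1]; exact hwu _
      · exfalso; apply hpp; rw [h, h', h1]
    · exact hD.orthogonal _ _ h1 _ (hVmem p) _ (hVmem p')
  have hVkey : ∀ i, ∀ x ∈ D i, hh x x = 1 → ∃ k : Fin 2, ∃ c : F, c ≠ 0 ∧ x = c • V (i, k) := by
    intro i x hx hx1
    rcases hkey i x hx hx1 with ⟨c, hc, hxc⟩ | ⟨c, hc, hxc⟩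
    · exact ⟨0, c, hc, by rw [hV0]; exact hxc⟩
    · exact ⟨1, c, hc, by rw [hV1]; exact hxc⟩
  have hVne : ∀ p, V p ≠ 0 := by
    intro p h0
    have := hVnorm p
    rw [h0, herm_zero_left] at this
    exact zero_ne_one this
  obtain ⟨e, -⟩ : ∃ e : Fin n ≃ Fin t × Fin 2, True :=
    ⟨(finCongr ht2.symm).trans finProdFinEquiv.symm, trivial⟩
  -- linear independence
  have hli : LinearIndependent F (fun j : Fin n => V (e j)) := by
    rw [Fintype.linearIndependent_iff]
    intro g hg k
    have h1 := congrArg (fun x => hermB n hF (V (e k)) x) hg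
    simp only [map_sum, map_smul, hermB_apply, map_zero, smul_eq_mul] at h1
    rw [Finset.sum_eq_single k] at h1
    · rw [hVnorm, mul_one] at h1
      exact h1
    · intro j _ hj
      rw [hVorth _ _ (fun h => hj (e.injective h)), mul_zero]
    · intro h; exact absurd (Finset.mem_univ _) h
  have hLinj : ∀ j j', (F ∙ V (e j)) = (F ∙ V (e j')) → j = j' := by
    intro j j' h
    by_contra hne
    have hmem : V (e j) ∈ (F ∙ V (e j')) := by
      rw [← h]; exact Submodule.mem_span_singleton_self _
    obtain ⟨c, hc⟩ := Submodule.mem_span_singleton.mp hmem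
    have := hVnorm (e j)
    rw [← hc] at this
    rw [herm_smul_left, herm_smul_right, hVnorm] at this
    have h3 := hVorth (e j') (e j) (fun h => hne (e.injective h).symm)
    rw [← hc, herm_smul_right, hVnorm] at h3
    rw [mul_one] at h3 this
    rw [h3, mul_zero] at this
    exact zero_ne_one this
  refine ⟨fun j => F ∙ V (e j), ⟨⟨by omega, one_pos, ?_, ?_, ?_⟩, ?_, ?_⟩, ?_⟩
  · intro j
    exact finrank_span_singleton (hVne _)
  · exact hli.iSupIndep_span_singleton
  · rw [← Submodule.span_range_eq_iSup]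
    apply hli.span_eq_top_of_card_eq_finrank'
    rw [Fintype.card_fin, Module.finrank_fin_fun]
  · -- nondegenerate lines
    intro j x hx hx0
    obtain ⟨c, rfl⟩ := Submodule.mem_span_singleton.mp hx
    have hc : c ≠ 0 := by
      rintro rfl
      exact hx0 (zero_smul _ _)
    refine ⟨⟨V (e j), Submodule.mem_span_singleton_self _, ?_⟩,
      ⟨V (e j), Submodule.mem_span_singleton_self _, ?_⟩⟩
    · rw [herm_smul_right, hVnorm, mul_one]
      exact pow_ne_zero _ hc
    · rw [herm_smul_left, hVnorm, mul_one]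
      exact hc
  · -- orthogonality
    intro j j' hjj x hx y hy
    obtain ⟨a, rfl⟩ := Submodule.mem_span_singleton.mp hx
    obtain ⟨b, rfl⟩ := Submodule.mem_span_singleton.mp hy
    rw [herm_smul_left, herm_smul_right, hVorth _ _ (fun h => hjj (e.injective h)), mul_zero, mul_zero]
  · -- the stabiliser
    intro g hg
    obtain ⟨⟨π, hπ⟩, hgU⟩ := Subgroup.mem_inf.mp hg
    have hgU' : ∀ x y : Fin n → F, hh ((g : Matrix (Fin n) (Fin n) F) *ᵥ x)
        ((g : Matrix (Fin n) (Fin n) F) *ᵥ y) = hh x y := hgU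
    have hA : ∀ j : Fin n, ∃ j' : Fin n,
        (F ∙ V (e j)).map (Matrix.toLin' (g : Matrix (Fin n) (Fin n) F)) = (F ∙ V (e j')) := by
      intro j
      have hmem : (g : Matrix (Fin n) (Fin n) F) *ᵥ V (e j) ∈ D (π (e j).1) := by
        rw [← hπ, ← Matrix.toLin'_apply]
        exact Submodule.mem_map_of_mem (hVmem _)
      have hnorm : hh ((g : Matrix (Fin n) (Fin n) F) *ᵥ V (e j))
          ((g : Matrix (Fin n) (Fin n) F) *ᵥ V (e j)) = 1 := by
        rw [hgU', hVnorm]
      obtain ⟨k, c, hc, hgc⟩ := hVkey _ _ hmem hnorm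
      refine ⟨e.symm (π (e j).1, k), ?_⟩
      rw [Submodule.map_span, Set.image_singleton, Matrix.toLin'_apply, hgc, Equiv.apply_symm_apply]
      exact Submodule.span_singleton_smul_eq (IsUnit.mk0 c hc) _
    choose f hf using hA
    have hginj : Function.Injective (Matrix.toLin' (g : Matrix (Fin n) (Fin n) F)) := by
      intro x y hxy
      rw [Matrix.toLin'_apply, Matrix.toLin'_apply] at hxy
      have := congrArg (fun v => ((g⁻¹ : GL (Fin n) F) : Matrix (Fin n) (Fin n) F) *ᵥ v) hxy
      simp only [Matrix.mulVec_mulVec] at this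
      rw [← Units.val_mul, inv_mul_cancel, Units.val_one, Matrix.one_mulVec, Matrix.one_mulVec] at this
      exact this
    have hfinj : Function.Injective f := by
      intro j j' hjj
      apply hLinj
      apply Submodule.map_injective_of_injective hginj
      rw [hf, hf, hjj]
    refine ⟨Equiv.ofBijective f (Finite.injective_iff_bijective.mp hfinj), fun j => ?_⟩
    exact hf j

end Cfsg.Agent.Lib.Helper10.SUCorE1
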