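import Mathlib
import Cfsg.Prelude.Def_GeometricClasses
import Cfsg.Agent.Lib.Helper13.TensorHerm

/-!
# SU corollary family, piece E2 (helper10, for helper9)

Over `F_4` a tensor decomposition `2 ⊗ n₂` compatible with the unitary form is refined by the orthogonal
decomposition `L₁ ⊗ W ⊕ L₂ ⊗ W`, where `{L₁, L₂}` is the orthogonal frame of the unitary plane.
-/

set_option autoImplicit false

namespace Cfsg.Agent.Lib.Helper10.SUCorE2

open Cfsg Cfsg.Geo
open scoped MatrixGroups Matrix Kronecker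
open Cfsg.Agent.Lib.Helper13.TNM

section transport
variable {ι κ : Type} [Fintype ι] [DecidableEq ι] [Fintype κ] [DecidableEq κ] {F : Type*} [Field F]

/-- `TT e P` as a linear equivalence -/
noncomputable def TL (e : ι ≃ κ) (P : GL ι F) : (κ → F) ≃ₗ[F] (ι → F) :=
  LinearEquiv.ofBijective
    { toFun := TT e P
      map_add' := TT_add e P
      map_smul' := fun c x => by
        rw [RingHom.id_apply]
        exact TT_smul e P c x }
    ⟨TT_injective e P, fun v => TT_surj e P v⟩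

theorem TL_apply (e : ι ≃ κ) (P : GL ι F) (x : κ → F) : TL e P x = TT e P x := rfl

/-- transported subspace -/
noncomputable def tS (e : ι ≃ κ) (P : GL ι F) (W : Submodule F (κ → F)) : Submodule F (ι → F) :=
  W.map ((TL e P : (κ → F) ≃ₗ[F] (ι → F)) : (κ → F) →ₗ[F] (ι → F))

theorem mem_tS (e : ι ≃ κ) (P : GL ι F) (W : Submodule F (κ → F)) (v : ι → F) :
    v ∈ tS e P W ↔ ∃ x ∈ W, TT e P x = v := by
  unfold tS
  rw [Submodule.mem_map]
  rfl

theorem map_psi_tS (e : ι ≃ κ) (P : GL ι F) (M : GL κ F) (W : Submodule F (κ → F)) :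
    (tS e P W).map (Matrix.toLin' ((psi e P M : GL ι F) : Matrix ι ι F)) =
      tS e P (W.map (Matrix.toLin' (M : Matrix κ κ F))) := by
  ext v
  rw [Submodule.mem_map, mem_tS]
  constructor
  · rintro ⟨w, hw, rfl⟩
    obtain ⟨x, hx, rfl⟩ := (mem_tS e P W w).mp hw
    refine ⟨(M : Matrix κ κ F) *ᵥ x, Submodule.mem_map.mpr ⟨x, hx, ?_⟩, ?_⟩
    · rw [Matrix.toLin'_apply]
    · rw [Matrix.toLin'_apply, psi_mulVec]
  · rintro ⟨y, hy, rfl⟩
    obtain ⟨x, hx, rfl⟩ := Submodule.mem_map.mp hy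
    refine ⟨TT e P x, (mem_tS e P W _).mpr ⟨x, hx, rfl⟩, ?_⟩
    rw [Matrix.toLin'_apply, Matrix.toLin'_apply, psi_mulVec]

theorem psi_mem_decStab (e : ι ≃ κ) (P : GL ι F) {t : ℕ} (D : Fin t → Submodule F (κ → F)) (M : GL κ F)
    (hM : M ∈ decompositionStabilizer D) :
    psi e P M ∈ decompositionStabilizer (fun i => tS e P (D i)) := by
  obtain ⟨π, hπ⟩ := hM
  refine ⟨π, fun i => ?_⟩
  show (tS e P (D i)).map (Matrix.toLin' ((psi e P M : GL ι F) : Matrix ι ι F)) = tS e P (D (π i))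
  rw [map_psi_tS, hπ i]

theorem tS_eq_orderIso (e : ι ≃ κ) (P : GL ι F) (W : Submodule F (κ → F)) :
    tS e P W = Submodule.orderIsoMapComap (TL (F := F) e P) W := by
  rw [Submodule.orderIsoMapComap_apply', ← Submodule.map_equiv_eq_comap_symm]
  rfl

theorem isMDecomposition_tS (e : ι ≃ κ) (P : GL ι F) {t k : ℕ} {D : Fin t → Submodule F (κ → F)}
    (h : IsMDecomposition k D) : IsMDecomposition k (fun i => tS e P (D i)) := by
  refine ⟨h.two_le, h.pos, ?_, ?_, ?_⟩
  · intro i
    have : Module.finrank F (tS e P (D i)) = Module.finrank F (D i) := by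
      unfold tS
      exact LinearEquiv.finrank_map_eq (TL e P) (D i)
    rw [this]
    exact h.finrank_eq i
  · have h1 : (fun i => tS e P (D i)) = (Submodule.orderIsoMapComap (TL (F := F) e P)) ∘ D := by
      funext i
      exact tS_eq_orderIso e P (D i)
    rw [h1]
    exact h.indep.map_orderIso _
  · have h1 : (⨆ i, tS e P (D i)) = tS e P (⨆ i, D i) := by
      unfold tS
      rw [Submodule.map_iSup]
    rw [h1, h.iSup_eq_top]
    ext v
    rw [mem_tS]
    obtain ⟨x, hx⟩ := TT_surj e P v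
    simp only [Submodule.mem_top, true_and, iff_true]
    exact ⟨x, hx⟩

end transport

section blocks
variable {F : Type*} [Field F]

/-- the block decomposition of `F^(t × m)` by the first coordinate -/
theorem isMDecomposition_blk_fst (t m : ℕ) (ht : 2 ≤ t) (hm : 0 < m) :
    IsMDecomposition m (blk (F := F) (Prod.fst : Fin t × Fin m → Fin t)) := by
  classical
  refine ⟨ht, hm, ?_, ?_, ?_⟩
  · intro i
    let L : blk (F := F) (Prod.fst : Fin t × Fin m → Fin t) i ≃ₗ[F] (Fin m → F) :=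
      { toFun := fun x j => (x : Fin t × Fin m → F) (i, j)
        map_add' := fun x y => rfl
        map_smul' := fun c x => rfl
        invFun := fun y => ⟨fun p => if p.1 = i then y p.2 else 0, by
          rw [mem_blk]
          intro a ha
          rw [if_neg ha]⟩
        left_inv := by
          intro x
          apply Subtype.ext
          funext p
          show (if p.1 = i then (x : Fin t × Fin m → F) (i, p.2) else 0) = (x : Fin t × Fin m → F) p
          by_cases hp : p.1 = i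
          · rw [if_pos hp]
            have hpe : p = (i, p.2) := Prod.ext hp rfl
            rw [← hpe]
          · rw [if_neg hp]
            exact ((mem_blk _ _ _).mp x.2 p hp).symm
        right_inv := by
          intro y
          funext j
          show (if (i, j).1 = i then y (i, j).2 else 0) = y j
          rw [if_pos rfl] }
    rw [LinearEquiv.finrank_eq L, Module.finrank_fin_fun]
  · rw [iSupIndep_def]
    intro i
    rw [Submodule.disjoint_def]
    intro x hx hx'
    have hle : (⨆ j, ⨆ (_ : j ≠ i), blk (F := F) (Prod.fst : Fin t × Fin m → Fin t) j) ≤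
        (LinearMap.ker (LinearMap.funLeft F F (fun j : Fin m => ((i, j) : Fin t × Fin m)))) := by
      apply iSup_le
      intro j
      apply iSup_le
      intro hj y hy
      rw [LinearMap.mem_ker]
      funext k
      rw [LinearMap.funLeft_apply]
      exact (mem_blk _ _ _).mp hy (i, k) (fun h => hj h.symm)
    have h0 := hle hx'
    rw [LinearMap.mem_ker] at h0
    funext p
    by_cases hp : p.1 = i
    · have := congrFun h0 p.2
      rw [LinearMap.funLeft_apply] at this
      have hpe : p = (i, p.2) := Prod.ext hp rfl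
      rw [hpe]
      exact this
    · exact (mem_blk _ _ _).mp hx p hp
  · rw [eq_top_iff]
    intro x _
    have hx : x = ∑ i : Fin t, (fun p : Fin t × Fin m => if p.1 = i then x p else 0) := by
      funext p
      rw [Finset.sum_apply, Finset.sum_eq_single p.1]
      · rw [if_pos rfl]
      · intro i _ hi
        rw [if_neg (Ne.symm hi)]
      · intro h
        exact absurd (Finset.mem_univ _) h
    rw [hx]
    apply Submodule.sum_mem
    intro i _
    apply Submodule.mem_iSup_of_mem i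
    rw [mem_blk]
    intro a ha
    rw [if_neg ha]

end blocks

variable {F : Type*} [Field F] [Fintype F] {n q : ℕ}

/-- **E2** over `F_4` the isometry group of a unitary form on `F^2` fixes an orthogonal frame `{L₁, L₂}`, so a
tensor decomposition `2 ⊗ n₂` is refined by the decomposition `L₁ ⊗ W ⊕ L₂ ⊗ W` -/
theorem exists_decomposition_of_tensor_two (hF : Fintype.card F = 2 ^ 2) (n₂ : ℕ) (h2 : 2 < n₂)
    (e : Fin n ≃ Fin 2 × Fin n₂) (P : GL (Fin n) F) (f₁ : (Fin 2 → F) → (Fin 2 → F) → F)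
    (f₂ : (Fin n₂ → F) → (Fin n₂ → F) → F) (hf₁ : IsUnitaryFormPow 2 f₁) (hf₂ : IsUnitaryFormPow 2 f₂)
    (hT : IsTensorFormStructure (fun x : F => x ^ 2) (hermForm n F 2) f₁ f₂ e P) :
    ∃ D' : Fin 2 → Submodule F (Fin n → F), IsNondegenerateMDecomposition (hermForm n F 2) n₂ D' ∧
      tensorProductSubgroup 2 n₂ e P ⊓ GU n F 2 ≤ decompositionStabilizer D' := by
  classical
  have hF : Fintype.card F = 4 := by rw [hF]; norm_num
  obtain ⟨c, hc, hT⟩ := hT
  have h2' : (2 : F) = 0 := F4_two hF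
  obtain ⟨σ, hσ⟩ : ∃ σ : F →+* F, σ = sqHom h2' := ⟨_, rfl⟩
  have hσapp : ∀ x, σ x = x ^ 2 := by intro x; rw [hσ]; rfl
  have hσfun : (fun x : F => x ^ 2) = ⇑σ := by funext x; exact (hσapp x).symm
  have hσσ : ∀ x, σ (σ x) = x := by
    intro x; rw [hσapp, hσapp, ← pow_mul]; exact F4_pow4 hF x
  have hfix : ∀ t : F, σ t = t → t = 0 ∨ t = 1 := by
    intro t ht; rw [hσapp] at ht; exact sq_fix t ht
  obtain ⟨ω, hω⟩ : ∃ ω : F, σ ω ≠ ω := by
    obtain ⟨ω, h⟩ := F4_exists_omega hF
    exact ⟨ω, by rw [hσapp]; exact h⟩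
  have hcube : ∀ x : F, x ≠ 0 → x * σ x = 1 := by
    intro x hx; rw [hσapp]; exact F4_cube hF x hx
  obtain ⟨G₁, hG₁⟩ : ∃ G₁ : Matrix (Fin 2) (Fin 2) F, G₁ = gramMatrix f₁ := ⟨_, rfl⟩
  obtain ⟨G₂, hG₂⟩ : ∃ G₂ : Matrix (Fin n₂) (Fin n₂) F, G₂ = gramMatrix f₂ := ⟨_, rfl⟩
  rw [← hG₁, ← hG₂, hσfun] at hT
  have hG₁herm : G₁ᵀ = G₁.map σ := by
    ext a b
    rw [Matrix.transpose_apply, Matrix.map_apply, hσapp, hG₁]
    exact hf₁.herm _ _
  have hG₂herm : G₂ᵀ = G₂.map σ := by
    ext a b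
    rw [Matrix.transpose_apply, Matrix.map_apply, hσapp, hG₂]
    exact hf₂.herm _ _
  -- nondegeneracy
  have hN : ∀ y : Fin 2 × Fin n₂ → F, y ≠ 0 → (G₁ ⊗ₖ G₂) *ᵥ (⇑σ ∘ y) ≠ 0 :=
    gram_nondeg_of_tensorStructure e P (hermForm n F 2) (herm_nondeg_right n 2) (⇑σ) (G₁ ⊗ₖ G₂) c hT
  have hN₁ := kron_nondeg_left σ G₁ G₂ hN ⟨0, by omega⟩
  have hN₂ := kron_nondeg_right σ G₁ G₂ hN (0 : Fin 2)
  -- normalise G₁
  obtain ⟨C₁, hC₁⟩ := exists_orthonormal_two σ hσσ hfix ω hω G₁ hG₁herm hN₁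
  obtain ⟨C, hCdef⟩ : ∃ C : GL (Fin 2 × Fin n₂) F, C = kronGL C₁ 1 := ⟨_, rfl⟩
  obtain ⟨P', hP'⟩ : ∃ P' : GL (Fin n) F, P' = P * glReindex e.symm C := ⟨_, rfl⟩
  have htps : tensorProductSubgroup 2 n₂ e P = (kroneckerSubgroup 2 n₂ F).map (psi e P') := by
    rw [← tps_eq, hP', tps_change _ _ _ _ _ (hCdef ▸ kronGL_mem C₁ 1)]
  obtain ⟨G, hG⟩ : ∃ G : Matrix (Fin 2 × Fin n₂) (Fin 2 × Fin n₂) F,
      G = (1 : Matrix (Fin 2) (Fin 2) F) ⊗ₖ G₂ := ⟨_, rfl⟩
  have hGapp : ∀ a b : Fin 2 × Fin n₂, G a b = (1 : Matrix (Fin 2) (Fin 2) F) a.1 b.1 * G₂ a.2 b.2 := by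
    intro a b
    rw [hG]
    rfl
  have hT' : ∀ x y, hermForm n F 2 (TT e P' x) (TT e P' y) = c * formOfGram σ G x y := by
    intro x y
    rw [hP', TT_change, TT_change]
    have hmat : (C : Matrix (Fin 2 × Fin n₂) (Fin 2 × Fin n₂) F)ᵀ * (G₁ ⊗ₖ G₂) *
        (C : Matrix (Fin 2 × Fin n₂) (Fin 2 × Fin n₂) F).map σ = G := by
      rw [hCdef, kronGL_val, kron_map, ← Matrix.kroneckerMap_transpose, ← Matrix.mul_kronecker_mul,
        ← Matrix.mul_kronecker_mul, hC₁, Units.val_one, Matrix.transpose_one, one_mul,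
        Matrix.map_one _ (map_zero σ) (map_one σ), mul_one, hG]
    have h3 : hermForm n F 2 (TT e P ((C : Matrix _ _ F) *ᵥ x)) (TT e P ((C : Matrix _ _ F) *ᵥ y))
        = c * formOfGram σ (G₁ ⊗ₖ G₂) ((C : Matrix _ _ F) *ᵥ x) ((C : Matrix _ _ F) *ᵥ y) := hT _ _
    rw [h3, formOfGram_mulVec σ (map_zero σ) (map_add σ) (map_mul σ), hmat]
  have hGherm : Gᵀ = G.map σ := by
    rw [hG, kron_map, ← Matrix.kroneckerMap_transpose, Matrix.transpose_one, ← hG₂herm,
      Matrix.map_one _ (map_zero σ) (map_one σ)]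
  have hGU : ∀ M : GL (Fin 2 × Fin n₂) F, psi e P' M ∈ GU n F 2 ↔
      (M : Matrix _ _ F)ᵀ * G * (M : Matrix _ _ F).map σ = G := by
    intro M
    have h1 := psi_mem_preserving_iff e P' (f := hermForm n F 2) (φ := formOfGram σ G) hc hT' M
    have h3 := preserves_iff (⇑σ) (map_zero σ) (map_one σ) (map_add σ) (map_mul σ) G (M : Matrix _ _ F)
    exact h1.trans h3
  have hGmv : ∀ (v : Fin 2 × Fin n₂ → F) (a : Fin 2 × Fin n₂),
      (G *ᵥ v) a = ∑ j, G₂ a.2 j * v (a.1, j) := by
    intro v a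
    simp only [Matrix.mulVec, dotProduct]
    rw [Fintype.sum_prod_type, Finset.sum_eq_single a.1]
    · apply Finset.sum_congr rfl
      intro j _
      have : G a (a.1, j) = G₂ a.2 j := by rw [hGapp]; simp
      rw [this]
    · intro i _ hi
      apply Finset.sum_eq_zero
      intro j _
      have : G a (i, j) = 0 := by rw [hGapp]; simp [Matrix.one_apply_ne (Ne.symm hi)]
      rw [this, zero_mul]
    · intro h; exact absurd (Finset.mem_univ _) h
  -- a nonzero entry of G₂
  obtain ⟨j₀, j₁, hji⟩ : ∃ j₀ j₁, G₂ j₀ j₁ ≠ 0 := by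
    by_contra hcon
    push Not at hcon
    have hz : G₂ = 0 := by ext i j; exact hcon i j
    apply hN₂ (Pi.single ⟨0, by omega⟩ 1)
    · intro h
      have := congrFun h ⟨0, by omega⟩
      simp at this
    · rw [hz, Matrix.zero_mulVec]
  -- the decomposition
  have hblk : IsMDecomposition n₂ (blk (F := F) (Prod.fst : Fin 2 × Fin n₂ → Fin 2)) :=
    isMDecomposition_blk_fst 2 n₂ le_rfl (by omega)
  -- the form on two block vectors
  have hform : ∀ (i : Fin 2) (x y : Fin 2 × Fin n₂ → F), x ∈ blk (F := F) (Prod.fst : Fin 2 × Fin n₂ → Fin 2) i →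
      formOfGram σ G x y = ∑ j, x (i, j) * ∑ j', G₂ j j' * σ (y (i, j')) := by
    intro i x y hx
    rw [formOfGram_eq]
    simp only [dotProduct]
    rw [Fintype.sum_prod_type, Finset.sum_eq_single i]
    · apply Finset.sum_congr rfl
      intro j _
      rw [hGmv]
      rfl
    · intro i' _ hi'
      apply Finset.sum_eq_zero
      intro j _
      rw [(mem_blk _ _ _).mp hx (i', j) hi', zero_mul]
    · intro h; exact absurd (Finset.mem_univ _) h
  refine ⟨fun i => tS e P' (blk (F := F) (Prod.fst : Fin 2 × Fin n₂ → Fin 2) i),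
    ⟨isMDecomposition_tS e P' hblk, ?_, ?_⟩, ?_⟩
  · -- nondegenerate blocks
    intro i w hw hw0
    obtain ⟨x, hx, rfl⟩ := (mem_tS e P' _ w).mp hw
    have hx0 : x ≠ 0 := by
      rintro rfl
      apply hw0
      have := TT_smul e P' (0 : F) (0 : Fin 2 × Fin n₂ → F)
      rw [zero_smul, zero_smul] at this
      exact this
    obtain ⟨y, hy⟩ : ∃ y : Fin n₂ → F, y = fun j => x (i, j) := ⟨_, rfl⟩
    have hy0 : y ≠ 0 := by
      intro h
      apply hx0
      funext p
      by_cases hp : p.1 = i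
      · have := congrFun h p.2
        rw [hy] at this
        have hpe : p = (i, p.2) := Prod.ext hp rfl
        rw [hpe]
        exact this
      · exact (mem_blk _ _ _).mp hx p hp
    have hne := hN₂ y hy0
    obtain ⟨j₂, hj₂⟩ : ∃ j₂, (G₂ *ᵥ (⇑σ ∘ y)) j₂ ≠ 0 := by
      by_contra hcon
      push Not at hcon
      exact hne (funext hcon)
    have hsingle : (Pi.single (i, j₂) 1 : Fin 2 × Fin n₂ → F) ∈
        blk (F := F) (Prod.fst : Fin 2 × Fin n₂ → Fin 2) i := by
      rw [mem_blk]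
      intro a ha
      rw [Pi.single_apply, if_neg]
      rintro rfl
      exact ha rfl
    have hval : formOfGram σ G (Pi.single (i, j₂) 1) x = (G₂ *ᵥ (⇑σ ∘ y)) j₂ := by
      rw [hform i _ _ hsingle, Finset.sum_eq_single j₂]
      · rw [Pi.single_eq_same, one_mul]
        simp only [Matrix.mulVec, dotProduct, Function.comp_apply, hy]
      · intro j _ hj
        rw [Pi.single_apply, if_neg, zero_mul]
        intro h
        exact hj (congrArg Prod.snd h)
      · intro h; exact absurd (Finset.mem_univ _) h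
    have hne1 : hermForm n F 2 (TT e P' (Pi.single (i, j₂) 1)) (TT e P' x) ≠ 0 := by
      rw [hT', hval]
      exact mul_ne_zero hc hj₂
    have hne2 : hermForm n F 2 (TT e P' x) (TT e P' (Pi.single (i, j₂) 1)) ≠ 0 := by
      rw [hT', fog_herm σ G hGherm hσσ, hval]
      apply mul_ne_zero hc
      intro h
      apply hj₂
      have := congrArg σ h
      rw [hσσ, map_zero] at this
      exact this
    exact ⟨⟨_, (mem_tS e P' _ _).mpr ⟨_, hsingle, rfl⟩, hne1⟩,
      ⟨_, (mem_tS e P' _ _).mpr ⟨_, hsingle, rfl⟩, hne2⟩⟩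
  · -- orthogonality
    intro i j hij u hu v hv
    obtain ⟨x, hx, rfl⟩ := (mem_tS e P' _ u).mp hu
    obtain ⟨y, hy, rfl⟩ := (mem_tS e P' _ v).mp hv
    rw [hT', hform i x y hx]
    have : ∀ j₂ : Fin n₂, ∑ j', G₂ j₂ j' * σ (y (i, j')) = 0 := by
      intro j₂
      apply Finset.sum_eq_zero
      intro j' _
      rw [(mem_blk _ _ _).mp hy (i, j') hij, map_zero, mul_zero]
    simp only [this, mul_zero, Finset.sum_const_zero]
  · -- the containment
    intro g hg
    obtain ⟨hg1, hg2⟩ := Subgroup.mem_inf.mp hg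
    rw [htps] at hg1
    obtain ⟨M, hM, rfl⟩ := Subgroup.mem_map.mp hg1
    obtain ⟨a, b, rfl⟩ := eq_kronGL_of_mem hM
    apply psi_mem_decStab
    have h1 := (hGU _).mp hg2
    rw [kronGL_val, hG, kron_map, ← Matrix.kroneckerMap_transpose, ← Matrix.mul_kronecker_mul,
      ← Matrix.mul_kronecker_mul, mul_one] at h1
    obtain ⟨s, hs⟩ : ∃ s : F, s = ((b : Matrix (Fin n₂) (Fin n₂) F)ᵀ * G₂ *
        (b : Matrix (Fin n₂) (Fin n₂) F).map σ) j₀ j₁ := ⟨_, rfl⟩
    have hent : ∀ k k' : Fin 2, ((a : Matrix (Fin 2) (Fin 2) F)ᵀ *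
        (a : Matrix (Fin 2) (Fin 2) F).map σ) k k' * s
        = (1 : Matrix (Fin 2) (Fin 2) F) k k' * G₂ j₀ j₁ := by
      intro k k'
      have := congrFun (congrFun h1 (k, j₀)) (k', j₁)
      rw [Matrix.kroneckerMap_apply, Matrix.kroneckerMap_apply, ← hs] at this
      exact this
    have hs0 : s ≠ 0 := by
      intro h0
      have := hent 0 0
      rw [h0, mul_zero, Matrix.one_apply_eq, one_mul] at this
      exact hji this.symm
    have ha : (a : Matrix (Fin 2) (Fin 2) F)ᵀ * (a : Matrix (Fin 2) (Fin 2) F).map σ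
        = (G₂ j₀ j₁ / s) • (1 : Matrix (Fin 2) (Fin 2) F) := by
      ext k k'
      rw [Matrix.smul_apply, smul_eq_mul]
      have := hent k k'
      field_simp
      linear_combination this
    obtain ⟨π, hπ1, hπ2⟩ := monomial_of_unitary_two σ h2' hcube a (G₂ j₀ j₁ / s)
      (div_ne_zero hji hs0) ha
    exact kronGL_mem_decStab_fst a b π hπ1 hπ2

end Cfsg.Agent.Lib.Helper10.SUCorE2
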