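import Mathlib
import Cfsg.Prelude.Def_GeometricClasses
import Cfsg.Agent.Lib.Helper10.SUCorPU6

/-!
# PU6 in p-group form (helper10)

`SU_n(q)` (`n ≥ 3`, `(n, q) ≠ (3, 2)`) normalises no `r`-group of similitudes of the unitary form whose commutant
consists of scalars, `r` a prime different from the characteristic.  Same proof as `SUCorPU6`.
-/

set_option autoImplicit false
set_option linter.unusedSectionVars false
set_option linter.unusedVariables false

namespace Cfsg.Agent.Lib.Helper10.SUCorPU6b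

open Matrix Module Cfsg Cfsg.Geo Cfsg.Agent.S0779 Cfsg.Agent.S0781 Cfsg.Agent.Lib.Helper6
  Cfsg.Agent.Lib.Helper6.SUG Cfsg.Agent.Lib.Helper13 Cfsg.Agent.Lib.Helper10.SUCorPU6
open scoped MatrixGroups Matrix Kronecker commutatorElement

variable {F : Type*} [Field F] [Fintype F] {n q : ℕ}

local notation "hh" => Cfsg.hermForm n F q

/-- `SU_n(q)` normalises no `r`-group of similitudes with scalar commutant, `r` a prime not the characteristic -/
theorem not_su_le_normalizer_of_pGroup (hF : Fintype.card F = q ^ 2) (hn : 3 ≤ n) (hex : ¬ (n = 3 ∧ q = 2))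
    (r : ℕ) (hr : r.Prime) (R : Subgroup (GL (Fin n) F)) (hR : IsPGroup r R)
    (hschur : ∀ M : Matrix (Fin n) (Fin n) F, (∀ s ∈ matrixSet R, M * s = s * M) →
      ∃ c : F, M = c • (1 : Matrix (Fin n) (Fin n) F))
    (hsim : R ≤ similarityGroup (hermForm n F q))
    (p : ℕ) (hp : CharP F p) (hrp : r ≠ p) :
    ¬ GU n F q ⊓ specialLinear (Fin n) F ≤ subgroupNormalizer R := by
  classical
  intro hle
  haveI := hp
  have hpp : p.Prime := CharP.char_is_prime F p
  -- a transvection
  obtain ⟨b, hb0, hbb⟩ := exists_iso_vec hF (k := n) (by omega)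
  obtain ⟨k₀, hk0, hk⟩ := exists_trace_zero hF
  obtain ⟨y, hyb, -, -⟩ := exists_herm_partner hF b hb0 hbb
  obtain ⟨t, ht⟩ : ∃ t : ↥(Cfsg.SU n F q), t = SUG.tv hF b k₀ hbb hk := ⟨_, rfl⟩
  have htv : ∀ x, ((suGL n F q t : GL (Fin n) F) : Matrix (Fin n) (Fin n) F) *ᵥ x =
      x + (k₀ * hh x b) • b := by
    intro x
    rw [ht]
    exact Cfsg.Agent.Lib.Helper9.SUCorPU1.suGL_tv_mulVec hF b k₀ hbb hk x
  have htne : ∀ c : F, ((suGL n F q t : GL (Fin n) F) : Matrix (Fin n) (Fin n) F) ≠
      c • (1 : Matrix (Fin n) (Fin n) F) := by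
    intro c hc
    have h1 := htv b
    rw [hc, Matrix.smul_mulVec, Matrix.one_mulVec, hbb, mul_zero, zero_smul, add_zero] at h1
    have hc1 : c = 1 := by
      have h2 : (c - 1) • b = 0 := by rw [sub_smul, h1, one_smul, sub_self]
      rcases smul_eq_zero.mp h2 with h | h
      · exact sub_eq_zero.mp h
      · exact absurd h hb0
    have h2 := htv y
    rw [hc, hc1, one_smul, Matrix.one_mulVec, hyb, mul_one] at h2
    have h3 : k₀ • b = 0 := by
      have := congrArg (fun z => z - y) h2
      simp only [sub_self, add_sub_cancel_left] at this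
      exact this.symm
    rcases smul_eq_zero.mp h3 with h | h
    · exact hk0 h
    · exact hb0 h
  have htp : t ^ p = 1 := by
    apply ext_av
    intro x
    rw [ht, av_tv_pow, av_one, CharP.cast_eq_zero F p, zero_mul, zero_mul, zero_smul, add_zero]
  -- normalisation
  have hnorm : ∀ s : ↥(Cfsg.SU n F q), ∀ g ∈ R, suGL n F q s * g * (suGL n F q s)⁻¹ ∈ R :=
    fun s g hg => ((Subgroup.mem_set_normalizer_iff.mp (hle (suGL_mem s))) g).mp hg
  have hNnormal : (R.comap (suGL n F q)).Normal := ⟨fun a ha s => by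
    show suGL n F q (s * a * s⁻¹) ∈ R
    rw [map_mul, map_mul, map_inv]
    exact hnorm s _ ha⟩
  rcases normal_dichotomy hF hn hex (R.comap (suGL n F q)) with hcen | htop
  · -- the central case: `SU` centralises `R`
    have hχ : ∀ g ∈ R, ∀ s : ↥(Cfsg.SU n F q), ∃ c ∈ Subgroup.center ↥(Cfsg.SU n F q),
        suGL n F q s * g * (suGL n F q s)⁻¹ * g⁻¹ = suGL n F q c := by
      intro g hg s
      have h1 : suGL n F q s * g * (suGL n F q s)⁻¹ * g⁻¹ ∈ R := R.mul_mem (hnorm s g hg) (R.inv_mem hg)
      have h2 : suGL n F q s * g * (suGL n F q s)⁻¹ * g⁻¹ ∈ GU n F q ⊓ specialLinear (Fin n) F := by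
        have h3 := conj_mem_su g (hsim hg) (suGL n F q s)⁻¹
          ((GU n F q ⊓ specialLinear (Fin n) F).inv_mem (suGL_mem s))
        have h4 := (GU n F q ⊓ specialLinear (Fin n) F).mul_mem (suGL_mem s) h3
        have e : suGL n F q s * g * (suGL n F q s)⁻¹ * g⁻¹ =
            suGL n F q s * (g * (suGL n F q s)⁻¹ * g⁻¹) := by group
        rw [e]
        exact h4
      obtain ⟨c, hc⟩ := exists_suGL_eq _ h2
      refine ⟨c, hcen ?_, hc.symm⟩
      show suGL n F q c ∈ R
      rw [hc]
      exact h1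
    have hcomm : ∀ g ∈ R, ∀ s : ↥(Cfsg.SU n F q), suGL n F q s * g = g * suGL n F q s := by
      intro g hg
      -- the commutator map as a homomorphism
      have hmul : ∀ a b : ↥(Cfsg.SU n F q),
          suGL n F q (a * b) * g * (suGL n F q (a * b))⁻¹ * g⁻¹ =
            (suGL n F q a * g * (suGL n F q a)⁻¹ * g⁻¹) * (suGL n F q b * g * (suGL n F q b)⁻¹ * g⁻¹) := by
        intro a b
        obtain ⟨ca, hca, hea⟩ := hχ g hg a
        obtain ⟨cb, hcb, heb⟩ := hχ g hg b
        have e1 : suGL n F q (a * b) * g * (suGL n F q (a * b))⁻¹ * g⁻¹ =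
            suGL n F q a * (suGL n F q b * g * (suGL n F q b)⁻¹ * g⁻¹) * (suGL n F q a)⁻¹ *
              (suGL n F q a * g * (suGL n F q a)⁻¹ * g⁻¹) := by
          rw [map_mul]
          group
        rw [e1, hea, heb, ← map_inv, ← map_mul, ← map_mul, ← map_mul, ← map_mul]
        congr 1
        have h1 : a * cb * a⁻¹ = cb := by
          rw [(Subgroup.mem_center_iff.mp hcb a), mul_inv_cancel_right]
        rw [h1]
        exact Subgroup.mem_center_iff.mp hca cb
      obtain ⟨χ, hχdef⟩ : ∃ χ : ↥(Cfsg.SU n F q) →* GL (Fin n) F,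
          ∀ s, χ s = suGL n F q s * g * (suGL n F q s)⁻¹ * g⁻¹ :=
        ⟨MonoidHom.mk' (fun s => suGL n F q s * g * (suGL n F q s)⁻¹ * g⁻¹) hmul, fun s => rfl⟩
      have hker : χ.ker = ⊤ := by
        rw [eq_top_iff, ← SU_perfect hF hn hex, commutator_eq_closure, Subgroup.closure_le]
        rintro _ ⟨a, b, rfl⟩
        show χ ⁅a, b⁆ = 1
        rw [map_commutatorElement, commutatorElement_eq_one_iff_commute]
        obtain ⟨ca, hca, hea⟩ := hχ g hg a
        obtain ⟨cb, hcb, heb⟩ := hχ g hg b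
        show χ a * χ b = χ b * χ a
        rw [hχdef, hχdef, hea, heb, ← map_mul, ← map_mul]
        congr 1
        exact (Subgroup.mem_center_iff.mp hca cb).symm
      intro s
      have hs : χ s = 1 := by
        have : s ∈ χ.ker := by rw [hker]; exact Subgroup.mem_top s
        exact this
      rw [hχdef] at hs
      have h2 := mul_inv_eq_one.mp hs
      exact mul_inv_eq_iff_eq_mul.mp h2
    obtain ⟨c, hc⟩ := hschur ((suGL n F q t : GL (Fin n) F) : Matrix (Fin n) (Fin n) F) (by
      rintro _ ⟨g, hg, rfl⟩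
      have := congrArg (fun z : GL (Fin n) F => (z : Matrix (Fin n) (Fin n) F)) (hcomm g hg t)
      simpa using this)
    exact htne c hc
  · -- `SU ≤ R`: a transvection of order `p` in an `r`-group
    have htR : suGL n F q t ∈ R := by
      have : t ∈ R.comap (suGL n F q) := by rw [htop]; exact Subgroup.mem_top t
      exact this
    have htp' : (suGL n F q t) ^ p = 1 := by rw [← map_pow, htp, map_one]
    obtain ⟨k, hk'⟩ := hR ⟨suGL n F q t, htR⟩
    have hk'' : (suGL n F q t) ^ (r ^ k) = 1 := by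
      have := congrArg Subtype.val hk'
      simpa using this
    have hcop : Nat.Coprime (r ^ k) p := by
      apply Nat.Coprime.pow_left
      exact (Nat.coprime_primes hr hpp).mpr hrp
    have ht1 : suGL n F q t = 1 := by
      have h1 : orderOf (suGL n F q t) ∣ r ^ k := orderOf_dvd_of_pow_eq_one hk''
      have h2 : orderOf (suGL n F q t) ∣ p := orderOf_dvd_of_pow_eq_one htp'
      have h3 : orderOf (suGL n F q t) ∣ 1 := by
        have := Nat.dvd_gcd h1 h2
        rwa [hcop] at this
      exact orderOf_eq_one_iff.mp (Nat.dvd_one.mp h3)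
    apply htne 1
    rw [ht1, Units.val_one, one_smul]

end Cfsg.Agent.Lib.Helper10.SUCorPU6b
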