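import Mathlib
import Cfsg.Prelude.Def_Classical

/-!
# The spectrum of `PSp(4,3)`  (helper10, for helper6's S3439)

`spec_psp43 : Set.range (orderOf : Cfsg.PSp 2 F → ℕ) = {1, 2, 3, 4, 5, 6, 9, 12}` for a field `F` with three elements.

Upper bound: the characteristic polynomial of a symplectic `4 × 4` matrix `M` is `X⁴ + aX³ + bX² + cX + 1`; applying the
symplectic adjoint gives the reversed relation, so `a = c` or `M² = 1`; the nine palindromic polynomials over the field with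
three elements divide `Xⁿ ∓ 1` with `n ∈ {4, 5, 6, 9, 12}`.  Lower bound: three explicit symplectic matrices over `ZMod 3`.
-/

set_option autoImplicit false

namespace Cfsg.Agent.Lib.Helper10.SpecPSp43

open Matrix Polynomial

/-- the index type of the `4 × 4` symplectic matrices -/
abbrev I4 := Fin 2 ⊕ Fin 2

/-- the spectrum -/
def SP : Set ℕ := {1, 2, 3, 4, 5, 6, 9, 12}

theorem mem_SP_of_dvd (o : ℕ) (h : o ∣ 2 ∨ o ∣ 4 ∨ o ∣ 5 ∨ o ∣ 6 ∨ o ∣ 9 ∨ o ∣ 12) : o ∈ SP := by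
  unfold SP
  rcases h with h | h | h | h | h | h
  · have hpos : 0 < o := Nat.pos_of_dvd_of_pos h (by norm_num)
    have hle : o ≤ 2 := Nat.le_of_dvd (by norm_num) h
    interval_cases o <;> first | (simp; done) | (exfalso; omega)
  · have hpos : 0 < o := Nat.pos_of_dvd_of_pos h (by norm_num)
    have hle : o ≤ 4 := Nat.le_of_dvd (by norm_num) h
    interval_cases o <;> first | (simp; done) | (exfalso; omega)
  · have hpos : 0 < o := Nat.pos_of_dvd_of_pos h (by norm_num)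
    have hle : o ≤ 5 := Nat.le_of_dvd (by norm_num) h
    interval_cases o <;> first | (simp; done) | (exfalso; omega)
  · have hpos : 0 < o := Nat.pos_of_dvd_of_pos h (by norm_num)
    have hle : o ≤ 6 := Nat.le_of_dvd (by norm_num) h
    interval_cases o <;> first | (simp; done) | (exfalso; omega)
  · have hpos : 0 < o := Nat.pos_of_dvd_of_pos h (by norm_num)
    have hle : o ≤ 9 := Nat.le_of_dvd (by norm_num) h
    interval_cases o <;> first | (simp; done) | (exfalso; omega)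
  · have hpos : 0 < o := Nat.pos_of_dvd_of_pos h (by norm_num)
    have hle : o ≤ 12 := Nat.le_of_dvd (by norm_num) h
    interval_cases o <;> first | (simp; done) | (exfalso; omega)

section field

variable {F : Type*} [Field F] [Fintype F]

theorem three_eq_zero (hF : Fintype.card F = 3) : (3 : F) = 0 := by
  have : Fact (Nat.Prime 3) := ⟨Nat.prime_three⟩
  have := charP_of_card_eq_prime hF
  exact_mod_cast CharP.cast_eq_zero F 3

theorem elts (hF : Fintype.card F = 3) (x : F) : x = 0 ∨ x = 1 ∨ x = -1 := by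
  classical
  have h3 : (3 : F) = 0 := three_eq_zero hF
  have h01 : (0 : F) ≠ 1 := zero_ne_one
  have h1m : (1 : F) ≠ -1 := by
    intro h
    have : (1 : F) = 0 := by linear_combination h3 - h
    exact one_ne_zero this
  have h0m : (0 : F) ≠ -1 := by
    intro h
    have : (1 : F) = 0 := by linear_combination h
    exact one_ne_zero this
  have hs : ({0, 1, -1} : Finset F).card = 3 :=
    Finset.card_eq_three.mpr ⟨0, 1, -1, h01, h0m, h1m, rfl⟩
  have hu : ({0, 1, -1} : Finset F) = Finset.univ :=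
    Finset.eq_univ_of_card _ (by rw [hs, hF])
  have hx : x ∈ ({0, 1, -1} : Finset F) := by rw [hu]; exact Finset.mem_univ x
  simpa using hx

omit [Fintype F] in
theorem charpoly_form (M : Matrix I4 I4 F) (hdet : M.det = 1) :
    ∃ a b c : F, M.charpoly = X ^ 4 + C a * X ^ 3 + C b * X ^ 2 + C c * X + C 1 := by
  have hm := M.charpoly_monic
  have hd : M.charpoly.natDegree = 4 := by
    rw [Matrix.charpoly_natDegree_eq_dim]; simp
  have h0 : M.charpoly.coeff 0 = 1 := by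
    have h := Matrix.det_eq_sign_charpoly_coeff M
    rw [hdet] at h
    have h4 : Fintype.card I4 = 4 := by simp
    rw [h4] at h
    linear_combination -h
  refine ⟨M.charpoly.coeff 3, M.charpoly.coeff 2, M.charpoly.coeff 1, ?_⟩
  conv_lhs => rw [hm.as_sum, hd]
  simp only [Finset.sum_range_succ, Finset.sum_range_zero, h0, pow_zero, pow_one, mul_one,
    zero_add]
  ring

omit [Fintype F] in
/-- the symplectic adjoint reverses the characteristic polynomial -/
theorem sp4_rel (M : Matrix I4 I4 F) (hM : M * J (Fin 2) F * Mᵀ = J (Fin 2) F) (a b c : F)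
    (hP : M.charpoly = X ^ 4 + C a * X ^ 3 + C b * X ^ 2 + C c * X + C 1) : M ^ 2 = 1 ∨ a = c := by
  have hae : aeval M (X ^ 4 + C a * X ^ 3 + C b * X ^ 2 + C c * X + C 1 : F[X]) = 0 := by
    rw [← hP]; exact Matrix.aeval_self_charpoly M
  have E1 : M ^ 4 + a • M ^ 3 + b • M ^ 2 + c • M + 1 = 0 := by
    have h := hae
    simp only [map_add, map_mul, map_pow, aeval_X, aeval_C, Algebra.algebraMap_eq_smul_one,
      smul_mul_assoc, one_mul, map_one] at h
    rw [← h]
  generalize hm : Mᵀ = m at hM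
  have E1t : m ^ 4 + a • m ^ 3 + b • m ^ 2 + c • m + 1 = 0 := by
    have h := congrArg Matrix.transpose E1
    simp only [Matrix.transpose_add, Matrix.transpose_smul,
      Matrix.transpose_pow, Matrix.transpose_one, Matrix.transpose_zero, hm] at h
    exact h
  have hJJ : J (Fin 2) F * J (Fin 2) F = -1 := J_squared (Fin 2) F
  generalize J (Fin 2) F = j at hM hJJ
  have hJJ' : j * -j = 1 := by rw [mul_neg, hJJ, neg_neg]
  set N : Matrix I4 I4 F := -j * m * j with hN
  have hMN : M * N = 1 := by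
    rw [hN]
    calc M * (-j * m * j) = -(M * j * m * j) := by simp only [neg_mul, mul_neg, mul_assoc]
      _ = 1 := by rw [hM, hJJ, neg_neg]
  have hNM : N * M = 1 := mul_eq_one_comm.mp hMN
  have hNk : ∀ k : ℕ, N ^ k = -j * m ^ k * j := by
    intro k
    induction k with
    | zero => rw [pow_zero, pow_zero, mul_one, neg_mul, hJJ, neg_neg]
    | succ k ih =>
      rw [pow_succ, ih, pow_succ, hN]
      calc -j * m ^ k * j * (-j * m * j) = -j * m ^ k * (j * -j) * m * j := by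
            simp only [mul_assoc]
        _ = -j * (m ^ k * m) * j := by rw [hJJ', mul_one]; simp only [mul_assoc]
  have E2 : N ^ 4 + a • N ^ 3 + b • N ^ 2 + c • N + 1 = 0 := by
    have h1 : N ^ 1 = -j * m * j := by rw [pow_one]
    have h0 : (1 : Matrix I4 I4 F) = -j * 1 * j := by rw [mul_one, neg_mul, hJJ, neg_neg]
    calc N ^ 4 + a • N ^ 3 + b • N ^ 2 + c • N + 1
        = -j * m ^ 4 * j + a • (-j * m ^ 3 * j) + b • (-j * m ^ 2 * j) + c • (-j * m * j) + -j * 1 * j := by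
          rw [hNk 4, hNk 3, hNk 2, ← h0]
      _ = -j * (m ^ 4 + a • m ^ 3 + b • m ^ 2 + c • m + 1) * j := by
          simp only [mul_add, add_mul, mul_smul_comm, smul_mul_assoc]
      _ = 0 := by rw [E1t, mul_zero, zero_mul]
  have hcomm : Commute M N := by
    show M * N = N * M
    rw [hMN, hNM]
  have hpw : ∀ k : ℕ, M ^ k * N ^ k = 1 := by
    intro k
    rw [← hcomm.mul_pow, hMN, one_pow]
  have p4 : M ^ 4 * N ^ 4 = 1 := hpw 4
  have p3 : M ^ 4 * N ^ 3 = M := by
    have : M ^ 4 = M * M ^ 3 := by rw [← pow_succ']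
    rw [this, mul_assoc, hpw 3, mul_one]
  have p2 : M ^ 4 * N ^ 2 = M ^ 2 := by
    have : M ^ 4 = M ^ 2 * M ^ 2 := by rw [← pow_add]
    rw [this, mul_assoc, hpw 2, mul_one]
  have p1 : M ^ 4 * N = M ^ 3 := by
    have : M ^ 4 = M ^ 3 * M := by rw [← pow_succ]
    rw [this, mul_assoc, hMN, mul_one]
  have E3 : 1 + a • M + b • M ^ 2 + c • M ^ 3 + M ^ 4 = 0 := by
    have h := congrArg (fun Z => M ^ 4 * Z) E2
    simp only [mul_add, mul_smul_comm, p4, p3, p2, p1, mul_one, mul_zero] at h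
    exact h
  have E4 : (a - c) • (M ^ 3 - M) = 0 := by
    have h : (M ^ 4 + a • M ^ 3 + b • M ^ 2 + c • M + 1) - (1 + a • M + b • M ^ 2 + c • M ^ 3 + M ^ 4) = 0 := by
      rw [E1, E3, sub_zero]
    rw [← h]
    module
  by_cases hac : a = c
  · exact Or.inr hac
  · left
    have h1 : M ^ 3 - M = 0 := by
      rcases smul_eq_zero.mp E4 with h | h
      · exact absurd (sub_eq_zero.mp h) hac
      · exact h
    have h2 : M ^ 3 = M := sub_eq_zero.mp h1
    have h3 : M ^ 3 * N = M ^ 2 := by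
      have : M ^ 3 = M ^ 2 * M := by rw [← pow_succ]
      rw [this, mul_assoc, hMN, mul_one]
    rw [← h3, h2, hMN]

theorem sp4_pow (hF : Fintype.card F = 3) (M : Matrix I4 I4 F) (hM : M ∈ symplecticGroup (Fin 2) F) :
    M ^ 2 = 1 ∨ M ^ 4 = -1 ∨ (M ^ 5 = 1 ∨ M ^ 5 = -1) ∨ (M ^ 6 = 1 ∨ M ^ 6 = -1) ∨ (M ^ 9 = 1 ∨ M ^ 9 = -1) ∨
      M ^ 12 = 1 := by
  have h3F : (3 : F) = 0 := three_eq_zero hF
  have h3 : (3 : F[X]) = 0 := by
    have h : (C (3 : F) : F[X]) = 0 := by rw [h3F, map_zero]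
    rwa [map_ofNat] at h
  obtain ⟨a, b, c, hP⟩ := charpoly_form M (SymplecticGroup.det_eq_one hM)
  rcases sp4_rel M (SymplecticGroup.mem_iff.mp hM) a b c hP with h2 | hac
  · exact Or.inl h2
  subst hac
  have hae : aeval M (X ^ 4 + C a * X ^ 3 + C b * X ^ 2 + C a * X + C 1 : F[X]) = 0 := by
    rw [← hP]; exact Matrix.aeval_self_charpoly M
  have finp : ∀ (n : ℕ) (Q : F[X]),
      (X ^ n - 1 : F[X]) = (X ^ 4 + C a * X ^ 3 + C b * X ^ 2 + C a * X + C 1) * Q → M ^ n = 1 := by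
    intro n Q h
    have h' := congrArg (aeval M) h
    rw [map_mul, hae, zero_mul, map_sub, map_pow, aeval_X, map_one] at h'
    exact sub_eq_zero.mp h'
  have finm : ∀ (n : ℕ) (Q : F[X]),
      (X ^ n + 1 : F[X]) = (X ^ 4 + C a * X ^ 3 + C b * X ^ 2 + C a * X + C 1) * Q → M ^ n = -1 := by
    intro n Q h
    have h' := congrArg (aeval M) h
    rw [map_mul, hae, zero_mul, map_add, map_pow, aeval_X, map_one] at h'
    exact eq_neg_of_add_eq_zero_left h'
  rcases elts hF a with rfl | rfl | rfl <;> rcases elts hF b with rfl | rfl | rfl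
  · -- a = 0, b = 0
    right; left
    refine finm 4 1 ?_
    simp only [map_zero, map_one, map_neg]
    linear_combination (0 : F[X]) * h3
  · -- a = 0, b = 1
    right; right; right; left; left
    refine finp 6 (-1 + X ^ 2) ?_
    simp only [map_zero, map_one, map_neg]
    linear_combination (0 : F[X]) * h3
  · -- a = 0, b = -1
    right; right; right; left; right
    refine finm 6 (1 + X ^ 2) ?_
    simp only [map_zero, map_one, map_neg]
    linear_combination (0 : F[X]) * h3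
  · -- a = 1, b = 0
    right; right; right; right; left; right
    refine finm 9 (1 - X + X ^ 2 + X ^ 3 - X ^ 4 + X ^ 5) ?_
    simp only [map_zero, map_one, map_neg]
    linear_combination (-X ^ 3 - X ^ 6 : F[X]) * h3
  · -- a = 1, b = 1
    right; right; left; left
    refine finp 5 (-1 + X) ?_
    simp only [map_zero, map_one, map_neg]
    linear_combination (0 : F[X]) * h3
  · -- a = 1, b = -1
    right; right; right; right; right
    refine finp 12 (-1 + X + X ^ 2 + X ^ 3 - X ^ 5 - X ^ 6 - X ^ 7 + X ^ 8) ?_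
    simp only [map_zero, map_one, map_neg]
    linear_combination (-X ^ 2 + X ^ 10 : F[X]) * h3
  · -- a = -1, b = 0
    right; right; right; right; left; left
    refine finp 9 (-1 - X - X ^ 2 + X ^ 3 + X ^ 4 + X ^ 5) ?_
    simp only [map_zero, map_one, map_neg]
    linear_combination (-X ^ 3 + X ^ 6 : F[X]) * h3
  · -- a = -1, b = 1
    right; right; left; right
    refine finm 5 (1 + X) ?_
    simp only [map_zero, map_one, map_neg]
    linear_combination (0 : F[X]) * h3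
  · -- a = -1, b = -1
    right; right; right; right; right
    refine finp 12 (-1 - X + X ^ 2 - X ^ 3 + X ^ 5 - X ^ 6 + X ^ 7 + X ^ 8) ?_
    simp only [map_zero, map_one, map_neg]
    linear_combination (-X ^ 2 + X ^ 10 : F[X]) * h3

end field

/-! ### the witnesses -/

/-- matrices over the prime field -/
abbrev M3 := Matrix I4 I4 (ZMod 3)

def wA : M3 := Matrix.fromBlocks !![1, 0; 0, 0] !![1, 0; 0, 2] !![0, 0; 0, 1] !![1, 0; 0, 0]
def wA2 : M3 := Matrix.fromBlocks !![1, 0; 0, 2] !![2, 0; 0, 0] !![0, 0; 0, 0] !![1, 0; 0, 2]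
def wA4 : M3 := Matrix.fromBlocks !![1, 0; 0, 1] !![1, 0; 0, 0] !![0, 0; 0, 0] !![1, 0; 0, 1]
def wA6 : M3 := Matrix.fromBlocks !![1, 0; 0, 2] !![0, 0; 0, 0] !![0, 0; 0, 0] !![1, 0; 0, 2]
def hA6 : M3 := Matrix.fromBlocks !![1, 0; 0, 1] !![0, 0; 0, 0] !![2, 2; 2, 2] !![1, 0; 0, 1]
def hA4 : M3 := Matrix.fromBlocks !![1, 0; 0, 1] !![0, 0; 0, 0] !![2, 0; 0, 0] !![1, 0; 0, 1]
def wB : M3 := Matrix.fromBlocks !![0, 1; 0, 0] !![0, 0; 2, 0] !![0, 0; 1, 2] !![1, 1; 0, 0]
def wB2 : M3 := Matrix.fromBlocks !![0, 0; 0, 0] !![2, 0; 2, 2] !![1, 2; 0, 1] !![1, 1; 1, 0]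
def wB3 : M3 := Matrix.fromBlocks !![0, 0; 2, 1] !![2, 2; 2, 2] !![1, 0; 0, 0] !![2, 1; 0, 1]
def wB6 : M3 := Matrix.fromBlocks !![2, 0; 1, 1] !![1, 1; 1, 1] !![2, 0; 0, 0] !![0, 2; 0, 1]
def hB3 : M3 := Matrix.fromBlocks !![1, 0; 0, 1] !![0, 0; 0, 0] !![0, 0; 0, 2] !![1, 0; 0, 1]
def wC : M3 := Matrix.fromBlocks !![0, 1; 0, 0] !![0, 0; 1, 0] !![0, 0; 2, 2] !![2, 1; 2, 0]
def wC2 : M3 := Matrix.fromBlocks !![0, 0; 0, 0] !![1, 0; 2, 1] !![2, 2; 0, 2] !![0, 2; 0, 2]
def wC4 : M3 := Matrix.fromBlocks !![2, 2; 1, 0] !![0, 2; 0, 0] !![0, 1; 0, 1] !![0, 0; 1, 0]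
def hC : M3 := Matrix.fromBlocks !![1, 0; 0, 1] !![0, 0; 0, 0] !![0, 0; 0, 2] !![1, 0; 0, 1]

set_option maxRecDepth 100000 in
theorem wA_a : wA * wA = wA2 := by decide +kernel
set_option maxRecDepth 100000 in
theorem wA_b : wA2 * wA2 = wA4 := by decide +kernel
set_option maxRecDepth 100000 in
theorem wA_c : wA4 * wA2 = wA6 := by decide +kernel
set_option maxRecDepth 100000 in
theorem wA_d : wA6 * wA6 = 1 := by decide +kernel
set_option maxRecDepth 100000 in
theorem wA_nc6 : wA6 * hA6 ≠ hA6 * wA6 := by decide +kernel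
set_option maxRecDepth 100000 in
theorem wA_nc4 : wA4 * hA4 ≠ hA4 * wA4 := by decide +kernel
set_option maxRecDepth 100000 in
theorem wA_mem : wA * J (Fin 2) (ZMod 3) * wAᵀ = J (Fin 2) (ZMod 3) := by decide +kernel
set_option maxRecDepth 100000 in
theorem hA6_mem : hA6 * J (Fin 2) (ZMod 3) * hA6ᵀ = J (Fin 2) (ZMod 3) := by decide +kernel
set_option maxRecDepth 100000 in
theorem hA4_mem : hA4 * J (Fin 2) (ZMod 3) * hA4ᵀ = J (Fin 2) (ZMod 3) := by decide +kernel
set_option maxRecDepth 100000 in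
theorem wB_a : wB * wB = wB2 := by decide +kernel
set_option maxRecDepth 100000 in
theorem wB_b : wB2 * wB = wB3 := by decide +kernel
set_option maxRecDepth 100000 in
theorem wB_c : wB3 * wB3 = wB6 := by decide +kernel
set_option maxRecDepth 100000 in
theorem wB_d : wB6 * wB3 = 1 := by decide +kernel
set_option maxRecDepth 100000 in
theorem wB_nc3 : wB3 * hB3 ≠ hB3 * wB3 := by decide +kernel
set_option maxRecDepth 100000 in
theorem wB_mem : wB * J (Fin 2) (ZMod 3) * wBᵀ = J (Fin 2) (ZMod 3) := by decide +kernel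
set_option maxRecDepth 100000 in
theorem hB3_mem : hB3 * J (Fin 2) (ZMod 3) * hB3ᵀ = J (Fin 2) (ZMod 3) := by decide +kernel
set_option maxRecDepth 100000 in
theorem wC_a : wC * wC = wC2 := by decide +kernel
set_option maxRecDepth 100000 in
theorem wC_b : wC2 * wC2 = wC4 := by decide +kernel
set_option maxRecDepth 100000 in
theorem wC_c : wC4 * wC = 1 := by decide +kernel
set_option maxRecDepth 100000 in
theorem wC_nc : wC * hC ≠ hC * wC := by decide +kernel
set_option maxRecDepth 100000 in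
theorem wC_mem : wC * J (Fin 2) (ZMod 3) * wCᵀ = J (Fin 2) (ZMod 3) := by decide +kernel
set_option maxRecDepth 100000 in
theorem hC_mem : hC * J (Fin 2) (ZMod 3) * hCᵀ = J (Fin 2) (ZMod 3) := by decide +kernel

theorem wA_pow2 : wA ^ 2 = wA2 := by rw [pow_two, wA_a]

theorem wA_pow4 : wA ^ 4 = wA4 := by
  have h : wA ^ 4 = (wA ^ 2) ^ 2 := by rw [← pow_mul]
  rw [h, wA_pow2, pow_two, wA_b]

theorem wA_pow6 : wA ^ 6 = wA6 := by
  have h : wA ^ 6 = wA ^ 4 * wA ^ 2 := by rw [← pow_add]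
  rw [h, wA_pow4, wA_pow2, wA_c]

theorem wA_pow12 : wA ^ 12 = 1 := by
  have h : wA ^ 12 = (wA ^ 6) ^ 2 := by rw [← pow_mul]
  rw [h, wA_pow6, pow_two, wA_d]

theorem wB_pow3 : wB ^ 3 = wB3 := by
  have h : wB ^ 3 = wB * wB * wB := by rw [pow_succ, pow_two]
  rw [h, wB_a, wB_b]

theorem wB_pow9 : wB ^ 9 = 1 := by
  have h : wB ^ 9 = (wB ^ 3) * (wB ^ 3) * (wB ^ 3) := by rw [← pow_add, ← pow_add]
  rw [h, wB_pow3, wB_c, wB_d]

theorem wC_pow5 : wC ^ 5 = 1 := by
  have h2 : wC ^ 2 = wC2 := by rw [pow_two, wC_a]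
  have h : wC ^ 5 = (wC ^ 2) * (wC ^ 2) * wC := by rw [← pow_add, ← pow_succ]
  rw [h, h2, wC_b, wC_c]

/-- the symplectic group over the prime field -/
abbrev Sp3 := symplecticGroup (Fin 2) (ZMod 3)

def xA : Sp3 := ⟨wA, SymplecticGroup.mem_iff.mpr wA_mem⟩
def yA6 : Sp3 := ⟨hA6, SymplecticGroup.mem_iff.mpr hA6_mem⟩
def yA4 : Sp3 := ⟨hA4, SymplecticGroup.mem_iff.mpr hA4_mem⟩
def xB : Sp3 := ⟨wB, SymplecticGroup.mem_iff.mpr wB_mem⟩
def yB3 : Sp3 := ⟨hB3, SymplecticGroup.mem_iff.mpr hB3_mem⟩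
def xC : Sp3 := ⟨wC, SymplecticGroup.mem_iff.mpr wC_mem⟩
def yC : Sp3 := ⟨hC, SymplecticGroup.mem_iff.mpr hC_mem⟩

theorem ord_pow {G : Type*} [Monoid G] (x : G) (a k b : ℕ) (hx : orderOf x = a) (hk : k ≠ 0)
    (hb : a / Nat.gcd a k = b) : orderOf (x ^ k) = b := by
  rw [orderOf_pow' x hk, hx, hb]

section lower

variable {F : Type*} [Field F]

/-- base change of symplectic matrices -/
def Psi (φ : ZMod 3 →+* F) : Sp3 →* symplecticGroup (Fin 2) F where
  toFun A := ⟨A.1.map φ, SymplecticGroup.map_mem A.2 φ⟩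
  map_one' := Subtype.ext (Matrix.map_one φ (map_zero φ) (map_one φ))
  map_mul' _ _ := Subtype.ext (Matrix.map_mul)

theorem Psi_injective (φ : ZMod 3 →+* F) : Function.Injective (Psi φ) := by
  intro A B h
  apply Subtype.ext
  have h1 : A.1.map φ = B.1.map φ := congrArg Subtype.val h
  exact Matrix.map_injective φ.injective h1

theorem order_mk (φ : ZMod 3 →+* F) {n : ℕ} (hn : 0 < n) (x0 : Sp3) (hx : x0.1 ^ n = 1)
    (hd : ∀ p : ℕ, p.Prime → p ∣ n → ∃ h0 : Sp3, x0.1 ^ (n / p) * h0.1 ≠ h0.1 * x0.1 ^ (n / p)) :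
    orderOf (QuotientGroup.mk (Psi φ x0) : Cfsg.PSp 2 F) = n := by
  refine orderOf_eq_of_pow_and_pow_div_prime hn ?_ ?_
  · rw [← QuotientGroup.mk_pow, ← map_pow]
    have h1 : x0 ^ n = 1 := Subtype.ext (by rw [SubmonoidClass.coe_pow, hx]; rfl)
    rw [h1, map_one]
    rfl
  · intro p hp hpn h
    obtain ⟨h0, hh⟩ := hd p hp hpn
    rw [← QuotientGroup.mk_pow, ← map_pow, QuotientGroup.eq_one_iff] at h
    have hc := Subgroup.mem_center_iff.mp h (Psi φ h0)
    rw [← map_mul, ← map_mul] at hc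
    have h2 := congrArg Subtype.val (Psi_injective φ hc)
    apply hh
    have h3 : h0.1 * x0.1 ^ (n / p) = x0.1 ^ (n / p) * h0.1 := by
      rw [← SubmonoidClass.coe_pow]
      exact h2
    exact h3.symm

theorem prime_dvd_12 {p : ℕ} (hp : p.Prime) (h : p ∣ 12) : p = 2 ∨ p = 3 := by
  have h' : p ∣ 2 ^ 2 * 3 := h
  rcases (Nat.Prime.dvd_mul hp).mp h' with h1 | h1
  · exact Or.inl ((Nat.prime_dvd_prime_iff_eq hp Nat.prime_two).mp (hp.dvd_of_dvd_pow h1))
  · exact Or.inr ((Nat.prime_dvd_prime_iff_eq hp Nat.prime_three).mp h1)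

theorem prime_dvd_9 {p : ℕ} (hp : p.Prime) (h : p ∣ 9) : p = 3 := by
  have h' : p ∣ 3 ^ 2 := h
  exact (Nat.prime_dvd_prime_iff_eq hp Nat.prime_three).mp (hp.dvd_of_dvd_pow h')

theorem prime_dvd_5 {p : ℕ} (hp : p.Prime) (h : p ∣ 5) : p = 5 :=
  (Nat.prime_dvd_prime_iff_eq hp Nat.prime_five).mp h

theorem ord12 (φ : ZMod 3 →+* F) : orderOf (QuotientGroup.mk (Psi φ xA) : Cfsg.PSp 2 F) = 12 := by
  refine order_mk φ (by norm_num) xA wA_pow12 ?_
  intro p hp hpn
  rcases prime_dvd_12 hp hpn with rfl | rfl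
  · refine ⟨yA6, ?_⟩
    show wA ^ (12 / 2) * hA6 ≠ hA6 * wA ^ (12 / 2)
    rw [show 12 / 2 = 6 from rfl, wA_pow6]
    exact wA_nc6
  · refine ⟨yA4, ?_⟩
    show wA ^ (12 / 3) * hA4 ≠ hA4 * wA ^ (12 / 3)
    rw [show 12 / 3 = 4 from rfl, wA_pow4]
    exact wA_nc4

theorem ord9 (φ : ZMod 3 →+* F) : orderOf (QuotientGroup.mk (Psi φ xB) : Cfsg.PSp 2 F) = 9 := by
  refine order_mk φ (by norm_num) xB wB_pow9 ?_
  intro p hp hpn
  obtain rfl := prime_dvd_9 hp hpn
  refine ⟨yB3, ?_⟩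
  show wB ^ (9 / 3) * hB3 ≠ hB3 * wB ^ (9 / 3)
  rw [show 9 / 3 = 3 from rfl, wB_pow3]
  exact wB_nc3

theorem ord5 (φ : ZMod 3 →+* F) : orderOf (QuotientGroup.mk (Psi φ xC) : Cfsg.PSp 2 F) = 5 := by
  refine order_mk φ (by norm_num) xC wC_pow5 ?_
  intro p hp hpn
  obtain rfl := prime_dvd_5 hp hpn
  refine ⟨yC, ?_⟩
  show wC ^ (5 / 5) * hC ≠ hC * wC ^ (5 / 5)
  rw [show 5 / 5 = 1 from rfl, pow_one]
  exact wC_nc

end lower

section final

variable {F : Type*} [Field F] [Fintype F]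

theorem orderOf_mem (hF : Fintype.card F = 3) (x : Cfsg.PSp 2 F) : orderOf x ∈ SP := by
  obtain ⟨g, rfl⟩ := QuotientGroup.mk_surjective x
  have key : ∀ n : ℕ, (g.1 ^ n = 1 ∨ g.1 ^ n = -1) →
      orderOf (QuotientGroup.mk g : Cfsg.PSp 2 F) ∣ n := by
    intro n h
    apply orderOf_dvd_of_pow_eq_one
    rw [← QuotientGroup.mk_pow, QuotientGroup.eq_one_iff, Subgroup.mem_center_iff]
    intro z
    apply Subtype.ext
    show z.1 * (g ^ n).1 = (g ^ n).1 * z.1
    rw [SubmonoidClass.coe_pow]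
    rcases h with h | h
    · rw [h, mul_one, one_mul]
    · rw [h, mul_neg, neg_mul, mul_one, one_mul]
  apply mem_SP_of_dvd
  rcases sp4_pow hF g.1 g.2 with h | h | h | h | h | h
  · exact Or.inl (key 2 (Or.inl h))
  · exact Or.inr (Or.inl (key 4 (Or.inr h)))
  · exact Or.inr (Or.inr (Or.inl (key 5 h)))
  · exact Or.inr (Or.inr (Or.inr (Or.inl (key 6 h))))
  · exact Or.inr (Or.inr (Or.inr (Or.inr (Or.inl (key 9 h)))))
  · exact Or.inr (Or.inr (Or.inr (Or.inr (Or.inr (key 12 (Or.inl h))))))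

/-- **the spectrum of `PSp(4,3)`** -/
theorem spec_psp43 {F : Type*} [Field F] [Fintype F] (hF : Fintype.card F = 3) :
    Set.range (orderOf : Cfsg.PSp 2 F → ℕ) = {1, 2, 3, 4, 5, 6, 9, 12} := by
  apply Set.eq_of_subset_of_subset
  · rintro _ ⟨x, rfl⟩
    exact orderOf_mem hF x
  · intro n hn
    have : Fact (Nat.Prime 3) := ⟨Nat.prime_three⟩
    have := charP_of_card_eq_prime hF
    let φ : ZMod 3 →+* F := ZMod.castHom (dvd_refl 3) F
    have o12 := ord12 φ
    have o9 := ord9 φ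
    have o5 := ord5 φ
    simp only [Set.mem_insert_iff, Set.mem_singleton_iff] at hn
    rcases hn with rfl | rfl | rfl | rfl | rfl | rfl | rfl | rfl
    · exact ⟨1, orderOf_one⟩
    · exact ⟨_, ord_pow _ 12 6 2 o12 (by norm_num) (by norm_num)⟩
    · exact ⟨_, ord_pow _ 12 4 3 o12 (by norm_num) (by norm_num)⟩
    · exact ⟨_, ord_pow _ 12 3 4 o12 (by norm_num) (by norm_num)⟩
    · exact ⟨_, o5⟩
    · exact ⟨_, ord_pow _ 12 2 6 o12 (by norm_num) (by norm_num)⟩
    · exact ⟨_, o9⟩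
    · exact ⟨_, o12⟩

end final

end Cfsg.Agent.Lib.Helper10.SpecPSp43
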