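import Cfsg.Agent.Lib.Helper28.Srg77.Psd

set_option autoImplicit false
set_option linter.unusedSectionVars false
set_option linter.unusedVariables false

/-!
Piece [K] of the uniqueness of srg(77,16,0,4): exactly two cocliques of size 21 contain a
given line.
-/

namespace Cfsg.Agent.Lib.Helper28.Srg77

open Finset Classical

variable {V : Type*} [Fintype V] {G : SimpleGraph V}

namespace Helper10

/-- a line is a coclique -/
theorem line_coclique (h4 : P4 G) {L : Finset V} (hL : IsLine G L) : IsCoclique G L := by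
  obtain ⟨a, b, hab, rfl⟩ := hL
  intro x hx y hy hadj
  by_cases hxy : x = y
  · subst hxy; exact G.irrefl hadj
  · exact (h4.perp_of_mem a b hab x hx y hy hxy).2 hadj

theorem line_card (h4 : P4 G) {L : Finset V} (hL : IsLine G L) : L.card = 5 := by
  obtain ⟨a, b, hab, rfl⟩ := hL
  exact h4.card_line a b hab

theorem disjoint_T (L : Finset V) : Disjoint L (Tset G L) := by
  rw [Finset.disjoint_left]
  intro x hx hxT
  exact (mem_Tset.1 hxT).1 hx

/-- the complement in `T` of a 16-coclique of `T` is a coclique -/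
theorem compl_coclique (h6 : P6 G) {L : Finset V} (hL : IsLine G L)
    (hT : (Tset G L).card = 32)
    {A : Finset V} (hA : A ⊆ Tset G L) (hAc : A.card = 16) (hAco : IsCoclique G A) :
    IsCoclique G (Tset G L \ A) := by
  have hBc : (Tset G L \ A).card = 16 := by
    rw [card_sdiff_of_subset hA, hT, hAc]
  have h1 : ∀ a ∈ A, ((Tset G L \ A).filter (fun u => G.Adj a u)).card = 6 := by
    intro a ha
    rw [← h6 L hL a (hA ha)]
    congr 1
    ext u
    simp only [mem_filter, mem_sdiff]
    constructor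
    · rintro ⟨⟨huT, _⟩, hadj⟩; exact ⟨huT, hadj⟩
    · rintro ⟨huT, hadj⟩; exact ⟨⟨huT, fun huA => hAco a ha u huA hadj⟩, hadj⟩
  have h2 : ∀ b ∈ Tset G L \ A, (A.filter (fun u => G.Adj b u)).card
      + ((Tset G L \ A).filter (fun u => G.Adj b u)).card = 6 := by
    intro b hb
    rw [← h6 L hL b (mem_sdiff.1 hb).1]
    rw [← card_union_of_disjoint (disjoint_filter_filter disjoint_sdiff)]
    congr 1
    rw [← filter_union, union_sdiff_of_subset hA]
  have h3 : ∑ a ∈ A, ((Tset G L \ A).filter (fun u => G.Adj a u)).card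
      = ∑ b ∈ Tset G L \ A, (A.filter (fun u => G.Adj b u)).card := by
    simp only [card_filter]
    rw [sum_comm]
    apply sum_congr rfl; intro b _; apply sum_congr rfl; intro a _
    simp only [G.adj_comm]
  have h4 : ∑ b ∈ Tset G L \ A, ((A.filter (fun u => G.Adj b u)).card
      + ((Tset G L \ A).filter (fun u => G.Adj b u)).card) = 96 := by
    rw [sum_congr rfl h2, sum_const, hBc]; rfl
  have h5 : ∑ a ∈ A, ((Tset G L \ A).filter (fun u => G.Adj a u)).card = 96 := by
    rw [sum_congr rfl h1, sum_const, hAc]; rfl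
  have h6' : ∑ b ∈ Tset G L \ A, ((Tset G L \ A).filter (fun u => G.Adj b u)).card = 0 := by
    rw [sum_add_distrib, ← h3, h5] at h4
    omega
  intro x hx y hy hadj
  have := (sum_eq_zero_iff.1 h6') x hx
  rw [card_eq_zero] at this
  have hy' : y ∈ (Tset G L \ A).filter (fun u => G.Adj x u) := mem_filter.2 ⟨hy, hadj⟩
  rw [this] at hy'
  exact absurd hy' (notMem_empty y)

/-- facts about a 21-coclique through a line -/
theorem coclique_facts (h4 : P4 G) (h6 : P6 G) {L : Finset V} (hL : IsLine G L)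
    (hT : (Tset G L).card = 32) {D : Finset V} (hDc : D.card = 21) (hDco : IsCoclique G D)
    (hLD : L ⊆ D) :
    D \ L ⊆ Tset G L ∧ (D \ L).card = 16 ∧ IsCoclique G (D \ L) ∧
      IsCoclique G (Tset G L \ (D \ L)) := by
  have hsub : D \ L ⊆ Tset G L := by
    intro v hv
    rw [mem_sdiff] at hv
    exact mem_Tset.2 ⟨hv.2, fun x hx => hDco v hv.1 x (hLD hx)⟩
  have hcard : (D \ L).card = 16 := by
    rw [card_sdiff_of_subset hLD, hDc, line_card h4 hL]
  have hco : IsCoclique G (D \ L) := fun x hx y hy =>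
    hDco x (mem_sdiff.1 hx).1 y (mem_sdiff.1 hy).1
  exact ⟨hsub, hcard, hco, compl_coclique h6 hL hT hsub hcard hco⟩

end Helper10

/-- [K] -/
theorem p11 (hG : M22Like G) (h4 : P4 G) (h5 : P5 G) (h6 : P6 G) (h7 : P7 G) (h9 : P9 G) :
    P11 G := by
  intro L hL
  have hLc := Helper10.line_card h4 hL
  have hLco := Helper10.line_coclique h4 hL
  have hT := h5.card_T L hL
  have hdis := Helper10.disjoint_T (G := G) L
  have hTne : (Tset G L).Nonempty := by rw [← card_pos, hT]; norm_num
  obtain ⟨z, hz⟩ := hTne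
  obtain ⟨C1, hLC1, hzC1, hC1c, hC1co⟩ := h9 L hL z hz
  obtain ⟨hA1T, hA1c, hA1co, hA2co⟩ := Helper10.coclique_facts h4 h6 hL hT hC1c hC1co hLC1
  have hA2T : Tset G L \ (C1 \ L) ⊆ Tset G L := sdiff_subset
  have hA2c : (Tset G L \ (C1 \ L)).card = 16 := by
    rw [card_sdiff_of_subset hA1T, hT, hA1c]
  have hdis2 : Disjoint L (Tset G L \ (C1 \ L)) := hdis.mono_right hA2T
  -- the second coclique
  have hC2c : (L ∪ (Tset G L \ (C1 \ L))).card = 21 := by
    rw [card_union_of_disjoint hdis2, hLc, hA2c]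
  have hC2co : IsCoclique G (L ∪ (Tset G L \ (C1 \ L))) := by
    intro x hx y hy hadj
    rw [mem_union] at hx hy
    rcases hx with hx | hx <;> rcases hy with hy | hy
    · exact hLco x hx y hy hadj
    · exact (mem_Tset.1 (hA2T hy)).2 x hx hadj.symm
    · exact (mem_Tset.1 (hA2T hx)).2 y hy hadj
    · exact hA2co x hx y hy hadj
  have hC1eq : C1 = L ∪ (C1 \ L) := (union_sdiff_of_subset hLC1).symm
  have hne : C1 ≠ L ∪ (Tset G L \ (C1 \ L)) := by
    intro h
    have hz1 : z ∈ L ∪ (Tset G L \ (C1 \ L)) := h ▸ hzC1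
    rw [mem_union, mem_sdiff, mem_sdiff] at hz1
    rcases hz1 with hz1 | hz1
    · exact (mem_Tset.1 hz).1 hz1
    · exact hz1.2 ⟨hzC1, (mem_Tset.1 hz).1⟩
  have hall : ∀ D : Finset V, D.card = 21 → IsCoclique G D → L ⊆ D →
      D = C1 ∨ D = L ∪ (Tset G L \ (C1 \ L)) := by
    intro D hDc hDco hLD
    obtain ⟨hD1T, hD1c, hD1co, hD2co⟩ := Helper10.coclique_facts h4 h6 hL hT hDc hDco hLD
    have hDeq : D = L ∪ (D \ L) := (union_sdiff_of_subset hLD).symm
    -- U = (A1 ∩ D1) ∪ (A2 ∩ D2)
    have hU := h7 L hL (((C1 \ L) ∩ (D \ L)) ∪ ((Tset G L \ (C1 \ L)) ∩ (Tset G L \ (D \ L))))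
      (by
        intro u hu
        rw [mem_union, mem_inter, mem_inter] at hu
        rcases hu with hu | hu
        · exact hA1T hu.1
        · exact hA2T hu.1)
      (by
        intro u hu v hv hadj
        rw [mem_sdiff, mem_union, mem_inter, mem_inter] at hv
        rw [mem_union, mem_inter, mem_inter] at hu
        obtain ⟨hvT, hvU⟩ := hv
        rw [not_or] at hvU
        by_cases hvA : v ∈ C1 \ L
        · have hvD : v ∈ Tset G L \ (D \ L) := mem_sdiff.2 ⟨hvT, fun h => hvU.1 ⟨hvA, h⟩⟩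
          rcases hu with hu | hu
          · exact hA1co u hu.1 v hvA hadj
          · exact hD2co u hu.2 v hvD hadj
        · have hvA2 : v ∈ Tset G L \ (C1 \ L) := mem_sdiff.2 ⟨hvT, hvA⟩
          have hvD : v ∈ D \ L := by
            by_contra hvD
            exact hvU.2 ⟨hvA2, mem_sdiff.2 ⟨hvT, hvD⟩⟩
          rcases hu with hu | hu
          · exact hD1co u hu.2 v hvD hadj
          · exact hA2co u hu.1 v hvA2 hadj)
    rcases hU with hU | hU
    · -- U = ∅ : D1 ⊆ A2
      right
      have hsub : D \ L ⊆ Tset G L \ (C1 \ L) := by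
        intro v hv
        refine mem_sdiff.2 ⟨hD1T hv, fun hvA => ?_⟩
        have : v ∈ ((C1 \ L) ∩ (D \ L)) ∪ ((Tset G L \ (C1 \ L)) ∩ (Tset G L \ (D \ L))) :=
          mem_union_left _ (mem_inter.2 ⟨hvA, hv⟩)
        rw [hU] at this
        exact notMem_empty v this
      have : D \ L = Tset G L \ (C1 \ L) :=
        eq_of_subset_of_card_le hsub (by rw [hA2c, hD1c])
      rw [hDeq, this]
    · -- U = T : A1 ⊆ D1
      left
      have hsub : C1 \ L ⊆ D \ L := by
        intro v hv
        have hvT : v ∈ Tset G L := hA1T hv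
        rw [← hU, mem_union, mem_inter, mem_inter] at hvT
        rcases hvT with hvT | hvT
        · exact hvT.2
        · exact absurd hv (mem_sdiff.1 hvT.1).2
      have : C1 \ L = D \ L :=
        eq_of_subset_of_card_le hsub (by rw [hA1c, hD1c])
      rw [hDeq, ← this, ← hC1eq]
  have hfilter : (univ.filter (fun D : Finset V => D.card = 21 ∧ IsCoclique G D ∧ L ⊆ D))
      = {C1, L ∪ (Tset G L \ (C1 \ L))} := by
    ext D
    simp only [mem_filter, mem_univ, true_and, mem_insert, mem_singleton]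
    constructor
    · rintro ⟨h1, h2, h3⟩; exact hall D h1 h2 h3
    · rintro (rfl | rfl)
      · exact ⟨hC1c, hC1co, hLC1⟩
      · exact ⟨hC2c, hC2co, subset_union_left⟩
  rw [hfilter, card_pair hne]

end Cfsg.Agent.Lib.Helper28.Srg77
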