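import Cfsg.Agent.Lib.Helper26.StCCGen

set_option autoImplicit false

/-! Steinberg's Theorem 10, Part A, piece [A4] = [A-H] (helper10): commutators of elements of the
torus `H̄ = S.H0` of a group with root elements (`StRep`) are central. The proof body lives in the
sub-namespace `Helper10`; the statement is exported under the two names asked for by the two
skeletons. -/

namespace Cfsg.Agent.Lib.Helper26.StCC

open Cfsg.Lie Cfsg.Agent.Lib.Helper8.Chev
open scoped commutatorElement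

variable {D : ChevalleyDatum} {K : Type*} [Field K] {Γ : Type*} [Group Γ]

namespace Helper10

/-- an element commuting with all root elements is central -/
theorem mem_center_of_commute_x (S : StRep D K Γ) {c : Γ}
    (h : ∀ r < D.nroots, ∀ t : K, S.x r t * c = c * S.x r t) : c ∈ Subgroup.center Γ := by
  have hcomm : ∀ γ ∈ Subgroup.closure {g : Γ | ∃ r < D.nroots, ∃ t : K, g = S.x r t},
      γ * c = c * γ := by
    intro γ hγ
    induction hγ using Subgroup.closure_induction with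
    | mem γ hγ =>
      obtain ⟨r, hr, t, rfl⟩ := hγ
      exact h r hr t
    | one => simp
    | mul a b _ _ ha hb => rw [mul_assoc, hb, ← mul_assoc, ha, mul_assoc]
    | inv a _ ha =>
      calc a⁻¹ * c = a⁻¹ * (c * a) * a⁻¹ := by group
        _ = a⁻¹ * (a * c) * a⁻¹ := by rw [ha]
        _ = c * a⁻¹ := by group
  rw [Subgroup.mem_center_iff]
  intro γ
  exact hcomm γ (by rw [S.gen]; exact Subgroup.mem_top _)

/-- the action of the inverse of an element acting by scalars -/
theorem inv_conj_of_conj (S : StRep D K Γ) {g : Γ} {f : ℕ → K} {s : ℕ} (hf : f s ≠ 0)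
    (e : ∀ u : K, g * S.x s u * g⁻¹ = S.x s (f s * u)) (u : K) :
    g⁻¹ * S.x s u * g = S.x s ((f s)⁻¹ * u) := by
  have := e ((f s)⁻¹ * u)
  rw [← mul_assoc, mul_inv_cancel₀ hf, one_mul] at this
  rw [← this]
  group

theorem H0_comm_mem_center_aux (S : StRep D K Γ) {g g' : Γ} (hg : g ∈ S.H0) (hg' : g' ∈ S.H0) :
    ⁅g, g'⁆ ∈ Subgroup.center Γ := by
  obtain ⟨f, hf, e⟩ := S.tl_of_mem_H0 hg
  obtain ⟨f', hf', e'⟩ := S.tl_of_mem_H0 hg'
  apply mem_center_of_commute_x S
  intro s hs u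
  have h1 := inv_conj_of_conj S (hf s hs).1 (e s hs)
  have h2 := inv_conj_of_conj S (hf' s hs).1 (e' s hs)
  -- the commutator fixes `x_s(u)` under conjugation
  have key : ⁅g, g'⁆ * S.x s u * ⁅g, g'⁆⁻¹ = S.x s u := by
    have e0 : ⁅g, g'⁆ * S.x s u * ⁅g, g'⁆⁻¹ =
        g * (g' * (g⁻¹ * (g'⁻¹ * S.x s u * g') * g) * g'⁻¹) * g⁻¹ := by
      simp only [commutatorElement_def]
      group
    rw [e0, h2, h1, e' s hs, e s hs]
    congr 1
    have hfs := (hf s hs).1
    have hfs' := (hf' s hs).1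
    field_simp
  calc S.x s u * ⁅g, g'⁆ = (⁅g, g'⁆ * S.x s u * ⁅g, g'⁆⁻¹)⁻¹⁻¹ * ⁅g, g'⁆ := by rw [key, inv_inv]
    _ = ⁅g, g'⁆ * S.x s u * ⁅g, g'⁆⁻¹ * ⁅g, g'⁆ := by rw [inv_inv]
    _ = ⁅g, g'⁆ * S.x s u := by group

end Helper10

/-- [A4] commutators of torus elements are central -/
theorem H0_comm_mem_center (S : StRep D K Γ) {g g' : Γ} (hg : g ∈ S.H0) (hg' : g' ∈ S.H0) :
    ⁅g, g'⁆ ∈ Subgroup.center Γ :=
  Helper10.H0_comm_mem_center_aux S hg hg'

end Cfsg.Agent.Lib.Helper26.StCC
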