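import Cfsg.Agent.Lib.Helper10.StCCA4

set_option autoImplicit false

/-! Steinberg's Theorem 10, Part A, piece [A-H] (helper10): the statement of
`Lib/Helper10/StCCA4.lean` under the name of helper14's skeleton. -/

namespace Cfsg.Agent.Lib.Helper14.StCC.A

open Cfsg.Lie Cfsg.Agent.Lib.Helper8.Chev
open scoped commutatorElement

variable {D : ChevalleyDatum} {K : Type*} [Field K] {Γ : Type*} [Group Γ]

/-- [A-H] commutators of elements of the torus `H0` are central -/
theorem H0_comm_mem_center (S : StRep D K Γ) {g h : Γ} (hg : g ∈ S.H0) (hh : h ∈ S.H0) :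
    ⁅g, h⁆ ∈ Subgroup.center Γ :=
  Cfsg.Agent.Lib.Helper26.StCC.Helper10.H0_comm_mem_center_aux S hg hh

end Cfsg.Agent.Lib.Helper14.StCC.A
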