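import Mathlib

/-!
Counting and arithmetic lemmas for the cyclic symplectic theorem.
-/

set_option autoImplicit false

namespace Cfsg.Agent.Lib.Helper10.SympCyc

open Finset

section Count

variable {G₀ : Type*} [CommGroup G₀] [Fintype G₀]

/-- a function on a finite commutative group invariant under a subgroup has total mass divisible
by the order of the subgroup. -/
theorem card_dvd_sum_of_invariant (Γ : Subgroup G₀) (c : G₀ → ℕ)
    (hc : ∀ γ ∈ Γ, ∀ u, c (γ * u) = c u) : Nat.card Γ ∣ ∑ u, c u := by
  classical
  let cbar : G₀ ⧸ Γ → ℕ := Quotient.lift c (by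
    intro a b hab
    have h1 : a⁻¹ * b ∈ Γ := QuotientGroup.leftRel_apply.mp hab
    have h2 := hc (a⁻¹ * b) h1 a
    rw [mul_comm, ← mul_assoc, mul_inv_cancel, one_mul] at h2
    exact h2.symm)
  have h1 : ∀ u, c u = cbar (QuotientGroup.mk u) := fun u => rfl
  simp_rw [h1]
  rw [Finset.sum_comp]
  apply Finset.dvd_sum
  intro q _
  have h2 : #{a ∈ (univ : Finset G₀) | (QuotientGroup.mk a : G₀ ⧸ Γ) = q} = Nat.card Γ := by
    have h3 := QuotientGroup.card_preimage_mk Γ ({q} : Set (G₀ ⧸ Γ))
    rw [Nat.card_coe_set_eq ({q} : Set (G₀ ⧸ Γ)), Set.ncard_singleton, mul_one] at h3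
    rw [← h3, Nat.card_eq_fintype_card, Fintype.card_subtype]
    congr 1
    ext a
    simp only [Finset.mem_filter, Finset.mem_univ, true_and, Set.mem_preimage,
      Set.mem_singleton_iff]
  rw [h2, smul_eq_mul]
  exact dvd_mul_right _ _

end Count

section Arith

/-- the arithmetic heart: if the subgroup generated by `a` and `-1` in the units of `ZMod h`
has order dividing `2 * n`, then `a ^ n = ± 1`. -/
theorem pow_eq_one_or_neg_one {h : ℕ} [NeZero h] (a : (ZMod h)ˣ) (n : ℕ)
    (hdvd : Nat.card (Subgroup.closure ({a, -1} : Set (ZMod h)ˣ)) ∣ 2 * n) :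
    a ^ n = 1 ∨ a ^ n = -1 := by
  classical
  obtain ⟨Γ, hΓ⟩ : ∃ Γ : Subgroup (ZMod h)ˣ, Γ = Subgroup.closure ({a, -1} : Set (ZMod h)ˣ) :=
    ⟨_, rfl⟩
  rw [← hΓ] at hdvd
  have haΓ : a ∈ Γ := by rw [hΓ]; exact Subgroup.subset_closure (by simp)
  have hnΓ : (-1 : (ZMod h)ˣ) ∈ Γ := by rw [hΓ]; exact Subgroup.subset_closure (by simp)
  have hCΓ : Subgroup.zpowers a ≤ Γ := by rw [Subgroup.zpowers_le]; exact haΓ
  have hd : orderOf a ∣ Nat.card Γ := by
    rw [← Nat.card_zpowers]
    exact Subgroup.card_dvd_of_le hCΓ
  by_cases hneg : (-1 : (ZMod h)ˣ) ∈ Subgroup.zpowers a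
  · -- `-1` is a power of `a`
    have h2n : a ^ (2 * n) = 1 := orderOf_dvd_iff_pow_eq_one.mp (hd.trans hdvd)
    by_cases h11 : (-1 : (ZMod h)ˣ) = 1
    · -- then squares: use the cyclic group
      -- in this case the statement `a^n = -1` is the same as `a^n = 1`; we show `(a^n)^2 = 1`
      -- and use the cyclic group with at most two solutions anyway
      have hx : (a ^ n) ^ 2 = 1 := by rw [← pow_mul, mul_comm]; exact h2n
      -- `h ∣ 2`, so the unit group is trivial
      have h3 : ((-1 : (ZMod h)ˣ) : ZMod h) = 1 := by rw [h11]; rfl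
      have h4 : (2 : ZMod h) = 0 := by
        have : (1 : ZMod h) + 1 = 0 := by
          have h5 : ((-1 : (ZMod h)ˣ) : ZMod h) = -1 := rfl
          rw [h5] at h3
          calc (1 : ZMod h) + 1 = 1 + -(-1) := by ring
            _ = 1 + -1 := by
                congr 2
            _ = 0 := by ring
        calc (2 : ZMod h) = 1 + 1 := by ring
          _ = 0 := this
      have h5 : h ∣ 2 := by
        have := (ZMod.natCast_eq_zero_iff 2 h).mp (by exact_mod_cast h4)
        exact this
      have h6 : h = 1 ∨ h = 2 := by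
        have := Nat.le_of_dvd (by norm_num) h5
        have h0 : h ≠ 0 := NeZero.ne h
        interval_cases h
        · exact absurd rfl h0
        · left; rfl
        · right; rfl
      left
      rcases h6 with rfl | rfl
      · exact Subsingleton.elim _ _
      · have : Subsingleton (ZMod 2)ˣ := by
          refine ⟨fun x y => ?_⟩
          apply Units.ext
          have hx : (x : ZMod 2) ≠ 0 := x.ne_zero
          have hy : (y : ZMod 2) ≠ 0 := y.ne_zero
          revert hx hy
          generalize (x : ZMod 2) = x'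
          generalize (y : ZMod 2) = y'
          revert x' y'
          decide
        exact Subsingleton.elim _ _
    · -- `-1 ≠ 1`: three solutions of `x^2 = 1` in a cyclic group
      let C := Subgroup.zpowers a
      have hx : (a ^ n) ^ 2 = 1 := by rw [← pow_mul, mul_comm]; exact h2n
      have hcyc : IsCyclic C := inferInstance
      have hle := IsCyclic.card_pow_eq_one_le (α := C) (n := 2) (by norm_num)
      by_contra hcon
      push Not at hcon
      let x1 : C := 1
      let x2 : C := ⟨-1, hneg⟩
      let x3 : C := ⟨a ^ n, Subgroup.pow_mem _ (Subgroup.mem_zpowers a) n⟩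
      have h12 : x1 ≠ x2 := by
        intro hh
        have := congrArg Subtype.val hh
        exact h11 this.symm
      have h13 : x1 ≠ x3 := by
        intro hh
        have := congrArg Subtype.val hh
        exact hcon.1 this.symm
      have h23 : x2 ≠ x3 := by
        intro hh
        have := congrArg Subtype.val hh
        exact hcon.2 this.symm
      have hsub : ({x1, x2, x3} : Finset C) ⊆ Finset.univ.filter (fun a : C => a ^ 2 = 1) := by
        intro y hy
        rw [Finset.mem_filter]
        refine ⟨Finset.mem_univ _, ?_⟩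
        rcases Finset.mem_insert.mp hy with rfl | hy
        · exact one_pow 2
        rcases Finset.mem_insert.mp hy with rfl | hy
        · apply Subtype.ext
          show (-1 : (ZMod h)ˣ) ^ 2 = 1
          rw [neg_one_sq]
        · rw [Finset.mem_singleton] at hy
          rw [hy]
          apply Subtype.ext
          exact hx
      have hcard : #({x1, x2, x3} : Finset C) = 3 := by
        rw [Finset.card_insert_of_notMem, Finset.card_insert_of_notMem, Finset.card_singleton]
        · rw [Finset.mem_singleton]; exact h23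
        · rw [Finset.mem_insert, Finset.mem_singleton]
          push Not
          exact ⟨h12, h13⟩
      have := Finset.card_le_card hsub
      omega
  · -- `-1` is not a power of `a`: the order of `Γ` is divisible by `2 * orderOf a`
    left
    let C' : Subgroup Γ := (Subgroup.zpowers a).subgroupOf Γ
    let y : Γ ⧸ C' := QuotientGroup.mk (⟨-1, hnΓ⟩ : Γ)
    have hy1 : y ≠ 1 := by
      intro hh
      have h1 : (⟨-1, hnΓ⟩ : Γ) ∈ C' := (QuotientGroup.eq_one_iff _).mp hh
      exact hneg (Subgroup.mem_subgroupOf.mp h1)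
    have hy2 : y ^ 2 = 1 := by
      show (QuotientGroup.mk ((⟨-1, hnΓ⟩ : Γ)) : Γ ⧸ C') ^ 2 = 1
      rw [← QuotientGroup.mk_pow]
      have : (⟨-1, hnΓ⟩ : Γ) ^ 2 = 1 := by
        apply Subtype.ext
        show (-1 : (ZMod h)ˣ) ^ 2 = 1
        rw [neg_one_sq]
      rw [this]
      rfl
    have hord : orderOf y = 2 := orderOf_eq_prime hy2 hy1
    have h2 : 2 ∣ Nat.card (Γ ⧸ C') := by
      rw [← hord]
      exact orderOf_dvd_natCard y
    have h3 : Nat.card Γ = Nat.card (Γ ⧸ C') * Nat.card C' :=
      Subgroup.card_eq_card_quotient_mul_card_subgroup C'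
    have h4 : Nat.card C' = orderOf a := by
      rw [← Nat.card_zpowers]
      exact Nat.card_congr (Subgroup.subgroupOfEquivOfLe hCΓ).toEquiv
    have h5 : 2 * orderOf a ∣ 2 * n := by
      refine dvd_trans ?_ hdvd
      rw [h3, h4]
      exact Nat.mul_dvd_mul_right h2 _
    have h6 : orderOf a ∣ n := Nat.dvd_of_mul_dvd_mul_left (by norm_num) h5
    exact orderOf_dvd_iff_pow_eq_one.mp h6

end Arith

end Cfsg.Agent.Lib.Helper10.SympCyc
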