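import Mathlib

/-!
# Commutants of elements of finite order in matrix algebras

If `a ^ r = 1` in a matrix algebra `A ≅ Mₙ(E)` over an algebraically closed field in which `r` is
invertible, and some `r`-th root of unity `c` is not an eigenvalue of `a`, then
`dim A ≤ (r - 1) * dim C_A(a)`.
-/

set_option autoImplicit false

namespace Cfsg.Agent.Lib.Helper10.XRep

open Module

universe u v w

section Comm

variable (E : Type v) [Field E] (A : Type u) [Ring A] [Algebra E A]

/-- the commutant of an element, as a submodule. -/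
def commSub (a : A) : Submodule E A where
  carrier := {b | a * b = b * a}
  add_mem' := by
    intro x y hx hy
    simp only [Set.mem_ofPred_eq] at *
    rw [mul_add, add_mul, hx, hy]
  zero_mem' := by simp
  smul_mem' := by
    intro c x hx
    simp only [Set.mem_ofPred_eq] at *
    rw [mul_smul_comm, smul_mul_assoc, hx]

variable {E A}

theorem mem_commSub {a b : A} : b ∈ commSub E A a ↔ a * b = b * a := Iff.rfl

theorem finrank_commSub_algEquiv {A' : Type w} [Ring A'] [Algebra E A'] (e : A ≃ₐ[E] A') (a : A) :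
    finrank E (commSub E A a) = finrank E (commSub E A' (e a)) := by
  have h : (commSub E A a).map (e.toLinearEquiv : A →ₗ[E] A') = commSub E A' (e a) := by
    ext y
    constructor
    · rintro ⟨x, hx, rfl⟩
      have hx' : a * x = x * a := hx
      show e a * e x = e x * e a
      rw [← map_mul, ← map_mul, hx']
    · intro hy
      have hy' : e a * y = y * e a := hy
      refine ⟨e.symm y, ?_, e.apply_symm_apply y⟩
      show a * e.symm y = e.symm y * a
      apply e.injective
      rw [map_mul, map_mul, e.apply_symm_apply, hy']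
  rw [← h, LinearEquiv.finrank_map_eq]

end Comm

section Eigen

variable {K : Type v} [Field K] [IsAlgClosed K] {V : Type w} [AddCommGroup V] [Module K V]
  [FiniteDimensional K V]

theorem exists_eigenbasis (f : Module.End K V) {r : ℕ} (hrK : (r : K) ≠ 0) (hf : f ^ r = 1) :
    ∃ (I : Type v) (_ : Fintype I) (_ : DecidableEq I) (b : Basis I K V) (μ : I → K),
      ∀ i, f (b i) = μ i • b i := by
  classical
  have hss : f.IsSemisimple := by
    apply Module.End.isSemisimple_of_squarefree_aeval_eq_zero
      (p := Polynomial.X ^ r - Polynomial.C 1)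
    · exact (Polynomial.separable_X_pow_sub_C (1 : K) hrK one_ne_zero).squarefree
    · simp [hf]
  let D := DirectSum.isInternal_submodule_of_iSupIndep_of_iSup_eq_top
    f.eigenspaces_iSupIndep hss.iSup_eigenspace_eq_top
  let I := (ν : K) × Fin (finrank K (f.eigenspace ν))
  let b : Basis I K V := D.collectedBasis fun μ => finBasis K (f.eigenspace μ)
  have : Fintype I := FiniteDimensional.fintypeBasisIndex b
  refine ⟨I, inferInstance, inferInstance, b, Sigma.fst, ?_⟩
  intro i
  exact Module.End.mem_eigenspace_iff.mp (D.collectedBasis_mem _ i)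

end Eigen

section Diag

variable {E : Type v} [Field E]

theorem exists_diag [IsAlgClosed E] {A : Type u} [Ring A] [Algebra E A] {n : ℕ}
    (e : A ≃ₐ[E] Matrix (Fin n) (Fin n) E) (a : A) {r : ℕ} (hrE : (r : E) ≠ 0) (ha : a ^ r = 1) :
    ∃ (I : Type v) (_ : Fintype I) (_ : DecidableEq I) (e' : A ≃ₐ[E] Matrix I I E) (μ : I → E),
      e' a = Matrix.diagonal μ := by
  let f : Module.End E (Fin n → E) := Matrix.toLinAlgEquiv' (e a)
  have hf : f ^ r = 1 := by
    show (Matrix.toLinAlgEquiv' (e a)) ^ r = 1
    rw [← map_pow, ← map_pow, ha, map_one, map_one]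
  obtain ⟨I, hI, hD, b, μ, hb⟩ := exists_eigenbasis f hrE hf
  refine ⟨I, hI, hD, e.trans (Matrix.toLinAlgEquiv'.trans (LinearMap.toMatrixAlgEquiv b)), μ, ?_⟩
  ext i j
  show LinearMap.toMatrixAlgEquiv b f i j = _
  rw [LinearMap.toMatrixAlgEquiv_apply, hb, map_smul, Finsupp.smul_apply, Basis.repr_self,
    Matrix.diagonal_apply, Finsupp.single_apply, smul_eq_mul]
  by_cases hij : i = j
  · subst hij
    rw [if_pos rfl, if_pos rfl, mul_one]
  · rw [if_neg hij, if_neg (Ne.symm hij), mul_zero]

theorem le_finrank_commSub_diagonal {I : Type w} [Fintype I] [DecidableEq I] (μ : I → E) :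
    Nat.card {p : I × I // μ p.1 = μ p.2}
      ≤ finrank E (commSub E (Matrix I I E) (Matrix.diagonal μ)) := by
  classical
  rw [Nat.card_eq_fintype_card]
  let F : {p : I × I // μ p.1 = μ p.2} → Matrix I I E := fun p => Matrix.single p.1.1 p.1.2 1
  have hli : LinearIndependent E F := by
    have h1 := (Matrix.stdBasis E I I).linearIndependent
    have h2 : F = (Matrix.stdBasis E I I) ∘ (fun p : {p : I × I // μ p.1 = μ p.2} => p.1) := by
      funext p
      show Matrix.single p.1.1 p.1.2 1 = Matrix.stdBasis E I I (p.1.1, p.1.2)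
      rw [Matrix.stdBasis_eq_single]
    rw [h2]
    exact h1.comp _ Subtype.val_injective
  have hle : Submodule.span E (Set.range F) ≤ commSub E _ (Matrix.diagonal μ) := by
    rw [Submodule.span_le]
    rintro _ ⟨p, rfl⟩
    show Matrix.diagonal μ * F p = F p * Matrix.diagonal μ
    ext a b
    rw [Matrix.diagonal_mul, Matrix.mul_diagonal]
    show μ a * Matrix.single p.1.1 p.1.2 (1 : E) a b = Matrix.single p.1.1 p.1.2 (1 : E) a b * μ b
    rw [Matrix.single_apply]
    split_ifs with h
    · obtain ⟨h1, h2⟩ := h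
      rw [mul_one, one_mul, ← h1, ← h2]
      exact p.2
    · rw [mul_zero, zero_mul]
  calc Fintype.card {p : I × I // μ p.1 = μ p.2}
      = finrank E (Submodule.span E (Set.range F)) := (finrank_span_eq_card hli).symm
    _ ≤ _ := Submodule.finrank_mono hle

theorem card_sq_le {I : Type w} [Fintype I] {K : Type v} (μ : I → K)
    (S : Finset K) (hS : ∀ i, μ i ∈ S) :
    Fintype.card I ^ 2 ≤ S.card * Nat.card {p : I × I // μ p.1 = μ p.2} := by
  classical
  rw [Nat.card_eq_fintype_card]
  let m : K → ℕ := fun ν => (Finset.univ.filter (fun i => μ i = ν)).card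
  have h1 : Fintype.card I = ∑ ν ∈ S, m ν := by
    rw [← Finset.card_univ]
    exact Finset.card_eq_sum_card_fiberwise (fun i _ => hS i)
  have h2 : Fintype.card {p : I × I // μ p.1 = μ p.2} = ∑ ν ∈ S, m ν ^ 2 := by
    rw [Fintype.card_subtype]
    rw [Finset.card_eq_sum_card_fiberwise (f := fun p : I × I => μ p.1) (t := S)
      (fun p _ => hS p.1)]
    apply Finset.sum_congr rfl
    intro ν _
    rw [sq, ← Finset.card_product]
    congr 1
    ext ⟨i, j⟩
    simp only [Finset.mem_filter, Finset.mem_univ, true_and, Finset.mem_product]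
    constructor
    · rintro ⟨h, h'⟩
      exact ⟨h', by rw [← h, h']⟩
    · rintro ⟨h, h'⟩
      exact ⟨by rw [h, h'], h⟩
  rw [h1, h2]
  exact sq_sum_le_card_mul_sum_sq

/-- the main inequality. -/
theorem finrank_le_mul_finrank_commSub [IsAlgClosed E] {A : Type u} [Ring A] [Algebra E A] {n : ℕ}
    (e : A ≃ₐ[E] Matrix (Fin n) (Fin n) E) (a : A) {r : ℕ} (hr : 0 < r) (hrE : (r : E) ≠ 0)
    (ha : a ^ r = 1) (c : E) (hc : c ^ r = 1) (hu : IsUnit (a - algebraMap E A c)) :
    finrank E A ≤ (r - 1) * finrank E (commSub E A a) := by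
  classical
  obtain ⟨I, hI, hD, e', μ, he'⟩ := exists_diag e a hrE ha
  have h1 : finrank E A = Fintype.card I ^ 2 := by
    rw [LinearEquiv.finrank_eq e'.toLinearEquiv, finrank_matrix, finrank_self, mul_one, sq]
  have h2 : finrank E (commSub E A a)
      = finrank E (commSub E (Matrix I I E) (Matrix.diagonal μ)) := by
    rw [finrank_commSub_algEquiv e' a, he']
  have hμr : ∀ i, μ i ^ r = 1 := by
    intro i
    have h3 : Matrix.diagonal μ ^ r = (1 : Matrix I I E) := by
      rw [← he', ← map_pow, ha, map_one]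
    rw [Matrix.diagonal_pow, ← Matrix.diagonal_one] at h3
    have h4 := Matrix.diagonal_injective h3
    exact congrFun h4 i
  have hμc : ∀ i, μ i ≠ c := by
    intro i hi
    have h3 : IsUnit (e' (a - algebraMap E A c)) := hu.map e'
    rw [map_sub, he', AlgEquiv.commutes, Matrix.algebraMap_eq_diagonal, Matrix.diagonal_sub,
      Matrix.isUnit_diagonal, Pi.isUnit_iff] at h3
    have h4 := h3 i
    simp [hi] at h4
  let S : Finset E := (Polynomial.nthRootsFinset r (1 : E)).erase c
  have hS : ∀ i, μ i ∈ S := by
    intro i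
    rw [Finset.mem_erase]
    exact ⟨hμc i, (Polynomial.mem_nthRootsFinset hr 1).mpr (hμr i)⟩
  have hScard : S.card ≤ r - 1 := by
    have hcmem : c ∈ Polynomial.nthRootsFinset r (1 : E) :=
      (Polynomial.mem_nthRootsFinset hr 1).mpr hc
    rw [Finset.card_erase_of_mem hcmem]
    apply Nat.sub_le_sub_right
    calc (Polynomial.nthRootsFinset r (1 : E)).card
        ≤ Multiset.card (Polynomial.nthRoots r (1 : E)) := Multiset.toFinset_card_le _
      _ ≤ r := Polynomial.card_nthRoots r 1
  rw [h1, h2]
  calc Fintype.card I ^ 2 ≤ S.card * Nat.card {p : I × I // μ p.1 = μ p.2} :=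
        card_sq_le μ S hS
    _ ≤ (r - 1) * finrank E (commSub E (Matrix I I E) (Matrix.diagonal μ)) :=
        Nat.mul_le_mul hScard (le_finrank_commSub_diagonal μ)

end Diag

end Cfsg.Agent.Lib.Helper10.XRep
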