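import Mathlib
import Cfsg.Agent.Lib.Helper10.XRepDiag
import Cfsg.Agent.Lib.Helper10.SympCycArith

/-!
The spectrum of a fixed-point-free element of finite order preserving a symplectic form over `ZMod p`.
-/

set_option autoImplicit false

namespace Cfsg.Agent.Lib.Helper10.SympCyc

open Polynomial Matrix Finset Module

section Spec

variable {p : ℕ} [hp : Fact p.Prime] {N : ℕ}

/-- the multiset of eigenvalues (over the algebraic closure) of a matrix over `ZMod p` of order
prime to `p`, all of whose proper powers have no fixed vectors. -/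
theorem exists_spectrum (A : Matrix (Fin N) (Fin N) (ZMod p)) {h : ℕ} (hh : 0 < h)
    (hcop : h.Coprime p) (hA : A ^ h = 1)
    (hfpf : ∀ j, 0 < j → j < h → (A ^ j - 1).det ≠ 0) :
    ∃ S : Multiset (AlgebraicClosure (ZMod p)), Multiset.card S = N ∧
      (∀ x ∈ S, IsPrimitiveRoot x h) ∧
      (∀ k : ℕ, ((A ^ k).charpoly.map (algebraMap (ZMod p) (AlgebraicClosure (ZMod p)))).roots
        = S.map (fun x => x ^ k)) := by
  classical
  let E := AlgebraicClosure (ZMod p)
  let ι : ZMod p →+* E := algebraMap (ZMod p) E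
  have hιinj : Function.Injective ι := (algebraMap (ZMod p) E).injective
  let AE : Matrix (Fin N) (Fin N) E := ι.mapMatrix A
  let f : Module.End E (Fin N → E) := Matrix.toLinAlgEquiv' AE
  have hfk : ∀ k : ℕ, f ^ k = Matrix.toLinAlgEquiv' (ι.mapMatrix (A ^ k)) := by
    intro k
    show (Matrix.toLinAlgEquiv' AE) ^ k = _
    rw [← map_pow, ← map_pow]
  have hf : f ^ h = 1 := by rw [hfk, hA, map_one, map_one]
  have hhE : (h : E) ≠ 0 := by
    intro h0
    rw [CharP.cast_eq_zero_iff E p h] at h0
    have := Nat.Coprime.eq_one_of_dvd hcop.symm h0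
    exact hp.out.one_lt.ne' this
  obtain ⟨I, hI, hD, b, μ, hb⟩ := XRep.exists_eigenbasis f hhE hf
  have hbk : ∀ (k : ℕ) (i : I), (f ^ k) (b i) = (μ i) ^ k • b i := by
    intro k
    induction k with
    | zero => intro i; simp
    | succ k ih =>
      intro i
      rw [pow_succ, Module.End.mul_apply, hb, map_smul, ih, smul_smul, pow_succ, mul_comm]
  have hμh : ∀ i, (μ i) ^ h = 1 := by
    intro i
    have h1 := hbk h i
    rw [hf, Module.End.one_apply] at h1
    have h2 : ((μ i) ^ h - 1) • b i = 0 := by rw [sub_smul, one_smul, ← h1, sub_self]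
    rcases smul_eq_zero.mp h2 with h3 | h3
    · exact sub_eq_zero.mp h3
    · exact absurd h3 (b.ne_zero i)
  have hμj : ∀ i, ∀ j, 0 < j → j < h → (μ i) ^ j ≠ 1 := by
    intro i j hj hjh hμ
    have h1 := hbk j i
    rw [hμ, one_smul, hfk] at h1
    have h2 : (ι.mapMatrix (A ^ j - 1)) *ᵥ (b i) = 0 := by
      rw [map_sub, map_one, Matrix.sub_mulVec, Matrix.one_mulVec]
      have h3 : (ι.mapMatrix (A ^ j)) *ᵥ (b i) = b i := h1
      rw [h3, sub_self]
    have h3 : (ι.mapMatrix (A ^ j - 1)).det = 0 :=
      Matrix.exists_mulVec_eq_zero_iff.mp ⟨b i, b.ne_zero i, h2⟩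
    rw [← RingHom.map_det] at h3
    exact hfpf j hj hjh (hιinj (by rw [h3, map_zero]))
  have hprim : ∀ i, IsPrimitiveRoot (μ i) h := fun i =>
    IsPrimitiveRoot.mk_of_lt (μ i) hh (hμh i) (fun j hj hjh => hμj i j hj hjh)
  have hcardI : Fintype.card I = N := by
    have h1 := Module.finrank_eq_card_basis b
    rw [Module.finrank_fin_fun] at h1
    exact h1.symm
  refine ⟨Finset.univ.val.map μ, ?_, ?_, ?_⟩
  · rw [Multiset.card_map]
    exact hcardI
  · intro x hx
    obtain ⟨i, -, rfl⟩ := Multiset.mem_map.mp hx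
    exact hprim i
  · intro k
    have h1 : ((A ^ k).charpoly.map ι) = (f ^ k).charpoly := by
      rw [hfk, ← Matrix.charpoly_map]
      exact (Matrix.charpoly_toLin' _).symm
    have h2 : LinearMap.toMatrix b b (f ^ k) = Matrix.diagonal (fun i => (μ i) ^ k) := by
      ext i j
      rw [LinearMap.toMatrix_apply, hbk, map_smul, Finsupp.smul_apply, Basis.repr_self,
        Matrix.diagonal_apply, Finsupp.single_apply, smul_eq_mul]
      by_cases hij : i = j
      · subst hij
        rw [if_pos rfl, if_pos rfl, mul_one]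
      · rw [if_neg hij, if_neg (Ne.symm hij), mul_zero]
    have h3 : (f ^ k).charpoly = ∏ i, (X - C ((μ i) ^ k)) := by
      rw [← LinearMap.charpoly_toMatrix (f ^ k) b, h2, Matrix.charpoly_diagonal]
    show ((A ^ k).charpoly.map ι).roots = _
    rw [h1, h3, Finset.prod_eq_multiset_prod]
    have h4 : (Finset.univ.val.map fun i : I => X - C ((μ i) ^ k))
        = ((Finset.univ.val.map μ).map (fun x => x ^ k)).map (fun a => X - C a) := by
      rw [Multiset.map_map, Multiset.map_map]
      rfl
    rw [h4, Polynomial.roots_multiset_prod_X_sub_C]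

end Spec

end Cfsg.Agent.Lib.Helper10.SympCyc
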