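import Mathlib
import Cfsg.Agent.Lib.Helper10.SympCycSpec

/-!
A fixed-point-free element of order `h` of a symplectic group `Sp(2n, p)` has `h ∣ p ^ n ± 1`.
-/

set_option autoImplicit false

namespace Cfsg.Agent.Lib.Helper10.SympCyc

open Polynomial Matrix Finset Module

section Closure

variable {E : Type*} [Field E] {h : ℕ} [NeZero h]

/-- a multiset of primitive `h`-th roots of unity stable under the power maps from a set `T` of
units of `ZMod h` has cardinality divisible by the order of the subgroup generated by `T`. -/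
theorem card_closure_dvd [DecidableEq E] (S : Multiset E) (hS : ∀ x ∈ S, IsPrimitiveRoot x h)
    (T : Set (ZMod h)ˣ)
    (hT : ∀ u ∈ T, S.map (fun x => x ^ ((u : (ZMod h)ˣ) : ZMod h).val) = S) :
    Nat.card (Subgroup.closure T) ∣ Multiset.card S := by
  classical
  have hh : 0 < h := Nat.pos_of_ne_zero (NeZero.ne h)
  by_cases hS0 : S = 0
  · rw [hS0, Multiset.card_zero]
    exact dvd_zero _
  obtain ⟨ζ, hζS⟩ := Multiset.exists_mem_of_ne_zero hS0
  have hζ : IsPrimitiveRoot ζ h := hS ζ hζS
  let φ : (ZMod h)ˣ → E := fun u => ζ ^ ((u : ZMod h)).val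
  have hφinj : Function.Injective φ := by
    intro u v huv
    have h1 : ((u : ZMod h)).val = ((v : ZMod h)).val :=
      hζ.pow_inj (ZMod.val_lt _) (ZMod.val_lt _) huv
    exact Units.ext (ZMod.val_injective h h1)
  have hφsurj : ∀ y ∈ S, ∃ v, φ v = y := by
    intro y hy
    have hy' := hS y hy
    obtain ⟨k, hk, hky⟩ := hζ.eq_pow_of_pow_eq_one hy'.pow_eq_one
    have hcop : k.Coprime h := by
      rw [← hζ.pow_iff_coprime hh k, hky]
      exact hy'
    refine ⟨ZMod.unitOfCoprime k hcop, ?_⟩
    show ζ ^ ((ZMod.unitOfCoprime k hcop : (ZMod h)ˣ) : ZMod h).val = y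
    rw [ZMod.coe_unitOfCoprime, ZMod.val_natCast, Nat.mod_eq_of_lt hk, hky]
  have hφmul : ∀ t v : (ZMod h)ˣ, φ (t * v) = (φ v) ^ ((t : ZMod h)).val := by
    intro t v
    show ζ ^ (((t * v : (ZMod h)ˣ) : ZMod h)).val = (ζ ^ ((v : ZMod h)).val) ^ ((t : ZMod h)).val
    rw [Units.val_mul, ZMod.val_mul, ← pow_mul, mul_comm ((v : ZMod h)).val]
    exact (pow_eq_pow_mod _ hζ.pow_eq_one).symm
  let c : (ZMod h)ˣ → ℕ := fun u => S.count (φ u)
  have hsum : ∑ u, c u = Multiset.card S := by
    rw [← Multiset.toFinset_sum_count_eq S]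
    have hsub : S.toFinset ⊆ Finset.univ.image φ := by
      intro y hy
      obtain ⟨v, hv⟩ := hφsurj y (Multiset.mem_toFinset.mp hy)
      exact Finset.mem_image.mpr ⟨v, Finset.mem_univ _, hv⟩
    rw [Finset.sum_subset hsub (by
      intro y _ hy
      exact Multiset.count_eq_zero.mpr (fun hh' => hy (Multiset.mem_toFinset.mpr hh')))]
    rw [Finset.sum_image (fun u _ v _ huv => hφinj huv)]
  have hinvT : ∀ t ∈ T, ∀ u, c (t * u) = c u := by
    intro t ht u
    show S.count (φ (t * u)) = S.count (φ u)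
    conv_lhs => rw [← hT t ht]
    rw [Multiset.count_map, Multiset.count_eq_card_filter_eq]
    congr 1
    apply Multiset.filter_congr
    intro y hy
    obtain ⟨v, rfl⟩ := hφsurj y hy
    rw [← hφmul]
    constructor
    · intro h1
      have h2 : t * u = t * v := hφinj h1
      rw [mul_left_cancel h2]
    · intro h1
      rw [hφinj h1]
  have hinv : ∀ γ ∈ Subgroup.closure T, ∀ u, c (γ * u) = c u := by
    intro γ hγ
    induction hγ using Subgroup.closure_induction with
    | mem t ht => exact hinvT t ht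
    | one => intro u; rw [one_mul]
    | mul a b _ _ ha hb => intro u; rw [mul_assoc, ha, hb]
    | inv a _ ha =>
      intro u
      have := ha (a⁻¹ * u)
      rw [mul_inv_cancel_left] at this
      exact this.symm
  rw [← hsum]
  exact card_dvd_sum_of_invariant _ c hinv

end Closure

section Main

variable {p : ℕ} [hp : Fact p.Prime] {N : ℕ}

/-- **the cyclic symplectic theorem**, matrix form. -/
theorem symp_cyclic (A J : Matrix (Fin N) (Fin N) (ZMod p)) (hJ : IsUnit J)
    (hAJ : Aᵀ * J * A = J) {h : ℕ} (hh : 0 < h) (hcop : h.Coprime p) (hA : A ^ h = 1)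
    (hfpf : ∀ j, 0 < j → j < h → (A ^ j - 1).det ≠ 0) {n : ℕ} (hN : N = 2 * n) :
    h ∣ p ^ n + 1 ∨ h ∣ p ^ n - 1 := by
  classical
  by_cases h1 : h = 1
  · left
    rw [h1]
    exact one_dvd _
  obtain ⟨m, rfl⟩ : ∃ m, h = m + 1 := ⟨h - 1, by omega⟩
  let E := AlgebraicClosure (ZMod p)
  let ι : ZMod p →+* E := algebraMap (ZMod p) E
  obtain ⟨S, hScard, hSprim, hSk⟩ := exists_spectrum A hh hcop hA hfpf
  have hS1 : (A.charpoly.map ι).roots = S := by
    have := hSk 1
    rw [pow_one] at this
    rw [this]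
    simp only [pow_one]
    exact Multiset.map_id' S
  -- Frobenius invariance
  have hfrob : S.map (fun x => x ^ p) = S := by
    have h2 : (A.charpoly.map ι).map (frobenius E p) = A.charpoly.map ι := by
      rw [Polynomial.map_map]
      congr 1
      exact Subsingleton.elim _ _
    have h3 := (IsAlgClosed.splits (A.charpoly.map ι)).roots_map (frobenius E p)
    rw [h2, hS1] at h3
    calc S.map (fun x => x ^ p) = S.map (frobenius E p) :=
          Multiset.map_congr rfl (fun x _ => (frobenius_def p x).symm)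
      _ = S := h3.symm
  -- inversion invariance
  have hinv : S.map (fun x => x ^ m) = S := by
    have hAm : A * A ^ m = 1 := by rw [← pow_succ', hA]
    have h2 : J * A ^ m = Aᵀ * J := by
      calc J * A ^ m = (Aᵀ * J * A) * A ^ m := by rw [hAJ]
        _ = Aᵀ * J * (A * A ^ m) := by simp only [Matrix.mul_assoc]
        _ = Aᵀ * J := by rw [hAm, Matrix.mul_one]
    obtain ⟨Ju, hJu⟩ := hJ
    have h4 : Ju.inv * J = 1 := by rw [← hJu]; exact Ju.inv_val
    have h5 : J * Ju.inv = 1 := by rw [← hJu]; exact Ju.val_inv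
    have h3 : A ^ m = Ju.inv * (Aᵀ * J) := by
      rw [← h2, ← Matrix.mul_assoc, h4, Matrix.one_mul]
    have h6 : (A ^ m).charpoly = A.charpoly := by
      rw [h3, Matrix.charpoly_mul_comm, Matrix.mul_assoc, h5, Matrix.mul_one,
        Matrix.charpoly_transpose]
    have h7 := hSk m
    rw [h6, hS1] at h7
    exact h7.symm
  -- the subgroup generated by `p` and `-1`
  have hcop' : p.Coprime (m + 1) := hcop.symm
  let a : (ZMod (m + 1))ˣ := ZMod.unitOfCoprime p hcop'
  have hT : ∀ u ∈ ({a, -1} : Set (ZMod (m + 1))ˣ),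
      S.map (fun x => x ^ ((u : (ZMod (m + 1))ˣ) : ZMod (m + 1)).val) = S := by
    intro u hu
    rcases hu with rfl | hu
    · have h2 : ((a : (ZMod (m + 1))ˣ) : ZMod (m + 1)).val = p % (m + 1) := by
        show ((ZMod.unitOfCoprime p hcop' : (ZMod (m + 1))ˣ) : ZMod (m + 1)).val = _
        rw [ZMod.coe_unitOfCoprime, ZMod.val_natCast]
      rw [h2]
      conv_rhs => rw [← hfrob]
      apply Multiset.map_congr rfl
      intro x hx
      exact (pow_eq_pow_mod p (hSprim x hx).pow_eq_one).symm
    · rw [Set.mem_singleton_iff] at hu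
      rw [hu]
      have h2 : (((-1 : (ZMod (m + 1))ˣ)) : ZMod (m + 1)).val = m := by
        rw [Units.val_neg, Units.val_one]
        exact ZMod.val_neg_one m
      rw [h2]
      exact hinv
  have hdvd := card_closure_dvd S hSprim _ hT
  rw [hScard, hN] at hdvd
  have hpm := pow_eq_one_or_neg_one a n hdvd
  have hpn : 1 ≤ p ^ n := Nat.one_le_pow _ _ hp.out.pos
  have hcast : ((a ^ n : (ZMod (m + 1))ˣ) : ZMod (m + 1)) = ((p ^ n : ℕ) : ZMod (m + 1)) := by
    rw [Units.val_pow_eq_pow_val, Nat.cast_pow]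
    congr 1
  rcases hpm with h2 | h2
  · right
    rw [← ZMod.natCast_eq_zero_iff, Nat.cast_sub hpn, ← hcast, h2]
    simp
  · left
    rw [← ZMod.natCast_eq_zero_iff, Nat.cast_add, ← hcast, h2]
    simp

end Main

end Cfsg.Agent.Lib.Helper10.SympCyc
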