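import Mathlib
import Cfsg.Agent.Lib.Helper10.SympCycMain

/-!
The cyclic symplectic theorem for linear maps, and for automorphisms of elementary abelian groups
with a nondegenerate pairing.
-/

set_option autoImplicit false

namespace Cfsg.Agent.Lib.Helper10.SympCyc

open Module

section Lin

variable {p : ℕ} [hp : Fact p.Prime] {V : Type*} [AddCommGroup V] [Module (ZMod p) V]
  [Module.Finite (ZMod p) V]

/-- **the cyclic symplectic theorem**, linear form. -/
theorem symp_cyclic_lin (T : V →ₗ[ZMod p] V) (B : V →ₗ[ZMod p] V →ₗ[ZMod p] ZMod p)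
    (hB : B.SeparatingLeft) (hTB : ∀ v w, B (T v) (T w) = B v w)
    {h : ℕ} (hh : 0 < h) (hcop : h.Coprime p) (hT : T ^ h = 1)
    (hfpf : ∀ j, 0 < j → j < h → ∀ v, (T ^ j) v = v → v = 0)
    {n : ℕ} (hn : Module.finrank (ZMod p) V = 2 * n) :
    h ∣ p ^ n + 1 ∨ h ∣ p ^ n - 1 := by
  classical
  let b : Basis (Fin (Module.finrank (ZMod p) V)) (ZMod p) V := Module.finBasis (ZMod p) V
  let A : Matrix (Fin (Module.finrank (ZMod p) V)) (Fin (Module.finrank (ZMod p) V)) (ZMod p) :=
    LinearMap.toMatrixAlgEquiv b T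
  let J : Matrix (Fin (Module.finrank (ZMod p) V)) (Fin (Module.finrank (ZMod p) V)) (ZMod p) :=
    LinearMap.toMatrix₂ b b B
  have hJdet : J.det ≠ 0 := (LinearMap.separatingLeft_iff_det_ne_zero b).mp hB
  have hJ : IsUnit J := (Matrix.isUnit_iff_isUnit_det J).mpr (IsUnit.mk0 _ hJdet)
  have hAJ : A.transpose * J * A = J := by
    have h1 := LinearMap.BilinForm.toMatrix_comp b b B T T
    have h2 : LinearMap.BilinForm.comp B T T = B := by
      ext v w
      exact hTB v w
    rw [h2] at h1
    exact h1.symm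
  have hAk : ∀ k : ℕ, A ^ k = LinearMap.toMatrixAlgEquiv b (T ^ k) := by
    intro k
    show (LinearMap.toMatrixAlgEquiv b T) ^ k = _
    rw [map_pow]
  have hA : A ^ h = 1 := by rw [hAk, hT, map_one]
  have hdet : ∀ j, 0 < j → j < h → (A ^ j - 1).det ≠ 0 := by
    intro j hj hjh hd
    have h1 : A ^ j - 1 = LinearMap.toMatrix b b (T ^ j - 1) := by
      rw [hAk, map_sub, LinearMap.toMatrix_one]
      rfl
    rw [h1, LinearMap.det_toMatrix] at hd
    have h2 := LinearMap.bot_lt_ker_of_det_eq_zero hd
    obtain ⟨v, hv, hv0⟩ := SetLike.exists_of_lt h2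
    have h3 : (T ^ j - 1) v = 0 := LinearMap.mem_ker.mp hv
    rw [LinearMap.sub_apply, Module.End.one_apply, sub_eq_zero] at h3
    apply hv0
    rw [Submodule.mem_bot]
    exact hfpf j hj hjh v h3
  exact symp_cyclic A J hJ hAJ hh hcop hA hdet hn

end Lin

section Grp

variable {p : ℕ} [hp : Fact p.Prime] {Q : Type*} [CommGroup Q] [Finite Q] {Z : Type*} [CommGroup Z]

theorem symp_cyclic_group_aux [Module (ZMod p) (Additive Q)] (hZ : Nat.card Z = p)
    (κ : Q → Q → Z) (hκl : ∀ a a' b, κ (a * a') b = κ a b * κ a' b)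
    (hκr : ∀ a b b', κ a (b * b') = κ a b * κ a b')
    (hnd : ∀ a, (∀ b, κ a b = 1) → a = 1)
    (φ : MulAut Q) (hφκ : ∀ a b, κ (φ a) (φ b) = κ a b)
    {h : ℕ} (hh : 0 < h) (hcop : h.Coprime p) (hφh : φ ^ h = 1)
    (hfpf : ∀ j, 0 < j → j < h → ∀ a, (φ ^ j) a = a → a = 1)
    {n : ℕ} (hcard : Nat.card Q = p ^ (2 * n)) :
    h ∣ p ^ n + 1 ∨ h ∣ p ^ n - 1 := by
  classical
  have : Finite (Additive Q) := Finite.of_equiv Q Additive.ofMul
  have hfin : Module.Finite (ZMod p) (Additive Q) := Module.Finite.of_finite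
  -- the linear map
  let T : Additive Q →ₗ[ZMod p] Additive Q :=
    (MulEquiv.toAdditive φ).toAddMonoidHom.toZModLinearMap p
  have hTapp : ∀ v, T v = Additive.ofMul (φ (Additive.toMul v)) := fun v => rfl
  have hTk : ∀ (k : ℕ) (v : Additive Q), (T ^ k) v = Additive.ofMul ((φ ^ k) (Additive.toMul v)) := by
    intro k
    induction k with
    | zero => intro v; simp
    | succ k ih =>
      intro v
      rw [pow_succ', Module.End.mul_apply, ih, hTapp, pow_succ', MulAut.mul_apply]
      rfl
  -- the identification of `Z` with `ZMod p`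
  have hZcyc : IsCyclic Z := isCyclic_of_prime_card hZ
  have hZadd : IsAddCyclic (Additive Z) := isAddCyclic_additive_iff.mpr hZcyc
  have hZcard : Nat.card (Additive Z) = p := by
    rw [← hZ]
    exact Nat.card_congr Additive.toMul
  let e : Additive Z ≃+ ZMod p :=
    (zmodAddCyclicAddEquiv hZadd).symm.trans (ZMod.ringEquivCongr hZcard).toAddEquiv
  -- the form
  let B : Additive Q →ₗ[ZMod p] Additive Q →ₗ[ZMod p] ZMod p :=
    LinearMap.mk₂ (ZMod p)
      (fun v w => e (Additive.ofMul (κ (Additive.toMul v) (Additive.toMul w))))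
      (by
        intro v v' w
        show e (Additive.ofMul (κ (Additive.toMul v * Additive.toMul v') (Additive.toMul w))) = _
        rw [hκl, ofMul_mul, map_add])
      (by
        intro c v w
        let f : Additive Q →+ ZMod p := AddMonoidHom.mk'
          (fun v => e (Additive.ofMul (κ (Additive.toMul v) (Additive.toMul w)))) (by
            intro v v'
            show e (Additive.ofMul (κ (Additive.toMul v * Additive.toMul v') (Additive.toMul w))) = _
            rw [hκl, ofMul_mul, map_add])
        exact ZMod.map_smul f c v)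
      (by
        intro v w w'
        show e (Additive.ofMul (κ (Additive.toMul v) (Additive.toMul w * Additive.toMul w'))) = _
        rw [hκr, ofMul_mul, map_add])
      (by
        intro c v w
        let f : Additive Q →+ ZMod p := AddMonoidHom.mk'
          (fun w => e (Additive.ofMul (κ (Additive.toMul v) (Additive.toMul w)))) (by
            intro w w'
            show e (Additive.ofMul (κ (Additive.toMul v) (Additive.toMul w * Additive.toMul w'))) = _
            rw [hκr, ofMul_mul, map_add])
        exact ZMod.map_smul f c w)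
  have hBapp : ∀ v w, B v w = e (Additive.ofMul (κ (Additive.toMul v) (Additive.toMul w))) :=
    fun v w => rfl
  have hB : B.SeparatingLeft := by
    intro v hv
    have h1 : Additive.toMul v = 1 := by
      apply hnd
      intro b
      have h2 := hv (Additive.ofMul b)
      rw [hBapp, map_eq_zero_iff e e.injective] at h2
      exact h2
    exact h1
  have hTB : ∀ v w, B (T v) (T w) = B v w := by
    intro v w
    rw [hBapp, hBapp, hTapp, hTapp]
    show e (Additive.ofMul (κ (φ (Additive.toMul v)) (φ (Additive.toMul w)))) = _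
    rw [hφκ]
  have hT : T ^ h = 1 := by
    ext v
    rw [hTk, hφh]
    rfl
  have hfpf' : ∀ j, 0 < j → j < h → ∀ v, (T ^ j) v = v → v = 0 := by
    intro j hj hjh v hv
    rw [hTk] at hv
    have h1 : (φ ^ j) (Additive.toMul v) = Additive.toMul v := hv
    exact hfpf j hj hjh _ h1
  have hn : Module.finrank (ZMod p) (Additive Q) = 2 * n := by
    have h1 : Nat.card (Additive Q) = p ^ (2 * n) := by
      rw [← hcard]
      exact Nat.card_congr Additive.toMul
    have : Fintype (Additive Q) := Fintype.ofFinite _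
    have h2 := Module.card_eq_pow_finrank (K := ZMod p) (V := Additive Q)
    rw [ZMod.card, ← Nat.card_eq_fintype_card, h1] at h2
    exact (Nat.pow_right_injective hp.out.two_le h2).symm
  exact symp_cyclic_lin T B hB hTB hh hcop hT hfpf' hn

/-- **the cyclic symplectic theorem**, for an automorphism of an elementary abelian `p`-group
preserving a nondegenerate pairing into a group of order `p`. -/
theorem symp_cyclic_group (hexp : ∀ x : Q, x ^ p = 1) (hZ : Nat.card Z = p)
    (κ : Q → Q → Z) (hκl : ∀ a a' b, κ (a * a') b = κ a b * κ a' b)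
    (hκr : ∀ a b b', κ a (b * b') = κ a b * κ a b')
    (hnd : ∀ a, (∀ b, κ a b = 1) → a = 1)
    (φ : MulAut Q) (hφκ : ∀ a b, κ (φ a) (φ b) = κ a b)
    {h : ℕ} (hh : 0 < h) (hcop : h.Coprime p) (hφh : φ ^ h = 1)
    (hfpf : ∀ j, 0 < j → j < h → ∀ a, (φ ^ j) a = a → a = 1)
    {n : ℕ} (hcard : Nat.card Q = p ^ (2 * n)) :
    h ∣ p ^ n + 1 ∨ h ∣ p ^ n - 1 := by
  let iM : Module (ZMod p) (Additive Q) := AddCommGroup.zmodModule (by
    intro x
    show Additive.ofMul ((Additive.toMul x) ^ p) = 0
    rw [hexp]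
    rfl)
  exact @symp_cyclic_group_aux p hp Q _ _ Z _ iM hZ κ hκl hκr hnd φ hφκ h hh hcop hφh hfpf n hcard

end Grp

end Cfsg.Agent.Lib.Helper10.SympCyc
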