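import Mathlib
import Cfsg.Prelude.Def_KGroupFacts
import Cfsg.Agent.Lib.Helper12.SchurMore

/-!
Piece [S1] of the `Sz(8)` multiplier skeleton: the restriction of a stem extension with `2`-group kernel
to the preimage of a subgroup of odd index is again a stem extension (transfer).
-/

set_option autoImplicit false

namespace Cfsg.Agent.Lib.Helper7.Sz8

open Cfsg
open scoped commutatorElement

universe u v

namespace Helper10

/-- if `x ^ (2 ^ k) = 1` and `m` is odd then `x` is a power of `x ^ m` -/
theorem exists_pow_pow_eq {Γ : Type*} [Group Γ] (x : Γ) (k m : ℕ) (hx : x ^ (2 ^ k) = 1)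
    (hm : Odd m) : ∃ j : ℕ, (x ^ m) ^ j = x := by
  rcases Nat.eq_zero_or_pos k with hk | hk
  · subst hk
    refine ⟨0, ?_⟩
    rw [pow_zero, pow_one] at hx
    rw [pow_zero, hx]
  · have h1 : 1 < 2 ^ k := Nat.one_lt_two_pow (Nat.pos_iff_ne_zero.mp hk)
    have hcop : Nat.Coprime m (2 ^ k) :=
      Nat.Coprime.pow_right k hm.coprime_two_right
    obtain ⟨j, -, hj⟩ := Nat.exists_mul_mod_eq_one_of_coprime hcop h1
    refine ⟨j, ?_⟩
    rw [← pow_mul, pow_eq_pow_mod (m * j) hx, hj, pow_one]

end Helper10

/-- [S1] restriction of a stem extension with `2`-group kernel to the preimage of a subgroup of odd index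
(transfer: `Cfsg.Agent.Lib.Helper12.Schur.pow_index_mem_commutator`) -/
theorem stem_restrict {Γ : Type u} {G : Type v} [Group Γ] [Finite Γ] [Group G] (σ : Γ →* G)
    (hσ : IsStemExtension σ) (h2 : IsPGroup 2 σ.ker) (H : Subgroup G) (hH : Odd H.index) :
    IsStemExtension (σ.subgroupComap H) := by
  obtain ⟨hs, hc, hd⟩ := hσ
  have hval : ∀ x : H.comap σ, x ∈ (σ.subgroupComap H).ker → x.val ∈ σ.ker := by
    intro x hx
    rw [MonoidHom.mem_ker] at hx ⊢
    have := congrArg Subtype.val hx
    exact this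
  refine ⟨MonoidHom.subgroupComap_surjective_of_surjective σ H hs, ?_, ?_⟩
  · intro x hx
    have hz : x.val ∈ Subgroup.center Γ := hc (hval x hx)
    rw [Subgroup.mem_center_iff]
    intro g
    apply Subtype.ext
    simp only [Subgroup.coe_mul]
    exact Subgroup.mem_center_iff.mp hz g.val
  · intro x hx
    have hzk : x.val ∈ σ.ker := hval x hx
    have hz : x.val ∈ Subgroup.center Γ := hc hzk
    have hz' : x.val ∈ commutator Γ := hd hzk
    have hidx : (H.comap σ).index = H.index := Subgroup.index_comap_of_surjective H hs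
    obtain ⟨hmem, hcomm⟩ :=
      Cfsg.Agent.Lib.Helper12.Schur.pow_index_mem_commutator (H.comap σ) hz hz'
    obtain ⟨k, hk⟩ := h2 ⟨x.val, hzk⟩
    have hk' : x.val ^ (2 ^ k) = 1 := by
      have := congrArg Subtype.val hk
      simpa using this
    obtain ⟨j, hj⟩ := Helper10.exists_pow_pow_eq x.val k (H.comap σ).index hk' (hidx ▸ hH)
    have hxeq : x = (⟨x.val ^ (H.comap σ).index, hmem⟩ : H.comap σ) ^ j := by
      apply Subtype.ext
      rw [Subgroup.coe_pow]
      exact hj.symm
    rw [hxeq]
    exact Subgroup.pow_mem _ hcomm j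

end Cfsg.Agent.Lib.Helper7.Sz8
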