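import Mathlib
import Cfsg.Agent.Lib.Helper2.BurnsidePQ

/-!
# S3117 farm-out piece FO-S (helper10): automorphism group of a "reduced" 2-group is solvable

The prime analysis (FO-P) enters as an explicit hypothesis in `aut_solvable_of_reduced_of`.
-/

set_option autoImplicit false

namespace Cfsg.Agent.Lib.Helper10.ThreeInvS

universe u

/-- A positive natural number all of whose prime divisors are `2` or `r` is `2 ^ a * r ^ b`. -/
theorem exists_two_pow_mul_pow (r : ℕ) :
    ∀ n : ℕ, 0 < n → (∀ p : ℕ, p.Prime → p ∣ n → p = 2 ∨ p = r) → ∃ a b : ℕ, n = 2 ^ a * r ^ b := by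
  intro n
  induction n using Nat.strong_induction_on with
  | _ n ih =>
  intro hn hp
  by_cases h1 : n = 1
  · exact ⟨0, 0, by simp [h1]⟩
  · obtain ⟨p, hpp, hpn⟩ := Nat.exists_prime_and_dvd h1
    obtain ⟨m, rfl⟩ := hpn
    have hm0 : 0 < m := by
      rcases Nat.eq_zero_or_pos m with h | h
      · subst h; simp at hn
      · exact h
    have hlt : m < p * m := by
      have := hpp.two_le
      nlinarith
    obtain ⟨a, b, hab⟩ := ih m hlt hm0 (fun q hq hqm => hp q hq (Dvd.dvd.mul_left hqm p))
    rcases hp p hpp (dvd_mul_right p m) with h2 | hr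
    · refine ⟨a + 1, b, ?_⟩
      rw [hab, h2, pow_succ]; ring
    · refine ⟨a, b + 1, ?_⟩
      rw [hab, hr, pow_succ]; ring

/-- The symmetric group on at most four points is solvable (via Burnside's `p^a q^b`). -/
theorem perm_solvable_of_card_le_four {α : Type u} [Finite α] (h : Nat.card α ≤ 4) :
    Group.IsSolvable (Equiv.Perm α) := by
  classical
  haveI : Fintype α := Fintype.ofFinite α
  have hc : Nat.card (Equiv.Perm α) = (Nat.card α).factorial := by
    rw [Nat.card_eq_fintype_card, Fintype.card_perm, Nat.card_eq_fintype_card]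
  apply Cfsg.Agent.Lib.Helper2.isSolvable_of_card_eq_prime_pow_mul_prime_pow 2 3 Nat.prime_two
    Nat.prime_three _ (Equiv.Perm α) hc
  have h5 : Nat.card α = 0 ∨ Nat.card α = 1 ∨ Nat.card α = 2 ∨ Nat.card α = 3 ∨ Nat.card α = 4 := by
    omega
  rcases h5 with h | h | h | h | h <;> rw [h]
  · exact ⟨0, 0, by decide⟩
  · exact ⟨0, 0, by decide⟩
  · exact ⟨1, 0, by decide⟩
  · exact ⟨1, 1, by decide⟩
  · exact ⟨3, 1, by decide⟩

section Main

variable {G : Type u} [Group G]

/-- The action of automorphisms on the set of elements of square one. -/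
def theta : MulAut G →* Equiv.Perm {x : G // x ^ 2 = 1} where
  toFun φ :=
    { toFun := fun x => ⟨φ x.1, by rw [← map_pow, x.2, map_one]⟩
      invFun := fun x => ⟨φ⁻¹ x.1, by rw [← map_pow, x.2, map_one]⟩
      left_inv := fun x => by
        apply Subtype.ext
        show φ⁻¹ (φ x.1) = x.1
        simp
      right_inv := fun x => by
        apply Subtype.ext
        show φ (φ⁻¹ x.1) = x.1
        simp }
  map_one' := by
    ext x
    rfl
  map_mul' φ ψ := by
    ext x
    rfl

theorem theta_apply (φ : MulAut G) (x : {x : G // x ^ 2 = 1}) : ((theta φ) x : G) = φ x.1 := rfl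

theorem mem_ker_theta {φ : MulAut G} : φ ∈ (theta (G := G)).ker ↔ ∀ x : G, x ^ 2 = 1 → φ x = x := by
  rw [MonoidHom.mem_ker]
  constructor
  · intro h x hx
    have := congrArg (fun σ : Equiv.Perm {x : G // x ^ 2 = 1} => ((σ ⟨x, hx⟩ : {x : G // x ^ 2 = 1}) : G)) h
    simpa [theta_apply] using this
  · intro h
    ext x
    rw [theta_apply]
    simpa using h x.1 x.2

/-- The set of elements of square one has at most four elements if there are at most three
involutions. -/
theorem card_sq_one_le [Finite G] (h3 : Nat.card {x : G // orderOf x = 2} ≤ 3) :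
    Nat.card {x : G // x ^ 2 = 1} ≤ 4 := by
  classical
  have hinj : Function.Injective
      (fun x : {x : G // x ^ 2 = 1} =>
        if h : x.1 = 1 then (none : Option {x : G // orderOf x = 2})
        else some ⟨x.1, orderOf_eq_prime x.2 h⟩) := by
    intro x y hxy
    simp only at hxy
    by_cases hx : x.1 = 1
    · by_cases hy : y.1 = 1
      · exact Subtype.ext (hx.trans hy.symm)
      · rw [dif_pos hx, dif_neg hy] at hxy
        exact absurd hxy (by simp)
    · by_cases hy : y.1 = 1
      · rw [dif_neg hx, dif_pos hy] at hxy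
        exact absurd hxy (by simp)
      · rw [dif_neg hx, dif_neg hy] at hxy
        have := Option.some.inj hxy
        exact Subtype.ext (congrArg (fun z : {x : G // orderOf x = 2} => (z : G)) this)
  have h1 := Nat.card_le_card_of_injective _ hinj
  have h2 : Nat.card (Option {x : G // orderOf x = 2}) = Nat.card {x : G // orderOf x = 2} + 1 := by
    haveI : Fintype {x : G // orderOf x = 2} := Fintype.ofFinite _
    rw [Nat.card_eq_fintype_card, Fintype.card_option, ← Nat.card_eq_fintype_card]
  omega

/-- FO-S with the prime analysis as an explicit hypothesis. -/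
theorem aut_solvable_of_reduced_of [Finite G]
    (h3 : Nat.card {x : G // orderOf x = 2} ≤ 3)
    (hPA : ∀ φ : MulAut G, (∀ x : G, x ^ 2 = 1 → φ x = x) → ∀ r : ℕ, r.Prime → r ≠ 2 →
      orderOf φ = r →
      (r = 3 ∨ r = 5) ∧
      (r = 5 → ∀ ψ : MulAut G, (∀ x : G, x ^ 2 = 1 → ψ x = x) → orderOf ψ ≠ 3)) :
    Group.IsSolvable (MulAut G) := by
  classical
  haveI : Finite (MulAut G) := by
    haveI : Fintype G := Fintype.ofFinite G
    exact Finite.of_injective (fun φ : MulAut G => (φ : G → G)) (fun φ ψ h => by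
      ext x; exact congrFun h x)
  haveI hU : Group.IsSolvable (Equiv.Perm {x : G // x ^ 2 = 1}) :=
    perm_solvable_of_card_le_four (card_sq_one_le h3)
  -- the kernel
  set A0 : Subgroup (MulAut G) := (theta (G := G)).ker with hA0
  -- elements of prime order in the kernel
  have hcauchy : ∀ r : ℕ, r.Prime → r ∣ Nat.card A0 →
      ∃ φ : MulAut G, (∀ x : G, x ^ 2 = 1 → φ x = x) ∧ orderOf φ = r := by
    intro r hr hdvd
    haveI : Fact r.Prime := ⟨hr⟩
    obtain ⟨x, hx⟩ := exists_prime_orderOf_dvd_card' r hdvd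
    refine ⟨(x : MulAut G), mem_ker_theta.mp x.2, ?_⟩
    rw [Subgroup.orderOf_coe]; exact hx
  have hcard0 : 0 < Nat.card A0 := Nat.card_pos
  haveI hA0sol : Group.IsSolvable A0 := by
    by_cases h5 : 5 ∣ Nat.card A0
    · -- a {2,5}-group
      obtain ⟨φ5, hφ5, ho5⟩ := hcauchy 5 (by norm_num) h5
      have hno3 := (hPA φ5 hφ5 5 (by norm_num) (by norm_num) ho5).2 rfl
      obtain ⟨a, b, hab⟩ := exists_two_pow_mul_pow 5 (Nat.card A0) hcard0 (by
        intro p hp hpd
        by_cases hp2 : p = 2
        · exact Or.inl hp2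
        · obtain ⟨φ, hφ, ho⟩ := hcauchy p hp hpd
          rcases (hPA φ hφ p hp hp2 ho).1 with h | h
          · exact absurd (h ▸ ho) (hno3 φ hφ)
          · exact Or.inr h)
      exact Cfsg.Agent.Lib.Helper2.isSolvable_of_card_eq_prime_pow_mul_prime_pow 2 5
        Nat.prime_two (by norm_num) _ A0 rfl ⟨a, b, hab⟩
    · -- a {2,3}-group
      obtain ⟨a, b, hab⟩ := exists_two_pow_mul_pow 3 (Nat.card A0) hcard0 (by
        intro p hp hpd
        by_cases hp2 : p = 2
        · exact Or.inl hp2
        · obtain ⟨φ, hφ, ho⟩ := hcauchy p hp hpd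
          rcases (hPA φ hφ p hp hp2 ho).1 with h | h
          · exact Or.inr h
          · exact absurd (h ▸ hpd) h5)
      exact Cfsg.Agent.Lib.Helper2.isSolvable_of_card_eq_prime_pow_mul_prime_pow 2 3
        Nat.prime_two Nat.prime_three _ A0 rfl ⟨a, b, hab⟩
  apply Group.isSolvable_of_ker_le_range A0.subtype (theta (G := G))
  rw [Subgroup.range_subtype]

end Main

end Cfsg.Agent.Lib.Helper10.ThreeInvS
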