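import Mathlib

/-!
# Representations of class-two groups with scalar centre: the averaging operator

`Heis ρ Z` packages the hypotheses: `Z` is a central subgroup of the finite group `Q` containing
all commutators, acting by scalars in the representation `ρ`, such that the commutator pairing is
nondegenerate modulo `Z` in the representation.  The averaging operator
`avg ρ a = ∑ h, ρ h * a * ρ h⁻¹` kills `ρ k` for `k ∉ Z`.
-/

set_option autoImplicit false

namespace Cfsg.Agent.Lib.Helper10.XRep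

universe u v w

open scoped commutatorElement

variable {E : Type v} [Field E] {Q : Type u} [Group Q] [Fintype Q]
  {U : Type w} [AddCommGroup U] [Module E U]

/-- the hypotheses on the representation. -/
structure Heis (ρ : Q →* Module.End E U) (Z : Subgroup Q) : Prop where
  central : ∀ z ∈ Z, ∀ g : Q, g * z = z * g
  comm_mem : ∀ g h : Q, ⁅g, h⁆ ∈ Z
  scalar : ∀ z ∈ Z, ∃ c : E, ρ z = c • (1 : Module.End E U)
  nondeg : ∀ g : Q, g ∉ Z → ∃ h : Q, ρ ⁅h, g⁆ ≠ 1
  card_ne : (Fintype.card Q : E) ≠ 0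

/-- the averaging operator. -/
noncomputable def avg (ρ : Q →* Module.End E U) : Module.End E U →ₗ[E] Module.End E U :=
  ∑ h : Q, (LinearMap.mulLeft E (ρ h)).comp (LinearMap.mulRight E (ρ h⁻¹))

theorem avg_apply (ρ : Q →* Module.End E U) (a : Module.End E U) :
    avg ρ a = ∑ h : Q, ρ h * a * ρ h⁻¹ := by
  simp [avg, LinearMap.sum_apply, mul_assoc]

variable {ρ : Q →* Module.End E U} {Z : Subgroup Q}

theorem conj_mul_eq (H : Heis ρ Z) (h₀ h k : Q) :
    (h₀ * h) * k * (h₀ * h)⁻¹ = ⁅h₀, k⁆ * (h * k * h⁻¹) := by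
  obtain ⟨w, hw, h1⟩ : ∃ w : Q, (∀ g : Q, g * w = w * g) ∧ h * k * h⁻¹ = w * k :=
    ⟨⁅h, k⁆, H.central _ (H.comm_mem h k), by rw [commutatorElement_def]; group⟩
  rw [h1]
  calc (h₀ * h) * k * (h₀ * h)⁻¹ = h₀ * (h * k * h⁻¹) * h₀⁻¹ := by group
    _ = h₀ * (w * k) * h₀⁻¹ := by rw [h1]
    _ = (h₀ * w) * (k * h₀⁻¹) := by simp only [mul_assoc]
    _ = (w * h₀) * (k * h₀⁻¹) := by rw [hw h₀]
    _ = w * (h₀ * k * h₀⁻¹ * k⁻¹) * k := by group
    _ = w * ⁅h₀, k⁆ * k := by rw [commutatorElement_def]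
    _ = ⁅h₀, k⁆ * w * k := by rw [hw ⁅h₀, k⁆]
    _ = ⁅h₀, k⁆ * (w * k) := by rw [mul_assoc]

theorem avg_rho_of_not_mem (H : Heis ρ Z) {k : Q} (hk : k ∉ Z) : avg ρ (ρ k) = 0 := by
  obtain ⟨h₀, hh₀⟩ := H.nondeg k hk
  obtain ⟨c, hc⟩ := H.scalar _ (H.comm_mem h₀ k)
  have hc1 : c ≠ 1 := by
    rintro rfl
    exact hh₀ (by rw [hc, one_smul])
  have key : avg ρ (ρ k) = c • avg ρ (ρ k) := by
    rw [avg_apply]
    conv_lhs => rw [← Equiv.sum_comp (Equiv.mulLeft h₀) (fun h => ρ h * ρ k * ρ h⁻¹)]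
    rw [Finset.smul_sum]
    apply Finset.sum_congr rfl
    intro h _
    simp only [Equiv.coe_mulLeft]
    rw [← map_mul, ← map_mul, conj_mul_eq H, map_mul, hc, smul_mul_assoc, one_mul, map_mul,
      map_mul]
  have h2 : (1 - c) • avg ρ (ρ k) = 0 := by rw [sub_smul, one_smul, ← key, sub_self]
  rcases smul_eq_zero.mp h2 with h | h
  · exact absurd (sub_eq_zero.mp h).symm hc1
  · exact h

theorem avg_rho_of_mem (H : Heis ρ Z) {k : Q} (hk : k ∈ Z) :
    avg ρ (ρ k) = (Fintype.card Q : E) • ρ k := by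
  rw [avg_apply]
  have h1 : ∀ h : Q, ρ h * ρ k * ρ h⁻¹ = ρ k := by
    intro h
    rw [← map_mul, ← map_mul, H.central k hk h, mul_inv_cancel_right]
  rw [Finset.sum_congr rfl (fun h _ => h1 h), Finset.sum_const, Finset.card_univ,
    Nat.cast_smul_eq_nsmul]

theorem avg_one (H : Heis ρ Z) : avg ρ (1 : Module.End E U) = (Fintype.card Q : E) • 1 := by
  have := avg_rho_of_mem H (Z.one_mem)
  rwa [map_one] at this

/-- `avg ρ a` commutes with the representation. -/
theorem rho_mul_avg (ρ : Q →* Module.End E U) (g : Q) (a : Module.End E U) :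
    ρ g * avg ρ a = avg ρ a * ρ g := by
  rw [avg_apply, Finset.mul_sum, Finset.sum_mul]
  rw [← Equiv.sum_comp (Equiv.mulLeft g⁻¹) (fun h => ρ g * (ρ h * a * ρ h⁻¹))]
  apply Finset.sum_congr rfl
  intro h _
  simp only [Equiv.coe_mulLeft]
  rw [mul_inv_rev, inv_inv, map_mul, map_mul]
  simp only [← mul_assoc]
  rw [← map_mul, mul_inv_cancel, map_one, one_mul]

theorem avg_of_commute (ρ : Q →* Module.End E U) (a : Module.End E U)
    (ha : ∀ h, ρ h * a = a * ρ h) : avg ρ a = (Fintype.card Q : E) • a := by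
  rw [avg_apply]
  have h1 : ∀ h : Q, ρ h * a * ρ h⁻¹ = a := by
    intro h
    rw [ha, mul_assoc, ← map_mul, mul_inv_cancel, map_one, mul_one]
  rw [Finset.sum_congr rfl (fun h _ => h1 h), Finset.sum_const, Finset.card_univ,
    Nat.cast_smul_eq_nsmul]

/-- on the span of the representation, `avg` takes scalar values. -/
theorem avg_scalar (H : Heis ρ Z) {a : Module.End E U}
    (ha : a ∈ Submodule.span E (Set.range ρ)) : ∃ c : E, avg ρ a = c • 1 := by
  classical
  induction ha using Submodule.span_induction with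
  | mem x hx =>
    obtain ⟨k, rfl⟩ := hx
    by_cases hk : k ∈ Z
    · obtain ⟨c, hc⟩ := H.scalar k hk
      exact ⟨(Fintype.card Q : E) * c, by rw [avg_rho_of_mem H hk, hc, mul_smul]⟩
    · exact ⟨0, by rw [avg_rho_of_not_mem H hk, zero_smul]⟩
  | zero => exact ⟨0, by rw [map_zero, zero_smul]⟩
  | add x y _ _ hx hy =>
    obtain ⟨c, hc⟩ := hx
    obtain ⟨d, hd⟩ := hy
    exact ⟨c + d, by rw [map_add, hc, hd, add_smul]⟩
  | smul t x _ hx =>
    obtain ⟨c, hc⟩ := hx
    exact ⟨t * c, by rw [map_smul, hc, mul_smul]⟩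

theorem card_filter_mem (Z : Subgroup Q) (k : Q) [DecidablePred fun g : Q => g⁻¹ * k ∈ Z] :
    (Finset.univ.filter (fun g : Q => g⁻¹ * k ∈ Z)).card = Nat.card Z := by
  rw [← Fintype.card_subtype, ← Nat.card_eq_fintype_card]
  apply Nat.card_congr
  refine
    { toFun := fun g => ⟨g.1⁻¹ * k, g.2⟩
      invFun := fun z => ⟨k * (z : Q)⁻¹, ?_⟩
      left_inv := ?_
      right_inv := ?_ }
  · show (k * (z : Q)⁻¹)⁻¹ * k ∈ Z
    rw [mul_inv_rev, inv_inv, inv_mul_cancel_right]
    exact z.2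
  · intro g
    apply Subtype.ext
    show k * (g.1⁻¹ * k)⁻¹ = g.1
    rw [mul_inv_rev, inv_inv, mul_inv_cancel_left]
  · intro z
    apply Subtype.ext
    show (k * (z : Q)⁻¹)⁻¹ * k = z
    rw [mul_inv_rev, inv_inv, inv_mul_cancel_right]

theorem card_Z_ne (H : Heis ρ Z) : (Nat.card Z : E) ≠ 0 := by
  intro h
  apply H.card_ne
  obtain ⟨m, hm⟩ := Subgroup.card_subgroup_dvd_card Z
  rw [Nat.card_eq_fintype_card (α := Q)] at hm
  rw [hm, Nat.cast_mul, h, zero_mul]

/-- the inversion formula. -/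
theorem sum_rho_mul_avg (H : Heis ρ Z) {a : Module.End E U}
    (ha : a ∈ Submodule.span E (Set.range ρ)) :
    ∑ g : Q, ρ g * avg ρ (ρ g⁻¹ * a) = ((Fintype.card Q : E) * (Nat.card Z : E)) • a := by
  classical
  induction ha using Submodule.span_induction with
  | mem x hx =>
    obtain ⟨k, rfl⟩ := hx
    have h1 : ∀ g : Q, ρ g * avg ρ (ρ g⁻¹ * ρ k)
        = if g⁻¹ * k ∈ Z then (Fintype.card Q : E) • ρ k else 0 := by
      intro g
      rw [← map_mul]
      split_ifs with hg
      · rw [avg_rho_of_mem H hg, mul_smul_comm, ← map_mul, mul_inv_cancel_left]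
      · rw [avg_rho_of_not_mem H hg, mul_zero]
    rw [Finset.sum_congr rfl (fun g _ => h1 g), Finset.sum_ite, Finset.sum_const_zero, add_zero,
      Finset.sum_const, card_filter_mem, ← Nat.cast_smul_eq_nsmul E, smul_smul, mul_comm]
  | zero => simp
  | add x y _ _ hx hy =>
    simp only [mul_add, map_add, Finset.sum_add_distrib, hx, hy, smul_add]
  | smul t x _ hx =>
    simp only [mul_smul_comm, map_smul, ← Finset.smul_sum, hx]
    rw [smul_comm]

theorem eq_zero_of_avg (H : Heis ρ Z) {a : Module.End E U}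
    (ha : a ∈ Submodule.span E (Set.range ρ)) (h0 : ∀ g : Q, avg ρ (ρ g⁻¹ * a) = 0) : a = 0 := by
  have h1 := sum_rho_mul_avg H ha
  rw [Finset.sum_congr rfl (fun g _ => by rw [h0 g, mul_zero]), Finset.sum_const_zero] at h1
  rcases smul_eq_zero.mp h1.symm with h | h
  · exact absurd h (mul_ne_zero H.card_ne (card_Z_ne H))
  · exact h

/-- elements of the span commuting with the representation are scalars. -/
theorem scalar_of_commute (H : Heis ρ Z) {a : Module.End E U}
    (ha : a ∈ Submodule.span E (Set.range ρ)) (hc : ∀ h, ρ h * a = a * ρ h) :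
    ∃ c : E, a = c • 1 := by
  obtain ⟨c, hc'⟩ := avg_scalar H ha
  rw [avg_of_commute ρ a hc] at hc'
  refine ⟨(Fintype.card Q : E)⁻¹ * c, ?_⟩
  rw [mul_smul, ← hc', smul_smul, inv_mul_cancel₀ H.card_ne, one_smul]

/-! ### linear independence of coset representatives -/

section Family

variable {J : Type*} [Fintype J]

/-- the linear combination map of a family of group elements. -/
noncomputable def fam (ρ : Q →* Module.End E U) (g : J → Q) : (J → E) →ₗ[E] Module.End E U :=
  Fintype.linearCombination E (fun j => ρ (g j))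

omit [Fintype Q] in
theorem fam_apply (ρ : Q →* Module.End E U) (g : J → Q) (c : J → E) :
    fam ρ g c = ∑ j, c j • ρ (g j) :=
  Fintype.linearCombination_apply E _ c

theorem fam_injective [Nontrivial U] (H : Heis ρ Z) (g : J → Q)
    (hg : ∀ j j', (g j')⁻¹ * g j ∈ Z → j = j') : Function.Injective (fam ρ g) := by
  classical
  rw [injective_iff_map_eq_zero]
  intro c hc
  funext j₀
  have h1 : avg ρ (ρ (g j₀)⁻¹ * fam ρ g c) = (c j₀ * (Fintype.card Q : E)) • 1 := by
    rw [fam_apply, Finset.mul_sum, map_sum]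
    rw [Finset.sum_eq_single j₀]
    · rw [mul_smul_comm, map_smul, ← map_mul, inv_mul_cancel, map_one, avg_one H, smul_smul]
    · intro j _ hj
      rw [mul_smul_comm, map_smul, ← map_mul, avg_rho_of_not_mem H, smul_zero]
      intro hmem
      exact hj (hg j j₀ hmem)
    · intro h
      exact absurd (Finset.mem_univ _) h
  rw [hc, mul_zero, map_zero] at h1
  rcases smul_eq_zero.mp h1.symm with h | h
  · rcases mul_eq_zero.mp h with h | h
    · exact h
    · exact absurd h H.card_ne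
  · exact absurd h one_ne_zero

theorem range_fam (H : Heis ρ Z) (g : J → Q) (hg : ∀ x : Q, ∃ j, (g j)⁻¹ * x ∈ Z) :
    LinearMap.range (fam ρ g) = Submodule.span E (Set.range ρ) := by
  unfold fam
  rw [Fintype.range_linearCombination]
  apply le_antisymm
  · apply Submodule.span_mono
    rintro _ ⟨j, rfl⟩
    exact ⟨g j, rfl⟩
  · rw [Submodule.span_le]
    rintro _ ⟨x, rfl⟩
    obtain ⟨j, hj⟩ := hg x
    obtain ⟨c, hc⟩ := H.scalar _ hj
    have h1 : ρ x = c • ρ (g j) := by
      have : x = g j * ((g j)⁻¹ * x) := by rw [mul_inv_cancel_left]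
      conv_lhs => rw [this]
      rw [map_mul, hc, mul_smul_comm, mul_one]
    rw [h1]
    exact Submodule.smul_mem _ _ (Submodule.subset_span ⟨j, rfl⟩)

end Family

end Cfsg.Agent.Lib.Helper10.XRep
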