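import Cfsg.Agent.Lib.Helper10.XRepAvg
import Cfsg.Agent.Lib.Helper10.XRepOrbit
import Cfsg.Agent.Lib.Helper10.XRepDiag

/-!
# The core theorem on representations of Heisenberg-type groups with an automorphism

Let `ρ` satisfy `Heis ρ Z`, let `φ` be an automorphism of `Q` of prime order `r` fixing `Z`
pointwise and acting without fixed points on `Q / Z`, and let `T` implement `φ` in the
representation with `T ^ r = 1`.  If `T` has no nonzero fixed vector then `|Q : Z| = (r - 1)²`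
(unless `Q = Z`).
-/

set_option autoImplicit false

namespace Cfsg.Agent.Lib.Helper10.XRep

open Module
open scoped commutatorElement

universe u v w

variable {E : Type v} [Field E] {Q : Type u} [Group Q] [Fintype Q]
  {U : Type w} [AddCommGroup U] [Module E U]

section Alg

variable (ρ : Q →* Module.End E U)

/-- the enveloping algebra of the representation. -/
def envAlg : Subalgebra E (Module.End E U) := Algebra.adjoin E (Set.range ρ)

omit [Fintype Q] in
theorem envAlg_toSubmodule :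
    Subalgebra.toSubmodule (envAlg ρ) = Submodule.span E (Set.range ρ) := by
  unfold envAlg
  rw [Algebra.adjoin_eq_span]
  congr 1
  have h : Set.range ρ = ((MonoidHom.mrange ρ : Submonoid _) : Set _) :=
    (MonoidHom.coe_mrange ρ).symm
  rw [h, Submonoid.closure_eq]

omit [Fintype Q] in
theorem mem_envAlg_iff {a : Module.End E U} :
    a ∈ envAlg ρ ↔ a ∈ Submodule.span E (Set.range ρ) := by
  rw [← envAlg_toSubmodule]
  exact Iff.rfl

omit [Fintype Q] in
theorem rho_mem_envAlg (g : Q) : ρ g ∈ envAlg ρ := Algebra.subset_adjoin ⟨g, rfl⟩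

end Alg

variable {ρ : Q →* Module.End E U} {Z : Subgroup Q}

theorem isSimpleRing_envAlg [Nontrivial U] (H : Heis ρ Z) : IsSimpleRing (envAlg ρ) := by
  rw [isSimpleRing_iff_isTwoSided_imp]
  refine ⟨inferInstance, ?_⟩
  intro I hI
  have := hI
  by_cases hbot : I = ⊥
  · exact Or.inl hbot
  · right
    obtain ⟨a, haI, ha0⟩ := Submodule.exists_mem_ne_zero_of_ne_bot hbot
    have ha : (a : Module.End E U) ∈ Submodule.span E (Set.range ρ) :=
      (mem_envAlg_iff ρ).mp a.2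
    have ha0' : (a : Module.End E U) ≠ 0 := fun h => ha0 (Subtype.ext h)
    have hex : ∃ g : Q, avg ρ (ρ g⁻¹ * a) ≠ 0 := by
      by_contra hcon
      push Not at hcon
      exact ha0' (eq_zero_of_avg H ha hcon)
    obtain ⟨g, hg⟩ := hex
    have hmem : ρ g⁻¹ * (a : Module.End E U) ∈ Submodule.span E (Set.range ρ) :=
      (mem_envAlg_iff ρ).mp ((envAlg ρ).mul_mem (rho_mem_envAlg ρ g⁻¹) a.2)
    obtain ⟨c, hc⟩ := avg_scalar H hmem
    have hc0 : c ≠ 0 := by
      rintro rfl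
      exact hg (by rw [hc, zero_smul])
    let ρ' : Q → envAlg ρ := fun h => ⟨ρ h, rho_mem_envAlg ρ h⟩
    have hsum : ∑ h : Q, ρ' h * (ρ' g⁻¹ * a) * ρ' h⁻¹ ∈ I := by
      apply Ideal.sum_mem
      intro h _
      exact I.mul_mem_right _ (I.mul_mem_left _ (I.mul_mem_left _ haI))
    have heq : (∑ h : Q, ρ' h * (ρ' g⁻¹ * a) * ρ' h⁻¹ : envAlg ρ) = algebraMap E (envAlg ρ) c := by
      apply Subtype.ext
      rw [Subalgebra.coe_algebraMap, Algebra.algebraMap_eq_smul_one, ← hc, avg_apply,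
        AddSubmonoidClass.coe_finsetSum]
      rfl
    rw [heq] at hsum
    exact I.eq_top_of_isUnit_mem hsum ((IsUnit.mk0 c hc0).map (algebraMap E (envAlg ρ)))

section Tau

variable [IsAlgClosed E] [FiniteDimensional E U] [Nontrivial U]

/-- the intertwining element of order `r`. -/
theorem exists_tau (H : Heis ρ Z) (φ : Q ≃* Q) {r : ℕ} (hr : 0 < r)
    (hφZ : ∀ z ∈ Z, φ z = z) (hφr : ∀ g, φ^[r] g = g) (hfpf : ∀ g, g⁻¹ * φ g ∈ Z → g ∈ Z) :
    ∃ τ₁ : Module.End E U, τ₁ ∈ Submodule.span E (Set.range ρ) ∧ τ₁ ^ r = 1 ∧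
      ∀ g, ρ (φ g) * τ₁ = τ₁ * ρ g := by
  classical
  let τ' : Module.End E U := ∑ h : Q, ρ (φ h) * ρ h⁻¹
  have hτ'mem : τ' ∈ Submodule.span E (Set.range ρ) := by
    apply Submodule.sum_mem
    intro h _
    rw [← map_mul]
    exact Submodule.subset_span ⟨_, rfl⟩
  have hτ' : ∀ g, ρ (φ g) * τ' = τ' * ρ g := by
    intro g
    show ρ (φ g) * ∑ h : Q, ρ (φ h) * ρ h⁻¹ = (∑ h : Q, ρ (φ h) * ρ h⁻¹) * ρ g
    rw [Finset.mul_sum, Finset.sum_mul,
      ← Equiv.sum_comp (Equiv.mulLeft g) (fun h => ρ (φ h) * ρ h⁻¹ * ρ g)]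
    apply Finset.sum_congr rfl
    intro h _
    simp only [Equiv.coe_mulLeft]
    rw [← map_mul, ← map_mul, ← map_mul, ← map_mul, map_mul φ]
    congr 1
    group
  -- the average of τ'
  have hnotmem : ∀ h : Q, h ∉ Z → φ h * h⁻¹ ∉ Z := by
    intro h hh hmem
    apply hh
    apply hfpf
    have h1 : h⁻¹ * φ h = h⁻¹ * (φ h * h⁻¹) * h := by group
    rw [h1, mul_assoc, ← H.central _ hmem h, inv_mul_cancel_left]
    exact hmem
  have havg : avg ρ τ' = ((Fintype.card Q : E) * (Nat.card Z : E)) • 1 := by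
    show avg ρ (∑ h : Q, ρ (φ h) * ρ h⁻¹) = _
    rw [map_sum]
    have h1 : ∀ h : Q, avg ρ (ρ (φ h) * ρ h⁻¹)
        = if h ∈ Z then (Fintype.card Q : E) • (1 : Module.End E U) else 0 := by
      intro h
      rw [← map_mul]
      split_ifs with hh
      · rw [hφZ h hh, mul_inv_cancel, map_one, avg_one H]
      · rw [avg_rho_of_not_mem H (hnotmem h hh)]
    have hcnt : (Finset.univ.filter (fun h : Q => h ∈ Z)).card = Nat.card Z := by
      rw [← Fintype.card_subtype, Nat.card_eq_fintype_card]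
    rw [Finset.sum_congr rfl (fun h _ => h1 h), Finset.sum_ite, Finset.sum_const_zero, add_zero,
      Finset.sum_const, ← Nat.cast_smul_eq_nsmul E, smul_smul, hcnt, mul_comm]
  let b' : Module.End E U := ∑ k : Q, ρ (k * (φ k)⁻¹)
  have hb' : b' * τ' = ((Fintype.card Q : E) * (Nat.card Z : E)) • 1 := by
    rw [← havg, avg_apply]
    show (∑ k : Q, ρ (k * (φ k)⁻¹)) * τ' = _
    rw [Finset.sum_mul]
    apply Finset.sum_congr rfl
    intro k _
    rw [mul_assoc (ρ k), ← hτ' k⁻¹, ← mul_assoc, ← map_mul, map_inv]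
  set s : E := (Fintype.card Q : E) * (Nat.card Z : E) with hs
  have hs0 : s ≠ 0 := mul_ne_zero H.card_ne (card_Z_ne H)
  have hinv1 : (s⁻¹ • b') * τ' = 1 := by
    rw [smul_mul_assoc, hb', smul_smul, inv_mul_cancel₀ hs0, one_smul]
  have hinv2 : τ' * (s⁻¹ • b') = 1 := mul_eq_one_comm.mp hinv1
  -- powers
  have hpow : ∀ (m : ℕ) (g : Q), ρ (φ^[m] g) * τ' ^ m = τ' ^ m * ρ g := by
    intro m
    induction m with
    | zero => intro g; simp
    | succ m ih =>
      intro g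
      rw [Function.iterate_succ_apply', pow_succ', ← mul_assoc, hτ', mul_assoc, ih, mul_assoc]
  have hcomm : ∀ g, ρ g * τ' ^ r = τ' ^ r * ρ g := by
    intro g
    have := hpow r g
    rwa [hφr] at this
  have hpowmem : τ' ^ r ∈ Submodule.span E (Set.range ρ) :=
    (mem_envAlg_iff ρ).mp ((envAlg ρ).pow_mem ((mem_envAlg_iff ρ).mpr hτ'mem) r)
  obtain ⟨κ, hκ⟩ := scalar_of_commute H hpowmem hcomm
  have hκ0 : κ ≠ 0 := by
    rintro rfl
    rw [zero_smul] at hκ
    have h1 : τ' ^ r * (s⁻¹ • b') ^ r = 1 := by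
      have hc : Commute τ' (s⁻¹ • b') := by
        show _ = _
        rw [hinv1, hinv2]
      rw [← hc.mul_pow, hinv2, one_pow]
    rw [hκ, zero_mul] at h1
    exact zero_ne_one h1
  obtain ⟨ε, hε⟩ := IsAlgClosed.exists_pow_nat_eq κ hr
  have hε0 : ε ≠ 0 := by
    rintro rfl
    rw [zero_pow hr.ne'] at hε
    exact hκ0 hε.symm
  refine ⟨ε⁻¹ • τ', Submodule.smul_mem _ _ hτ'mem, ?_, ?_⟩
  · rw [smul_pow, hκ, smul_smul, inv_pow, hε, inv_mul_cancel₀ hκ0, one_smul]
  · intro g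
    rw [mul_smul_comm, hτ', smul_mul_assoc]

/-- an eigenvalue `η` of the twisting operator such that `τ₁ - η⁻¹` is regular on the
enveloping algebra. -/
theorem exists_eta (H : Heis ρ Z) (φ : Q ≃* Q) {r : ℕ} (hr : 0 < r)
    (τ₁ : Module.End E U) (hτmem : τ₁ ∈ Submodule.span E (Set.range ρ)) (hτr : τ₁ ^ r = 1)
    (hτ : ∀ g, ρ (φ g) * τ₁ = τ₁ * ρ g)
    (T : Module.End E U) (hTr : T ^ r = 1) (hT : ∀ g, T * ρ g = ρ (φ g) * T)
    (hfix : ∀ u, T u = u → u = 0) :
    ∃ η : E, η ^ r = 1 ∧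
      ∀ b ∈ Submodule.span E (Set.range ρ), (τ₁ - η⁻¹ • (1 : Module.End E U)) * b = 0 → b = 0 := by
  obtain ⟨m, hm⟩ : ∃ m, r = m + 1 := ⟨r - 1, (Nat.succ_pred_eq_of_pos hr).symm⟩
  set τi : Module.End E U := τ₁ ^ m with hτi
  have hτi1 : τ₁ * τi = 1 := by rw [hτi, ← pow_succ', ← hm, hτr]
  have hτi2 : τi * τ₁ = 1 := by rw [hτi, ← pow_succ, ← hm, hτr]
  have hτiρ : ∀ g, τi * ρ (φ g) = ρ g * τi := by
    intro g
    calc τi * ρ (φ g) = τi * ρ (φ g) * (τ₁ * τi) := by rw [hτi1, mul_one]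
      _ = τi * (ρ (φ g) * τ₁) * τi := by simp only [mul_assoc]
      _ = τi * (τ₁ * ρ g) * τi := by rw [hτ]
      _ = (τi * τ₁) * ρ g * τi := by simp only [mul_assoc]
      _ = ρ g * τi := by rw [hτi2, one_mul]
  set c₁ : Module.End E U := τi * T with hc₁
  have hc₁ρ : ∀ g, c₁ * ρ g = ρ g * c₁ := by
    intro g
    rw [hc₁, mul_assoc, hT, ← mul_assoc, hτiρ, mul_assoc]
  have hc₁A : ∀ a ∈ Submodule.span E (Set.range ρ), c₁ * a = a * c₁ := by
    intro a ha
    induction ha using Submodule.span_induction with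
    | mem x hx =>
      obtain ⟨g, rfl⟩ := hx
      exact hc₁ρ g
    | zero => rw [mul_zero, zero_mul]
    | add x y _ _ hx hy => rw [mul_add, add_mul, hx, hy]
    | smul t x _ hx => rw [mul_smul_comm, smul_mul_assoc, hx]
  have hc₁τ : c₁ * τ₁ = τ₁ * c₁ := hc₁A τ₁ hτmem
  have hTeq : T = τ₁ * c₁ := by rw [hc₁, ← mul_assoc, hτi1, one_mul]
  have hTτ : Commute T τ₁ := by
    show T * τ₁ = τ₁ * T
    rw [hTeq, mul_assoc, hc₁τ]
  have hc₁r : c₁ ^ r = 1 := by
    have hc : Commute τi T := (hTτ.pow_right m).symm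
    rw [hc₁, hc.mul_pow, hTr, mul_one, hτi, ← pow_mul, mul_comm, pow_mul, hτr, one_pow]
  obtain ⟨η, hη⟩ := Module.End.exists_eigenvalue c₁
  obtain ⟨u₀, hu₀⟩ := hη.exists_hasEigenvector
  have hu₀1 : c₁ u₀ = η • u₀ := Module.End.mem_eigenspace_iff.mp hu₀.1
  have hu₀0 : u₀ ≠ 0 := hu₀.2
  have hηr : η ^ r = 1 := by
    have h1 := hu₀.pow_apply r
    rw [hc₁r, Module.End.one_apply] at h1
    have h2 : (η ^ r - 1) • u₀ = 0 := by rw [sub_smul, one_smul, ← h1, sub_self]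
    rcases smul_eq_zero.mp h2 with h | h
    · exact sub_eq_zero.mp h
    · exact absurd h hu₀0
  have hη0 : η ≠ 0 := by
    rintro rfl
    rw [zero_pow hr.ne'] at hηr
    exact zero_ne_one hηr
  refine ⟨η, hηr, ?_⟩
  -- nonzero elements of the algebra do not kill the eigenspace
  have hF1 : ∀ a ∈ Submodule.span E (Set.range ρ), a ≠ 0 → ∃ u, c₁ u = η • u ∧ a u ≠ 0 := by
    intro a ha ha0
    by_contra hcon
    push Not at hcon
    apply ha0
    apply eq_zero_of_avg H ha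
    intro g
    have hmem : ρ g⁻¹ * a ∈ Submodule.span E (Set.range ρ) :=
      (mem_envAlg_iff ρ).mp ((envAlg ρ).mul_mem (rho_mem_envAlg ρ g⁻¹)
        ((mem_envAlg_iff ρ).mpr ha))
    obtain ⟨c, hc⟩ := avg_scalar H hmem
    have h1 : (avg ρ (ρ g⁻¹ * a)) u₀ = 0 := by
      rw [avg_apply, LinearMap.sum_apply]
      apply Finset.sum_eq_zero
      intro h _
      rw [Module.End.mul_apply, Module.End.mul_apply, Module.End.mul_apply]
      have h2 : c₁ (ρ h⁻¹ u₀) = η • ρ h⁻¹ u₀ := by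
        rw [← Module.End.mul_apply, hc₁ρ, Module.End.mul_apply, hu₀1, map_smul]
      rw [hcon _ h2, map_zero, map_zero]
    rw [hc, LinearMap.smul_apply, Module.End.one_apply] at h1
    rcases smul_eq_zero.mp h1 with h | h
    · rw [hc, h, zero_smul]
    · exact absurd h hu₀0
  intro b hb hb0
  by_contra hbne
  obtain ⟨u, hu, hbu⟩ := hF1 b hb hbne
  apply hbu
  apply hfix
  have h1 : c₁ (b u) = η • b u := by
    rw [← Module.End.mul_apply, hc₁A b hb, Module.End.mul_apply, hu, map_smul]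
  have h2 : τ₁ (b u) = η⁻¹ • b u := by
    have h3 := LinearMap.congr_fun hb0 u
    rw [Module.End.mul_apply, LinearMap.sub_apply, LinearMap.smul_apply, Module.End.one_apply,
      LinearMap.zero_apply, sub_eq_zero] at h3
    exact h3
  rw [hTeq, Module.End.mul_apply, h1, map_smul, h2, smul_smul, mul_inv_cancel₀ hη0, one_smul]

theorem isUnit_sub (H : Heis ρ Z) (φ : Q ≃* Q) {r : ℕ} (hr : 0 < r)
    (τ₁ : Module.End E U) (hτmem : τ₁ ∈ Submodule.span E (Set.range ρ)) (hτr : τ₁ ^ r = 1)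
    (hτ : ∀ g, ρ (φ g) * τ₁ = τ₁ * ρ g)
    (T : Module.End E U) (hTr : T ^ r = 1) (hT : ∀ g, T * ρ g = ρ (φ g) * T)
    (hfix : ∀ u, T u = u → u = 0) :
    ∃ η : E, η ^ r = 1 ∧
      IsUnit ((⟨τ₁, (mem_envAlg_iff ρ).mpr hτmem⟩ : envAlg ρ) - algebraMap E (envAlg ρ) η⁻¹) := by
  obtain ⟨η, hηr, hreg⟩ := exists_eta H φ hr τ₁ hτmem hτr hτ T hTr hT hfix
  refine ⟨η, hηr, ?_⟩
  set a₀ : envAlg ρ := (⟨τ₁, (mem_envAlg_iff ρ).mpr hτmem⟩ : envAlg ρ) - algebraMap E (envAlg ρ) η⁻¹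
    with ha₀
  have hcoe : (a₀ : Module.End E U) = τ₁ - η⁻¹ • (1 : Module.End E U) := by
    rw [ha₀, Subalgebra.coe_sub, Subalgebra.coe_algebraMap, Algebra.algebraMap_eq_smul_one]
  have hinj : Function.Injective (LinearMap.mulLeft E a₀) := by
    rw [injective_iff_map_eq_zero]
    intro b hb
    have h1 : a₀ * b = 0 := hb
    have h2 : (τ₁ - η⁻¹ • (1 : Module.End E U)) * (b : Module.End E U) = 0 := by
      rw [← hcoe, ← Subalgebra.coe_mul, h1]
      rfl
    exact Subtype.ext (hreg _ ((mem_envAlg_iff ρ).mp b.2) h2)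
  obtain ⟨b, hb⟩ := LinearMap.surjective_of_injective hinj 1
  exact IsUnit.of_mul_eq_one b hb

end Tau

section Count

variable [Nontrivial U]

theorem finrank_envAlg (H : Heis ρ Z) {J : Type*} [Fintype J] (g : J → Q)
    (hinj : ∀ j j', (g j')⁻¹ * g j ∈ Z → j = j') (hsurj : ∀ x : Q, ∃ j, (g j)⁻¹ * x ∈ Z) :
    finrank E (envAlg ρ) = Fintype.card J := by
  have h1 : finrank E (envAlg ρ) = finrank E (Subalgebra.toSubmodule (envAlg ρ)) := rfl
  rw [h1, envAlg_toSubmodule, ← range_fam H g hsurj,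
    LinearMap.finrank_range_of_inj (fam_injective H g hinj), finrank_fintype_fun_eq_card]

variable {T₀ : Type u} [Fintype T₀] {r : ℕ} [NeZero r]

/-- the shift permutation. -/
def shiftPerm (T₀ : Type u) (r : ℕ) [NeZero r] : Equiv.Perm (Option (T₀ × Fin r)) :=
  Equiv.optionCongr (Equiv.prodCongr (Equiv.refl T₀) (Equiv.addRight (1 : Fin r)))

omit [Fintype T₀] in
theorem shiftPerm_none : shiftPerm T₀ r none = none := rfl

omit [Fintype T₀] in
theorem shiftPerm_some (t : T₀) (k : Fin r) : shiftPerm T₀ r (some (t, k)) = some (t, k + 1) := rfl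

omit [Fintype T₀] in
theorem mem_invSub_iff_comp (c : Option (T₀ × Fin r) → E) :
    c ∈ invSub E T₀ r ↔ c ∘ (shiftPerm T₀ r).symm = c := by
  constructor
  · intro hc
    funext j
    have h1 : ∀ j, c (shiftPerm T₀ r j) = c j := by
      rintro (_ | ⟨t, k⟩)
      · rfl
      · exact hc t k
    have h2 := h1 ((shiftPerm T₀ r).symm j)
    rw [Equiv.apply_symm_apply] at h2
    exact h2.symm
  · intro hc t k
    have h1 := congrFun hc (some (t, k + 1))
    rw [Function.comp_apply, ← shiftPerm_some, Equiv.symm_apply_apply] at h1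
    exact h1.symm

theorem finrank_commSub_envAlg (H : Heis ρ Z) (φ : Q ≃* Q) (g : Option (T₀ × Fin r) → Q)
    (hg1 : g none = 1) (hgφ : ∀ t k, φ (g (some (t, k))) = g (some (t, k + 1)))
    (hginj : ∀ j j', (g j')⁻¹ * g j ∈ Z → j = j') (hgsurj : ∀ x : Q, ∃ j, (g j)⁻¹ * x ∈ Z)
    (hr : 0 < r)
    (τ₁ : Module.End E U) (hτmem : τ₁ ∈ Submodule.span E (Set.range ρ)) (hτr : τ₁ ^ r = 1)
    (hτ : ∀ g, ρ (φ g) * τ₁ = τ₁ * ρ g) :
    finrank E (commSub E (envAlg ρ) (⟨τ₁, (mem_envAlg_iff ρ).mpr hτmem⟩ : envAlg ρ))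
      = 1 + Fintype.card T₀ := by
  have hΨinj := fam_injective H g hginj
  have hΨrange := range_fam H g hgsurj
  let val : envAlg ρ →ₗ[E] Module.End E U := (envAlg ρ).val.toLinearMap
  have hval : Function.Injective val := Subtype.val_injective
  have hφg : ∀ j, φ (g j) = g (shiftPerm T₀ r j) := by
    rintro (_ | ⟨t, k⟩)
    · rw [shiftPerm_none, hg1, map_one]
    · exact hgφ t k
  have hkey : ∀ c : Option (T₀ × Fin r) → E,
      τ₁ * fam ρ g c = fam ρ g (c ∘ (shiftPerm T₀ r).symm) * τ₁ := by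
    intro c
    rw [fam_apply, fam_apply, Finset.mul_sum, Finset.sum_mul,
      ← Equiv.sum_comp (shiftPerm T₀ r)
        (fun j => ((c ∘ (shiftPerm T₀ r).symm) j • ρ (g j)) * τ₁)]
    apply Finset.sum_congr rfl
    intro j _
    rw [Function.comp_apply, Equiv.symm_apply_apply, mul_smul_comm, smul_mul_assoc, ← hτ, hφg]
  obtain ⟨m, hm⟩ : ∃ m, r = m + 1 := ⟨r - 1, (Nat.succ_pred_eq_of_pos hr).symm⟩
  have hτi1 : τ₁ * τ₁ ^ m = 1 := by rw [← pow_succ', ← hm, hτr]
  have hcancel : ∀ X Y : Module.End E U, X * τ₁ = Y * τ₁ → X = Y := by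
    intro X Y hXY
    calc X = X * τ₁ * τ₁ ^ m := by rw [mul_assoc, hτi1, mul_one]
      _ = Y * τ₁ * τ₁ ^ m := by rw [hXY]
      _ = Y := by rw [mul_assoc, hτi1, mul_one]
  have hset : (commSub E (envAlg ρ) (⟨τ₁, (mem_envAlg_iff ρ).mpr hτmem⟩ : envAlg ρ)).map val
      = (invSub E T₀ r).map (fam ρ g) := by
    ext x
    constructor
    · rintro ⟨b, hb, rfl⟩
      have hb' : (⟨τ₁, (mem_envAlg_iff ρ).mpr hτmem⟩ : envAlg ρ) * b
          = b * ⟨τ₁, (mem_envAlg_iff ρ).mpr hτmem⟩ := hb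
      have hb'' : τ₁ * (b : Module.End E U) = (b : Module.End E U) * τ₁ :=
        congrArg Subtype.val hb'
      have hbmem : (b : Module.End E U) ∈ LinearMap.range (fam ρ g) := by
        rw [hΨrange]
        exact (mem_envAlg_iff ρ).mp b.2
      obtain ⟨c, hc⟩ := hbmem
      refine ⟨c, ?_, hc⟩
      show c ∈ invSub E T₀ r
      rw [mem_invSub_iff_comp]
      apply hΨinj
      apply hcancel
      rw [← hkey, hc, hb'']
    · rintro ⟨c, hc, rfl⟩
      have hc' : c ∘ (shiftPerm T₀ r).symm = c := (mem_invSub_iff_comp c).mp hc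
      have hmem : fam ρ g c ∈ envAlg ρ := by
        rw [mem_envAlg_iff, ← hΨrange]
        exact ⟨c, rfl⟩
      refine ⟨⟨fam ρ g c, hmem⟩, ?_, rfl⟩
      show (⟨τ₁, (mem_envAlg_iff ρ).mpr hτmem⟩ : envAlg ρ) * ⟨fam ρ g c, hmem⟩
        = ⟨fam ρ g c, hmem⟩ * ⟨τ₁, (mem_envAlg_iff ρ).mpr hτmem⟩
      apply Subtype.ext
      show τ₁ * fam ρ g c = fam ρ g c * τ₁
      rw [hkey, hc']
  have e1 := (Submodule.equivMapOfInjective val hval
    (commSub E (envAlg ρ) (⟨τ₁, (mem_envAlg_iff ρ).mpr hτmem⟩ : envAlg ρ))).finrank_eq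
  have e2 := (Submodule.equivMapOfInjective (fam ρ g) hΨinj (invSub E T₀ r)).finrank_eq
  rw [e1, hset, ← e2, finrank_invSub]

end Count

/-- **Core theorem.** -/
theorem core [IsAlgClosed E] [FiniteDimensional E U] [Nontrivial U] (H : Heis ρ Z) (φ : Q ≃* Q)
    {r : ℕ} (hr : r.Prime) (hφZ : ∀ z ∈ Z, φ z = z) (hφr : ∀ g, φ^[r] g = g)
    (hfpf : ∀ g, g⁻¹ * φ g ∈ Z → g ∈ Z)
    (T : Module.End E U) (hTr : T ^ r = 1) (hT : ∀ g, T * ρ g = ρ (φ g) * T)
    (hrE : (r : E) ≠ 0) (hfix : ∀ u, T u = u → u = 0) (hQZ : ∃ g, g ∉ Z) :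
    Z.index = (r - 1) ^ 2 := by
  have : NeZero r := ⟨hr.ne_zero⟩
  obtain ⟨T₀, hT₀, g, hg1, hgφ, hginj, hgsurj⟩ := exists_family r hr Z φ hφZ hφr hfpf
  obtain ⟨τ₁, hτmem, hτr, hτ⟩ := exists_tau H φ hr.pos hφZ hφr hfpf
  obtain ⟨η, hηr, hunit⟩ := isUnit_sub H φ hr.pos τ₁ hτmem hτr hτ T hTr hT hfix
  have := isSimpleRing_envAlg H
  obtain ⟨n, hn, ⟨e⟩⟩ := IsSimpleRing.exists_algEquiv_matrix_of_isAlgClosed E (envAlg ρ)
  have hpow : (⟨τ₁, (mem_envAlg_iff ρ).mpr hτmem⟩ : envAlg ρ) ^ r = 1 := by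
    apply Subtype.ext
    rw [Subalgebra.coe_pow, Subalgebra.coe_one]
    exact hτr
  have hineq := finrank_le_mul_finrank_commSub e _ hr.pos hrE hpow η⁻¹
    (by rw [inv_pow, hηr, inv_one]) hunit
  rw [finrank_commSub_envAlg H φ g hg1 hgφ hginj hgsurj hr.pos τ₁ hτmem hτr hτ,
    finrank_envAlg H g hginj hgsurj] at hineq
  have hnn : Fintype.card (Option (T₀ × Fin r)) = n * n := by
    rw [← finrank_envAlg H g hginj hgsurj, LinearEquiv.finrank_eq e.toLinearEquiv, finrank_matrix,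
      finrank_self, mul_one, Fintype.card_fin]
  have hJ : Fintype.card (Option (T₀ × Fin r)) = 1 + Fintype.card T₀ * r := by
    rw [Fintype.card_option, Fintype.card_prod, Fintype.card_fin, add_comm]
  have hidx : Z.index = Fintype.card (Option (T₀ × Fin r)) := by
    rw [← Nat.card_eq_fintype_card]
    symm
    apply Nat.card_eq_of_bijective (fun j => ((g j : Q) : Q ⧸ Z))
    constructor
    · intro j j' hjj
      exact (hginj j' j (QuotientGroup.eq.mp hjj)).symm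
    · intro b
      obtain ⟨x, rfl⟩ := QuotientGroup.mk_surjective b
      obtain ⟨j, hj⟩ := hgsurj x
      exact ⟨j, QuotientGroup.eq.mpr hj⟩
  have hne1 : Z.index ≠ 1 := by
    intro h
    obtain ⟨x, hx⟩ := hQZ
    rw [Subgroup.index_eq_one] at h
    exact hx (h ▸ Subgroup.mem_top x)
  rw [hidx]
  rw [hidx] at hne1
  set t := Fintype.card T₀ with ht
  rw [hJ] at hineq hnn hne1 ⊢
  obtain ⟨s, hs⟩ : ∃ s, r = s + 1 := ⟨r - 1, (Nat.succ_pred_eq_of_pos hr.pos).symm⟩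
  have hs1 : 1 ≤ s := by
    have := hr.two_le
    omega
  rw [hs] at hineq hnn hne1 ⊢
  rw [Nat.add_sub_cancel] at hineq ⊢
  have ht0 : t ≠ 0 := by
    intro h
    apply hne1
    rw [h, zero_mul, add_zero]
  have hts : 1 + t ≤ s := by nlinarith
  have hns : n ≤ s := by
    by_contra hcon
    push Not at hcon
    have : (s + 1) * (s + 1) ≤ n * n := Nat.mul_le_mul hcon hcon
    nlinarith
  have hn2 : 2 ≤ n := by
    by_contra hcon
    push Not at hcon
    have : n * n ≤ 1 * 1 := Nat.mul_le_mul (by omega) (by omega)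
    have ht1 : 1 ≤ t := Nat.one_le_iff_ne_zero.mpr ht0
    nlinarith
  have hdvd : (s + 1) ∣ (n - 1) * (n + 1) := by
    obtain ⟨k, hk⟩ : ∃ k, n = k + 1 := ⟨n - 1, by omega⟩
    refine ⟨t, ?_⟩
    rw [hk, Nat.add_sub_cancel]
    rw [hk] at hnn
    nlinarith
  have hprime : (s + 1).Prime := hs ▸ hr
  rcases (Nat.Prime.dvd_mul hprime).mp hdvd with h | h
  · exfalso
    have := Nat.le_of_dvd (by omega) h
    omega
  · have := Nat.le_of_dvd (by omega) h
    have hn_eq : n = s := by omega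
    rw [hnn, hn_eq, sq]

end Cfsg.Agent.Lib.Helper10.XRep
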