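import Cfsg.Agent.Lib.Helper10.XRepCore
import Cfsg.Agent.Lib.Helper10.XRepBridge

/-!
# The core theorem for faithful representations of class-two groups

We restrict a representation to a minimal invariant subspace on which the centre acts by scalars
and apply the core theorem.  We also specialise the bridge to subgroups of a finite group.
-/

set_option autoImplicit false

namespace Cfsg.Agent.Lib.Helper10.XRep

open Module
open scoped commutatorElement

universe u v w

section Restrict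

variable {E : Type v} [Field E] {Q : Type u} [Group Q] {U₀ : Type w} [AddCommGroup U₀]
  [Module E U₀]

/-- restriction of a representation to an invariant subspace. -/
def resRep (ρ : Q →* Module.End E U₀) (U : Submodule E U₀) (hU : ∀ g, ∀ u ∈ U, ρ g u ∈ U) :
    Q →* Module.End E U where
  toFun g := (ρ g).restrict (hU g)
  map_one' := by
    apply LinearMap.ext
    intro u
    apply Subtype.ext
    show ρ 1 (u : U₀) = u
    rw [map_one]
    rfl
  map_mul' g h := by
    apply LinearMap.ext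
    intro u
    apply Subtype.ext
    show ρ (g * h) (u : U₀) = ρ g (ρ h u)
    rw [map_mul]
    rfl

theorem resRep_apply (ρ : Q →* Module.End E U₀) (U : Submodule E U₀)
    (hU : ∀ g, ∀ u ∈ U, ρ g u ∈ U) (g : Q) (u : U) :
    ((resRep ρ U hU g u : U) : U₀) = ρ g u := rfl

theorem exists_eigenvalue_ne_one [IsAlgClosed E] [FiniteDimensional E U₀] (A : Module.End E U₀)
    {q : ℕ} (hqE : (q : E) ≠ 0) (hAq : A ^ q = 1) (hA1 : A ≠ 1) :
    ∃ ω : E, ω ≠ 1 ∧ Module.End.eigenspace A ω ≠ ⊥ := by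
  let N : Module.End E U₀ := ∑ i ∈ Finset.range q, A ^ i
  have hNA : N * (A - 1) = 0 := by
    show (∑ i ∈ Finset.range q, A ^ i) * (A - 1) = 0
    rw [geom_sum_mul, hAq, sub_self]
  have hcomm : A * N = N * A := by
    show A * (∑ i ∈ Finset.range q, A ^ i) = (∑ i ∈ Finset.range q, A ^ i) * A
    rw [Finset.mul_sum, Finset.sum_mul]
    apply Finset.sum_congr rfl
    intro i _
    rw [← pow_succ', ← pow_succ]
  obtain ⟨w, hw⟩ : ∃ w, (A - 1) w ≠ 0 := by
    by_contra hcon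
    push Not at hcon
    apply hA1
    apply LinearMap.ext
    intro w
    have h1 := hcon w
    rw [LinearMap.sub_apply, Module.End.one_apply, sub_eq_zero] at h1
    rw [Module.End.one_apply]
    exact h1
  let K : Submodule E U₀ := LinearMap.ker N
  have hK : ∀ u ∈ K, A u ∈ K := by
    intro u hu
    rw [LinearMap.mem_ker] at hu ⊢
    rw [← Module.End.mul_apply, ← hcomm, Module.End.mul_apply, hu, map_zero]
  have hwK : (A - 1) w ∈ K := by
    rw [LinearMap.mem_ker, ← Module.End.mul_apply, hNA, LinearMap.zero_apply]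
  have hnt : Nontrivial K := ⟨⟨⟨(A - 1) w, hwK⟩, 0, fun h => hw (congrArg Subtype.val h)⟩⟩
  obtain ⟨ω, hω⟩ := Module.End.exists_eigenvalue (A.restrict hK)
  obtain ⟨u, hu⟩ := hω.exists_hasEigenvector
  have hu1 : A (u : U₀) = ω • (u : U₀) :=
    congrArg Subtype.val (Module.End.mem_eigenspace_iff.mp hu.1)
  have hu0 : (u : U₀) ≠ 0 := fun h => hu.2 (Subtype.ext h)
  refine ⟨ω, ?_, ?_⟩
  · rintro rfl
    have h1 : ∀ i : ℕ, (A ^ i) (u : U₀) = u := by
      intro i
      induction i with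
      | zero => rw [pow_zero, Module.End.one_apply]
      | succ i ih => rw [pow_succ, Module.End.mul_apply, hu1, one_smul, ih]
    have h2 : N (u : U₀) = (q : E) • (u : U₀) := by
      show (∑ i ∈ Finset.range q, A ^ i) (u : U₀) = _
      rw [LinearMap.sum_apply, Finset.sum_congr rfl (fun i _ => h1 i), Finset.sum_const,
        Finset.card_range, Nat.cast_smul_eq_nsmul]
    have h3 : N (u : U₀) = 0 := u.2
    rw [h2] at h3
    rcases smul_eq_zero.mp h3 with h | h
    · exact hqE h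
    · exact hu0 h
  · rw [Submodule.ne_bot_iff]
    exact ⟨u, Module.End.mem_eigenspace_iff.mpr hu1, hu0⟩

end Restrict

section CoreGroup

variable {E : Type v} [Field E] [IsAlgClosed E] {Q : Type u} [Group Q] [Finite Q]
  {U₀ : Type w} [AddCommGroup U₀] [Module E U₀] [FiniteDimensional E U₀]

/-- the core theorem for a faithful representation. -/
theorem coreGroup (ρ : Q →* Module.End E U₀) (hρ : ∀ g, ρ g = 1 → g = 1)
    {q r : ℕ} (hq : q.Prime) (hr : r.Prime) (hQ : IsPGroup q Q) (hqE : (q : E) ≠ 0)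
    (hrE : (r : E) ≠ 0)
    (hcomm : ∀ g h : Q, ⁅g, h⁆ ∈ Subgroup.center Q)
    (φ : Q ≃* Q) (hφZ : ∀ z ∈ Subgroup.center Q, φ z = z) (hφr : ∀ g, φ^[r] g = g)
    (hfpf : ∀ g, g⁻¹ * φ g ∈ Subgroup.center Q → g ∈ Subgroup.center Q)
    (T : Module.End E U₀) (hTr : T ^ r = 1) (hT : ∀ g, T * ρ g = ρ (φ g) * T)
    (hfix : ∀ u, T u = u → u = 0)
    (z₀ : Q) (hz₀ : z₀ ∈ Subgroup.center Q) (hz₀1 : z₀ ≠ 1)
    (hnd : ∀ g : Q, g ∉ Subgroup.center Q → ∀ Z₁ : Subgroup Q, Z₁ ≤ Subgroup.center Q → z₀ ∉ Z₁ →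
      ∃ h : Q, ⁅h, g⁆ ∉ Z₁)
    (hQZ : ∃ g, g ∉ Subgroup.center Q) :
    (Subgroup.center Q).index = (r - 1) ^ 2 := by
  classical
  have : Fintype Q := Fintype.ofFinite Q
  have hcentral : ∀ z ∈ Subgroup.center Q, ∀ g : Q, g * z = z * g :=
    fun z hz g => Subgroup.mem_center_iff.mp hz g
  -- an eigenvalue of `ρ z₀` different from one
  obtain ⟨k, hk⟩ := hQ z₀
  have hA1 : ρ z₀ ≠ 1 := fun h => hz₀1 (hρ z₀ h)
  have hAq : ρ z₀ ^ (q ^ k) = 1 := by rw [← map_pow, hk, map_one]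
  have hqkE : ((q ^ k : ℕ) : E) ≠ 0 := by
    rw [Nat.cast_pow]
    exact pow_ne_zero _ hqE
  obtain ⟨ω₀, hω₀1, hω₀⟩ := exists_eigenvalue_ne_one (ρ z₀) hqkE hAq hA1
  -- the good subspaces
  let S : Set (Submodule E U₀) := {U | U ≠ ⊥ ∧ U ≤ Module.End.eigenspace (ρ z₀) ω₀ ∧
    (∀ g, ∀ u ∈ U, ρ g u ∈ U) ∧ (∀ u ∈ U, T u ∈ U)}
  have hφz₀ : φ z₀ = z₀ := hφZ z₀ hz₀
  have hS0 : Module.End.eigenspace (ρ z₀) ω₀ ∈ S := by
    refine ⟨hω₀, le_refl _, ?_, ?_⟩
    · intro g u hu
      rw [Module.End.mem_eigenspace_iff] at hu ⊢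
      rw [← Module.End.mul_apply, ← map_mul, ← hcentral z₀ hz₀ g, map_mul, Module.End.mul_apply,
        hu, map_smul]
    · intro u hu
      rw [Module.End.mem_eigenspace_iff] at hu ⊢
      have h1 : ρ z₀ * T = T * ρ z₀ := by
        have := hT z₀
        rw [hφz₀] at this
        exact this.symm
      rw [← Module.End.mul_apply, h1, Module.End.mul_apply, hu, map_smul]
  obtain ⟨U₁, hU₁S, hU₁min⟩ := wellFounded_lt.has_min S ⟨_, hS0⟩
  obtain ⟨hU₁0, hU₁le, hU₁ρ, hU₁T⟩ := hU₁S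
  have : Nontrivial U₁ := Submodule.nontrivial_iff_ne_bot.mpr hU₁0
  -- the centre acts by scalars
  have hscal : ∀ z ∈ Subgroup.center Q, ∃ c : E, ∀ u ∈ U₁, ρ z u = c • u := by
    intro z hz
    obtain ⟨c, hc⟩ := Module.End.exists_eigenvalue ((ρ z).restrict (hU₁ρ z))
    obtain ⟨u₁, hu₁⟩ := hc.exists_hasEigenvector
    have hu₁1 : ρ z (u₁ : U₀) = c • (u₁ : U₀) :=
      congrArg Subtype.val (Module.End.mem_eigenspace_iff.mp hu₁.1)
    have hu₁0 : (u₁ : U₀) ≠ 0 := fun h => hu₁.2 (Subtype.ext h)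
    let W : Submodule E U₀ := U₁ ⊓ Module.End.eigenspace (ρ z) c
    have hWS : W ∈ S := by
      refine ⟨?_, inf_le_left.trans hU₁le, ?_, ?_⟩
      · rw [Submodule.ne_bot_iff]
        exact ⟨u₁, ⟨u₁.2, Module.End.mem_eigenspace_iff.mpr hu₁1⟩, hu₁0⟩
      · intro g u hu
        have hu2 := Module.End.mem_eigenspace_iff.mp hu.2
        have h2 : ρ g u ∈ Module.End.eigenspace (ρ z) c := by
          rw [Module.End.mem_eigenspace_iff, ← Module.End.mul_apply, ← map_mul,
            ← hcentral z hz g, map_mul, Module.End.mul_apply, hu2, map_smul]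
        exact ⟨hU₁ρ g u hu.1, h2⟩
      · intro u hu
        have hu2 := Module.End.mem_eigenspace_iff.mp hu.2
        have h1 : ρ z * T = T * ρ z := by
          have := hT z
          rw [hφZ z hz] at this
          exact this.symm
        have h2 : T u ∈ Module.End.eigenspace (ρ z) c := by
          rw [Module.End.mem_eigenspace_iff, ← Module.End.mul_apply, h1, Module.End.mul_apply,
            hu2, map_smul]
        exact ⟨hU₁T u hu.1, h2⟩
    have hWU : W = U₁ := by
      by_contra hne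
      exact hU₁min W hWS (lt_of_le_of_ne inf_le_left hne)
    refine ⟨c, ?_⟩
    intro u hu
    have : u ∈ W := hWU ▸ hu
    exact Module.End.mem_eigenspace_iff.mp this.2
  -- the restricted data
  let ρ₁ : Q →* Module.End E U₁ := resRep ρ U₁ hU₁ρ
  let T₁ : Module.End E U₁ := T.restrict hU₁T
  have hρ₁z₀ : ρ₁ z₀ = ω₀ • 1 := by
    apply LinearMap.ext
    intro u
    apply Subtype.ext
    show ρ z₀ (u : U₀) = ω₀ • (u : U₀)
    exact Module.End.mem_eigenspace_iff.mp (hU₁le u.2)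
  let Z₁ : Subgroup Q := Subgroup.center Q ⊓ ρ₁.ker
  have hz₀Z₁ : z₀ ∉ Z₁ := by
    intro h
    have h1 : ρ₁ z₀ = 1 := MonoidHom.mem_ker.mp h.2
    rw [hρ₁z₀] at h1
    obtain ⟨u, hu⟩ := exists_ne (0 : U₁)
    have h2 := LinearMap.congr_fun h1 u
    rw [LinearMap.smul_apply, Module.End.one_apply] at h2
    have h3 : (ω₀ - 1) • u = 0 := by rw [sub_smul, one_smul, h2, sub_self]
    rcases smul_eq_zero.mp h3 with h4 | h4
    · exact hω₀1 (sub_eq_zero.mp h4)
    · exact hu h4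
  have hcard : (Fintype.card Q : E) ≠ 0 := by
    have : Fact q.Prime := ⟨hq⟩
    obtain ⟨m, hm⟩ := IsPGroup.iff_card.mp hQ
    rw [← Nat.card_eq_fintype_card, hm, Nat.cast_pow]
    exact pow_ne_zero _ hqE
  have H : Heis ρ₁ (Subgroup.center Q) := by
    refine ⟨hcentral, hcomm, ?_, ?_, hcard⟩
    · intro z hz
      obtain ⟨c, hc⟩ := hscal z hz
      refine ⟨c, ?_⟩
      apply LinearMap.ext
      intro u
      apply Subtype.ext
      show ρ z (u : U₀) = c • (u : U₀)
      exact hc u u.2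
    · intro g hg
      obtain ⟨h, hh⟩ := hnd g hg Z₁ inf_le_left hz₀Z₁
      refine ⟨h, ?_⟩
      intro h1
      exact hh ⟨hcomm h g, MonoidHom.mem_ker.mpr h1⟩
  have hT₁r : T₁ ^ r = 1 := by
    apply LinearMap.ext
    intro u
    apply Subtype.ext
    have h1 : ∀ m : ℕ, (((T₁ ^ m) u : U₁) : U₀) = (T ^ m) (u : U₀) := by
      intro m
      induction m with
      | zero => rfl
      | succ m ih =>
        rw [pow_succ', Module.End.mul_apply, pow_succ', Module.End.mul_apply, ← ih]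
        rfl
    rw [h1, hTr]
    rfl
  have hT₁ : ∀ g, T₁ * ρ₁ g = ρ₁ (φ g) * T₁ := by
    intro g
    apply LinearMap.ext
    intro u
    apply Subtype.ext
    show T (ρ g (u : U₀)) = ρ (φ g) (T (u : U₀))
    rw [← Module.End.mul_apply, hT, Module.End.mul_apply]
  have hfix₁ : ∀ u : U₁, T₁ u = u → u = 0 := by
    intro u hu
    apply Subtype.ext
    exact hfix (u : U₀) (congrArg Subtype.val hu)
  exact core H φ hr hφZ hφr hfpf T₁ hT₁r hT₁ hrE hfix₁ hQZ

end CoreGroup

/-- the bridge for subgroups of a finite group. -/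
theorem exists_rep_subgroup {G : Type u} [Group G] [Finite G] {ℓ : ℕ} (hℓ : ℓ.Prime)
    (V L : Subgroup G)
    (hcomm : ∀ a ∈ V, ∀ b ∈ V, a * b = b * a) (hexp : ∀ a ∈ V, a ^ ℓ = 1)
    (hLV : L ≤ Subgroup.normalizer (V : Set G)) :
    ∃ (E : Type) (_ : Field E) (_ : IsAlgClosed E) (_ : CharP E ℓ) (n : ℕ)
      (ρ : L →* Module.End E (Fin n → E)),
      (∀ g : L, ρ g = 1 → (g : G) ∈ Subgroup.centralizer (V : Set G)) ∧
      (∀ g : L, (∃ u, u ≠ 0 ∧ ρ g u = u) → ∃ v ∈ V, v ≠ 1 ∧ (g : G) * v * (g : G)⁻¹ = v) ∧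
      (V ≠ ⊥ → 0 < n) := by
  obtain ⟨E, i1, i2, i3, n, ρ, h1, h2, h3⟩ := exists_rep hℓ (M := ↥V)
    (fun x y => Subtype.ext (hcomm x x.2 y y.2))
    (fun x => Subtype.ext (by
      rw [Subgroup.coe_pow, Subgroup.coe_one]
      exact hexp x x.2))
    (FrobAction.conjHom V L hLV)
  refine ⟨E, i1, i2, i3, n, ρ, ?_, ?_, ?_⟩
  · intro g hg
    have h4 := h1 g hg
    rw [Subgroup.mem_centralizer_iff]
    intro v hv
    have h5 : (g : G) * v * (g : G)⁻¹ = v := by
      have h6 := congrArg (fun f : MulAut V => ((f ⟨v, hv⟩ : V) : G)) h4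
      exact h6
    calc v * (g : G) = ((g : G) * v * (g : G)⁻¹) * g := by rw [h5]
      _ = g * v := by group
  · intro g hg
    obtain ⟨m, hm1, hm⟩ := h2 g hg
    refine ⟨m, m.2, fun h => hm1 (Subtype.ext h), ?_⟩
    exact congrArg Subtype.val hm
  · intro hV
    apply h3
    exact (Subgroup.nontrivial_iff_ne_bot V).mpr hV

end Cfsg.Agent.Lib.Helper10.XRep
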